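import Groth.Agent.H67.CechD

/-!
# Helper library (helper67): Cartan's criterion on sites
-/

set_option autoImplicit false
universe u

open CategoryTheory CategoryTheory.Limits Opposite Abelian

namespace Groth.Agent.H67.Cech

open Groth.Agent.H67.SieveCoh

variable {C : Type u} [SmallCategory C] [HasPullbacks C] (J : GrothendieckTopology C)

/-- Cartan's criterion. -/
theorem cartan (B : Set C) (Cov : ∀ (U : C) (ι : Type u), (ι → Over U) → Prop)
    (h1 : ∀ (U : C) (ι : Type u) (Y : ι → Over U), Cov U ι Y → U ∈ B ∧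
      Sieve.ofArrows (fun i => (Y i).left) (fun i => (Y i).hom) ∈ J U ∧
      ∀ (p : ℕ) (a : Fin (p + 1) → ι), (∏ᶜ fun k => Y (a k)).left ∈ B)
    (h2 : ∀ U ∈ B, ∀ T ∈ J U, ∃ (ι : Type u) (Y : ι → Over U), Cov U ι Y ∧
      ∀ i, T.arrows (Y i).hom) :
    ∀ (p : ℕ) (F : Sheaf J AddCommGrpCat.{u}),
      (∀ (U : C) (ι : Type u) (Y : ι → Over U), Cov U ι Y →
        ∀ p : ℕ, IsZero (CohCx.cechH F.obj Y (p + 1))) →
      ∀ U ∈ B, Subsingleton (Ext ((freeSh J).obj (yoneda.obj U)) F (p + 1))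
  | 0, F, h3, U, hU => by
      have hS := injSC_shortExact J F
      have hsurj : Function.Surjective ((injSC J F).g.hom.app (op U)) :=
        surjective_of_cechH1 (injSC J F) hS U (fun T hT => by
          obtain ⟨ι, Y, hc, hYT⟩ := h2 U hU T hT
          exact ⟨ι, Y, hYT, (h1 U ι Y hc).2.1, h3 U ι Y hc 0⟩)
      exact ext_one_of_lift _ hS
        (lift_of_natLift (injSC J F).g ((natLift_yoneda_iff (injSC J F).g U).2 hsurj))
  | p + 1, F, h3, U, hU => by
      have hS := injSC_shortExact J F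
      have hsurj : ∀ V ∈ B, Function.Surjective ((injSC J F).g.hom.app (op V)) :=
        fun V hV => surjective_of_cechH1 (injSC J F) hS V (fun T hT => by
          obtain ⟨ι, Y, hc, hYT⟩ := h2 V hV T hT
          exact ⟨ι, Y, hYT, (h1 V ι Y hc).2.1, h3 V ι Y hc 0⟩)
      have hQ : ∀ (U : C) (ι : Type u) (Y : ι → Over U), Cov U ι Y →
          ∀ p : ℕ, IsZero (CohCx.cechH (injSC J F).X₃.obj Y (p + 1)) := by
        intro U ι Y hc p
        have hT := cech_shortExact hS Y (fun n a => hsurj _ ((h1 U ι Y hc).2.2 n a))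
        exact isZero_H_X₃ hT p
          (cechH_isZero_of_injective J (injSC J F).X₂ Y (h1 U ι Y hc).2.1 p)
          (h3 U ι Y hc (p + 1))
      exact ext_shift_up _ hS p (cartan B Cov h1 h2 p (injSC J F).X₃ hQ U hU)

end Groth.Agent.H67.Cech
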