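import Groth.Agent.H67.CechG
import Groth.Agent.H67.CechE

/-!
# Helper library (helper67): Čech cohomology computes cohomology for acyclic coverings
-/

set_option autoImplicit false
universe w v' u' u

open CategoryTheory CategoryTheory.Limits Opposite Abelian

namespace Groth.Agent.H67.Cech

section abstract

variable {B : Type u'} [Category.{v'} B] [Abelian B] [HasExt.{w} B]

lemma extδ_injective (Z : B) {S : ShortComplex B} (hS : S.ShortExact) [Injective S.X₂] (n : ℕ) :
    Function.Injective (hS.extClass.postcomp Z (rfl : n + 1 + 1 = n + 1 + 1)) := by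
  rw [injective_iff_map_eq_zero]
  intro x hx
  obtain ⟨x₂, hx₂⟩ := Ext.covariant_sequence_exact₃ Z hS x (rfl : n + 1 + 1 = n + 1 + 1) hx
  rw [← hx₂, Ext.eq_zero_of_injective x₂, Ext.zero_comp]

lemma extδ_surjective (Z : B) {S : ShortComplex B} (hS : S.ShortExact) [Injective S.X₂] (n : ℕ) :
    Function.Surjective (hS.extClass.postcomp Z (rfl : n + 1 = n + 1)) := by
  intro y
  obtain ⟨x₃, hx₃⟩ := Ext.covariant_sequence_exact₁ Z hS y
    (Ext.eq_zero_of_injective (n := n) _) (rfl : n + 1 = n + 1)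
  exact ⟨x₃, hx₃⟩

lemma addEquiv_of_ker_eq {M N₁ N₂ : Type*} [AddCommGroup M] [AddCommGroup N₁] [AddCommGroup N₂]
    (f₁ : M →+ N₁) (f₂ : M →+ N₂) (h₁ : Function.Surjective f₁) (h₂ : Function.Surjective f₂)
    (hk : ∀ x, f₁ x = 0 ↔ f₂ x = 0) : Nonempty (N₁ ≃+ N₂) := by
  have hker : f₁.ker = f₂.ker := by
    ext x
    exact hk x
  exact ⟨(QuotientAddGroup.quotientKerEquivOfSurjective f₁ h₁).symm.trans
    ((QuotientAddGroup.quotientAddEquivOfEq hker).trans
      (QuotientAddGroup.quotientKerEquivOfSurjective f₂ h₂))⟩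

end abstract

open Groth.Agent.H67.SieveCoh

variable {C : Type u} [SmallCategory C] [HasPullbacks C] (J : GrothendieckTopology C)

omit [HasPullbacks C] in
lemma sectH0_eq (U : C) (F : Sheaf J AddCommGrpCat.{u}) (s : F.obj.obj (op U)) :
    CechEdge.sectH0 J U F s = Ext.mk₀ (CohFree.ofSect J U F s) := rfl

omit [HasPullbacks C] in
lemma ofSect_comp (U : C) {F G : Sheaf J AddCommGrpCat.{u}} (g : F ⟶ G) (t : F.obj.obj (op U)) :
    CohFree.ofSect J U F t ≫ g = CohFree.ofSect J U G ((g.hom.app (op U)).hom t) := by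
  apply (CohFree.homEquivSect J U G).injective
  rw [CohFree.homEquivSect_apply, CohFree.homEquivSect_apply, CohFree.evalGen_ofSect]
  show (g.hom.app (op U)).hom (CohFree.evalGen J U F (CohFree.ofSect J U F t)) = _
  rw [CohFree.evalGen_ofSect]

/-- kernel of the degree zero Ext connecting map on sections -/
lemma extδ_sect_eq_zero_iff {S : ShortComplex (Sheaf J AddCommGrpCat.{u})} (hS : S.ShortExact)
    (U : C) (s : S.X₃.obj.obj (op U)) :
    CechEdge.extδ hS U 0 (CechEdge.sectH0 J U S.X₃ s) = 0 ↔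
      ∃ t : S.X₂.obj.obj (op U), (S.g.hom.app (op U)).hom t = s := by
  constructor
  · intro h
    obtain ⟨x₂, hx₂⟩ := Ext.covariant_sequence_exact₃ (CohCx.freeSheaf J U) hS
      (CechEdge.sectH0 J U S.X₃ s) (zero_add 1) h
    obtain ⟨ψ, rfl⟩ := (Ext.mk₀_bijective _ _).2 x₂
    rw [Ext.mk₀_comp_mk₀, sectH0_eq] at hx₂
    have h2 : ψ ≫ S.g = CohFree.ofSect J U S.X₃ s := (Ext.mk₀_bijective _ _).1 hx₂
    refine ⟨CohFree.evalGen J U S.X₂ ψ, ?_⟩
    have h3 : CohFree.evalGen J U S.X₃ (ψ ≫ S.g) =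
        (S.g.hom.app (op U)).hom (CohFree.evalGen J U S.X₂ ψ) := rfl
    rw [← h3, h2, CohFree.evalGen_ofSect]
  · rintro ⟨t, rfl⟩
    show (CechEdge.sectH0 J U S.X₃ ((S.g.hom.app (op U)).hom t)).comp hS.extClass (zero_add 1) = 0
    rw [sectH0_eq, ← ofSect_comp, ← Ext.mk₀_comp_mk₀, Ext.comp_assoc_of_second_deg_zero,
      hS.comp_extClass, Ext.comp_zero]

variable {U : C} {ι : Type u} (Y : ι → Over U)
  (hY : Sieve.ofArrows (fun i => (Y i).left) (fun i => (Y i).hom) ∈ J U)

include hY in
/-- kernel of the degree zero Čech connecting map on sections -/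
lemma cechδ_sect_eq_zero_iff {S : ShortComplex (Sheaf J AddCommGrpCat.{u})} (hS : S.ShortExact)
    (hT : ((S.map (resU J U)).map (cechComplexFunctor Y)).ShortExact)
    (s : S.X₃.obj.obj (op U)) :
    (hT.δ 0 1 rfl).hom (CechEdge.toCech Y S.X₃.obj s) = 0 ↔
      ∃ t : S.X₂.obj.obj (op U), (S.g.hom.app (op U)).hom t = s := by
  have hnat : ∀ t : S.X₂.obj.obj (op U),
      (HomologicalComplex.homologyMap ((S.map (resU J U)).map (cechComplexFunctor Y)).g 0).hom
        (CechEdge.toCech Y S.X₂.obj t) =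
      CechEdge.toCech Y S.X₃.obj ((S.g.hom.app (op U)).hom t) := fun t =>
    toCech_naturality Y S.g.hom t
  constructor
  · intro h
    have hex := hT.homology_exact₃ 0 1 rfl
    rw [ShortComplex.ab_exact_iff] at hex
    obtain ⟨y, hy⟩ := hex (CechEdge.toCech Y S.X₃.obj s) h
    obtain ⟨t, rfl⟩ := (toCech_bijective J Y S.X₂.property hY).2 y
    refine ⟨t, (toCech_bijective J Y S.X₃.property hY).1 ?_⟩
    rw [← hnat]
    exact hy
  · rintro ⟨t, rfl⟩
    rw [← hnat]
    exact congrArg (fun φ => φ.hom (CechEdge.toCech Y S.X₂.obj t)) (hT.comp_δ 0 1 rfl)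

include hY in
/-- Čech cohomology of a covering whose finite fibre products are acyclic computes cohomology. -/
theorem cech_eq_cohomology : ∀ (p : ℕ) (F : Sheaf J AddCommGrpCat.{u}),
    (∀ (n : ℕ) (a : Fin (n + 1) → ι) (q : ℕ),
      Subsingleton (Ext ((freeSh J).obj (yoneda.obj (∏ᶜ fun k => Y (a k)).left)) F (q + 1))) →
    Nonempty (CohCx.cechH F.obj Y p ≃+ CohSite.HU F p U)
  | 0, F, _ => by
      exact ⟨(AddEquiv.ofBijective (CechEdge.toCech Y F.obj)
        (toCech_bijective J Y F.property hY)).symm.trans (CechEdge.sectH0 J U F)⟩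
  | 1, F, hF => by
      have hS := injSC_shortExact J F
      have hsurj : ∀ (n : ℕ) (a : Fin (n + 1) → ι),
          Function.Surjective ((injSC J F).g.hom.app (op (∏ᶜ (Y ∘ a)).left)).hom := fun n a =>
        (natLift_yoneda_iff (injSC J F).g _).1 (natLift_of_lift (injSC J F).g
          (fun φ => by
            haveI : Subsingleton (Ext ((freeSh J).obj (yoneda.obj (∏ᶜ (Y ∘ a)).left))
              (injSC J F).X₁ 1) := hF n a 0
            exact ext_lift _ hS φ))
      have hT := cech_shortExact hS Y hsurj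
      have hI : IsZero (CohCx.cechH (injSC J F).X₂.obj Y 1) :=
        cechH_isZero_of_injective J (injSC J F).X₂ Y hY 0
      refine addEquiv_of_ker_eq
        ((hT.δ 0 1 rfl).hom.comp (CechEdge.toCech Y (injSC J F).X₃.obj))
        ((CechEdge.extδ hS U 0).comp (CechEdge.sectH0 J U (injSC J F).X₃).toAddMonoidHom)
        ?_ ?_ ?_
      · haveI := hT.epi_δ 0 1 rfl hI
        have h1 : Function.Surjective (hT.δ 0 1 rfl).hom :=
          (AddCommGrpCat.epi_iff_surjective (hT.δ 0 1 rfl)).1 inferInstance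
        exact h1.comp (toCech_bijective J Y (injSC J F).X₃.property hY).2
      · exact (extδ_surjective (CohCx.freeSheaf J U) hS 0).comp
          (CechEdge.sectH0 J U (injSC J F).X₃).surjective
      · intro s
        exact (cechδ_sect_eq_zero_iff J Y hY hS hT s).trans
          (extδ_sect_eq_zero_iff J hS U s).symm
  | p + 2, F, hF => by
      have hS := injSC_shortExact J F
      have hsurj : ∀ (n : ℕ) (a : Fin (n + 1) → ι),
          Function.Surjective ((injSC J F).g.hom.app (op (∏ᶜ (Y ∘ a)).left)).hom := fun n a =>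
        (natLift_yoneda_iff (injSC J F).g _).1 (natLift_of_lift (injSC J F).g
          (fun φ => by
            haveI : Subsingleton (Ext ((freeSh J).obj (yoneda.obj (∏ᶜ (Y ∘ a)).left))
              (injSC J F).X₁ 1) := hF n a 0
            exact ext_lift _ hS φ))
      have hT := cech_shortExact hS Y hsurj
      have hI : ∀ q, IsZero (CohCx.cechH (injSC J F).X₂.obj Y (q + 1)) := fun q =>
        cechH_isZero_of_injective J (injSC J F).X₂ Y hY q
      have hQ : ∀ (n : ℕ) (a : Fin (n + 1) → ι) (q : ℕ),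
          Subsingleton (Ext ((freeSh J).obj (yoneda.obj (∏ᶜ fun k => Y (a k)).left))
            (injSC J F).X₃ (q + 1)) := fun n a q => ext_shift_down _ hS q (hF n a (q + 1))
      obtain ⟨e2⟩ := cech_eq_cohomology (p + 1) (injSC J F).X₃ hQ
      have e1 : CohCx.cechH (injSC J F).X₃.obj Y (p + 1) ≅ CohCx.cechH F.obj Y (p + 2) :=
        cechδIso hT p (hI p) (hI (p + 1))
      have e3 : CohSite.HU (injSC J F).X₃ (p + 1) U ≃+ CohSite.HU F (p + 2) U :=
        AddEquiv.ofBijective (CechEdge.extδ hS U (p + 1))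
          ⟨extδ_injective (CohCx.freeSheaf J U) hS p,
            extδ_surjective (CohCx.freeSheaf J U) hS (p + 1)⟩
      exact ⟨(e1.symm.addCommGroupIsoToAddEquiv).trans (e2.trans e3)⟩

end Groth.Agent.H67.Cech
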