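import Groth.Agent.H67.CechTop
import Groth.Agent.H67.CechH
import Groth.Agent.H42.CohTopLib

/-!
# Helper library (helper67): Čech versus sheaf cohomology on spaces
-/

set_option autoImplicit false
universe u

open CategoryTheory CategoryTheory.Limits Opposite TopologicalSpace

namespace Groth.Agent.H67.CechTop

variable {X : TopCat.{u}}

theorem cech_eq_cohomology_top (F : CohTop.Ab X) {ι : Type u} (U : ι → Opens X)
    (h : ∀ (p : ℕ) (a : Fin (p + 1) → ι) (q : ℕ),
      Subsingleton (CohTop.HU F (q + 1) (iInf fun k => U (a k))))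
    (p : ℕ) : Nonempty (CohTop.cechH F.obj U p ≃+ CohTop.HU F p (iSup U)) := by
  have hcov := covering_of_iSup_eq (famOver (iSup U) U (le_iSup U)) rfl
  obtain ⟨e⟩ := Cech.cech_eq_cohomology (Opens.grothendieckTopology X)
    (famOver (iSup U) U (le_iSup U)) hcov p F (fun n a q => by
      rw [prod_left_eq_iInf]
      exact h n a q)
  exact ⟨(cechHIso F.obj (famOver (iSup U) U (le_iSup U)) p).addCommGroupIsoToAddEquiv.trans e⟩

theorem HU_subsingleton_of_isFlasque (F : CohTop.Ab X) [TopCat.Sheaf.IsFlasque F] (n : ℕ)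
    (W : Opens X) : Subsingleton (CohTop.HU F (n + 1) W) := by
  have h : ∀ x : CategoryTheory.Abelian.Ext ((Groth.Agent.H42.CohTopLib.Zf X).obj W) F (n + 1),
      x = 0 := fun x => Groth.Agent.H42.CohTopLib.ext_succ_eq_zero_of_isFlasque
    (Groth.Agent.H42.CohTopLib.secRepZf W) F n x
  exact ⟨fun a b => (h a).trans (h b).symm⟩

theorem cech_isZero_of_isFlasque (F : CohTop.Ab X) [TopCat.Sheaf.IsFlasque F]
    {ι : Type u} (U : ι → Opens X) (p : ℕ) : IsZero (CohTop.cechH F.obj U (p + 1)) := by
  obtain ⟨e⟩ := cech_eq_cohomology_top F U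
    (fun _ _ q => HU_subsingleton_of_isFlasque F q _) (p + 1)
  haveI := HU_subsingleton_of_isFlasque F p (iSup U)
  haveI : Subsingleton (CohTop.cechH F.obj U (p + 1)) := e.toEquiv.subsingleton
  exact AddCommGrpCat.isZero_of_subsingleton _

end Groth.Agent.H67.CechTop
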