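import Groth.Agent.H67.CechA

/-!
# Helper library (helper67): comparison of Čech complexes along a functor compatible with the
relevant products
-/

set_option autoImplicit false
universe u

open CategoryTheory CategoryTheory.Limits Opposite Simplicial

namespace Groth.Agent.H67.Cech

variable {D' D : Type u} [Category.{u} D'] [Category.{u} D] [HasFiniteProducts D']
  [HasFiniteProducts D] (Φ : D' ⥤ D) {ι : Type u} (Y' : ι → D') (R : Dᵒᵖ ⥤ AddCommGrpCat.{u})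

/-- the image family -/
abbrev imgFam : ι → D := fun i => Φ.obj (Y' i)

/-- The canonical comparison map `Φ(∏ Y'_a) ⟶ ∏ Φ(Y'_a)`. -/
noncomputable def cmp {n : ℕ} (a : Fin (n + 1) → ι) :
    Φ.obj (∏ᶜ (Y' ∘ a)) ⟶ ∏ᶜ (imgFam Φ Y' ∘ a) :=
  Limits.Pi.lift (fun k => Φ.map (Limits.Pi.π (Y' ∘ a) k))

/-- The comparison map of Čech cochains. -/
noncomputable def ψ (n : ℕ) :
    ∏ᶜ (term (imgFam Φ Y') R n) ⟶ ∏ᶜ (term Y' (Φ.op ⋙ R) n) :=
  Limits.Pi.map (fun a => R.map (cmp Φ Y' a).op)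

lemma cmap_ψ {m n : ℕ} (f : ⦋m⦌ ⟶ ⦋n⦌) :
    cmap R f ≫ ψ Φ Y' R n = ψ Φ Y' R m ≫ cmap (Φ.op ⋙ R) f := by
  apply Limits.Pi.hom_ext
  intro a
  have key : cmp Φ Y' a ≫ (Limits.Pi.lift (fun j => Limits.Pi.π (imgFam Φ Y' ∘ a)
      (f.toOrderHom j)) : ∏ᶜ (imgFam Φ Y' ∘ a) ⟶ ∏ᶜ (imgFam Φ Y' ∘ a ∘ f.toOrderHom)) =
      Φ.map (Limits.Pi.lift (fun j => Limits.Pi.π (Y' ∘ a) (f.toOrderHom j)) :
        ∏ᶜ (Y' ∘ a) ⟶ ∏ᶜ (Y' ∘ a ∘ f.toOrderHom)) ≫ cmp Φ Y' (a ∘ f.toOrderHom) := by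
    apply Limits.Pi.hom_ext
    intro j
    simp only [cmp, Category.assoc, Limits.Pi.lift_π, ← Φ.map_comp]
  simp only [ψ, cmap, Category.assoc, Limits.Pi.map_π, Limits.Pi.lift_π, Limits.Pi.lift_π_assoc,
    Limits.Pi.map_π_assoc]
  rw [← R.map_comp, ← op_comp, key, op_comp, R.map_comp]
  rfl

lemma dd_ψ (n : ℕ) : dd R n ≫ ψ Φ Y' R (n + 1) = ψ Φ Y' R n ≫ dd (Φ.op ⋙ R) n := by
  unfold dd
  rw [Preadditive.sum_comp, Preadditive.comp_sum]
  refine Finset.sum_congr rfl (fun k _ => ?_)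
  rw [Preadditive.zsmul_comp, Preadditive.comp_zsmul, cmap_ψ]

variable (h : ∀ (n : ℕ) (a : Fin (n + 1) → ι), IsIso (cmp Φ Y' a))
include h

lemma isIso_ψ (n : ℕ) : IsIso (ψ Φ Y' R n) := by
  haveI : ∀ a : Fin (n + 1) → ι, IsIso (R.map (cmp Φ Y' a).op) := fun a => by
    haveI := h n a
    infer_instance
  unfold ψ
  infer_instance

/-- The comparison isomorphism of Čech complexes. -/
noncomputable def cxIso : cx (imgFam Φ Y') R ≅ cx Y' (Φ.op ⋙ R) :=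
  HomologicalComplex.Hom.isoOfComponents
    (fun n => @asIso _ _ _ _ (ψ Φ Y' R n) (isIso_ψ Φ Y' R h n))
    (by
      intro i j hij
      have hij' : i + 1 = j := hij
      subst hij'
      show ψ Φ Y' R i ≫ (cx Y' (Φ.op ⋙ R)).d i (i + 1) =
        (cx (imgFam Φ Y') R).d i (i + 1) ≫ ψ Φ Y' R (i + 1)
      have e1 := cx_d (Y := Y') (Φ.op ⋙ R) i
      have e2 := cx_d (Y := imgFam Φ Y') R i
      exact (congrArg (fun z => ψ Φ Y' R i ≫ z) e1).trans ((dd_ψ Φ Y' R i).symm.trans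
        (congrArg (fun z => z ≫ ψ Φ Y' R (i + 1)) e2.symm)))

/-- The comparison isomorphism on Čech cohomology. -/
noncomputable def homologyIso (p : ℕ) :
    (cx (imgFam Φ Y') R).homology p ≅ (cx Y' (Φ.op ⋙ R)).homology p :=
  (HomologicalComplex.homologyFunctor _ _ p).mapIso (cxIso Φ Y' R h)

end Groth.Agent.H67.Cech
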