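import Groth.Agent.H67.CechG

/-!
# Helper library (helper67): a presheaf is a sheaf iff `toCech` is bijective for covering families
-/

set_option autoImplicit false
universe u

open CategoryTheory CategoryTheory.Limits Opposite

namespace Groth.Agent.H67.Cech

lemma exists_cycle_of_d_eq_zero (K : CochainComplex AddCommGrpCat.{u} ℕ) (c : K.X 0)
    (hc : (K.d 0 1).hom c = 0) : ∃ z : K.cycles 0, (K.iCycles 0).hom z = c := by
  have hex : (ShortComplex.mk (K.iCycles 0) (K.d 0 1) (K.iCycles_d 0 1)).Exact :=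
    ShortComplex.exact_of_f_is_kernel _ (K.cyclesIsKernel 0 1 (by simp))
  exact (ShortComplex.ab_exact_iff _).1 hex c hc

variable {C : Type u} [SmallCategory C] [HasPullbacks C] (J : GrothendieckTopology C)
  (P : Cᵒᵖ ⥤ AddCommGrpCat.{u})

open CohCx

theorem isSheaf_of_toCech_bijective
    (H : ∀ (U : C) (ι : Type u) (Y : ι → Over U),
      Sieve.ofArrows (fun i => (Y i).left) (fun i => (Y i).hom) ∈ J U →
        Function.Bijective (CechEdge.toCech Y P)) : Presheaf.IsSheaf J P := by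
  rw [Presheaf.isSheaf_iff_isSheaf_forget J P (forget AddCommGrpCat.{u}),
    isSheaf_iff_isSheaf_of_type]
  intro U T hT
  let ι : Type u := Σ W : C, {f : W ⟶ U // T f}
  let Y : ι → Over U := fun w => Over.mk w.2.1
  have hgen : Sieve.ofArrows (fun i => (Y i).left) (fun i => (Y i).hom) = T := by
    apply le_antisymm
    · rw [Sieve.ofArrows, Sieve.generate_le_iff]
      rintro W f ⟨w⟩
      exact w.2.2
    · intro W f hf
      exact Sieve.ofArrows_mk (fun i : ι => (Y i).left) (fun i => (Y i).hom) ⟨W, f, hf⟩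
  have hY : Sieve.ofArrows (fun i => (Y i).left) (fun i => (Y i).hom) ∈ J U := hgen ▸ hT
  have hbij := H U ι Y hY
  have hπ : Function.Bijective ((CechEdge.cx P Y).homologyπ 0).hom :=
    ConcreteCategory.bijective_of_isIso ((CechEdge.cx P Y).homologyπ 0)
  have hi : Function.Injective ((CechEdge.cx P Y).iCycles 0).hom :=
    (AddCommGrpCat.mono_iff_injective _).1 inferInstance
  have hci : ∀ s, ((CechEdge.cx P Y).iCycles 0).hom ((CechEdge.toCycles P Y).hom s) =
      (CechEdge.toCech₀ P Y).hom s := fun s =>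
    congrArg (fun φ => φ.hom s) (CechEdge.toCycles_i P Y)
  have htc₀inj : Function.Injective (CechEdge.toCech₀ P Y).hom := by
    intro s s' h
    apply hbij.1
    have : (CechEdge.toCycles P Y).hom s = (CechEdge.toCycles P Y).hom s' := by
      apply hi
      rw [hci, hci, h]
    show ((CechEdge.cx P Y).homologyπ 0).hom ((CechEdge.toCycles P Y).hom s) =
      ((CechEdge.cx P Y).homologyπ 0).hom ((CechEdge.toCycles P Y).hom s')
    rw [this]
  rw [← hgen]
  show Presieve.IsSheafFor (P ⋙ forget AddCommGrpCat.{u})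
    (Sieve.generate (Presieve.ofArrows (fun i => (Y i).left) (fun i => (Y i).hom))).arrows
  rw [← Presieve.isSheafFor_iff_generate, Presieve.isSheafFor_arrows_iff]
  intro x hx
  -- the 0-cochain attached to `x`
  let c : (∏ᶜ (term Y ((Over.forget U).op ⋙ P) 0) : AddCommGrpCat.{u}) :=
    mkPi (term Y ((Over.forget U).op ⋙ P) 0)
      (fun a => (P.map (Limits.Pi.π (Y ∘ a) 0).left.op).hom (x (a 0)))
  have hcπ : ∀ a : Fin 1 → ι, (Limits.Pi.π (term Y ((Over.forget U).op ⋙ P) 0) a).hom c =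
      (P.map (Limits.Pi.π (Y ∘ a) 0).left.op).hom (x (a 0)) := fun a => π_mkPi _ _ a
  have hcomp0 : ∀ i, comp0 ((Over.forget U).op ⋙ P) c i = x i := by
    intro i
    have h1 : comp0 ((Over.forget U).op ⋙ P) c i =
        (P.map (Simplex.toProd (fun _ => ⟨i, 𝟙 (Y i)⟩ : Simplex Y (Y i) 0)).left.op).hom
          ((Limits.Pi.π (term Y ((Over.forget U).op ⋙ P) 0)
            (Simplex.idx (fun _ => ⟨i, 𝟙 (Y i)⟩ : Simplex Y (Y i) 0))).hom c) := rfl
    rw [h1, hcπ]
    have h2 : (Simplex.toProd (fun _ => ⟨i, 𝟙 (Y i)⟩ : Simplex Y (Y i) 0)) ≫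
        Limits.Pi.π (Y ∘ Simplex.idx (fun _ => ⟨i, 𝟙 (Y i)⟩ : Simplex Y (Y i) 0)) 0 = 𝟙 (Y i) := by
      simp [Simplex.toProd]
    have h3 : P.map (Limits.Pi.π (Y ∘ Simplex.idx
        (fun _ => ⟨i, 𝟙 (Y i)⟩ : Simplex Y (Y i) 0)) 0).left.op ≫
        P.map (Simplex.toProd (fun _ => ⟨i, 𝟙 (Y i)⟩ : Simplex Y (Y i) 0)).left.op = 𝟙 _ := by
      rw [← P.map_comp, ← op_comp, ← Over.comp_left, h2]
      simp
    exact congrArg (fun φ => φ.hom (x i)) h3
  have hcoc : (dd ((Over.forget U).op ⋙ P) 0).hom c = 0 := by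
    rw [cocycle_iff]
    intro W s s'
    show (P.map s.2.left.op).hom (comp0 ((Over.forget U).op ⋙ P) c s.1) =
      (P.map s'.2.left.op).hom (comp0 ((Over.forget U).op ⋙ P) c s'.1)
    rw [hcomp0, hcomp0]
    exact hx s.1 s'.1 W.left s.2.left s'.2.left ((Over.w s.2).trans (Over.w s'.2).symm)
  have hcoc' : ((CechEdge.cx P Y).d 0 1).hom c = 0 := by
    have := cx_d (Y := Y) ((Over.forget U).op ⋙ P) 0
    exact (congrArg (fun φ => φ.hom c) this).trans hcoc
  obtain ⟨z, hz⟩ := exists_cycle_of_d_eq_zero (CechEdge.cx P Y) c hcoc'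
  obtain ⟨s, hs⟩ := hbij.2 (((CechEdge.cx P Y).homologyπ 0).hom z)
  have hsz : (CechEdge.toCycles P Y).hom s = z := hπ.1 hs
  have hsc : (CechEdge.toCech₀ P Y).hom s = c := by
    rw [← hci, hsz, hz]
  refine ⟨s, fun i => ?_, fun t ht => ?_⟩
  · show (P.map (Y i).hom.op).hom s = x i
    rw [← comp0_toCech₀ P Y s i, hsc, hcomp0]
  · apply htc₀inj
    rw [hsc]
    refine pi_ext (F := term Y ((Over.forget U).op ⋙ P) 0) (fun a => ?_)
    refine (toCech₀_π P Y a t).trans ?_
    rw [hcπ]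
    have ht' : (P.map (Y (a 0)).hom.op).hom t = x (a 0) := ht (a 0)
    rw [← ht']
    have h2 : P.map (∏ᶜ (Y ∘ a)).hom.op = P.map (Y (a 0)).hom.op ≫
        P.map (Limits.Pi.π (Y ∘ a) 0).left.op := by
      have hw : (Limits.Pi.π (Y ∘ a) 0).left ≫ (Y (a 0)).hom = (∏ᶜ (Y ∘ a)).hom :=
        Over.w (Limits.Pi.π (Y ∘ a) 0)
      rw [← P.map_comp, ← op_comp, hw]
    rw [h2]
    rfl

end Groth.Agent.H67.Cech
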