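import Groth.Agent.H67.SieveCoh

/-!
# Helper library (helper67): more on cohomology on objects of a site
-/

set_option autoImplicit false
universe u

open CategoryTheory CategoryTheory.Limits Opposite Abelian

namespace Groth.Agent.H67.SieveCoh

variable {C : Type u} [SmallCategory C] {J : GrothendieckTopology C}

lemma isLocallySurjective_of_epi {I Q : Sheaf J AddCommGrpCat.{u}} (g : I ⟶ Q) [Epi g] :
    Presheaf.IsLocallySurjective J g.hom :=
  (Sheaf.isLocallySurjective_iff_epi' _ g).2 inferInstance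

/-- On the image sieve of the section corresponding to `φ`, the restriction of `φ` lifts. -/
lemma lift_on_imageSieve {I Q : Sheaf J AddCommGrpCat.{u}} (g : I ⟶ Q) {X : C}
    (φ : (freeSh J).obj (yoneda.obj X) ⟶ Q) {Y : C} (f : Y ⟶ X)
    (hf : Presheaf.imageSieve g.hom
      (yonedaEquiv ((freeAdj J).homEquiv (yoneda.obj X) Q φ)) f) :
    ∃ ψ : (freeSh J).obj (yoneda.obj Y) ⟶ I, ψ ≫ g = (freeSh J).map (yoneda.map f) ≫ φ := by
  obtain ⟨t, ht⟩ := hf
  let τf : yoneda.obj Y ⟶ (forgetSh J).obj I := (yonedaEquiv (F := (forgetSh J).obj I)).symm t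
  have hτf : τf ≫ (forgetSh J).map g =
      yoneda.map f ≫ (freeAdj J).homEquiv (yoneda.obj X) Q φ := by
    apply yonedaEquiv.injective
    rw [yonedaEquiv_comp, Equiv.apply_symm_apply, ← yonedaEquiv_naturality]
    exact ht
  refine ⟨((freeAdj J).homEquiv _ _).symm τf, ?_⟩
  rw [← Adjunction.homEquiv_naturality_right_symm, hτf,
    Adjunction.homEquiv_naturality_left_symm, Equiv.symm_apply_apply]

/-- Sections over a weakly contractible object: epimorphisms of abelian sheaves are surjective. -/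
lemma surjective_app_of_epi_of_weaklyContractible {U : C}
    (hU : CohSite.IsWeaklyContractible J U) {I Q : Sheaf J AddCommGrpCat.{u}} (g : I ⟶ Q)
    [Epi g] : Function.Surjective (g.hom.app (op U)) := by
  haveI hls : Presheaf.IsLocallySurjective J g.hom := isLocallySurjective_of_epi g
  have hls' : Sheaf.IsLocallySurjective ((sheafCompose J (forget AddCommGrpCat.{u})).map g) := by
    show Presheaf.IsLocallySurjective J (Functor.whiskerRight g.hom (forget AddCommGrpCat.{u}))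
    infer_instance
  have hepi : Epi ((sheafCompose J (forget AddCommGrpCat.{u})).map g) :=
    (Sheaf.isLocallySurjective_iff_epi _).1 hls'
  have := hU _ _ _ hepi
  intro s
  obtain ⟨t, ht⟩ := this s
  exact ⟨t, ht⟩

theorem HU_vanishing_of_weaklyContractible {U : C} (hU : CohSite.IsWeaklyContractible J U) :
    ∀ (p : ℕ) (F : Sheaf J AddCommGrpCat.{u}),
      Subsingleton (Ext ((freeSh J).obj (yoneda.obj U)) F (p + 1))
  | 0, F => by
      have hS := injSC_shortExact J F
      haveI : Epi (injSC J F).g := hS.epi_g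
      have hsurj := surjective_app_of_epi_of_weaklyContractible hU (injSC J F).g
      exact ext_one_of_lift _ hS
        (lift_of_natLift (injSC J F).g ((natLift_yoneda_iff (injSC J F).g U).2 hsurj))
  | p + 1, F => by
      have hS := injSC_shortExact J F
      exact ext_shift_up _ hS p (HU_vanishing_of_weaklyContractible hU p (injSC J F).X₃)

section abstract

universe w v' u'

variable {B : Type u'} [Category.{v'} B] [Abelian B] [HasExt.{w} B]

lemma kill_step_succ (Z : B) {S : ShortComplex B} (hS : S.ShortExact) [Injective S.X₂] (n : ℕ)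
    (ξ : Ext Z S.X₁ (n + 2)) :
    ∃ x₃ : Ext Z S.X₃ (n + 1), ∀ (Z' : B) (m : Z' ⟶ Z),
      (Ext.mk₀ m).comp x₃ (zero_add (n + 1)) = 0 → (Ext.mk₀ m).comp ξ (zero_add (n + 2)) = 0 := by
  obtain ⟨x₃, hx₃⟩ := Ext.covariant_sequence_exact₁ _ hS ξ
    (Ext.eq_zero_of_injective (n := n + 1) _) (rfl : n + 1 + 1 = n + 2)
  refine ⟨x₃, fun Z' m hm => ?_⟩
  rw [← hx₃, ← Ext.comp_assoc (Ext.mk₀ m) x₃ hS.extClass
    (zero_add (n + 1)) (rfl : n + 1 + 1 = n + 2) (by omega), hm, Ext.zero_comp]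

lemma kill_step_zero (Z : B) {S : ShortComplex B} (hS : S.ShortExact) [Injective S.X₂]
    (ξ : Ext Z S.X₁ 1) :
    ∃ φ : Z ⟶ S.X₃, ∀ (Z' : B) (m : Z' ⟶ Z),
      (∃ ψ : Z' ⟶ S.X₂, ψ ≫ S.g = m ≫ φ) → (Ext.mk₀ m).comp ξ (zero_add 1) = 0 := by
  obtain ⟨x₃, hx₃⟩ := Ext.covariant_sequence_exact₁ _ hS ξ
    (Ext.eq_zero_of_injective (n := 0) _) (zero_add 1)
  obtain ⟨φ, rfl⟩ := (Ext.mk₀_bijective _ _).2 x₃
  refine ⟨φ, fun Z' m hm => ?_⟩
  obtain ⟨ψ, hψ⟩ := hm
  rw [← hx₃, Ext.mk₀_comp_mk₀_assoc, ← hψ, ← Ext.mk₀_comp_mk₀_assoc, hS.comp_extClass,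
    Ext.comp_zero]

end abstract

theorem kill_class (U : C) : ∀ (n : ℕ) (F : Sheaf J AddCommGrpCat.{u})
    (ξ : Ext ((freeSh J).obj (yoneda.obj U)) F (n + 1)),
    ∃ R : Sieve U, R ∈ J U ∧ ∀ (V : C) (f : V ⟶ U), R f →
      (Ext.mk₀ ((freeSh J).map (yoneda.map f))).comp ξ (zero_add (n + 1)) = 0
  | 0, F, ξ => by
      have hS := injSC_shortExact J F
      haveI : Epi (injSC J F).g := hS.epi_g
      obtain ⟨φ, hφ⟩ := kill_step_zero _ hS ξ
      haveI := isLocallySurjective_of_epi (injSC J F).g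
      refine ⟨Presheaf.imageSieve (injSC J F).g.hom
        (yonedaEquiv ((freeAdj J).homEquiv (yoneda.obj U) _ φ)),
        Presheaf.imageSieve_mem J (injSC J F).g.hom (U := op U) _, fun V f hf => ?_⟩
      exact hφ _ _ (lift_on_imageSieve (injSC J F).g φ f hf)
  | n + 1, F, ξ => by
      have hS := injSC_shortExact J F
      obtain ⟨x₃, hx₃⟩ := kill_step_succ _ hS n ξ
      obtain ⟨R, hR, hR'⟩ := kill_class U n (injSC J F).X₃ x₃
      exact ⟨R, hR, fun V f hf => hx₃ _ _ (hR' V f hf)⟩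

end Groth.Agent.H67.SieveCoh
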