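import Groth.Agent.H67.CechM
import Groth.Agent.H67.CechG2
import Groth.Agent.H67.SieveCoh2

/-!
# Helper library (helper67): Čech cohomology of a presheaf with respect to a family is the
cohomology of the sieve generated by the family (trivial topology)
-/

set_option autoImplicit false
universe w v' u' u

open CategoryTheory CategoryTheory.Limits Opposite Abelian

namespace Groth.Agent.H67.Cech

open Groth.Agent.H67.SieveCoh

section abstract

variable {B : Type u'} [Category.{v'} B] [Abelian B] [HasExt.{w} B]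

lemma mk₀_comp_extClass_eq_zero_iff (Z : B) {S : ShortComplex B} (hS : S.ShortExact)
    (ψ : Z ⟶ S.X₃) :
    (Ext.mk₀ ψ).comp hS.extClass (zero_add 1) = 0 ↔ ∃ ψ' : Z ⟶ S.X₂, ψ' ≫ S.g = ψ := by
  constructor
  · intro h
    obtain ⟨x₂, hx₂⟩ := Ext.covariant_sequence_exact₃ Z hS (Ext.mk₀ ψ) (zero_add 1) h
    obtain ⟨ψ', rfl⟩ := (Ext.mk₀_bijective Z S.X₂).2 x₂
    rw [Ext.mk₀_comp_mk₀] at hx₂
    exact ⟨ψ', (Ext.mk₀_bijective Z S.X₃).1 hx₂⟩
  · rintro ⟨ψ', rfl⟩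
    rw [← Ext.mk₀_comp_mk₀, Ext.comp_assoc_of_second_deg_zero, hS.comp_extClass, Ext.comp_zero]

end abstract

section fam

variable {D : Type u} [Category.{u} D] [HasFiniteProducts D] {ι : Type u} {Y : ι → D}
  (R : Dᵒᵖ ⥤ AddCommGrpCat.{u})

/-- a `0`-cochain is determined by its components -/
lemma cochain_ext {x y : (∏ᶜ (term Y R 0) : AddCommGrpCat.{u})}
    (h : ∀ i, comp0 R x i = comp0 R y i) : x = y := by
  apply pi_ext (F := term Y R 0)
  intro a
  rw [π_zero_apply, π_zero_apply, h]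

/-- the `0`-cochain with given components, as a morphism -/
noncomputable def ofFamHom {A : AddCommGrpCat.{u}} (t : ∀ i, A ⟶ R.obj (op (Y i))) :
    A ⟶ ∏ᶜ (term Y R 0) :=
  Pi.lift (f := term Y R 0) (fun a => t (a 0) ≫ R.map (Pi.π (Y ∘ a) 0).op)

lemma comp0_ofFamHom {A : AddCommGrpCat.{u}} (t : ∀ i, A ⟶ R.obj (op (Y i))) (z : A) (i : ι) :
    comp0 R ((ofFamHom R t).hom z) i = (t i).hom z := by
  have h : ofFamHom R t ≫ ev R (fun _ => ⟨i, 𝟙 (Y i)⟩ : Simplex Y (Y i) 0) = t i := by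
    have h0 : (Simplex.toProd (fun _ => ⟨i, 𝟙 (Y i)⟩ : Simplex Y (Y i) 0)) ≫
        Pi.π (Y ∘ (Simplex.idx (fun _ => ⟨i, 𝟙 (Y i)⟩ : Simplex Y (Y i) 0))) 0 = 𝟙 (Y i) := by
      simp [Simplex.toProd]
    unfold ofFamHom ev
    rw [Pi.lift_π_assoc, Category.assoc, ← R.map_comp, ← op_comp, h0, op_id, R.map_id,
      Category.comp_id]
  exact congrArg (fun φ => φ.hom z) h

variable {R} in
/-- naturality of the components of a `0`-cochain -/
lemma comp0_map {R₂ : Dᵒᵖ ⥤ AddCommGrpCat.{u}} (φ : R ⟶ R₂)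
    (x : (∏ᶜ (term Y R 0) : AddCommGrpCat.{u})) (i : ι) :
    comp0 R₂ ((Limits.Pi.map (fun (a : Fin 1 → ι) => φ.app (op (∏ᶜ (Y ∘ a)))) :
      ∏ᶜ (term Y R 0) ⟶ ∏ᶜ (term Y R₂ 0)).hom x) i = (φ.app (op (Y i))).hom (comp0 R x i) := by
  have h : (Limits.Pi.map (fun (a : Fin 1 → ι) => φ.app (op (∏ᶜ (Y ∘ a)))) :
      ∏ᶜ (term Y R 0) ⟶ ∏ᶜ (term Y R₂ 0)) ≫
      ev R₂ (fun _ => ⟨i, 𝟙 (Y i)⟩ : Simplex Y (Y i) 0) =
      ev R (fun _ => ⟨i, 𝟙 (Y i)⟩ : Simplex Y (Y i) 0) ≫ φ.app (op (Y i)) := by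
    unfold ev
    rw [Limits.Pi.map_π_assoc, Category.assoc, φ.naturality]
  exact congrArg (fun ψ => ψ.hom x) h

end fam

section bot

variable {C : Type u} [SmallCategory C]

open Presieve in
/-- the natural transformation attached to a compatible family on a sieve -/
noncomputable def natOfFam {X : C} (S : Sieve X) (P : Cᵒᵖ ⥤ Type u)
    (x : FamilyOfElements P S.arrows) (hx : x.Compatible) : S.functor ⟶ P where
  app V := ↾fun f => x f.1 f.2
  naturality V V' g := by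
    ext ⟨f, hf⟩
    exact ((Presieve.compatible_iff_sieveCompatible x).1 hx f g.unop hf)

lemma surjective_of_epi_bot {I Q : Sheaf (⊥ : GrothendieckTopology C) AddCommGrpCat.{u}}
    (g : I ⟶ Q) [Epi g] (W : C) : Function.Surjective (g.hom.app (op W)).hom := by
  haveI := isLocallySurjective_of_epi g
  intro s
  have h := Presheaf.imageSieve_mem (⊥ : GrothendieckTopology C) g.hom (U := op W) s
  have h' : Presheaf.imageSieve g.hom s = ⊤ := GrothendieckTopology.bot_covering.1 h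
  have h1 : (Presheaf.imageSieve g.hom s).arrows (𝟙 W) := by
    rw [h']
    trivial
  obtain ⟨t, ht⟩ := h1
  refine ⟨t, ht.trans ?_⟩
  rw [op_id, Q.obj.map_id]
  rfl

variable [HasPullbacks C] {X : C} {ι : Type u} (Y : ι → Over X)

/-- the sieve generated by the family -/
abbrev RS : Sieve X := Sieve.ofArrows (fun i => (Y i).left) (fun i => (Y i).hom)

/-- the free abelian presheaf on the sieve, as a sheaf for the trivial topology -/
noncomputable abbrev ZR : Sheaf (⊥ : GrothendieckTopology C) AddCommGrpCat.{u} :=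
  (freeSh ⊥).obj (RS Y).functor

variable (F : Sheaf (⊥ : GrothendieckTopology C) AddCommGrpCat.{u})

/-- the restriction to `Over X` -/
abbrev RF : (Over X)ᵒᵖ ⥤ AddCommGrpCat.{u} := (Over.forget X).op ⋙ F.obj

/-- the generator of the sieve at `i` -/
def rgen (i : ι) : (RS Y).functor.obj (op (Y i).left) := ⟨(Y i).hom, Sieve.ofArrows_mk _ _ i⟩

omit [HasPullbacks C] in
lemma homEquivSect_comp (ψ : ZR Y ⟶ F) {V : C} (f : V ⟶ X) (hf : (RS Y) f) :
    CohFree.homEquivSect ⊥ V F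
      ((freeSh ⊥).map ((yonedaEquiv (F := (RS Y).functor)).symm ⟨f, hf⟩) ≫ ψ) =
      ((freeAdj ⊥).homEquiv _ _ ψ).app (op V) ⟨f, hf⟩ := by
  show yonedaEquiv ((freeAdj ⊥).homEquiv (yoneda.obj V) F
    ((freeSh ⊥).map ((yonedaEquiv (F := (RS Y).functor)).symm ⟨f, hf⟩) ≫ ψ)) = _
  rw [Adjunction.homEquiv_naturality_left, yonedaEquiv_comp]
  exact congrArg (fun z => ((freeAdj ⊥).homEquiv (RS Y).functor F ψ).app (op V) z)
    (Equiv.apply_symm_apply yonedaEquiv _)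

/-- evaluation at the generator `i` -/
noncomputable def θ (i : ι) : (ZR Y ⟶ F) →+ F.obj.obj (op (Y i).left) :=
  (CohFree.homEquivSect ⊥ (Y i).left F).toAddMonoidHom.comp
    (Preadditive.leftComp F
      ((freeSh ⊥).map ((yonedaEquiv (F := (RS Y).functor)).symm (rgen Y i))))

omit [HasPullbacks C] in
lemma θ_eq (i : ι) (ψ : ZR Y ⟶ F) :
    θ Y F i ψ = ((freeAdj ⊥).homEquiv _ _ ψ).app (op (Y i).left) (rgen Y i) :=
  homEquivSect_comp Y F ψ (Y i).hom (Sieve.ofArrows_mk _ _ i)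

omit [HasPullbacks C] in
lemma tr_app (ψ : ZR Y ⟶ F) {V : C} (i : ι) (k : V ⟶ (Y i).left)
    (hk : (RS Y) (k ≫ (Y i).hom)) :
    ((freeAdj ⊥).homEquiv _ _ ψ).app (op V) ⟨k ≫ (Y i).hom, hk⟩ =
      (F.obj.map k.op).hom (θ Y F i ψ) := by
  rw [θ_eq]
  exact NatTrans.naturality_apply ((freeAdj ⊥).homEquiv _ _ ψ) k.op (rgen Y i)

omit [HasPullbacks C] in
lemma θ_comp {G : Sheaf (⊥ : GrothendieckTopology C) AddCommGrpCat.{u}} (g : F ⟶ G) (i : ι)
    (ψ : ZR Y ⟶ F) : θ Y G i (ψ ≫ g) = (g.hom.app (op (Y i).left)).hom (θ Y F i ψ) := by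
  show CohFree.evalGen ⊥ (Y i).left G
    ((freeSh ⊥).map ((yonedaEquiv (F := (RS Y).functor)).symm (rgen Y i)) ≫ ψ ≫ g) = _
  rw [← Category.assoc]
  rfl

/-- the `0`-cochain attached to a morphism out of the free presheaf on the sieve -/
noncomputable def kF : AddCommGrpCat.of (ZR Y ⟶ F) ⟶ ∏ᶜ (term Y (RF F) 0) :=
  ofFamHom (RF F) (fun i => AddCommGrpCat.ofHom (θ Y F i))

lemma comp0_kF (ψ : ZR Y ⟶ F) (i : ι) : comp0 (RF F) ((kF Y F).hom ψ) i = θ Y F i ψ :=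
  (comp0_ofFamHom (RF F) (fun i => AddCommGrpCat.ofHom (θ Y F i)) ψ i).trans rfl

lemma kF_cocycle (ψ : ZR Y ⟶ F) : (dd (RF F) 0).hom ((kF Y F).hom ψ) = 0 := by
  rw [cocycle_iff]
  intro W s s'
  show ((RF F).map s.2.op).hom (comp0 (RF F) ((kF Y F).hom ψ) s.1) =
    ((RF F).map s'.2.op).hom (comp0 (RF F) ((kF Y F).hom ψ) s'.1)
  rw [comp0_kF, comp0_kF]
  have hm : ∀ t : Σ i, (W ⟶ Y i), (RS Y) (t.2.left ≫ (Y t.1).hom) := fun t =>
    (RS Y).downward_closed (Sieve.ofArrows_mk _ _ t.1) t.2.left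
  have h1 := tr_app Y F ψ s.1 s.2.left (hm s)
  have h2 := tr_app Y F ψ s'.1 s'.2.left (hm s')
  have e1 : (⟨s.2.left ≫ (Y s.1).hom, hm s⟩ : (RS Y).functor.obj (op W.left)) =
      ⟨s'.2.left ≫ (Y s'.1).hom, hm s'⟩ :=
    Subtype.ext ((Over.w s.2).trans (Over.w s'.2).symm)
  exact h1.symm.trans ((congrArg
    (fun z => ((freeAdj ⊥).homEquiv _ _ ψ).app (op W.left) z) e1).trans h2)

lemma kF_d : kF Y F ≫ (CechEdge.cx F.obj Y).d 0 1 = 0 := by
  apply ConcreteCategory.hom_ext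
  intro ψ
  exact (congrArg (fun φ => φ.hom ((kF Y F).hom ψ)) (cx_d (Y := Y) (RF F) 0)).trans
    (kF_cocycle Y F ψ)

lemma kF_injective : Function.Injective (kF Y F).hom := by
  rw [injective_iff_map_eq_zero]
  intro ψ hψ
  have hθ : ∀ i, θ Y F i ψ = 0 := fun i => by
    rw [← comp0_kF, hψ]
    exact map_zero _
  apply freeSh_sieve_hom_ext ⊥ (RS Y) ψ 0
  intro V f hf
  obtain ⟨i, k, rfl⟩ := (Sieve.mem_ofArrows_iff _ _ _).1 hf
  apply (CohFree.homEquivSect ⊥ V F).injective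
  have hk : (RS Y) (k ≫ (Y i).hom) := hf
  have h1 : CohFree.homEquivSect ⊥ V F
      ((freeSh ⊥).map ((yonedaEquiv (F := (RS Y).functor)).symm ⟨k ≫ (Y i).hom, hk⟩) ≫ ψ) = 0 :=
    (homEquivSect_comp Y F ψ (k ≫ (Y i).hom) hk).trans
      ((tr_app Y F ψ i k hk).trans
        ((congrArg (fun z => (F.obj.map k.op).hom z) (hθ i)).trans (map_zero _)))
  have h2 : CohFree.homEquivSect ⊥ V F
      ((freeSh ⊥).map ((yonedaEquiv (F := (RS Y).functor)).symm ⟨k ≫ (Y i).hom, hk⟩) ≫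
        (0 : ZR Y ⟶ F)) = 0 :=
    (congrArg (CohFree.homEquivSect ⊥ V F) comp_zero).trans (map_zero _)
  exact h1.trans h2.symm

lemma exists_of_cocycle_bot (x : (∏ᶜ (term Y (RF F) 0) : AddCommGrpCat.{u}))
    (hx : (dd (RF F) 0).hom x = 0) : ∃ ψ : ZR Y ⟶ F, (kF Y F).hom ψ = x := by
  have hcomp := (cocycle_iff (RF F) x).1 hx
  have hcompat : Presieve.Arrows.Compatible (F.obj ⋙ forget AddCommGrpCat.{u})
      (fun i => (Y i).hom) (fun i => comp0 (RF F) x i) := by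
    intro i j Z gi gj hcomm
    let W : Over X := Over.mk (gi ≫ (Y i).hom)
    exact hcomp W ⟨i, Over.homMk gi rfl⟩ ⟨j, Over.homMk gj hcomm.symm⟩
  have hfam := hcompat.familyOfElements_compatible
  refine ⟨((freeAdj ⊥).homEquiv _ _).symm
    (natOfFam (RS Y) ((forgetSh ⊥).obj F) hcompat.familyOfElements.sieveExtend
      hfam.sieveExtend), cochain_ext (RF F) (fun i => ?_)⟩
  rw [comp0_kF, θ_eq, Equiv.apply_symm_apply]
  exact (Presieve.extend_agrees hfam (Presieve.ofArrows.mk i)).trans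
    (hcompat.familyOfElements_ofArrows_mk i)

/-- the comparison in degree zero -/
noncomputable def eS0 : (ZR Y ⟶ F) →+ CohCx.cechH F.obj Y 0 :=
  (((CechEdge.cx F.obj Y).liftCycles (kF Y F) 1 (by simp) (kF_d Y F)) ≫
    (CechEdge.cx F.obj Y).homologyπ 0).hom

lemma eS0_bijective : Function.Bijective (eS0 Y F) := by
  have hπ : Function.Bijective ((CechEdge.cx F.obj Y).homologyπ 0).hom :=
    ConcreteCategory.bijective_of_isIso ((CechEdge.cx F.obj Y).homologyπ 0)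
  have hi : Function.Injective ((CechEdge.cx F.obj Y).iCycles 0).hom :=
    (AddCommGrpCat.mono_iff_injective _).1 inferInstance
  have hci : ∀ ψ, ((CechEdge.cx F.obj Y).iCycles 0).hom
      (((CechEdge.cx F.obj Y).liftCycles (kF Y F) 1 (by simp) (kF_d Y F)).hom ψ) =
      (kF Y F).hom ψ := fun ψ =>
    congrArg (fun φ => φ.hom ψ) ((CechEdge.cx F.obj Y).liftCycles_i (kF Y F) 1 (by simp)
      (kF_d Y F))
  constructor
  · intro ψ ψ' h
    have h1 : ((CechEdge.cx F.obj Y).liftCycles (kF Y F) 1 (by simp) (kF_d Y F)).hom ψ =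
        ((CechEdge.cx F.obj Y).liftCycles (kF Y F) 1 (by simp) (kF_d Y F)).hom ψ' := hπ.1 h
    apply kF_injective Y F
    rw [← hci, ← hci, h1]
  · intro y
    obtain ⟨z, rfl⟩ := hπ.2 y
    have hz : ((CechEdge.cx F.obj Y).d 0 1).hom (((CechEdge.cx F.obj Y).iCycles 0).hom z) = 0 :=
      congrArg (fun φ => φ.hom z) ((CechEdge.cx F.obj Y).iCycles_d 0 1)
    have hz' : (dd (RF F) 0).hom (((CechEdge.cx F.obj Y).iCycles 0).hom z) = 0 :=
      (congrArg (fun φ => φ.hom (((CechEdge.cx F.obj Y).iCycles 0).hom z))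
        (cx_d (Y := Y) (RF F) 0)).symm.trans hz
    obtain ⟨ψ, hψ⟩ := exists_of_cocycle_bot Y F _ hz'
    refine ⟨ψ, ?_⟩
    have : ((CechEdge.cx F.obj Y).liftCycles (kF Y F) 1 (by simp) (kF_d Y F)).hom ψ = z :=
      hi ((hci ψ).trans hψ)
    show ((CechEdge.cx F.obj Y).homologyπ 0).hom
      (((CechEdge.cx F.obj Y).liftCycles (kF Y F) 1 (by simp) (kF_d Y F)).hom ψ) = _
    rw [this]

variable {F} in
lemma kF_nat {G : Sheaf (⊥ : GrothendieckTopology C) AddCommGrpCat.{u}} (g : F ⟶ G)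
    (ψ : ZR Y ⟶ F) :
    (((CechEdge.cxFunctor Y).map g.hom).f 0).hom ((kF Y F).hom ψ) = (kF Y G).hom (ψ ≫ g) := by
  apply cochain_ext (RF G)
  intro i
  rw [comp0_kF, θ_comp, ← comp0_kF]
  exact comp0_map (Functor.whiskerLeft (Over.forget X).op g.hom) ((kF Y F).hom ψ) i

variable {F} in
lemma eS0_nat {G : Sheaf (⊥ : GrothendieckTopology C) AddCommGrpCat.{u}} (g : F ⟶ G)
    (ψ : ZR Y ⟶ F) :
    CechEdge.cechHMap Y g.hom 0 (eS0 Y F ψ) = eS0 Y G (ψ ≫ g) := by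
  have h : (CechEdge.cx F.obj Y).liftCycles (kF Y F) 1 (by simp) (kF_d Y F) ≫
      (CechEdge.cx F.obj Y).iCycles 0 ≫ ((CechEdge.cxFunctor Y).map g.hom).f 0 =
      (AddCommGrpCat.ofHom (Preadditive.rightComp (ZR Y) g) ≫
        (CechEdge.cx G.obj Y).liftCycles (kF Y G) 1 (by simp) (kF_d Y G)) ≫
        (CechEdge.cx G.obj Y).iCycles 0 := by
    rw [← Category.assoc, HomologicalComplex.liftCycles_i, Category.assoc,
      HomologicalComplex.liftCycles_i]
    apply ConcreteCategory.hom_ext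
    intro ψ'
    exact kF_nat Y g ψ'
  have h2 := homologyMap_of_cycles ((CechEdge.cxFunctor Y).map g.hom)
    ((CechEdge.cx F.obj Y).liftCycles (kF Y F) 1 (by simp) (kF_d Y F))
    (AddCommGrpCat.ofHom (Preadditive.rightComp (ZR Y) g) ≫
      (CechEdge.cx G.obj Y).liftCycles (kF Y G) 1 (by simp) (kF_d Y G)) h
  exact congrArg (fun φ => φ.hom ψ) h2

lemma cechδ_eS0_eq_zero_iff {S : ShortComplex (Sheaf (⊥ : GrothendieckTopology C)
      AddCommGrpCat.{u})}
    (hT : ((S.map (resU ⊥ X)).map (cechComplexFunctor Y)).ShortExact) (ψ : ZR Y ⟶ S.X₃) :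
    (hT.δ 0 1 rfl).hom (eS0 Y S.X₃ ψ) = 0 ↔ ∃ ψ' : ZR Y ⟶ S.X₂, ψ' ≫ S.g = ψ := by
  have hnat : ∀ ψ' : ZR Y ⟶ S.X₂,
      (HomologicalComplex.homologyMap ((S.map (resU ⊥ X)).map (cechComplexFunctor Y)).g 0).hom
        (eS0 Y S.X₂ ψ') = eS0 Y S.X₃ (ψ' ≫ S.g) := fun ψ' => eS0_nat Y S.g ψ'
  constructor
  · intro h
    have hex := hT.homology_exact₃ 0 1 rfl
    rw [ShortComplex.ab_exact_iff] at hex
    obtain ⟨y, hy⟩ := hex (eS0 Y S.X₃ ψ) h
    obtain ⟨ψ', rfl⟩ := (eS0_bijective Y S.X₂).2 y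
    refine ⟨ψ', (eS0_bijective Y S.X₃).1 ?_⟩
    rw [← hnat]
    exact hy
  · rintro ⟨ψ', rfl⟩
    rw [← hnat]
    exact congrArg (fun φ => φ.hom (eS0 Y S.X₂ ψ')) (hT.comp_δ 0 1 rfl)

/-- Čech cohomology of a presheaf with respect to a family is the cohomology of the sieve
generated by the family. -/
theorem cech_iso_ext : ∀ (q : ℕ) (F : Sheaf (⊥ : GrothendieckTopology C) AddCommGrpCat.{u}),
    Nonempty (CohCx.cechH F.obj Y q ≃+ Ext (ZR Y) F q)
  | 0, F => ⟨(AddEquiv.ofBijective (eS0 Y F) (eS0_bijective Y F)).symm.trans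
      Ext.addEquiv₀.symm⟩
  | 1, F => by
      have hS := injSC_shortExact ⊥ F
      haveI := hS.epi_g
      have hsurj : ∀ (n : ℕ) (a : Fin (n + 1) → ι),
          Function.Surjective ((injSC ⊥ F).g.hom.app (op (∏ᶜ (Y ∘ a)).left)).hom := fun n a =>
        surjective_of_epi_bot (injSC ⊥ F).g _
      have hT := cech_shortExact hS Y hsurj
      haveI : Injective (injSC ⊥ F).X₂.obj :=
        Injective.injective_of_adjoint (sheafificationAdjunction ⊥ AddCommGrpCat.{u})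
          (injSC ⊥ F).X₂
      have hI : IsZero (CohCx.cechH (injSC ⊥ F).X₂.obj Y 1) :=
        cechH_isZero_of_injective_presheaf _ Y 0
      refine addEquiv_of_ker_eq
        ((hT.δ 0 1 rfl).hom.comp (eS0 Y (injSC ⊥ F).X₃))
        ((hS.extClass.postcomp (ZR Y) (zero_add 1)).comp
          (Ext.addEquiv₀ (X := ZR Y) (Y := (injSC ⊥ F).X₃)).symm.toAddMonoidHom) ?_ ?_ ?_
      · haveI := hT.epi_δ 0 1 rfl hI
        exact ((AddCommGrpCat.epi_iff_surjective (hT.δ 0 1 rfl)).1 inferInstance).comp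
          (eS0_bijective Y _).2
      · exact (extδ_surjective (ZR Y) hS 0).comp
          (Ext.addEquiv₀ (X := ZR Y) (Y := (injSC ⊥ F).X₃)).symm.surjective
      · intro ψ
        exact (cechδ_eS0_eq_zero_iff Y hT ψ).trans
          (mk₀_comp_extClass_eq_zero_iff (ZR Y) hS ψ).symm
  | p + 2, F => by
      have hS := injSC_shortExact ⊥ F
      haveI := hS.epi_g
      have hsurj : ∀ (n : ℕ) (a : Fin (n + 1) → ι),
          Function.Surjective ((injSC ⊥ F).g.hom.app (op (∏ᶜ (Y ∘ a)).left)).hom := fun n a =>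
        surjective_of_epi_bot (injSC ⊥ F).g _
      have hT := cech_shortExact hS Y hsurj
      haveI : Injective (injSC ⊥ F).X₂.obj :=
        Injective.injective_of_adjoint (sheafificationAdjunction ⊥ AddCommGrpCat.{u})
          (injSC ⊥ F).X₂
      have hI : ∀ q, IsZero (CohCx.cechH (injSC ⊥ F).X₂.obj Y (q + 1)) := fun q =>
        cechH_isZero_of_injective_presheaf _ Y q
      obtain ⟨e2⟩ := cech_iso_ext (p + 1) (injSC ⊥ F).X₃
      have e1 : CohCx.cechH (injSC ⊥ F).X₃.obj Y (p + 1) ≅ CohCx.cechH F.obj Y (p + 2) :=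
        cechδIso hT p (hI p) (hI (p + 1))
      have e3 : Ext (ZR Y) (injSC ⊥ F).X₃ (p + 1) ≃+ Ext (ZR Y) F (p + 2) :=
        AddEquiv.ofBijective (hS.extClass.postcomp (ZR Y) (rfl : p + 1 + 1 = p + 1 + 1))
          ⟨extδ_injective (ZR Y) hS p, extδ_surjective (ZR Y) hS (p + 1)⟩
      exact ⟨(e1.symm.addCommGroupIsoToAddEquiv).trans (e2.trans e3)⟩

end bot

end Groth.Agent.H67.Cech
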