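import Groth.Agent.H67.CechK

/-!
# Helper library (helper67): existence of the edge family (Čech cohomology as a universal
δ-functor on presheaves)
-/

set_option autoImplicit false
universe u

open CategoryTheory CategoryTheory.Limits Opposite Abelian

namespace Groth.Agent.H67.Cech

open Groth.Agent.H67.SieveCoh

section algebra

lemma exists_lift_of_surjective {A B C' : Type*} [AddCommGroup A] [AddCommGroup B]
    [AddCommGroup C'] (f : A →+ B) (hf : Function.Surjective f) (g : A →+ C')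
    (h : ∀ x, f x = 0 → g x = 0) : ∃ m : B →+ C', ∀ x, m (f x) = g x :=
  ⟨f.liftOfRightInverse (Function.surjInv hf) (Function.rightInverse_surjInv hf)
      ⟨g, fun x hx => AddMonoidHom.mem_ker.2 (h x (AddMonoidHom.mem_ker.1 hx))⟩,
    fun x => AddMonoidHom.liftOfRightInverse_comp_apply _ _ _ _ x⟩

end algebra

section abelian

variable {B : Type*} [Category B] [Abelian B]

lemma exists_hom_of_injective {S T : ShortComplex B} (hS : S.ShortExact)
    [Injective T.X₂] (φ : S.X₁ ⟶ T.X₁) : ∃ Φ : S ⟶ T, Φ.τ₁ = φ := by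
  haveI := hS.mono_f
  haveI := hS.epi_g
  have h₂ : S.f ≫ Injective.factorThru (φ ≫ T.f) S.f = φ ≫ T.f := Injective.comp_factorThru _ _
  have h₀ : S.f ≫ Injective.factorThru (φ ≫ T.f) S.f ≫ T.g = 0 := by
    rw [← Category.assoc, h₂, Category.assoc, T.zero, comp_zero]
  exact ⟨{ τ₁ := φ
           τ₂ := Injective.factorThru (φ ≫ T.f) S.f
           τ₃ := hS.exact.desc (Injective.factorThru (φ ≫ T.f) S.f ≫ T.g) h₀
           comm₁₂ := h₂.symm
           comm₂₃ := (hS.exact.g_desc _ h₀).symm }, rfl⟩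

universe w in
lemma ext_comp_g_extClass [HasExt.{w} B] {Z : B} {S : ShortComplex B} (hS : S.ShortExact) {p : ℕ}
    (a : Ext Z S.X₂ p) :
    (a.comp (Ext.mk₀ S.g) (add_zero p)).comp hS.extClass (rfl : p + 1 = p + 1) = 0 := by
  rw [Ext.comp_assoc a (Ext.mk₀ S.g) hS.extClass (add_zero p) (zero_add 1) (by omega),
    hS.comp_extClass, Ext.comp_zero]

end abelian

variable {C : Type u} [SmallCategory C] [HasPullbacks C] (J : GrothendieckTopology C) {U : C}
  {ι : Type u} (Y : ι → Over U)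

lemma HUmap_id (F : Sheaf J AddCommGrpCat.{u}) (p : ℕ) (x : CohSite.HU F p U) :
    CechEdge.HUmap (𝟙 F) p U x = x := by
  rw [HUmap_apply, Ext.comp_mk₀_id]

lemma cechHMap_id (P : Cᵒᵖ ⥤ AddCommGrpCat.{u}) (p : ℕ) (x : CohCx.cechH P Y p) :
    CechEdge.cechHMap Y (𝟙 P) p x = x := by
  have h : HomologicalComplex.homologyMap ((CechEdge.cxFunctor Y).map (𝟙 P)) p = 𝟙 _ := by
    rw [CategoryTheory.Functor.map_id, HomologicalComplex.homologyMap_id]
  exact congrArg (fun φ => φ.hom x) h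

lemma cech_δ_natural {S T : ShortComplex (Cᵒᵖ ⥤ AddCommGrpCat.{u})} (Φ : S ⟶ T)
    (hCS : (S.map (CechEdge.cxFunctor Y)).ShortExact)
    (hCT : (T.map (CechEdge.cxFunctor Y)).ShortExact) (p : ℕ) (x : CohCx.cechH S.X₃ Y p) :
    CechEdge.cechHMap Y Φ.τ₁ (p + 1) ((hCS.δ p (p + 1) rfl).hom x) =
      (hCT.δ p (p + 1) rfl).hom (CechEdge.cechHMap Y Φ.τ₃ p x) :=
  congrArg (fun φ => φ.hom x) (HomologicalComplex.HomologySequence.δ_naturality
    ((CechEdge.cxFunctor Y).mapShortComplex.map Φ) hCS hCT p (p + 1) rfl)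

lemma ext_δ_natural {S T : ShortComplex (Cᵒᵖ ⥤ AddCommGrpCat.{u})} (Φ : S ⟶ T)
    (hS : S.ShortExact) (hT : T.ShortExact) (p : ℕ)
    (a : CohSite.HU (CechEdge.shf J S.X₃) p U) :
    CechEdge.HUmap (CechEdge.shfMap J Φ.τ₁) (p + 1) U
        (CechEdge.extδ (hS.map_of_exact (presheafToSheaf J AddCommGrpCat.{u})) U p a) =
      CechEdge.extδ (hT.map_of_exact (presheafToSheaf J AddCommGrpCat.{u})) U p
        (CechEdge.HUmap (CechEdge.shfMap J Φ.τ₃) p U a) :=
  ext_square (hS.map_of_exact (presheafToSheaf J AddCommGrpCat.{u}))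
    (hT.map_of_exact (presheafToSheaf J AddCommGrpCat.{u}))
    ((presheafToSheaf J AddCommGrpCat.{u}).mapShortComplex.map Φ) a

/-- a natural family of comparison maps in one degree -/
structure Lvl (p : ℕ) where
  /-- the maps -/
  e : ∀ P : Cᵒᵖ ⥤ AddCommGrpCat.{u},
    CohCx.cechH P Y p →+ CohSite.HU (CechEdge.shf J P) p U
  /-- naturality -/
  nat : ∀ (P Q : Cᵒᵖ ⥤ AddCommGrpCat.{u}) (φ : P ⟶ Q) (x : CohCx.cechH P Y p),
    e Q (CechEdge.cechHMap Y φ p x) = CechEdge.HUmap (CechEdge.shfMap J φ) p U (e P x)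

variable {J Y}

lemma step_ker {p : ℕ} (L : Lvl J Y p) (P : Cᵒᵖ ⥤ AddCommGrpCat.{u})
    (x : CohCx.cechH (injSCP P).X₃ Y p)
    (hx : ((cxFunctor_shortExact (injSCP_shortExact P) Y).δ p (p + 1) rfl).hom x = 0) :
    CechEdge.extδ ((injSCP_shortExact P).map_of_exact (presheafToSheaf J AddCommGrpCat.{u}))
      U p (L.e (injSCP P).X₃ x) = 0 := by
  have hC := cxFunctor_shortExact (injSCP_shortExact P) Y
  have hSh := (injSCP_shortExact P).map_of_exact (presheafToSheaf J AddCommGrpCat.{u})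
  obtain ⟨y, hy⟩ := (ShortComplex.ab_exact_iff _).1 (hC.homology_exact₃ p (p + 1) rfl) x hx
  have hy' : CechEdge.cechHMap Y (injSCP P).g p y = x := hy
  rw [← hy', L.nat]
  exact ext_comp_g_extClass hSh (L.e (injSCP P).X₂ y)

lemma exists_stepMap {p : ℕ} (L : Lvl J Y p) (P : Cᵒᵖ ⥤ AddCommGrpCat.{u}) :
    ∃ m : CohCx.cechH P Y (p + 1) →+ CohSite.HU (CechEdge.shf J P) (p + 1) U,
      ∀ x : CohCx.cechH (injSCP P).X₃ Y p,
        m (((cxFunctor_shortExact (injSCP_shortExact P) Y).δ p (p + 1) rfl).hom x) =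
          CechEdge.extδ ((injSCP_shortExact P).map_of_exact
            (presheafToSheaf J AddCommGrpCat.{u})) U p (L.e (injSCP P).X₃ x) :=
  exists_lift_of_surjective
    (((cxFunctor_shortExact (injSCP_shortExact P) Y).δ p (p + 1) rfl).hom)
    (cechδ_surjective Y (cxFunctor_shortExact (injSCP_shortExact P) Y) p)
    ((CechEdge.extδ ((injSCP_shortExact P).map_of_exact
      (presheafToSheaf J AddCommGrpCat.{u})) U p).comp (L.e (injSCP P).X₃))
    (fun x hx => step_ker L P x hx)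

/-- the comparison map in the next degree -/
noncomputable def stepMap {p : ℕ} (L : Lvl J Y p) (P : Cᵒᵖ ⥤ AddCommGrpCat.{u}) :
    CohCx.cechH P Y (p + 1) →+ CohSite.HU (CechEdge.shf J P) (p + 1) U :=
  Classical.choose (exists_stepMap L P)

lemma stepMap_link {p : ℕ} (L : Lvl J Y p) (P : Cᵒᵖ ⥤ AddCommGrpCat.{u})
    (x : CohCx.cechH (injSCP P).X₃ Y p) :
    stepMap L P (((cxFunctor_shortExact (injSCP_shortExact P) Y).δ p (p + 1) rfl).hom x) =
      CechEdge.extδ ((injSCP_shortExact P).map_of_exact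
        (presheafToSheaf J AddCommGrpCat.{u})) U p (L.e (injSCP P).X₃ x) :=
  Classical.choose_spec (exists_stepMap L P) x

lemma stepMap_nat {p : ℕ} (L : Lvl J Y p) (P P' : Cᵒᵖ ⥤ AddCommGrpCat.{u}) (φ : P ⟶ P')
    (y : CohCx.cechH P Y (p + 1)) :
    stepMap L P' (CechEdge.cechHMap Y φ (p + 1) y) =
      CechEdge.HUmap (CechEdge.shfMap J φ) (p + 1) U (stepMap L P y) := by
  have hC := cxFunctor_shortExact (injSCP_shortExact P) Y
  have hC' := cxFunctor_shortExact (injSCP_shortExact P') Y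
  obtain ⟨x, rfl⟩ := cechδ_surjective Y hC p y
  obtain ⟨Φ, rfl⟩ := exists_hom_of_injective (injSCP_shortExact P) (T := injSCP P') φ
  have t1 := cech_δ_natural Y Φ hC hC' p x
  have t2 := ext_δ_natural J Φ (injSCP_shortExact P) (injSCP_shortExact P') p
    (L.e (injSCP P).X₃ x)
  exact (congrArg (stepMap L P') t1).trans ((stepMap_link L P' _).trans
    ((congrArg (CechEdge.extδ ((injSCP_shortExact P').map_of_exact
      (presheafToSheaf J AddCommGrpCat.{u})) U p) (L.nat _ _ Φ.τ₃ x)).trans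
      (t2.symm.trans (congrArg (CechEdge.HUmap (CechEdge.shfMap J Φ.τ₁) (p + 1) U)
        (stepMap_link L P x).symm))))

lemma stepMap_delta {p : ℕ} (L : Lvl J Y p) (S : ShortComplex (Cᵒᵖ ⥤ AddCommGrpCat.{u}))
    (hS : S.ShortExact) (hC : (S.map (CechEdge.cxFunctor Y)).ShortExact)
    (x : CohCx.cechH S.X₃ Y p) :
    stepMap L S.X₁ ((hC.δ p (p + 1) rfl).hom x) =
      CechEdge.extδ (hS.map_of_exact (presheafToSheaf J AddCommGrpCat.{u})) U p
        (L.e S.X₃ x) := by
  have hCT := cxFunctor_shortExact (injSCP_shortExact S.X₁) Y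
  obtain ⟨Φ, hΦ⟩ := exists_hom_of_injective hS (T := injSCP S.X₁) (𝟙 S.X₁)
  have t1 := cech_δ_natural Y Φ hC hCT p x
  have t2 := ext_δ_natural J Φ hS (injSCP_shortExact S.X₁) p (L.e S.X₃ x)
  have t1' : CechEdge.cechHMap Y (𝟙 S.X₁) (p + 1) ((hC.δ p (p + 1) rfl).hom x) =
      (hCT.δ p (p + 1) rfl).hom (CechEdge.cechHMap Y Φ.τ₃ p x) :=
    (congrArg (fun z => CechEdge.cechHMap Y z (p + 1) ((hC.δ p (p + 1) rfl).hom x)) hΦ).symm.trans
      t1
  have t2' : CechEdge.HUmap (CechEdge.shfMap J (𝟙 S.X₁)) (p + 1) U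
        (CechEdge.extδ (hS.map_of_exact (presheafToSheaf J AddCommGrpCat.{u})) U p
          (L.e S.X₃ x)) =
      CechEdge.extδ ((injSCP_shortExact S.X₁).map_of_exact
        (presheafToSheaf J AddCommGrpCat.{u})) U p
        (CechEdge.HUmap (CechEdge.shfMap J Φ.τ₃) p U (L.e S.X₃ x)) :=
    (congrArg (fun z => CechEdge.HUmap (CechEdge.shfMap J z) (p + 1) U
      (CechEdge.extδ (hS.map_of_exact (presheafToSheaf J AddCommGrpCat.{u})) U p
        (L.e S.X₃ x))) hΦ).symm.trans t2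
  have t3 : CechEdge.HUmap (CechEdge.shfMap J (𝟙 S.X₁)) (p + 1) U
        (CechEdge.extδ (hS.map_of_exact (presheafToSheaf J AddCommGrpCat.{u})) U p
          (L.e S.X₃ x)) =
      CechEdge.extδ (hS.map_of_exact (presheafToSheaf J AddCommGrpCat.{u})) U p
        (L.e S.X₃ x) := by
    have hid : CechEdge.shfMap J (𝟙 S.X₁) = 𝟙 _ :=
      (presheafToSheaf J AddCommGrpCat.{u}).map_id S.X₁
    rw [hid]
    exact HUmap_id J _ _ _
  exact (congrArg (stepMap L S.X₁) (cechHMap_id Y _ _ _).symm).trans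
    ((congrArg (stepMap L S.X₁) t1').trans ((stepMap_link L S.X₁ _).trans
      ((congrArg (CechEdge.extδ ((injSCP_shortExact S.X₁).map_of_exact
        (presheafToSheaf J AddCommGrpCat.{u})) U p) (L.nat _ _ Φ.τ₃ x)).trans
        (t2'.symm.trans t3))))

variable (J Y)

/-- sections over `U` of a sheaf are its degree zero Čech cohomology for a covering family -/
noncomputable def toCechEquiv (hY : Sieve.ofArrows (fun i => (Y i).left) (fun i => (Y i).hom) ∈ J U)
    (F : Sheaf J AddCommGrpCat.{u}) :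
    F.obj.obj (op U) ≃+ CohCx.cechH F.obj Y 0 :=
  AddEquiv.ofBijective (CechEdge.toCech Y F.obj) (toCech_bijective J Y F.property hY)

/-- the comparison map in degree zero -/
noncomputable def e0 (hY : Sieve.ofArrows (fun i => (Y i).left) (fun i => (Y i).hom) ∈ J U)
    (P : Cᵒᵖ ⥤ AddCommGrpCat.{u}) :
    CohCx.cechH P Y 0 →+ CohSite.HU (CechEdge.shf J P) 0 U :=
  ((CechEdge.sectH0 J U (CechEdge.shf J P)).toAddMonoidHom.comp
    (toCechEquiv J Y hY (CechEdge.shf J P)).symm.toAddMonoidHom).comp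
    (CechEdge.cechHMap Y (toSheafify J P) 0)

lemma e0_toCech (hY : Sieve.ofArrows (fun i => (Y i).left) (fun i => (Y i).hom) ∈ J U)
    (P : Cᵒᵖ ⥤ AddCommGrpCat.{u}) (s : P.obj (op U)) :
    e0 J Y hY P (CechEdge.toCech Y P s) =
      CechEdge.sectH0 J U (CechEdge.shf J P) (((toSheafify J P).app (op U)).hom s) := by
  have h1 : CechEdge.cechHMap Y (toSheafify J P) 0 (CechEdge.toCech Y P s) =
      CechEdge.toCech Y (CechEdge.shf J P).obj (((toSheafify J P).app (op U)).hom s) :=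
    toCech_naturality Y (toSheafify J P) s
  have h2 : (toCechEquiv J Y hY (CechEdge.shf J P)).symm
      (CechEdge.toCech Y (CechEdge.shf J P).obj (((toSheafify J P).app (op U)).hom s)) =
      ((toSheafify J P).app (op U)).hom s :=
    (toCechEquiv J Y hY (CechEdge.shf J P)).symm_apply_apply _
  exact congrArg (CechEdge.sectH0 J U (CechEdge.shf J P))
    ((congrArg (toCechEquiv J Y hY (CechEdge.shf J P)).symm h1).trans h2)

lemma e0_nat (hY : Sieve.ofArrows (fun i => (Y i).left) (fun i => (Y i).hom) ∈ J U)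
    (P Q : Cᵒᵖ ⥤ AddCommGrpCat.{u}) (φ : P ⟶ Q) (x : CohCx.cechH P Y 0) :
    e0 J Y hY Q (CechEdge.cechHMap Y φ 0 x) =
      CechEdge.HUmap (CechEdge.shfMap J φ) 0 U (e0 J Y hY P x) := by
  have h1 : CechEdge.toCech Y (CechEdge.shf J P).obj
      ((toCechEquiv J Y hY (CechEdge.shf J P)).symm
        (CechEdge.cechHMap Y (toSheafify J P) 0 x)) =
      CechEdge.cechHMap Y (toSheafify J P) 0 x :=
    (toCechEquiv J Y hY (CechEdge.shf J P)).apply_symm_apply _
  have h2 : CechEdge.cechHMap Y (toSheafify J Q) 0 (CechEdge.cechHMap Y φ 0 x) =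
      CechEdge.toCech Y (CechEdge.shf J Q).obj (((CechEdge.shfMap J φ).hom.app (op U)).hom
        ((toCechEquiv J Y hY (CechEdge.shf J P)).symm
          (CechEdge.cechHMap Y (toSheafify J P) 0 x))) :=
    calc CechEdge.cechHMap Y (toSheafify J Q) 0 (CechEdge.cechHMap Y φ 0 x)
        = CechEdge.cechHMap Y (φ ≫ toSheafify J Q) 0 x :=
          (cechHMap_comp Y φ (toSheafify J Q) 0 x).symm
      _ = CechEdge.cechHMap Y (toSheafify J P ≫ (CechEdge.shfMap J φ).hom) 0 x :=
          congrArg (fun z => CechEdge.cechHMap Y z 0 x) (toSheafify_naturality J φ)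
      _ = CechEdge.cechHMap Y (CechEdge.shfMap J φ).hom 0
            (CechEdge.cechHMap Y (toSheafify J P) 0 x) :=
          cechHMap_comp Y (toSheafify J P) (CechEdge.shfMap J φ).hom 0 x
      _ = CechEdge.cechHMap Y (CechEdge.shfMap J φ).hom 0
            (CechEdge.toCech Y (CechEdge.shf J P).obj
              ((toCechEquiv J Y hY (CechEdge.shf J P)).symm
                (CechEdge.cechHMap Y (toSheafify J P) 0 x))) := congrArg _ h1.symm
      _ = _ := toCech_naturality Y (CechEdge.shfMap J φ).hom _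
  have h3 : (toCechEquiv J Y hY (CechEdge.shf J Q)).symm
      (CechEdge.cechHMap Y (toSheafify J Q) 0 (CechEdge.cechHMap Y φ 0 x)) =
      ((CechEdge.shfMap J φ).hom.app (op U)).hom
        ((toCechEquiv J Y hY (CechEdge.shf J P)).symm
          (CechEdge.cechHMap Y (toSheafify J P) 0 x)) :=
    (congrArg (toCechEquiv J Y hY (CechEdge.shf J Q)).symm h2).trans
      ((toCechEquiv J Y hY (CechEdge.shf J Q)).symm_apply_apply _)
  have h4 : ∀ t : (CechEdge.shf J P).obj.obj (op U),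
      CechEdge.HUmap (CechEdge.shfMap J φ) 0 U (CechEdge.sectH0 J U (CechEdge.shf J P) t) =
      CechEdge.sectH0 J U (CechEdge.shf J Q)
        (((CechEdge.shfMap J φ).hom.app (op U)).hom t) := by
    intro t
    rw [HUmap_apply, sectH0_eq, sectH0_eq, Ext.mk₀_comp_mk₀, ofSect_comp]
  exact (congrArg (CechEdge.sectH0 J U (CechEdge.shf J Q)) h3).trans (h4 _).symm

/-- the family in every degree -/
noncomputable def lvl (hY : Sieve.ofArrows (fun i => (Y i).left) (fun i => (Y i).hom) ∈ J U) (p : ℕ) :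
    Lvl J Y p :=
  Nat.rec ⟨e0 J Y hY, e0_nat J Y hY⟩ (fun _ L => ⟨stepMap L, stepMap_nat L⟩) p

/-- existence of an edge family -/
theorem exists_isEdge (hY : Sieve.ofArrows (fun i => (Y i).left) (fun i => (Y i).hom) ∈ J U) :
    ∃ e : ∀ (P : Cᵒᵖ ⥤ AddCommGrpCat.{u}) (p : ℕ),
      CohCx.cechH P Y p →+ CohSite.HU (CechEdge.shf J P) p U, CechEdge.IsEdge J Y e :=
  ⟨fun P p => (lvl J Y hY p).e P,
    { cover := hY
      zero := fun P s => e0_toCech J Y hY P s
      natural := fun P Q φ p x => (lvl J Y hY p).nat P Q φ x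
      delta := fun S hS hC p x => stepMap_delta (lvl J Y hY p) S hS hC x }⟩

end Groth.Agent.H67.Cech
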