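import Groth.Agent.H67.CechJ
import Groth.Agent.H67.CechH

/-!
# Helper library (helper67): edge maps — injectivity in degree one, bijectivity for acyclic
coverings
-/

set_option autoImplicit false
universe w v' u' u

open CategoryTheory CategoryTheory.Limits Opposite Abelian

namespace Groth.Agent.H67.Cech

open Groth.Agent.H67.SieveCoh

section abstract

variable {B : Type u'} [Category.{v'} B] [Abelian B] [HasExt.{w} B]

lemma ext_square {Z : B} {S₁ S₂ : ShortComplex B} (h₁ : S₁.ShortExact) (h₂ : S₂.ShortExact)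
    (φ : S₁ ⟶ S₂) {p : ℕ} (a : Ext Z S₁.X₃ p) :
    (a.comp h₁.extClass (rfl : p + 1 = p + 1)).comp (Ext.mk₀ φ.τ₁) (add_zero (p + 1)) =
      (a.comp (Ext.mk₀ φ.τ₃) (add_zero p)).comp h₂.extClass (rfl : p + 1 = p + 1) := by
  rw [Ext.comp_assoc a h₁.extClass (Ext.mk₀ φ.τ₁) rfl (add_zero 1) (by omega),
    ShortComplex.ShortExact.extClass_naturality h₁ h₂ φ,
    ← Ext.comp_assoc a (Ext.mk₀ φ.τ₃) h₂.extClass (add_zero p) (zero_add 1) (by omega)]

end abstract

variable {C : Type u} [SmallCategory C] [HasPullbacks C] (J : GrothendieckTopology C) {U : C}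
  {ι : Type u} (Y : ι → Over U)

/-- the counit `(F.obj)^# ⟶ F` -/
noncomputable abbrev cu (F : Sheaf J AddCommGrpCat.{u}) : CechEdge.shf J F.obj ⟶ F :=
  (sheafificationAdjunction J AddCommGrpCat.{u}).counit.app F

omit [HasPullbacks C] in
lemma cu_naturality {F G : Sheaf J AddCommGrpCat.{u}} (ψ : F ⟶ G) :
    CechEdge.shfMap J ψ.hom ≫ cu J G = cu J F ≫ ψ :=
  (sheafificationAdjunction J AddCommGrpCat.{u}).counit.naturality ψ

omit [HasPullbacks C] in
lemma cu_unit (F : Sheaf J AddCommGrpCat.{u}) (s : F.obj.obj (op U)) :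
    ((cu J F).hom.app (op U)).hom (((toSheafify J F.obj).app (op U)).hom s) = s := by
  have h := (sheafificationAdjunction J AddCommGrpCat.{u}).right_triangle_components F
  exact congrArg (fun φ => (φ.app (op U)).hom s) h

lemma HUmap_apply {F G : Sheaf J AddCommGrpCat.{u}} (ψ : F ⟶ G) (p : ℕ)
    (x : CohSite.HU F p U) :
    CechEdge.HUmap ψ p U x = x.comp (Ext.mk₀ ψ) (add_zero p) := rfl

lemma HUmap_comp {F G H : Sheaf J AddCommGrpCat.{u}} (ψ : F ⟶ G) (χ : G ⟶ H) (p : ℕ)
    (x : CohSite.HU F p U) :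
    CechEdge.HUmap (ψ ≫ χ) p U x = CechEdge.HUmap χ p U (CechEdge.HUmap ψ p U x) :=
  congrArg (fun φ => (φ.app (op U)).hom x) ((Sheaf.cohomologyPresheafFunctor J p).map_comp ψ χ)

lemma cechHMap_comp {P Q R : Cᵒᵖ ⥤ AddCommGrpCat.{u}} (α : P ⟶ Q) (β : Q ⟶ R) (p : ℕ)
    (x : CohCx.cechH P Y p) :
    CechEdge.cechHMap Y (α ≫ β) p x = CechEdge.cechHMap Y β p (CechEdge.cechHMap Y α p x) := by
  have h : HomologicalComplex.homologyMap ((CechEdge.cxFunctor Y).map (α ≫ β)) p =
      HomologicalComplex.homologyMap ((CechEdge.cxFunctor Y).map α) p ≫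
        HomologicalComplex.homologyMap ((CechEdge.cxFunctor Y).map β) p := by
    rw [Functor.map_comp, HomologicalComplex.homologyMap_comp]
  exact congrArg (fun φ => φ.hom x) h

lemma cechHMap_zero_injective_of_mono {P Q : Cᵒᵖ ⥤ AddCommGrpCat.{u}} (j : P ⟶ Q) [Mono j] :
    Function.Injective (CechEdge.cechHMap Y j 0) := by
  haveI : ∀ a : Fin 1 → ι, Mono (j.app (op (∏ᶜ (Y ∘ a)).left)) := fun a =>
    (NatTrans.mono_iff_mono_app j).1 inferInstance _
  haveI h0 : Mono (((CechEdge.cxFunctor Y).map j).f 0) := by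
    show Mono (Limits.Pi.map (fun (a : Fin 1 → ι) => j.app (op (∏ᶜ (Y ∘ a)).left)))
    infer_instance
  haveI h1 : Mono (HomologicalComplex.cyclesMap ((CechEdge.cxFunctor Y).map j) 0) := by
    have e1 : HomologicalComplex.cyclesMap ((CechEdge.cxFunctor Y).map j) 0 ≫
        (CechEdge.cx Q Y).iCycles 0 = (CechEdge.cx P Y).iCycles 0 ≫
          ((CechEdge.cxFunctor Y).map j).f 0 :=
      HomologicalComplex.cyclesMap_i ((CechEdge.cxFunctor Y).map j) 0
    haveI : Mono (HomologicalComplex.cyclesMap ((CechEdge.cxFunctor Y).map j) 0 ≫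
        (CechEdge.cx Q Y).iCycles 0) := by
      rw [e1]
      infer_instance
    exact mono_of_mono _ ((CechEdge.cx Q Y).iCycles 0)
  have e2 : (CechEdge.cx P Y).homologyπ 0 ≫
      HomologicalComplex.homologyMap ((CechEdge.cxFunctor Y).map j) 0 =
      HomologicalComplex.cyclesMap ((CechEdge.cxFunctor Y).map j) 0 ≫
        (CechEdge.cx Q Y).homologyπ 0 :=
    HomologicalComplex.homologyπ_naturality ((CechEdge.cxFunctor Y).map j) 0
  haveI h2 : Mono ((CechEdge.cx P Y).homologyπ 0 ≫
      HomologicalComplex.homologyMap ((CechEdge.cxFunctor Y).map j) 0) := by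
    rw [e2]
    infer_instance
  haveI h3 : Mono (HomologicalComplex.homologyMap ((CechEdge.cxFunctor Y).map j) 0) := by
    have e3 : HomologicalComplex.homologyMap ((CechEdge.cxFunctor Y).map j) 0 =
        inv ((CechEdge.cx P Y).homologyπ 0) ≫ ((CechEdge.cx P Y).homologyπ 0 ≫
          HomologicalComplex.homologyMap ((CechEdge.cxFunctor Y).map j) 0) := by
      rw [IsIso.inv_hom_id_assoc]
    rw [e3]
    infer_instance
  exact (AddCommGrpCat.mono_iff_injective _).1 h3

lemma cechHMap_bijective_of_bijective {P Q : Cᵒᵖ ⥤ AddCommGrpCat.{u}} (j : P ⟶ Q)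
    (h : ∀ (n : ℕ) (a : Fin (n + 1) → ι),
      Function.Bijective (j.app (op (∏ᶜ (Y ∘ a)).left)).hom) (p : ℕ) :
    Function.Bijective (CechEdge.cechHMap Y j p) := by
  haveI : ∀ n, IsIso (((CechEdge.cxFunctor Y).map j).f n) := fun n => by
    haveI : ∀ a : Fin (n + 1) → ι, IsIso (j.app (op (∏ᶜ (Y ∘ a)).left)) := fun a =>
      (ConcreteCategory.isIso_iff_bijective _).2 (h n a)
    show IsIso (Limits.Pi.map (fun (a : Fin (n + 1) → ι) => j.app (op (∏ᶜ (Y ∘ a)).left)))
    infer_instance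
  haveI : IsIso ((CechEdge.cxFunctor Y).map j) := HomologicalComplex.Hom.isIso_of_components _
  exact ConcreteCategory.bijective_of_isIso
    (HomologicalComplex.homologyMap ((CechEdge.cxFunctor Y).map j) p)

/-- presheaf-level short exact sequence `F → I → I/F` attached to the injective embedding -/
noncomputable def pshSC (F : Sheaf J AddCommGrpCat.{u}) :
    ShortComplex (Cᵒᵖ ⥤ AddCommGrpCat.{u}) :=
  ShortComplex.mk (injSC J F).f.hom (cokernel.π (injSC J F).f.hom) (cokernel.condition _)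

omit [HasPullbacks C] in
lemma mono_f_hom (F : Sheaf J AddCommGrpCat.{u}) : Mono (injSC J F).f.hom := by
  haveI := (injSC_shortExact J F).mono_f
  exact (sheafToPresheaf J AddCommGrpCat.{u}).map_mono (injSC J F).f

omit [HasPullbacks C] in
lemma pshSC_shortExact (F : Sheaf J AddCommGrpCat.{u}) : (pshSC J F).ShortExact := by
  haveI := mono_f_hom J F
  exact ShortComplex.ShortExact.mk' (ShortComplex.exact_cokernel _)
    (by dsimp [pshSC]; infer_instance) (by dsimp [pshSC]; infer_instance)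

instance (F : Sheaf J AddCommGrpCat.{u}) : Injective (pshSC J F).X₂ := by
  show Injective ((sheafToPresheaf J AddCommGrpCat.{u}).obj (injSC J F).X₂)
  exact Injective.injective_of_adjoint (sheafificationAdjunction J AddCommGrpCat.{u})
    (injSC J F).X₂

/-- the canonical map `I/F ⟶ Q` of presheaves -/
noncomputable def jmap (F : Sheaf J AddCommGrpCat.{u}) :
    (pshSC J F).X₃ ⟶ (injSC J F).X₃.obj :=
  cokernel.desc (injSC J F).f.hom (injSC J F).g.hom
    (by
      have h := (injSC J F).zero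
      exact congrArg (fun φ => φ.hom) h)

omit [HasPullbacks C] in
lemma π_jmap (F : Sheaf J AddCommGrpCat.{u}) :
    (pshSC J F).g ≫ jmap J F = (injSC J F).g.hom := cokernel.π_desc _ _ _

instance mono_jmap (F : Sheaf J AddCommGrpCat.{u}) : Mono (jmap J F) := by
  have hS := injSC_shortExact J F
  haveI := hS.mono_f
  have hex : ((injSC J F).map (sheafToPresheaf J AddCommGrpCat.{u})).Exact :=
    hS.exact.map_of_mono_of_preservesKernel _ hS.mono_f inferInstance
  exact hex.mono_cokernelDesc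

/-- the comparison from the sheafified presheaf sequence to the sheaf sequence -/
noncomputable def φSC (F : Sheaf J AddCommGrpCat.{u}) :
    (pshSC J F).map (presheafToSheaf J AddCommGrpCat.{u}) ⟶ injSC J F where
  τ₁ := cu J (injSC J F).X₁
  τ₂ := cu J (injSC J F).X₂
  τ₃ := CechEdge.shfMap J (jmap J F) ≫ cu J (injSC J F).X₃
  comm₁₂ := (cu_naturality J (injSC J F).f).symm
  comm₂₃ := by
    have h : CechEdge.shfMap J (pshSC J F).g ≫ CechEdge.shfMap J (jmap J F) =
        CechEdge.shfMap J (injSC J F).g.hom :=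
      ((presheafToSheaf J AddCommGrpCat.{u}).map_comp _ _).symm.trans
        (congrArg (fun z => (presheafToSheaf J AddCommGrpCat.{u}).map z) (π_jmap J F))
    show cu J (injSC J F).X₂ ≫ (injSC J F).g = CechEdge.shfMap J (pshSC J F).g ≫
      CechEdge.shfMap J (jmap J F) ≫ cu J (injSC J F).X₃
    rw [← Category.assoc, h]
    exact (cu_naturality J (injSC J F).g).symm

variable (e : ∀ (P : Cᵒᵖ ⥤ AddCommGrpCat.{u}) (p : ℕ),
  CohCx.cechH P Y p →+ CohSite.HU (CechEdge.shf J P) p U)

lemma edgeSh_apply (F : Sheaf J AddCommGrpCat.{u}) (p : ℕ) (x : CohCx.cechH F.obj Y p) :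
    CechEdge.edgeSh e F p x = CechEdge.HUmap (cu J F) p U (e F.obj p x) := rfl

variable (he : CechEdge.IsEdge J Y e)
include he

lemma edgeSh_natural {G G' : Sheaf J AddCommGrpCat.{u}} (ψ : G ⟶ G') (p : ℕ)
    (x : CohCx.cechH G.obj Y p) :
    CechEdge.edgeSh e G' p (CechEdge.cechHMap Y ψ.hom p x) =
      CechEdge.HUmap ψ p U (CechEdge.edgeSh e G p x) := by
  rw [edgeSh_apply, edgeSh_apply, he.natural, ← HUmap_comp, ← HUmap_comp, cu_naturality]

lemma edgeSh_toCech (G : Sheaf J AddCommGrpCat.{u}) (s : G.obj.obj (op U)) :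
    CechEdge.edgeSh e G 0 (CechEdge.toCech Y G.obj s) = CechEdge.sectH0 J U G s := by
  rw [edgeSh_apply, he.zero, HUmap_apply, sectH0_eq, sectH0_eq, Ext.mk₀_comp_mk₀, ofSect_comp,
    cu_unit]

lemma edgeSh_zero_bijective (G : Sheaf J AddCommGrpCat.{u}) :
    Function.Bijective (CechEdge.edgeSh e G 0) := by
  have hb := toCech_bijective J Y G.property he.cover
  have hcomp : (CechEdge.edgeSh e G 0) ∘ (CechEdge.toCech Y G.obj) = CechEdge.sectH0 J U G :=
    funext (edgeSh_toCech J Y e he G)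
  have hbc : Function.Bijective ((CechEdge.edgeSh e G 0) ∘ (CechEdge.toCech Y G.obj)) := by
    rw [hcomp]
    exact (CechEdge.sectH0 J U G).bijective
  exact (Function.Bijective.of_comp_iff _ hb).1 hbc

lemma edge_key (F : Sheaf J AddCommGrpCat.{u}) (p : ℕ)
    (hC : ((pshSC J F).map (CechEdge.cxFunctor Y)).ShortExact)
    (x : CohCx.cechH (pshSC J F).X₃ Y p) :
    CechEdge.edgeSh e F (p + 1) ((hC.δ p (p + 1) rfl).hom x) =
      CechEdge.extδ (injSC_shortExact J F) U p
        (CechEdge.edgeSh e (injSC J F).X₃ p (CechEdge.cechHMap Y (jmap J F) p x)) := by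
  have hS'' := pshSC_shortExact J F
  have h1 : e F.obj (p + 1) ((hC.δ p (p + 1) rfl).hom x) =
      CechEdge.extδ (hS''.map_of_exact (presheafToSheaf J AddCommGrpCat.{u})) U p
        (e (pshSC J F).X₃ p x) := he.delta (pshSC J F) hS'' hC p x
  rw [edgeSh_apply, h1, edgeSh_apply, he.natural, ← HUmap_comp]
  exact ext_square (hS''.map_of_exact (presheafToSheaf J AddCommGrpCat.{u}))
    (injSC_shortExact J F) (φSC J F) (e (pshSC J F).X₃ p x)

/-- The edge map in degree one is injective. -/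
theorem edgeSh_one_injective (F : Sheaf J AddCommGrpCat.{u}) :
    Function.Injective (CechEdge.edgeSh e F 1) := by
  rw [injective_iff_map_eq_zero]
  intro y hy
  have hS := injSC_shortExact J F
  have hS'' := pshSC_shortExact J F
  have hC := cxFunctor_shortExact hS'' Y
  obtain ⟨x, rfl⟩ := cechδ_surjective Y hC 0 y
  have h1 := edge_key J Y e he F 0 hC x
  rw [hy] at h1
  obtain ⟨s, hs⟩ := (toCech_bijective J Y (injSC J F).X₃.property he.cover).2
    (CechEdge.cechHMap Y (jmap J F) 0 x)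
  rw [← hs, edgeSh_toCech J Y e he] at h1
  obtain ⟨t, ht⟩ := (extδ_sect_eq_zero_iff J hS U s).1 h1.symm
  have hx : x = CechEdge.cechHMap Y (pshSC J F).g 0
      (CechEdge.toCech Y (injSC J F).X₂.obj t) := by
    apply cechHMap_zero_injective_of_mono Y (jmap J F)
    have e1 : CechEdge.cechHMap Y (jmap J F) 0 (CechEdge.cechHMap Y (pshSC J F).g 0
        (CechEdge.toCech Y (injSC J F).X₂.obj t)) =
        CechEdge.cechHMap Y ((pshSC J F).g ≫ jmap J F) 0
          (CechEdge.toCech Y (injSC J F).X₂.obj t) :=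
      (cechHMap_comp Y (pshSC J F).g (jmap J F) 0 _).symm
    have e2 : CechEdge.cechHMap Y ((pshSC J F).g ≫ jmap J F) 0
          (CechEdge.toCech Y (injSC J F).X₂.obj t) =
        CechEdge.cechHMap Y (injSC J F).g.hom 0 (CechEdge.toCech Y (injSC J F).X₂.obj t) :=
      congrArg (fun z => CechEdge.cechHMap Y z 0 (CechEdge.toCech Y (injSC J F).X₂.obj t))
        (π_jmap J F)
    have e3 : CechEdge.cechHMap Y (injSC J F).g.hom 0 (CechEdge.toCech Y (injSC J F).X₂.obj t) =
        CechEdge.toCech Y (injSC J F).X₃.obj (((injSC J F).g.hom.app (op U)).hom t) :=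
      toCech_naturality Y (injSC J F).g.hom t
    have e4 : CechEdge.toCech Y (injSC J F).X₃.obj (((injSC J F).g.hom.app (op U)).hom t) =
        CechEdge.toCech Y (injSC J F).X₃.obj s := congrArg _ ht
    exact hs.symm.trans (((e1.trans e2).trans (e3.trans e4)).symm)
  rw [hx]
  exact congrArg (fun φ => φ.hom (CechEdge.toCech Y (injSC J F).X₂.obj t)) (hC.comp_δ 0 1 rfl)

omit he in
lemma hQ_of (F : Sheaf J AddCommGrpCat.{u})
    (hF : ∀ (n : ℕ) (a : Fin (n + 1) → ι) (q : ℕ),
      Subsingleton (Ext ((freeSh J).obj (yoneda.obj (∏ᶜ fun k => Y (a k)).left)) F (q + 1))) :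
    ∀ (n : ℕ) (a : Fin (n + 1) → ι) (q : ℕ),
      Subsingleton (Ext ((freeSh J).obj (yoneda.obj (∏ᶜ fun k => Y (a k)).left))
        (injSC J F).X₃ (q + 1)) :=
  fun n a q => ext_shift_down _ (injSC_shortExact J F) q (hF n a (q + 1))

omit he in
lemma jmap_cech_bijective (F : Sheaf J AddCommGrpCat.{u})
    (hF : ∀ (n : ℕ) (a : Fin (n + 1) → ι) (q : ℕ),
      Subsingleton (Ext ((freeSh J).obj (yoneda.obj (∏ᶜ fun k => Y (a k)).left)) F (q + 1)))
    (p : ℕ) : Function.Bijective (CechEdge.cechHMap Y (jmap J F) p) := by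
  have hS := injSC_shortExact J F
  have hsurj : ∀ (n : ℕ) (a : Fin (n + 1) → ι),
      Function.Surjective ((injSC J F).g.hom.app (op (∏ᶜ (Y ∘ a)).left)).hom := fun n a =>
    (natLift_yoneda_iff (injSC J F).g _).1 (natLift_of_lift (injSC J F).g
      (fun φ => by
        haveI : Subsingleton (Ext ((freeSh J).obj (yoneda.obj (∏ᶜ (Y ∘ a)).left))
          (injSC J F).X₁ 1) := hF n a 0
        exact ext_lift _ hS φ))
  refine cechHMap_bijective_of_bijective Y (jmap J F) (fun n a => ⟨?_, ?_⟩) p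
  · haveI : Mono ((jmap J F).app (op (∏ᶜ (Y ∘ a)).left)) :=
      (NatTrans.mono_iff_mono_app (jmap J F)).1 inferInstance _
    exact (AddCommGrpCat.mono_iff_injective _).1 inferInstance
  · have h2 : ((pshSC J F).g.app (op (∏ᶜ (Y ∘ a)).left)) ≫
        ((jmap J F).app (op (∏ᶜ (Y ∘ a)).left)) =
        (injSC J F).g.hom.app (op (∏ᶜ (Y ∘ a)).left) := by
      rw [← NatTrans.comp_app, π_jmap]
    have h3 : Function.Surjective (((jmap J F).app (op (∏ᶜ (Y ∘ a)).left)).hom ∘
        ((pshSC J F).g.app (op (∏ᶜ (Y ∘ a)).left)).hom) := by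
      have h4 : ((jmap J F).app (op (∏ᶜ (Y ∘ a)).left)).hom ∘
          ((pshSC J F).g.app (op (∏ᶜ (Y ∘ a)).left)).hom =
          ((injSC J F).g.hom.app (op (∏ᶜ (Y ∘ a)).left)).hom := by
        rw [← h2]
        rfl
      rw [h4]
      exact hsurj n a
    exact Function.Surjective.of_comp h3

/-- The edge maps are bijective for coverings with acyclic finite fibre products. -/
theorem edgeSh_bijective : ∀ (p : ℕ) (F : Sheaf J AddCommGrpCat.{u}),
    (∀ (n : ℕ) (a : Fin (n + 1) → ι) (q : ℕ),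
      Subsingleton (Ext ((freeSh J).obj (yoneda.obj (∏ᶜ fun k => Y (a k)).left)) F (q + 1))) →
    Function.Bijective (CechEdge.edgeSh e F p)
  | 0, F, _ => edgeSh_zero_bijective J Y e he F
  | 1, F, hF => by
      have hS := injSC_shortExact J F
      have hC := cxFunctor_shortExact (pshSC_shortExact J F) Y
      have hj := jmap_cech_bijective J Y F hF 0
      have hIH := edgeSh_bijective 0 (injSC J F).X₃ (hQ_of J Y F hF)
      refine ⟨edgeSh_one_injective J Y e he F, fun y => ?_⟩
      obtain ⟨z, hz⟩ := extδ_surjective (CohCx.freeSheaf J U) hS 0 y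
      obtain ⟨w, hw⟩ := hIH.2 z
      obtain ⟨x, hx⟩ := hj.2 w
      refine ⟨(hC.δ 0 1 rfl).hom x, ?_⟩
      have h1 := edge_key J Y e he F 0 hC x
      rw [hx, hw] at h1
      exact h1.trans hz
  | p + 2, F, hF => by
      have hS := injSC_shortExact J F
      have hC := cxFunctor_shortExact (pshSC_shortExact J F) Y
      have hj := jmap_cech_bijective J Y F hF (p + 1)
      have hIH := edgeSh_bijective (p + 1) (injSC J F).X₃ (hQ_of J Y F hF)
      have hδ : Function.Bijective (hC.δ (p + 1) (p + 1 + 1) rfl).hom := by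
        haveI := hC.isIso_δ (p + 1) (p + 1 + 1) rfl
          (cechH_isZero_of_injective_presheaf (pshSC J F).X₂ Y p)
          (cechH_isZero_of_injective_presheaf (pshSC J F).X₂ Y (p + 1))
        exact ConcreteCategory.bijective_of_isIso (hC.δ (p + 1) (p + 1 + 1) rfl)
      have hkey : (CechEdge.edgeSh e F (p + 1 + 1)) ∘ (hC.δ (p + 1) (p + 1 + 1) rfl).hom =
          (CechEdge.extδ hS U (p + 1)) ∘ (CechEdge.edgeSh e (injSC J F).X₃ (p + 1)) ∘
            (CechEdge.cechHMap Y (jmap J F) (p + 1)) :=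
        funext (edge_key J Y e he F (p + 1) hC)
      have hext : Function.Bijective (CechEdge.extδ hS U (p + 1)) :=
        ⟨extδ_injective (CohCx.freeSheaf J U) hS p,
          extδ_surjective (CohCx.freeSheaf J U) hS (p + 1)⟩
      have hb : Function.Bijective ((CechEdge.edgeSh e F (p + 1 + 1)) ∘
          (hC.δ (p + 1) (p + 1 + 1) rfl).hom) := by
        rw [hkey]
        exact hext.comp (hIH.comp hj)
      exact (Function.Bijective.of_comp_iff _ hδ).1 hb

end Groth.Agent.H67.Cech
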