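import Groth.Prelude.Def_CohCx
import Mathlib.CategoryTheory.Sites.EpiMono
import Mathlib.CategoryTheory.Sites.LocallyBijective

/-!
# Helper library (helper67): sieve cohomology versus cohomology on objects

Dimension shifting lemmas for `Ext` and the comparison between abelian sheaves for `J` and
abelian presheaves (sheaves for `⊥`).
-/

set_option autoImplicit false
universe w v' u' u

open CategoryTheory CategoryTheory.Limits Opposite Abelian

namespace Groth.Agent.H67.SieveCoh

section abstract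

variable {B : Type u'} [Category.{v'} B] [Abelian B] [HasExt.{w} B]

lemma ext_lift (Z : B) {S : ShortComplex B} (hS : S.ShortExact)
    [Subsingleton (Ext Z S.X₁ 1)] (φ : Z ⟶ S.X₃) : ∃ ψ : Z ⟶ S.X₂, ψ ≫ S.g = φ := by
  obtain ⟨x₂, hx₂⟩ := Ext.covariant_sequence_exact₃ Z hS (Ext.mk₀ φ) (zero_add 1)
    (Subsingleton.elim _ _)
  obtain ⟨ψ, rfl⟩ := (Ext.mk₀_bijective Z S.X₂).2 x₂
  refine ⟨ψ, (Ext.mk₀_bijective Z S.X₃).1 ?_⟩
  rw [← hx₂, Ext.mk₀_comp_mk₀]

lemma ext_shift_down (Z : B) {S : ShortComplex B} (hS : S.ShortExact) [Injective S.X₂] (n : ℕ)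
    (h : Subsingleton (Ext Z S.X₁ (n + 2))) : Subsingleton (Ext Z S.X₃ (n + 1)) := by
  have key : ∀ x : Ext Z S.X₃ (n + 1), x = 0 := fun x => by
    obtain ⟨x₂, hx₂⟩ := Ext.covariant_sequence_exact₃ Z hS x (rfl : n + 1 + 1 = n + 2)
      (Subsingleton.elim _ _)
    rw [← hx₂, Ext.eq_zero_of_injective x₂, Ext.zero_comp]
  exact ⟨fun x y => by rw [key x, key y]⟩

lemma ext_shift_up (Z : B) {S : ShortComplex B} (hS : S.ShortExact) [Injective S.X₂] (n : ℕ)
    (h : Subsingleton (Ext Z S.X₃ (n + 1))) : Subsingleton (Ext Z S.X₁ (n + 2)) := by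
  have key : ∀ x : Ext Z S.X₁ (n + 2), x = 0 := fun x => by
    obtain ⟨x₃, hx₃⟩ := Ext.covariant_sequence_exact₁ Z hS x
      (Ext.eq_zero_of_injective (n := n + 1) _) (rfl : n + 1 + 1 = n + 2)
    rw [← hx₃, Subsingleton.elim x₃ 0, Ext.zero_comp]
  exact ⟨fun x y => by rw [key x, key y]⟩

lemma ext_one_of_lift (Z : B) {S : ShortComplex B} (hS : S.ShortExact) [Injective S.X₂]
    (h : ∀ φ : Z ⟶ S.X₃, ∃ ψ : Z ⟶ S.X₂, ψ ≫ S.g = φ) : Subsingleton (Ext Z S.X₁ 1) := by
  have key : ∀ x : Ext Z S.X₁ 1, x = 0 := fun x => by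
    obtain ⟨x₃, hx₃⟩ := Ext.covariant_sequence_exact₁ Z hS x
      (Ext.eq_zero_of_injective (n := 0) _) (zero_add 1)
    obtain ⟨φ, rfl⟩ := (Ext.mk₀_bijective Z S.X₃).2 x₃
    obtain ⟨ψ, rfl⟩ := h φ
    rw [← hx₃, ← Ext.mk₀_comp_mk₀_assoc, hS.comp_extClass, Ext.comp_zero]
  exact ⟨fun x y => by rw [key x, key y]⟩

lemma image_shortExact {A : Type u'} [Category.{v'} A] [Abelian A] {S : ShortComplex A}
    (hex : S.Exact) (hf : Mono S.f) (w : S.f ≫ Abelian.factorThruImage S.g = 0) :
    (ShortComplex.mk S.f (Abelian.factorThruImage S.g) w).ShortExact := by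
  let θ : ShortComplex.mk S.f (Abelian.factorThruImage S.g) w ⟶ S :=
    { τ₁ := 𝟙 S.X₁
      τ₂ := 𝟙 S.X₂
      τ₃ := Abelian.image.ι S.g
      comm₁₂ := (Category.id_comp _).trans (Category.comp_id _).symm
      comm₂₃ := (Category.id_comp _).trans (Abelian.image.fac S.g).symm }
  haveI : Epi θ.τ₁ := (inferInstance : Epi (𝟙 S.X₁))
  haveI : IsIso θ.τ₂ := (inferInstance : IsIso (𝟙 S.X₂))
  haveI : Mono θ.τ₃ := (inferInstance : Mono (Abelian.image.ι S.g))
  have hex' : (ShortComplex.mk S.f (Abelian.factorThruImage S.g) w).Exact :=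
    (ShortComplex.exact_iff_of_epi_of_isIso_of_mono θ).2 hex
  exact ShortComplex.ShortExact.mk' hex' hf
    (inferInstance : Epi (Abelian.factorThruImage S.g))

end abstract

section concrete

variable {C : Type u} [SmallCategory C] (J : GrothendieckTopology C)

/-- The free abelian sheaf on a presheaf of sets. -/
noncomputable def freeSh : (Cᵒᵖ ⥤ Type u) ⥤ Sheaf J AddCommGrpCat.{u} :=
  (Functor.whiskeringRight Cᵒᵖ _ _).obj AddCommGrpCat.free.{u} ⋙ presheafToSheaf J AddCommGrpCat.{u}

/-- The underlying presheaf of sets of an abelian sheaf. -/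
noncomputable def forgetSh : Sheaf J AddCommGrpCat.{u} ⥤ (Cᵒᵖ ⥤ Type u) :=
  sheafToPresheaf J AddCommGrpCat.{u} ⋙
    (Functor.whiskeringRight Cᵒᵖ _ _).obj (forget AddCommGrpCat.{u})

/-- The free/forget adjunction. -/
noncomputable def freeAdj : freeSh J ⊣ forgetSh J :=
  (Adjunction.whiskerRight Cᵒᵖ AddCommGrpCat.adj.{u}).comp
    (sheafificationAdjunction J AddCommGrpCat.{u})

variable {J} in
lemma natLift_of_lift {I Q : Sheaf J AddCommGrpCat.{u}} (g : I ⟶ Q) {P : Cᵒᵖ ⥤ Type u}
    (h : ∀ φ : (freeSh J).obj P ⟶ Q, ∃ ψ : (freeSh J).obj P ⟶ I, ψ ≫ g = φ)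
    (τ : P ⟶ (forgetSh J).obj Q) :
    ∃ τ' : P ⟶ (forgetSh J).obj I, τ' ≫ (forgetSh J).map g = τ := by
  obtain ⟨ψ, hψ⟩ := h (((freeAdj J).homEquiv _ _).symm τ)
  refine ⟨(freeAdj J).homEquiv _ _ ψ, ?_⟩
  rw [← Adjunction.homEquiv_naturality_right, hψ, Equiv.apply_symm_apply]

variable {J} in
lemma lift_of_natLift {I Q : Sheaf J AddCommGrpCat.{u}} (g : I ⟶ Q) {P : Cᵒᵖ ⥤ Type u}
    (h : ∀ τ : P ⟶ (forgetSh J).obj Q, ∃ τ' : P ⟶ (forgetSh J).obj I,
      τ' ≫ (forgetSh J).map g = τ)
    (φ : (freeSh J).obj P ⟶ Q) : ∃ ψ : (freeSh J).obj P ⟶ I, ψ ≫ g = φ := by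
  obtain ⟨τ', hτ'⟩ := h ((freeAdj J).homEquiv _ _ φ)
  refine ⟨((freeAdj J).homEquiv _ _).symm τ', ?_⟩
  rw [← Adjunction.homEquiv_naturality_right_symm, hτ', Equiv.symm_apply_apply]

variable {J} in
lemma natLift_yoneda_iff {I Q : Sheaf J AddCommGrpCat.{u}} (g : I ⟶ Q) (X : C) :
    (∀ τ : yoneda.obj X ⟶ (forgetSh J).obj Q, ∃ τ' : yoneda.obj X ⟶ (forgetSh J).obj I,
      τ' ≫ (forgetSh J).map g = τ) ↔ Function.Surjective (g.hom.app (op X)) := by
  constructor
  · intro h s
    obtain ⟨τ', hτ'⟩ := h ((yonedaEquiv (F := (forgetSh J).obj Q)).symm s)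
    refine ⟨yonedaEquiv τ', ?_⟩
    have := congrArg yonedaEquiv hτ'
    rw [yonedaEquiv_comp, Equiv.apply_symm_apply] at this
    exact this
  · intro h τ
    obtain ⟨t, ht⟩ := h (yonedaEquiv τ)
    refine ⟨(yonedaEquiv (F := (forgetSh J).obj I)).symm t, ?_⟩
    apply yonedaEquiv.injective
    rw [yonedaEquiv_comp, Equiv.apply_symm_apply]
    exact ht

variable {J} in
lemma exists_unique_extension (Q : Sheaf J AddCommGrpCat.{u}) {X : C} (R : Sieve X)
    (hR : R ∈ J X) (σ : R.functor ⟶ (forgetSh J).obj Q) :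
    ∃! τ : yoneda.obj X ⟶ (forgetSh J).obj Q, R.functorInclusion ≫ τ = σ := by
  have h1 : Presheaf.IsSheaf J (Q.obj ⋙ forget AddCommGrpCat.{u}) :=
    ((sheafCompose J (forget AddCommGrpCat.{u})).obj Q).property
  have h2 : Presieve.IsSheaf J (Q.obj ⋙ forget AddCommGrpCat.{u}) :=
    (isSheaf_iff_isSheaf_of_type J _).1 h1
  exact (Presieve.isSheafFor_iff_yonedaSheafCondition.1 (h2 R hR)) σ

lemma sieve_functor_hom_ext {X : C} (R : Sieve X) {P : Cᵒᵖ ⥤ Type u} (α β : R.functor ⟶ P)
    (h : ∀ (Y : C) (f : Y ⟶ X) (hf : R f),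
      (yonedaEquiv (F := R.functor)).symm ⟨f, hf⟩ ≫ α =
        (yonedaEquiv (F := R.functor)).symm ⟨f, hf⟩ ≫ β) : α = β := by
  apply NatTrans.ext
  funext Y
  ext ⟨f, hf⟩
  have := congrArg yonedaEquiv (h Y.unop f hf)
  rw [yonedaEquiv_comp, yonedaEquiv_comp, Equiv.apply_symm_apply] at this
  exact this

lemma yonedaEquiv_symm_comp_functorInclusion {X : C} (R : Sieve X) {Y : C} (f : Y ⟶ X)
    (hf : R f) :
    (yonedaEquiv (F := R.functor)).symm ⟨f, hf⟩ ≫ R.functorInclusion = yoneda.map f := by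
  apply yonedaEquiv.injective
  rw [yonedaEquiv_comp, Equiv.apply_symm_apply, yonedaEquiv_yoneda_map]
  rfl

lemma freeSh_sieve_hom_ext {X : C} (R : Sieve X) {G : Sheaf J AddCommGrpCat.{u}}
    (χ₁ χ₂ : (freeSh J).obj R.functor ⟶ G)
    (h : ∀ (Y : C) (f : Y ⟶ X) (hf : R f),
      (freeSh J).map ((yonedaEquiv (F := R.functor)).symm ⟨f, hf⟩) ≫ χ₁ =
        (freeSh J).map ((yonedaEquiv (F := R.functor)).symm ⟨f, hf⟩) ≫ χ₂) : χ₁ = χ₂ := by
  apply ((freeAdj J).homEquiv _ _).injective
  apply sieve_functor_hom_ext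
  intro Y f hf
  rw [← Adjunction.homEquiv_naturality_left, ← Adjunction.homEquiv_naturality_left, h Y f hf]

/-- The inclusion of abelian `J`-sheaves into abelian presheaves, seen as sheaves for `⊥`. -/
noncomputable def iota :
    Sheaf J AddCommGrpCat.{u} ⥤ Sheaf (⊥ : GrothendieckTopology C) AddCommGrpCat.{u} :=
  sheafToPresheaf J AddCommGrpCat.{u} ⋙ (sheafBotEquivalence (C := C) AddCommGrpCat.{u}).inverse

instance : (iota J).Additive := ⟨fun {_ _ _ _} => rfl⟩

/-- The left adjoint of `iota`. -/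
noncomputable def iotaAdj :
    (sheafBotEquivalence (C := C) AddCommGrpCat.{u}).functor ⋙
      presheafToSheaf J AddCommGrpCat.{u} ⊣ iota J :=
  (sheafBotEquivalence (C := C) AddCommGrpCat.{u}).toAdjunction.comp
    (sheafificationAdjunction J AddCommGrpCat.{u})

instance : PreservesLimitsOfSize.{0, 0} (iota J) := (iotaAdj J).rightAdjoint_preservesLimits

lemma injective_iota_obj (I : Sheaf J AddCommGrpCat.{u}) [Injective I] :
    Injective ((iota J).obj I) :=
  (iotaAdj J).map_injective I inferInstance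

variable {J} in
lemma map_iota_shortExact {S : ShortComplex (Sheaf J AddCommGrpCat.{u})} (hS : S.ShortExact)
    (hsurj : ∀ X : C, Function.Surjective (S.g.hom.app (op X))) :
    (S.map (iota J)).ShortExact := by
  have := hS.mono_f
  refine ShortComplex.ShortExact.mk'
    (hS.exact.map_of_mono_of_preservesKernel (iota J) hS.mono_f inferInstance) ?_ ?_
  · exact (iota J).map_mono S.f
  · have h1 : Epi (S.g.hom) := by
      haveI : ∀ U, Epi (S.g.hom.app U) := fun U =>
        (AddCommGrpCat.epi_iff_surjective _).2 (hsurj U.unop)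
      exact NatTrans.epi_of_epi_app S.g.hom
    exact (sheafToPresheaf (⊥ : GrothendieckTopology C) AddCommGrpCat.{u}).epi_of_epi_map
      (f := (iota J).map S.g) h1

variable {J} in
/-- Lifting maps out of the free presheaf on a covering sieve, when `g` is objectwise
surjective between sheaves. -/
lemma lift_sieve_of_surjective {I Q : Sheaf J AddCommGrpCat.{u}} (g : I ⟶ Q)
    (hsurj : ∀ X : C, Function.Surjective (g.hom.app (op X))) {X : C} (R : Sieve X)
    (hR : R ∈ J X)
    (φ : (freeSh (⊥ : GrothendieckTopology C)).obj R.functor ⟶ (iota J).obj Q) :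
    ∃ ψ : (freeSh (⊥ : GrothendieckTopology C)).obj R.functor ⟶ (iota J).obj I,
      ψ ≫ (iota J).map g = φ := by
  refine lift_of_natLift ((iota J).map g) (fun σ => ?_) φ
  obtain ⟨τ, hτ, -⟩ := exists_unique_extension Q R hR σ
  obtain ⟨τ', hτ'⟩ := (natLift_yoneda_iff g X).2 (hsurj X) τ
  refine ⟨R.functorInclusion ≫ τ', ?_⟩
  rw [Category.assoc]
  exact (congrArg (fun z => R.functorInclusion ≫ z) hτ').trans hτ

variable {J} in
/-- If `Ext¹` out of free presheaves on covering sieves into the kernel vanishes, a sheaf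
epimorphism is objectwise surjective. -/
lemma surjective_of_ext_one {S : ShortComplex (Sheaf J AddCommGrpCat.{u})} (hS : S.ShortExact)
    (h : ∀ (X : C) (R : Sieve X), R ∈ J X →
      Subsingleton (Ext ((freeSh (⊥ : GrothendieckTopology C)).obj R.functor)
        ((iota J).obj S.X₁) 1)) (X : C) :
    Function.Surjective (S.g.hom.app (op X)) := by
  intro s
  haveI : Epi S.g := hS.epi_g
  haveI : Mono S.f := hS.mono_f
  haveI hls : Sheaf.IsLocallySurjective S.g :=
    (Sheaf.isLocallySurjective_iff_epi' _ S.g).2 inferInstance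
  let R : Sieve X := Presheaf.imageSieve S.g.hom s
  have hR : R ∈ J X := Presheaf.imageSieve_mem J S.g.hom (U := op X) s
  let τ : yoneda.obj X ⟶ (forgetSh J).obj S.X₃ :=
    (yonedaEquiv (F := (forgetSh J).obj S.X₃)).symm s
  let ιg := (iota J).map S.g
  let c := cokernel.π ιg
  let m : Abelian.image ιg ⟶ (iota J).obj S.X₃ := Abelian.image.ι ιg
  let e : (iota J).obj S.X₂ ⟶ Abelian.image ιg := Abelian.factorThruImage ιg
  have hem : e ≫ m = ιg := Abelian.image.fac ιg
  let φ : (freeSh (⊥ : GrothendieckTopology C)).obj R.functor ⟶ (iota J).obj S.X₃ :=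
    ((freeAdj (⊥ : GrothendieckTopology C)).homEquiv R.functor ((iota J).obj S.X₃)).symm
      (R.functorInclusion ≫ τ)
  have hφc : φ ≫ c = 0 := by
    apply freeSh_sieve_hom_ext
    intro Y f hf
    obtain ⟨t, ht⟩ := hf
    let τf : yoneda.obj Y ⟶ (forgetSh J).obj S.X₂ :=
      (yonedaEquiv (F := (forgetSh J).obj S.X₂)).symm t
    have hτf : τf ≫ (forgetSh J).map S.g = yoneda.map f ≫ τ := by
      apply yonedaEquiv.injective
      rw [yonedaEquiv_comp, Equiv.apply_symm_apply, ← yonedaEquiv_naturality,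
        Equiv.apply_symm_apply]
      exact ht
    have h1 : (freeSh (⊥ : GrothendieckTopology C)).map
        ((yonedaEquiv (F := R.functor)).symm ⟨f, ⟨t, ht⟩⟩) ≫ φ =
        ((freeAdj (⊥ : GrothendieckTopology C)).homEquiv _ ((iota J).obj S.X₂)).symm τf ≫ ιg := by
      rw [← Adjunction.homEquiv_naturality_left_symm, ← Category.assoc,
        yonedaEquiv_symm_comp_functorInclusion]
      have h2 := Adjunction.homEquiv_naturality_right_symm
        (freeAdj (⊥ : GrothendieckTopology C)) (Y := (iota J).obj S.X₂) τf ιg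
      refine Eq.trans ?_ h2
      exact congrArg (fun z => ((freeAdj (⊥ : GrothendieckTopology C)).homEquiv (yoneda.obj Y)
        ((iota J).obj S.X₃)).symm z) hτf.symm
    rw [← Category.assoc, h1, Category.assoc, cokernel.condition, comp_zero, comp_zero]
  let φ' : (freeSh (⊥ : GrothendieckTopology C)).obj R.functor ⟶ Abelian.image ιg :=
    kernel.lift c φ hφc
  have hφ' : φ' ≫ m = φ := kernel.lift_ι _ _ _
  have hfe : (iota J).map S.f ≫ e = 0 := by
    rw [← cancel_mono m, Category.assoc, hem, zero_comp, ← Functor.map_comp, S.zero,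
      Functor.map_zero]
  have hS' := image_shortExact (S := S.map (iota J))
    (hS.exact.map_of_mono_of_preservesKernel (iota J) hS.mono_f inferInstance)
    ((iota J).map_mono S.f) hfe
  haveI : Subsingleton (Ext ((freeSh (⊥ : GrothendieckTopology C)).obj R.functor)
      (ShortComplex.mk (S.map (iota J)).f (Abelian.factorThruImage (S.map (iota J)).g) hfe).X₁ 1) :=
    h X R hR
  obtain ⟨ψ, hψ⟩ := ext_lift ((freeSh (⊥ : GrothendieckTopology C)).obj R.functor) hS' φ'
  have hψ2 : ψ ≫ e = φ' := hψ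
  have hψg : ψ ≫ ιg = φ :=
    (congrArg (fun z => ψ ≫ z) hem.symm).trans ((Category.assoc ψ e m).symm.trans
      ((congrArg (fun z => z ≫ m) hψ2).trans hφ'))
  let ρ : R.functor ⟶ (forgetSh J).obj S.X₂ :=
    (freeAdj (⊥ : GrothendieckTopology C)).homEquiv R.functor ((iota J).obj S.X₂) ψ
  have hρ : ρ ≫ (forgetSh J).map S.g = R.functorInclusion ≫ τ := by
    have := Adjunction.homEquiv_naturality_right (freeAdj (⊥ : GrothendieckTopology C)) ψ ιg
    rw [hψg, Equiv.apply_symm_apply] at this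
    exact this.symm
  obtain ⟨τ', hτ', -⟩ := exists_unique_extension S.X₂ R hR ρ
  obtain ⟨τ₀, -, huniq⟩ := exists_unique_extension S.X₃ R hR (R.functorInclusion ≫ τ)
  have e1 : τ' ≫ (forgetSh J).map S.g = τ₀ := huniq _ ((Category.assoc _ _ _).symm.trans
    ((congrArg (fun z => z ≫ (forgetSh J).map S.g) hτ').trans hρ))
  have e2 : τ = τ₀ := huniq _ rfl
  refine ⟨yonedaEquiv τ', ?_⟩
  have := congrArg yonedaEquiv (e1.trans e2.symm)
  rw [yonedaEquiv_comp, Equiv.apply_symm_apply] at this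
  exact this

/-- The injective-resolution short complex `0 → F → I → I/F → 0`. -/
noncomputable def injSC (F : Sheaf J AddCommGrpCat.{u}) :
    ShortComplex (Sheaf J AddCommGrpCat.{u}) :=
  ShortComplex.mk (Injective.ι F) (cokernel.π (Injective.ι F)) (cokernel.condition _)

lemma injSC_shortExact (F : Sheaf J AddCommGrpCat.{u}) : (injSC J F).ShortExact :=
  ShortComplex.ShortExact.mk' (ShortComplex.exact_cokernel _)
    (by dsimp [injSC]; infer_instance) (by dsimp [injSC]; infer_instance)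

instance (F : Sheaf J AddCommGrpCat.{u}) : Injective (injSC J F).X₂ := by
  dsimp [injSC]; infer_instance

theorem forward : ∀ (q : ℕ) (F : Sheaf J AddCommGrpCat.{u}),
    (∀ (X : C) (q' : ℕ), Subsingleton (Ext ((freeSh J).obj (yoneda.obj X)) F (q' + 1))) →
    ∀ (X : C) (R : Sieve X), R ∈ J X →
      Subsingleton (Ext ((freeSh (⊥ : GrothendieckTopology C)).obj R.functor)
        ((iota J).obj F) (q + 1))
  | 0, F, hF, X, R, hR => by
      have hS := injSC_shortExact J F
      have hsurj : ∀ X : C, Function.Surjective ((injSC J F).g.hom.app (op X)) := fun X =>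
        (natLift_yoneda_iff (injSC J F).g X).1 (natLift_of_lift (injSC J F).g
          (fun φ => by
            haveI : Subsingleton (Ext ((freeSh J).obj (yoneda.obj X)) (injSC J F).X₁ 1) := hF X 0
            exact ext_lift _ hS φ))
      have hS' := map_iota_shortExact hS hsurj
      haveI : Injective ((injSC J F).map (iota J)).X₂ := injective_iota_obj J (injSC J F).X₂
      exact ext_one_of_lift _ hS' (lift_sieve_of_surjective (injSC J F).g hsurj R hR)
  | q + 1, F, hF, X, R, hR => by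
      have hS := injSC_shortExact J F
      have hsurj : ∀ X : C, Function.Surjective ((injSC J F).g.hom.app (op X)) := fun X =>
        (natLift_yoneda_iff (injSC J F).g X).1 (natLift_of_lift (injSC J F).g
          (fun φ => by
            haveI : Subsingleton (Ext ((freeSh J).obj (yoneda.obj X)) (injSC J F).X₁ 1) := hF X 0
            exact ext_lift _ hS φ))
      have hS' := map_iota_shortExact hS hsurj
      haveI : Injective ((injSC J F).map (iota J)).X₂ := injective_iota_obj J (injSC J F).X₂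
      have hQ : ∀ (X : C) (q' : ℕ),
          Subsingleton (Ext ((freeSh J).obj (yoneda.obj X)) (injSC J F).X₃ (q' + 1)) :=
        fun X q' => ext_shift_down _ hS q' (hF X (q' + 1))
      exact ext_shift_up _ hS' q (forward q (injSC J F).X₃ hQ X R hR)

theorem backward : ∀ (q : ℕ) (F : Sheaf J AddCommGrpCat.{u}),
    (∀ (X : C) (R : Sieve X), R ∈ J X → ∀ q' : ℕ,
      Subsingleton (Ext ((freeSh (⊥ : GrothendieckTopology C)).obj R.functor)
        ((iota J).obj F) (q' + 1))) →
    ∀ X : C, Subsingleton (Ext ((freeSh J).obj (yoneda.obj X)) F (q + 1))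
  | 0, F, hF, X => by
      have hS := injSC_shortExact J F
      have hsurj := surjective_of_ext_one hS (fun X R hR => hF X R hR 0)
      exact ext_one_of_lift _ hS
        (lift_of_natLift (injSC J F).g ((natLift_yoneda_iff (injSC J F).g X).2 (hsurj X)))
  | q + 1, F, hF, X => by
      have hS := injSC_shortExact J F
      have hsurj := surjective_of_ext_one hS (fun X R hR => hF X R hR 0)
      have hS' := map_iota_shortExact hS hsurj
      haveI : Injective ((injSC J F).map (iota J)).X₂ := injective_iota_obj J (injSC J F).X₂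
      have hQ : ∀ (X : C) (R : Sieve X), R ∈ J X → ∀ q' : ℕ,
          Subsingleton (Ext ((freeSh (⊥ : GrothendieckTopology C)).obj R.functor)
            ((iota J).obj (injSC J F).X₃) (q' + 1)) :=
        fun X R hR q' => ext_shift_down _ hS' q' (hF X R hR (q' + 1))
      exact ext_shift_up _ hS q (backward q (injSC J F).X₃ hQ X)

end concrete

end Groth.Agent.H67.SieveCoh
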