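import Groth.Agent.H67.TotAcyc
import Groth.Agent.H67.SieveCoh

/-!
# Helper library (helper67): products of totally acyclic sheaves
-/

set_option autoImplicit false
universe w w' v' u' u

open CategoryTheory CategoryTheory.Limits Opposite Abelian

namespace Groth.Agent.H67.TotAcyc

open Groth.Agent.H67.SieveCoh

section abstract

variable {A : Type u'} [Category.{v'} A] [Abelian A] {T : Type w'}
  (S : T → ShortComplex A) [HasProduct (fun t => (S t).X₁)] [HasProduct (fun t => (S t).X₂)]
  [HasProduct (fun t => (S t).X₃)]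

/-- The product of a family of short complexes. -/
noncomputable def piSC : ShortComplex A :=
  ShortComplex.mk (Limits.Pi.map (fun t => (S t).f)) (Limits.Pi.map (fun t => (S t).g)) (by
    apply Limits.Pi.hom_ext
    intro t
    simp)

lemma piSC_shortExact (hS : ∀ t, (S t).ShortExact) (hepi : Epi (piSC S).g) :
    (piSC S).ShortExact := by
  haveI : ∀ t, Mono (S t).f := fun t => (hS t).mono_f
  haveI hm : Mono (piSC S).f := by dsimp [piSC]; infer_instance
  refine ShortComplex.ShortExact.mk' (ShortComplex.exact_of_f_is_kernel _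
    (KernelFork.IsLimit.ofι' _ _ (fun {W} k hk => ?_))) hm hepi
  have hk' : ∀ t, (k ≫ Limits.Pi.π _ t) ≫ (S t).g = 0 := fun t => by
    have h1 : (k ≫ (piSC S).g) ≫ Limits.Pi.π _ t = 0 := by rw [hk, zero_comp]
    simpa [piSC] using h1
  refine ⟨Limits.Pi.lift (fun t => (hS t).exact.lift (k ≫ Limits.Pi.π _ t) (hk' t)), ?_⟩
  apply Limits.Pi.hom_ext
  intro t
  simp [piSC]

lemma pi_lift {Z : A}
    (h : ∀ t (φ : Z ⟶ (S t).X₃), ∃ ψ : Z ⟶ (S t).X₂, ψ ≫ (S t).g = φ)
    (φ : Z ⟶ (piSC S).X₃) : ∃ ψ : Z ⟶ (piSC S).X₂, ψ ≫ (piSC S).g = φ := by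
  choose ψ hψ using fun t => h t (φ ≫ Limits.Pi.π _ t)
  refine ⟨Limits.Pi.lift ψ, ?_⟩
  apply Limits.Pi.hom_ext
  intro t
  simp [piSC, hψ]

end abstract

section concrete

variable {C : Type u} [SmallCategory C] (J : GrothendieckTopology C)

lemma epi_of_lifts {B Q : Sheaf J AddCommGrpCat.{u}} (g : B ⟶ Q)
    (h : ∀ (K : Sheaf J (Type u)) (φ : (freeOnSheaf J).obj K ⟶ Q),
      ∃ ψ : (freeOnSheaf J).obj K ⟶ B, ψ ≫ g = φ) : Epi g := by
  obtain ⟨ψ, hψ⟩ := h _ ((freeOnSheafAdj J).counit.app Q)
  haveI : Epi (ψ ≫ g) := by rw [hψ]; infer_instance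
  exact epi_of_epi ψ g

theorem pi_vanishing {T : Type u} : ∀ (p : ℕ) (F : T → Sheaf J AddCommGrpCat.{u}),
    (∀ t, CohCx.IsTotallyAcyclic (F t)) → ∀ K : Sheaf J (Type u),
      Subsingleton (Ext ((freeOnSheaf J).obj K) (∏ᶜ F) (p + 1))
  | 0, F, hF, K => by
      have hS : ∀ t, (injSC J (F t)).ShortExact := fun t => injSC_shortExact J (F t)
      have hlift : ∀ (K : Sheaf J (Type u))
          (φ : (freeOnSheaf J).obj K ⟶ (piSC (fun t => injSC J (F t))).X₃),
          ∃ ψ : (freeOnSheaf J).obj K ⟶ (piSC (fun t => injSC J (F t))).X₂,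
            ψ ≫ (piSC (fun t => injSC J (F t))).g = φ := fun K φ =>
        pi_lift (fun t => injSC J (F t)) (fun t φ' => by
          haveI : Subsingleton (Ext ((freeOnSheaf J).obj K) (injSC J (F t)).X₁ 1) := hF t K 0
          exact ext_lift _ (hS t) φ') φ
      have hepi : Epi (piSC (fun t => injSC J (F t))).g := epi_of_lifts J _ hlift
      have hSS := piSC_shortExact (fun t => injSC J (F t)) hS hepi
      haveI : Injective (piSC (fun t => injSC J (F t))).X₂ := by
        dsimp [piSC]; infer_instance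
      exact ext_one_of_lift _ hSS (hlift K)
  | p + 1, F, hF, K => by
      have hS : ∀ t, (injSC J (F t)).ShortExact := fun t => injSC_shortExact J (F t)
      have hlift : ∀ (K : Sheaf J (Type u))
          (φ : (freeOnSheaf J).obj K ⟶ (piSC (fun t => injSC J (F t))).X₃),
          ∃ ψ : (freeOnSheaf J).obj K ⟶ (piSC (fun t => injSC J (F t))).X₂,
            ψ ≫ (piSC (fun t => injSC J (F t))).g = φ := fun K φ =>
        pi_lift (fun t => injSC J (F t)) (fun t φ' => by
          haveI : Subsingleton (Ext ((freeOnSheaf J).obj K) (injSC J (F t)).X₁ 1) := hF t K 0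
          exact ext_lift _ (hS t) φ') φ
      have hepi : Epi (piSC (fun t => injSC J (F t))).g := epi_of_lifts J _ hlift
      have hSS := piSC_shortExact (fun t => injSC J (F t)) hS hepi
      haveI : Injective (piSC (fun t => injSC J (F t))).X₂ := by
        dsimp [piSC]; infer_instance
      have hQ : ∀ t, CohCx.IsTotallyAcyclic (injSC J (F t)).X₃ := fun t K q =>
        ext_shift_down _ (hS t) q (hF t K (q + 1))
      exact ext_shift_up _ hSS p (pi_vanishing p (fun t => (injSC J (F t)).X₃) hQ K)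

end concrete

end Groth.Agent.H67.TotAcyc
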