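import Groth.Agent.H67.CechA
import Groth.Agent.H67.TotAcyc2

/-!
# Helper library (helper67): short exact sequences of Čech complexes, low degree cocycles
-/

set_option autoImplicit false
universe u

open CategoryTheory CategoryTheory.Limits Opposite Simplicial

namespace Groth.Agent.H67.Cech

section Elements

variable {α : Type u} (F : α → AddCommGrpCat.{u})

/-- Build an element of a product of abelian groups from its components. -/
noncomputable def mkPi (x : ∀ a, F a) : (∏ᶜ F : AddCommGrpCat.{u}) :=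
  (Concrete.productEquiv F).symm x

lemma π_mkPi (x : ∀ a, F a) (a : α) : (Limits.Pi.π F a).hom (mkPi F x) = x a :=
  Concrete.productEquiv_symm_apply_π F x a

variable {F} in
lemma pi_ext {x y : (∏ᶜ F : AddCommGrpCat.{u})}
    (h : ∀ a, (Limits.Pi.π F a).hom x = (Limits.Pi.π F a).hom y) : x = y := by
  apply (Concrete.productEquiv F).injective
  funext a
  rw [Concrete.productEquiv_apply_apply, Concrete.productEquiv_apply_apply]
  exact h a

lemma epi_piMap {F G : α → AddCommGrpCat.{u}} (g : ∀ a, F a ⟶ G a)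
    (hg : ∀ a, Function.Surjective (g a).hom) : Epi (Limits.Pi.map g) := by
  rw [AddCommGrpCat.epi_iff_surjective]
  intro y
  choose x hx using fun a => hg a ((Limits.Pi.π G a).hom y)
  refine ⟨mkPi F x, pi_ext (fun a => ?_)⟩
  have h := congrArg (fun φ => φ.hom (mkPi F x)) (Limits.Pi.map_π g a)
  simp only [AddCommGrpCat.hom_comp, AddMonoidHom.comp_apply, π_mkPi] at h
  exact h.trans (hx a)

end Elements

variable {D : Type u} [Category.{u} D] [HasFiniteProducts D] {ι : Type u} (Y : ι → D)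

section SES

instance preservesZeroMorphisms_cechComplexFunctor :
    (cechComplexFunctor (A := AddCommGrpCat.{u}) Y).PreservesZeroMorphisms where
  map_zero P Q := by
    apply HomologicalComplex.hom_ext
    intro n
    show Limits.Pi.map (fun a => (0 : P ⟶ Q).app _) = 0
    apply Limits.Pi.hom_ext
    intro a
    simp

variable (T : ShortComplex (Dᵒᵖ ⥤ AddCommGrpCat.{u}))

/-- degreewise short exactness on the fibre products gives a short exact sequence of Čech
complexes -/
theorem cx_shortExact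
    (h : ∀ (n : ℕ) (a : Fin (n + 1) → ι),
      (T.map ((evaluation Dᵒᵖ AddCommGrpCat.{u}).obj (op (∏ᶜ (Y ∘ a))))).ShortExact) :
    (T.map (cechComplexFunctor Y)).ShortExact := by
  refine HomologicalComplex.shortExact_of_degreewise_shortExact _ (fun n => ?_)
  have hepi : Epi (TotAcyc.piSC (fun a : Fin (n + 1) → ι =>
      T.map ((evaluation Dᵒᵖ AddCommGrpCat.{u}).obj (op (∏ᶜ (Y ∘ a)))))).g := by
    show Epi (Limits.Pi.map (fun a : Fin (n + 1) → ι =>
      (T.map ((evaluation Dᵒᵖ AddCommGrpCat.{u}).obj (op (∏ᶜ (Y ∘ a))))).g))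
    refine epi_piMap _ (fun a => ?_)
    exact (AddCommGrpCat.epi_iff_surjective _).1 (h n a).epi_g
  exact TotAcyc.piSC_shortExact _ (h n) hepi

variable {Y T}
variable (hT : (T.map (cechComplexFunctor Y)).ShortExact)
include hT

lemma isZero_H_X₃ (p : ℕ) (h2 : IsZero ((cx Y T.X₂).homology (p + 1)))
    (h1 : IsZero ((cx Y T.X₁).homology (p + 2))) : IsZero ((cx Y T.X₃).homology (p + 1)) := by
  have hex := hT.homology_exact₃ (p + 1) (p + 2) (by simp)
  exact hex.isZero_X₂ (IsZero.eq_of_src h2 _ _) (IsZero.eq_of_tgt h1 _ _)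

/-- dimension shifting in Čech cohomology -/
noncomputable def cechδIso (p : ℕ) (h2 : IsZero ((cx Y T.X₂).homology (p + 1)))
    (h2' : IsZero ((cx Y T.X₂).homology (p + 2))) :
    (cx Y T.X₃).homology (p + 1) ≅ (cx Y T.X₁).homology (p + 2) :=
  hT.δIso (p + 1) (p + 2) (by simp) h2 h2'

end SES

section LowDegree

variable {Y}
variable (R : Dᵒᵖ ⥤ AddCommGrpCat.{u})

lemma dd_zero_ev {W : D} (s t : Σ i, (W ⟶ Y i)) :
    dd R 0 ≫ ev R (![s, t] : Simplex Y W 1) =
      ev R (fun _ => t : Simplex Y W 0) - ev R (fun _ => s : Simplex Y W 0) := by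
  unfold dd
  rw [Preadditive.sum_comp, Fin.sum_univ_two]
  have h0 : (fun j => (![s, t] : Simplex Y W 1)
      ((SimplexCategory.δ (0 : Fin 2)).toOrderHom j)) = (fun _ => t : Simplex Y W 0) := by
    funext j
    fin_cases j
    rfl
  have h1 : (fun j => (![s, t] : Simplex Y W 1)
      ((SimplexCategory.δ (1 : Fin 2)).toOrderHom j)) = (fun _ => s : Simplex Y W 0) := by
    funext j
    fin_cases j
    rfl
  rw [Preadditive.zsmul_comp, Preadditive.zsmul_comp, cmap_ev, cmap_ev, h0, h1]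
  simp only [Fin.val_zero, Fin.val_one, pow_zero, pow_one, one_smul, neg_smul]
  abel

lemma dd_one_ev {W : D} (s t w : Σ i, (W ⟶ Y i)) :
    dd R 1 ≫ ev R (![s, t, w] : Simplex Y W 2) =
      ev R (![t, w] : Simplex Y W 1) - ev R (![s, w] : Simplex Y W 1) +
        ev R (![s, t] : Simplex Y W 1) := by
  unfold dd
  rw [Preadditive.sum_comp, Fin.sum_univ_three]
  have h0 : (fun j => (![s, t, w] : Simplex Y W 2)
      ((SimplexCategory.δ (0 : Fin 3)).toOrderHom j)) = (![t, w] : Simplex Y W 1) := by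
    funext j
    fin_cases j <;> rfl
  have h1 : (fun j => (![s, t, w] : Simplex Y W 2)
      ((SimplexCategory.δ (1 : Fin 3)).toOrderHom j)) = (![s, w] : Simplex Y W 1) := by
    funext j
    fin_cases j <;> rfl
  have h2 : (fun j => (![s, t, w] : Simplex Y W 2)
      ((SimplexCategory.δ (2 : Fin 3)).toOrderHom j)) = (![s, t] : Simplex Y W 1) := by
    funext j
    fin_cases j <;> rfl
  rw [Preadditive.zsmul_comp, Preadditive.zsmul_comp, Preadditive.zsmul_comp, cmap_ev, cmap_ev,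
    cmap_ev, h0, h1, h2]
  simp only [Fin.val_zero, Fin.val_one, Fin.val_two, pow_zero, pow_one, one_smul, neg_smul]
  norm_num
  abel

lemma ev_zero_eq {W : D} (s : Σ i, (W ⟶ Y i)) :
    ev R (fun _ => s : Simplex Y W 0) =
      ev R (fun _ => ⟨s.1, 𝟙 (Y s.1)⟩ : Simplex Y (Y s.1) 0) ≫ R.map s.2.op := by
  rw [ev_pull]
  congr 1
  funext j
  simp [Simplex.pull]

lemma can_two (a : Fin 3 → ι) :
    (can a : Simplex Y (∏ᶜ (Y ∘ a)) 2) =
      ![⟨a 0, Limits.Pi.π (Y ∘ a) 0⟩, ⟨a 1, Limits.Pi.π (Y ∘ a) 1⟩,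
        ⟨a 2, Limits.Pi.π (Y ∘ a) 2⟩] := by
  funext j
  fin_cases j <;> rfl

variable {R}
variable {R₂ : Dᵒᵖ ⥤ AddCommGrpCat.{u}} (φ : R ⟶ R₂)

/-- restriction of `t` along a "point" `s` -/
noncomputable abbrev rs (R₂ : Dᵒᵖ ⥤ AddCommGrpCat.{u}) (t : ∀ i, R₂.obj (op (Y i))) {W : D}
    (s : Σ i, (W ⟶ Y i)) : R₂.obj (op W) :=
  (R₂.map s.2.op).hom (t s.1)

omit [HasFiniteProducts D] in
lemma φ_map {W W' : D} (h : W' ⟶ W) (x : R.obj (op W)) :
    (φ.app (op W')).hom ((R.map h.op).hom x) = (R₂.map h.op).hom ((φ.app (op W)).hom x) := by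
  have := congrArg (fun ψ => ψ.hom x) (φ.naturality h.op)
  exact this

/-- If a family of sections `t_i` of `R₂` over the `Y_i` has all its differences (on arbitrary
test objects) in the image of the sectionwise injective map `φ : R ⟶ R₂`, and the first Čech
cohomology of `R` vanishes, then `t` can be corrected by sections of `R` to a compatible family. -/
theorem exists_correction (hφ : ∀ W : D, Function.Injective (φ.app (op W)).hom)
    (t : ∀ i, R₂.obj (op (Y i)))
    (hloc : ∀ (W : D) (s s' : Σ i, (W ⟶ Y i)), ∃ c : R.obj (op W),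
      (φ.app (op W)).hom c = rs R₂ t s' - rs R₂ t s)
    (hH : IsZero ((cx Y R).homology 1)) :
    ∃ e : ∀ i, R.obj (op (Y i)), ∀ (W : D) (s s' : Σ i, (W ⟶ Y i)),
      rs R₂ (fun i => t i - (φ.app (op (Y i))).hom (e i)) s =
        rs R₂ (fun i => t i - (φ.app (op (Y i))).hom (e i)) s' := by
  classical
  -- the 1-cochain
  let c : (∏ᶜ (term Y R 1) : AddCommGrpCat.{u}) := mkPi (term Y R 1) (fun a =>
    (hloc (∏ᶜ (Y ∘ a)) ⟨a 0, Limits.Pi.π (Y ∘ a) 0⟩ ⟨a 1, Limits.Pi.π (Y ∘ a) 1⟩).choose)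
  have hc : ∀ a : Fin 2 → ι, (φ.app (op (∏ᶜ (Y ∘ a)))).hom ((Limits.Pi.π (term Y R 1) a).hom c) =
      rs R₂ t ⟨a 1, Limits.Pi.π (Y ∘ a) 1⟩ - rs R₂ t ⟨a 0, Limits.Pi.π (Y ∘ a) 0⟩ := by
    intro a
    have := (hloc (∏ᶜ (Y ∘ a)) ⟨a 0, Limits.Pi.π (Y ∘ a) 0⟩ ⟨a 1, Limits.Pi.π (Y ∘ a) 1⟩).choose_spec
    rw [π_mkPi]
    exact this
  -- key property
  have hP : ∀ (W : D) (s s' : Σ i, (W ⟶ Y i)),
      (φ.app (op W)).hom ((ev R (![s, s'] : Simplex Y W 1)).hom c) = rs R₂ t s' - rs R₂ t s := by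
    intro W s s'
    have e1 : (ev R (![s, s'] : Simplex Y W 1)).hom c =
        (R.map (Simplex.toProd (![s, s'] : Simplex Y W 1)).op).hom
          ((Limits.Pi.π (term Y R 1) (Simplex.idx (![s, s'] : Simplex Y W 1))).hom c) := rfl
    rw [e1, φ_map, hc, map_sub]
    have e2 : ∀ (k : Fin 2), (R₂.map (Simplex.toProd (![s, s'] : Simplex Y W 1)).op).hom
        (rs R₂ t ⟨Simplex.idx (![s, s'] : Simplex Y W 1) k,
          Limits.Pi.π (Y ∘ Simplex.idx (![s, s'] : Simplex Y W 1)) k⟩) =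
        rs R₂ t ((![s, s'] : Simplex Y W 1) k) := by
      intro k
      have e3 : Simplex.toProd (![s, s'] : Simplex Y W 1) ≫
          Limits.Pi.π (Y ∘ Simplex.idx (![s, s'] : Simplex Y W 1)) k =
          ((![s, s'] : Simplex Y W 1) k).2 := by
        simp [Simplex.toProd]
      have e4 : R₂.map ((![s, s'] : Simplex Y W 1) k).2.op =
          R₂.map (Limits.Pi.π (Y ∘ Simplex.idx (![s, s'] : Simplex Y W 1)) k).op ≫
            R₂.map (Simplex.toProd (![s, s'] : Simplex Y W 1)).op := by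
        rw [← R₂.map_comp, ← op_comp, e3]
      show _ = (R₂.map ((![s, s'] : Simplex Y W 1) k).2.op).hom _
      rw [e4]
      rfl
    rw [e2 1, e2 0]
    rfl
  -- cocycle condition
  have hcoc : (dd R 1).hom c = 0 := by
    apply pi_ext
    intro a
    rw [map_zero]
    apply hφ
    rw [map_zero]
    have e1 : (Limits.Pi.π (term Y R 2) a).hom ((dd R 1).hom c) =
        (dd R 1 ≫ ev R (can a)).hom c := by
      rw [ev_can]
      rfl
    rw [e1, can_two, dd_one_ev]
    simp only [AddCommGrpCat.hom_add, AddCommGrpCat.hom_sub, AddMonoidHom.add_apply,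
      AddMonoidHom.sub_apply, map_add, map_sub, hP]
    abel
  -- use vanishing of H^1
  have hex : ((cx Y R).sc' 0 1 2).Exact := by
    rw [← HomologicalComplex.exactAt_iff' _ 0 1 2 (by simp) (by simp),
      HomologicalComplex.exactAt_iff_isZero_homology]
    exact hH
  rw [ShortComplex.ab_exact_iff] at hex
  obtain ⟨e0, he0⟩ := hex c (by
    show ((cx Y R).d 1 2).hom c = 0
    rw [cx_d]
    exact hcoc)
  have he0' : (dd R 0).hom e0 = c := by
    rw [← cx_d]
    exact he0
  refine ⟨fun i => (ev R (fun _ => ⟨i, 𝟙 (Y i)⟩ : Simplex Y (Y i) 0)).hom e0, ?_⟩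
  intro W s s'
  have h1 := hP W s s'
  rw [← he0'] at h1
  have h2 : (ev R (![s, s'] : Simplex Y W 1)).hom ((dd R 0).hom e0) =
      (dd R 0 ≫ ev R (![s, s'] : Simplex Y W 1)).hom e0 := rfl
  rw [h2, dd_zero_ev, ev_zero_eq R s, ev_zero_eq R s'] at h1
  simp only [AddCommGrpCat.hom_sub, AddMonoidHom.sub_apply, AddCommGrpCat.hom_comp,
    AddMonoidHom.comp_apply, map_sub, φ_map] at h1
  simp only [rs, map_sub]
  simp only [rs] at h1
  rw [sub_eq_sub_iff_add_eq_add] at h1 ⊢
  rw [add_comm, h1, add_comm]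

end LowDegree

end Groth.Agent.H67.Cech
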