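import Mathlib

/-!
# Helper library (helper67): squad lemma (DVRRED) for helper11 / S3408
A Noetherian local ring flat over a DVR with radical special fibre ideal is reduced.
-/

set_option autoImplicit false

universe u

open TensorProduct IsLocalRing AlgebraicGeometry

namespace Groth.Agent.H67.DvrRed

theorem isReduced_of_flat_dvr {D C : Type u} [CommRing D] [IsDomain D]
    [IsDiscreteValuationRing D] [CommRing C] [IsLocalRing C] [IsNoetherianRing C]
    (ρ : D →+* C) [IsLocalHom ρ] (hflat : ρ.Flat)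
    (hrad : (Ideal.map ρ (IsLocalRing.maximalIdeal D)).IsRadical) : IsReduced C := by
  obtain ⟨ϖ, hϖ⟩ := IsDiscreteValuationRing.exists_irreducible D
  have hm : maximalIdeal D = Ideal.span {ϖ} := hϖ.maximalIdeal_eq
  have hmap : Ideal.map ρ (maximalIdeal D) = Ideal.span {ρ ϖ} := by
    rw [hm, Ideal.map_span, Set.image_singleton]
  rw [hmap] at hrad
  -- `ρ ϖ` is a non-zero-divisor
  have hreg : ∀ c : C, ρ ϖ * c = 0 → c = 0 := by
    letI : Algebra D C := ρ.toAlgebra
    haveI : Module.Flat D C := hflat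
    have h1 : IsSMulRegular C ϖ :=
      Module.Flat.isSMulRegular_of_nonZeroDivisors (mem_nonZeroDivisors_of_ne_zero hϖ.ne_zero)
    intro c hc
    apply h1
    show ϖ • c = ϖ • (0 : C)
    rw [smul_zero, Algebra.smul_def, RingHom.algebraMap_toAlgebra]
    exact hc
  have hregpow : ∀ (k : ℕ) (c : C), ρ ϖ ^ k * c = 0 → c = 0 := by
    intro k
    induction k with
    | zero =>
      intro c hc
      simpa using hc
    | succ k ih =>
      intro c hc
      rw [pow_succ, mul_assoc] at hc
      exact hreg c (ih _ hc)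
  -- `ρ ϖ` lies in the maximal ideal
  have hmem : ρ ϖ ∈ maximalIdeal C := by
    rw [IsLocalRing.mem_maximalIdeal, mem_nonunits_iff]
    intro hu
    exact hϖ.not_isUnit (IsLocalHom.map_nonunit ϖ hu)
  -- nilpotents are divisible by all powers of `ρ ϖ`
  have key : ∀ (n : ℕ) (c : C), IsNilpotent c → c ∈ Ideal.span {ρ ϖ ^ n} := by
    intro n
    induction n with
    | zero =>
      intro c _
      rw [pow_zero, Ideal.span_singleton_one]
      trivial
    | succ n ih =>
      intro c hc
      obtain ⟨k, hk⟩ := hc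
      have h1 : c ∈ Ideal.span {ρ ϖ} := by
        apply hrad
        refine ⟨k, ?_⟩
        rw [hk]
        exact zero_mem _
      obtain ⟨c₁, hc₁⟩ := Ideal.mem_span_singleton'.1 h1
      have h2 : IsNilpotent c₁ := by
        refine ⟨k, ?_⟩
        apply hregpow k
        rw [← mul_pow, mul_comm, hc₁, hk]
      obtain ⟨d, hd⟩ := Ideal.mem_span_singleton'.1 (ih c₁ h2)
      refine Ideal.mem_span_singleton'.2 ⟨d, ?_⟩
      rw [← hc₁, ← hd, pow_succ]
      ring
  refine ⟨fun c hc => ?_⟩
  have hne : maximalIdeal C ≠ ⊤ := Ideal.IsPrime.ne_top'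
  have hbot := Ideal.iInf_pow_eq_bot_of_isLocalRing (maximalIdeal C) hne
  have hc' : c ∈ ⨅ i : ℕ, maximalIdeal C ^ i := by
    rw [Ideal.mem_iInf]
    intro n
    have h1 : Ideal.span {ρ ϖ ^ n} ≤ maximalIdeal C ^ n := by
      rw [Ideal.span_le, Set.singleton_subset_iff]
      exact Ideal.pow_mem_pow hmem n
    exact h1 (key n c hc)
  rw [hbot] at hc'
  exact (Ideal.mem_bot).1 hc'

end Groth.Agent.H67.DvrRed
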