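import Mathlib
import Groth.Agent.H54.IntegralDim

/-!
# Helper library (helper67): squad lemma (DIM) for helper13 / S15804
(wrapper around helper54's `ringKrullDim_eq_of_isIntegral_of_injective`)
-/

set_option autoImplicit false

universe u v w

namespace Groth.Agent.H67.WQ

theorem ringKrullDim_eq_of_finite_injective (R : Type u) [CommRing R] (A : Type v) [CommRing A]
    [Algebra R A] [Module.Finite R A] (hinj : Function.Injective (algebraMap R A)) :
    ringKrullDim R = ringKrullDim A :=
  (Groth.Agent.H54.ringKrullDim_eq_of_isIntegral_of_injective hinj).symm

end Groth.Agent.H67.WQ
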