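import Mathlib

/-!
# Helper library (helper67): squad lemma (PRIM) for helper13 / S15804
For a finite local algebra `A` over a local ring `R`, `𝔪_R A` is `𝔪_A`-primary.
-/

set_option autoImplicit false

universe u v w

open IsLocalRing

namespace Groth.Agent.H67.WQ

theorem exists_pow_maximalIdeal_le_map (R : Type u) [CommRing R] [IsLocalRing R] (A : Type v)
    [CommRing A] [IsLocalRing A] [Algebra R A] [Module.Finite R A] :
    ∃ N : ℕ, maximalIdeal A ^ N ≤ (maximalIdeal R).map (algebraMap R A) := by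
  letI : Field (R ⧸ maximalIdeal R) := Ideal.Quotient.field (maximalIdeal R)
  haveI : Module.Finite R (A ⧸ (maximalIdeal R).map (algebraMap R A)) :=
    Module.Finite.of_surjective
      (Ideal.Quotient.mkₐ R ((maximalIdeal R).map (algebraMap R A))).toLinearMap
      (Ideal.Quotient.mkₐ_surjective R _)
  haveI : Module.Finite (R ⧸ maximalIdeal R) (A ⧸ (maximalIdeal R).map (algebraMap R A)) :=
    Module.Finite.of_restrictScalars_finite R _ _
  haveI : IsArtinianRing (A ⧸ (maximalIdeal R).map (algebraMap R A)) :=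
    IsArtinianRing.of_finite (R ⧸ maximalIdeal R) _
  obtain ⟨N, hN⟩ := IsArtinianRing.isNilpotent_jacobson_bot
    (R := A ⧸ (maximalIdeal R).map (algebraMap R A))
  refine ⟨N, ?_⟩
  have h1 : (maximalIdeal A).map (Ideal.Quotient.mk ((maximalIdeal R).map (algebraMap R A))) ≤
      Ideal.jacobson ⊥ := by
    rw [Ideal.map_le_iff_le_comap]
    intro x hx
    rw [Ideal.mem_comap]
    show _ ∈ sInf {J : Ideal (A ⧸ (maximalIdeal R).map (algebraMap R A)) | ⊥ ≤ J ∧ J.IsMaximal}
    refine Ideal.mem_sInf.2 ?_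
    rintro J ⟨-, hJ⟩
    haveI := hJ
    have hmax : (J.comap (Ideal.Quotient.mk ((maximalIdeal R).map (algebraMap R A)))).IsMaximal :=
      Ideal.comap_isMaximal_of_surjective _ Ideal.Quotient.mk_surjective
    have h2 := IsLocalRing.eq_maximalIdeal hmax
    have h3 : x ∈ J.comap (Ideal.Quotient.mk ((maximalIdeal R).map (algebraMap R A))) := by
      rw [h2]
      exact hx
    exact h3
  intro x hx
  have h3 : (Ideal.Quotient.mk ((maximalIdeal R).map (algebraMap R A))) x ∈
      (Ideal.jacobson (⊥ : Ideal (A ⧸ (maximalIdeal R).map (algebraMap R A)))) ^ N := by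
    have h4 : (maximalIdeal A ^ N).map
        (Ideal.Quotient.mk ((maximalIdeal R).map (algebraMap R A))) ≤
        (Ideal.jacobson ⊥) ^ N := by
      rw [Ideal.map_pow]
      exact Ideal.pow_right_mono h1 N
    exact h4 (Ideal.mem_map_of_mem _ hx)
  rw [hN, Ideal.zero_eq_bot, Ideal.mem_bot] at h3
  exact Ideal.Quotient.eq_zero_iff_mem.1 h3

end Groth.Agent.H67.WQ
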