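import Mathlib

/-!
# Helper library (helper67): squad lemma (RSP) for helper13 / S15804
The maximal ideal of a 2-dimensional regular local ring is generated by two elements.
-/

set_option autoImplicit false

universe u v w

open IsLocalRing

namespace Groth.Agent.H67.WQ

theorem exists_pair_of_dim_two (R : Type u) [CommRing R] [IsRegularLocalRing R]
    (hdim : ringKrullDim R = 2) : ∃ x y : R, maximalIdeal R = Ideal.span {x, y} := by
  have h1 : ((maximalIdeal R).spanFinrank : WithBot ℕ∞) = ringKrullDim R :=
    (isRegularLocalRing_iff R).1 inferInstance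
  rw [hdim] at h1
  have h2 : (maximalIdeal R).spanFinrank = 2 := by exact_mod_cast h1
  have hfg : (maximalIdeal R).FG := IsNoetherian.noetherian _
  have h3 := Submodule.FG.generators_ncard hfg
  rw [h2] at h3
  obtain ⟨x, y, -, hxy⟩ := Set.ncard_eq_two.1 h3
  refine ⟨x, y, ?_⟩
  rw [← hxy]
  exact (Submodule.span_generators (maximalIdeal R)).symm

end Groth.Agent.H67.WQ
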