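import Groth.Agent.H67.TotAcyc2
import Groth.Agent.S6625
import Groth.Agent.H42.RDBridge

/-!
# Helper library (helper67): higher direct images of totally acyclic sheaves vanish
-/

set_option autoImplicit false
universe w v' u' u

open CategoryTheory CategoryTheory.Limits Opposite Abelian

namespace Groth.Agent.H67.TotAcyc

open Groth.Agent.H67.SieveCoh

section abstract

variable {B : Type u'} [Category.{v'} B] [Abelian B] [HasExt.{w} B]

lemma ext_shift_down' (Z : B) {S : ShortComplex B} (hS : S.ShortExact) (n : ℕ)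
    (h1 : Subsingleton (Ext Z S.X₁ (n + 2))) (h2 : Subsingleton (Ext Z S.X₂ (n + 1))) :
    Subsingleton (Ext Z S.X₃ (n + 1)) := by
  have key : ∀ x : Ext Z S.X₃ (n + 1), x = 0 := fun x => by
    obtain ⟨x₂, hx₂⟩ := Ext.covariant_sequence_exact₃ Z hS x (rfl : n + 1 + 1 = n + 2)
      (Subsingleton.elim _ _)
    rw [← hx₂, Subsingleton.elim x₂ 0, Ext.zero_comp]
  exact ⟨fun x y => by rw [key x, key y]⟩

lemma natLift_of_lift_adj {𝒜 : Type*} {ℬ : Type*} [Category 𝒜] [Category ℬ] {L : 𝒜 ⥤ ℬ}
    {R : ℬ ⥤ 𝒜} (adj : L ⊣ R) {I Q : ℬ} (g : I ⟶ Q) {P : 𝒜}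
    (h : ∀ φ : L.obj P ⟶ Q, ∃ ψ : L.obj P ⟶ I, ψ ≫ g = φ) (τ : P ⟶ R.obj Q) :
    ∃ τ' : P ⟶ R.obj I, τ' ≫ R.map g = τ := by
  obtain ⟨ψ, hψ⟩ := h ((adj.homEquiv _ _).symm τ)
  refine ⟨adj.homEquiv _ _ ψ, ?_⟩
  rw [← Adjunction.homEquiv_naturality_right, hψ, Equiv.apply_symm_apply]

end abstract

section concrete

variable {C : Type u} [SmallCategory C] (J : GrothendieckTopology C)

/-- The sheaf of sets associated to the representable presheaf of `W`. -/
noncomputable abbrev repSh (W : C) : Sheaf J (Type u) :=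
  (presheafToSheaf J (Type u)).obj (yoneda.obj W)

/-- The composite adjunction (sheafify then free) ⊣ (forget then include). -/
noncomputable def freeRepAdj :
    presheafToSheaf J (Type u) ⋙ freeOnSheaf J ⊣
      sheafCompose J (forget AddCommGrpCat.{u}) ⋙ sheafToPresheaf J (Type u) :=
  (sheafificationAdjunction J (Type u)).comp (freeOnSheafAdj J)

variable {J} in
lemma surjective_of_isTotallyAcyclic {S : ShortComplex (Sheaf J AddCommGrpCat.{u})}
    (hS : S.ShortExact) (h : CohCx.IsTotallyAcyclic S.X₁) (W : C) :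
    Function.Surjective (S.g.hom.app (op W)) := by
  refine (natLift_yoneda_iff S.g W).1 (fun τ => ?_)
  exact natLift_of_lift_adj (freeRepAdj J) S.g (P := yoneda.obj W) (fun φ => by
    haveI : Subsingleton (Ext ((presheafToSheaf J (Type u) ⋙ freeOnSheaf J).obj
        (yoneda.obj W)) S.X₁ 1) := h (repSh J W) 0
    exact ext_lift _ hS φ) τ

variable {J} in
lemma map_push_shortExact {D : Type u} [SmallCategory D] (K : GrothendieckTopology D)
    (u : D ⥤ C) [u.IsContinuous K J] {S : ShortComplex (Sheaf J AddCommGrpCat.{u})}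
    (hS : S.ShortExact) (hsurj : ∀ W : C, Function.Surjective (S.g.hom.app (op W))) :
    (S.map (CohSite.push J K u)).ShortExact := by
  haveI : PreservesLimitsOfSize.{0, 0} (CohSite.push J K u) :=
    (u.sheafAdjunctionContinuous AddCommGrpCat.{u} K J).rightAdjoint_preservesLimits
  haveI := hS.mono_f
  refine ShortComplex.ShortExact.mk'
    (hS.exact.map_of_mono_of_preservesKernel _ hS.mono_f inferInstance) ?_ ?_
  · exact (CohSite.push J K u).map_mono S.f
  · haveI : Presheaf.IsLocallySurjective K ((CohSite.push J K u).map S.g).hom :=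
      Presheaf.isLocallySurjective_of_surjective K _ (fun V => hsurj (u.obj V.unop))
    exact Sheaf.epi_of_isLocallySurjective ((CohSite.push J K u).map S.g)

theorem Rpush_isZero_of_isTotallyAcyclic {D : Type u} [SmallCategory D]
    (K : GrothendieckTopology D) (u : D ⥤ C) [u.IsContinuous K J]
    (F : Sheaf J AddCommGrpCat.{u}) (hF : CohCx.IsTotallyAcyclic F) (p : ℕ) :
    IsZero ((CohSite.Rpush J K u (p + 1)).obj F) := by
  letI := HasDerivedCategory.standard (Sheaf J AddCommGrpCat.{u})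
  letI := HasDerivedCategory.standard (Sheaf K AddCommGrpCat.{u})
  have h1 : ∀ G : Sheaf J AddCommGrpCat.{u}, ∃ (G' : Sheaf J AddCommGrpCat.{u}) (ι : G ⟶ G'),
      (fun H : Sheaf J AddCommGrpCat.{u} => CohCx.IsTotallyAcyclic H) G' ∧ Mono ι := fun G =>
    ⟨Injective.under G, Injective.ι G, fun K p => Ext.subsingleton_of_injective _ _ _,
      inferInstance⟩
  have h2 : ∀ S : ShortComplex (Sheaf J AddCommGrpCat.{u}), S.ShortExact →
      (fun H : Sheaf J AddCommGrpCat.{u} => CohCx.IsTotallyAcyclic H) S.X₁ →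
      (fun H : Sheaf J AddCommGrpCat.{u} => CohCx.IsTotallyAcyclic H) S.X₂ →
      (fun H : Sheaf J AddCommGrpCat.{u} => CohCx.IsTotallyAcyclic H) S.X₃ ∧
        (S.map (CohSite.push J K u)).ShortExact := fun S hS a b =>
    ⟨fun K q => ext_shift_down' _ hS q (a K (q + 1)) (b K q),
      map_push_shortExact K u hS (surjective_of_isTotallyAcyclic hS a)⟩
  have hu := Groth.Agent.S6625.result (CohSite.push J K u)
    (fun H : Sheaf J AddCommGrpCat.{u} => CohCx.IsTotallyAcyclic H) h1 h2 F hF
  exact ((Groth.Agent.H42.RDBridge.isIso_unit_single_iff (CohSite.push J K u) F).1 hu).2 (p + 1)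
    (Nat.succ_pos p)

end concrete

end Groth.Agent.H67.TotAcyc
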