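import Mathlib
import Groth.Prelude.Def_EtModW
import Groth.Prelude.Def_ARSys
import Groth.Agent.H23.AdicDefs

/-!
# Piece (C1) of helper23's S14009 squad (helper67): with enough weakly contractible objects, the
projections of a limit of a tower of epimorphisms of pro-etale sheaves of modules are epimorphisms
(repleteness).
-/

set_option autoImplicit false
universe u v
open CategoryTheory CategoryTheory.Limits AlgebraicGeometry Opposite
open Groth.Agent.H23.AdicDefs

namespace Groth.Agent.H67.Adic_C1

variable (Λ : Type (u + 1)) [CommRing Λ] {X : Scheme.{u}}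

/-- an epimorphism is surjective on sections over a weakly contractible object (copy of
`Groth.Agent.S14017.surj_of_epi`). -/
theorem surj_of_epi {F G : EtModW.ModP Λ X} (φ : F ⟶ G) [Epi φ]
    (U : X.ProEt) (hU : ProEtS.IsWC U) : Function.Surjective (φ.hom.app (op U)).hom := by
  have h1 : Sheaf.IsLocallySurjective φ := (Sheaf.isLocallySurjective_iff_epi' _ φ).2 inferInstance
  have h3 : Epi ((sheafCompose (Scheme.ProEt.topology X) (forget (ModuleCat.{u + 1} Λ))).map φ) :=
    inferInstance
  intro y
  obtain ⟨x, hx⟩ := hU _ _ _ h3 y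
  exact ⟨x, hx⟩

/-- sections over `W`. -/
noncomputable abbrev ev (W : X.ProEt) : EtModW.ModP Λ X ⥤ ModuleCat.{u + 1} Λ :=
  sheafToPresheaf _ _ ⋙ (evaluation _ _).obj (op W)

variable (H : ℕᵒᵖ ⥤ EtModW.ModP Λ X) (W : X.ProEt)

/-- transition maps on sections over `W`. -/
noncomputable def T {k m : ℕ} (h : k ≤ m) : secM Λ H W m →ₗ[Λ] secM Λ H W k :=
  ((H.map (homOfLE h).op).hom.app (op W)).hom

theorem T_refl (m : ℕ) (a : secM Λ H W m) : T Λ H W (le_refl m) a = a := by
  have e : (homOfLE (le_refl m)).op = 𝟙 (op m) := Quiver.Hom.unop_inj (Subsingleton.elim _ _)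
  unfold T
  rw [e, H.map_id]
  rfl

theorem T_trans {k l m : ℕ} (h₁ : k ≤ l) (h₂ : l ≤ m) (a : secM Λ H W m) :
    T Λ H W h₁ (T Λ H W h₂ a) = T Λ H W (h₁.trans h₂) a := by
  have e : (homOfLE (h₁.trans h₂)).op = (homOfLE h₂).op ≫ (homOfLE h₁).op :=
    Quiver.Hom.unop_inj (Subsingleton.elim _ _)
  unfold T
  rw [e, H.map_comp]
  rfl

variable {H W}

theorem exists_lift (hH : ∀ m, Epi (H.map (homOfLE (Nat.le_succ m)).op)) (hW : ProEtS.IsWC W)
    (n : ℕ) (a : secM Λ H W n) :
    ∃ y : (limit H).obj.obj (op W), ((limit.π H (op n)).hom.app (op W)).hom y = a := by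
  have hsurj : ∀ m, Function.Surjective (T Λ H W (Nat.le_succ m)) := fun m => by
    have := hH m
    exact surj_of_epi Λ (H.map (homOfLE (Nat.le_succ m)).op) W hW
  let x : ∀ m, secM Λ H W m := fun m => Nat.rec (motive := fun m => secM Λ H W m)
    (T Λ H W (Nat.zero_le n) a)
    (fun m xm => if h : m + 1 ≤ n then T Λ H W h a else Function.surjInv (hsurj m) xm) m
  have hx0 : x 0 = T Λ H W (Nat.zero_le n) a := rfl
  have hxs : ∀ m, x (m + 1) =
      if h : m + 1 ≤ n then T Λ H W h a else Function.surjInv (hsurj m) (x m) := fun m => rfl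
  have hx_le : ∀ m (h : m ≤ n), x m = T Λ H W h a := by
    intro m h
    cases m with
    | zero => exact hx0
    | succ m => rw [hxs, dif_pos h]
  have hx_succ : ∀ m, T Λ H W (Nat.le_succ m) (x (m + 1)) = x m := by
    intro m
    by_cases h : m + 1 ≤ n
    · rw [hx_le (m + 1) h, hx_le m (Nat.le_of_succ_le h), T_trans]
    · rw [hxs, dif_neg h]
      exact Function.surjInv_eq (hsurj m) (x m)
  have hx_comp : ∀ k m (h : k ≤ m), T Λ H W h (x m) = x k := by
    intro k m h
    induction m, h using Nat.le_induction with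
    | base => exact T_refl Λ H W k _
    | succ m hkm ih =>
      have e := T_trans Λ H W hkm (Nat.le_succ m) (x (m + 1))
      rw [hx_succ m, ih] at e
      exact e.symm
  have hxn : x n = a := (hx_le n (le_refl n)).trans (T_refl Λ H W n a)
  -- the cone with apex `Λ`
  have hnat : ∀ (j j' : ℕᵒᵖ) (f : j ⟶ j'),
      ((H.map f).hom.app (op W)).hom (x j.unop) = x j'.unop := by
    intro j j' f
    have hf : f = (homOfLE (leOfHom f.unop)).op := Quiver.Hom.unop_inj (Subsingleton.elim _ _)
    have key : ∀ (g : j ⟶ j'), g = (homOfLE (leOfHom f.unop)).op →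
        ((H.map g).hom.app (op W)).hom (x j.unop) = x j'.unop := by
      intro g hg
      subst hg
      exact hx_comp j'.unop j.unop (leOfHom f.unop)
    exact key f hf
  let c : Cone (H ⋙ ev Λ W) :=
    { pt := ModuleCat.of Λ Λ
      π :=
        { app := fun j => ModuleCat.ofHom (LinearMap.toSpanSingleton Λ _ (x j.unop))
          naturality := fun j j' f => by
            apply ModuleCat.hom_ext
            apply LinearMap.ext
            intro r
            show r • x j'.unop = ((H.map f).hom.app (op W)).hom (r • x j.unop)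
            rw [map_smul, hnat j j' f] } }
  let hl := isLimitOfPreserves (ev Λ W) (limit.isLimit H)
  refine ⟨(hl.lift c).hom (1 : Λ), ?_⟩
  have hfac := congrArg (fun m => m.hom (1 : Λ)) (hl.fac c (op n))
  calc ((limit.π H (op n)).hom.app (op W)).hom ((hl.lift c).hom 1)
      = (c.π.app (op n)).hom (1 : Λ) := hfac
    _ = (1 : Λ) • x n := rfl
    _ = a := by rw [one_smul, hxn]

/-- **(C1)** the projections of the limit of a tower of epimorphisms are epimorphisms. -/
theorem epi_limit_π (hE : EnoughWC X) (H : ℕᵒᵖ ⥤ EtModW.ModP Λ X)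
    (hH : ∀ m, Epi (H.map (homOfLE (Nat.le_succ m)).op)) (n : ℕ) : Epi (limit.π H (op n)) := by
  have : Sheaf.IsLocallySurjective (limit.π H (op n)) := by
    refine ⟨fun {V} s => ?_⟩
    obtain ⟨W, g, hg, hW⟩ := hE V
    obtain ⟨y, hy⟩ := exists_lift Λ hH hW n (((H.obj (op n)).obj.map g.op).hom s)
    refine (Scheme.ProEt.topology X).superset_covering ?_ hg
    intro Z f hf
    obtain ⟨Z', e, g', hg', rfl⟩ := hf
    cases hg'
    refine ⟨((limit H).obj.map e.op).hom y, ?_⟩
    show ((limit.π H (op n)).hom.app (op Z)).hom (((limit H).obj.map e.op).hom y) =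
      ((H.obj (op n)).obj.map (e ≫ g).op).hom s
    have e1 : ((limit.π H (op n)).hom.app (op Z)).hom (((limit H).obj.map e.op).hom y) =
        ((H.obj (op n)).obj.map e.op).hom (((limit.π H (op n)).hom.app (op W)).hom y) :=
      congrArg (fun m => m.hom y) ((limit.π H (op n)).hom.naturality e.op)
    rw [e1, hy]
    have e2 : (H.obj (op n)).obj.map (e ≫ g).op =
        (H.obj (op n)).obj.map g.op ≫ (H.obj (op n)).obj.map e.op := by
      rw [op_comp, Functor.map_comp]
    rw [e2]
    rfl
  infer_instance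

end Groth.Agent.H67.Adic_C1
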