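import Mathlib
import Groth.Prelude.Def_EtModW
import Groth.Prelude.Def_ARSys
import Groth.Agent.H23.AdicDefs

/-!
# Piece (C2b) of helper23's S14009 squad (helper67): a composite `K ⟶ F ⟶ Y` of pro-etale sheaves of
modules vanishes if `F ⟶ Y` is killed by `Jd` and `K ⟶ F` lands in `Jd • F(W)` on weakly
contractible `W` (enough weakly contractible objects).
-/

set_option autoImplicit false
universe u v
open CategoryTheory CategoryTheory.Limits AlgebraicGeometry Opposite
open Groth.Agent.H23.AdicDefs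

namespace Groth.Agent.H67.Adic_C2b

variable (Λ : Type (u + 1)) [CommRing Λ] {X : Scheme.{u}}

theorem comp_eq_zero_of_local (hE : EnoughWC X) {K F Y : EtModW.ModP Λ X} (ι : K ⟶ F) (φ : F ⟶ Y)
    (Jd : Ideal Λ) (hφ : ARSys.HomKilledBy Jd φ)
    (h : ∀ (W : X.ProEt), ProEtS.IsWC W → ∀ k : K.obj.obj (op W),
      (ι.hom.app (op W)).hom k ∈ Jd • (⊤ : Submodule Λ (F.obj.obj (op W)))) : ι ≫ φ = 0 := by
  have h1 : ∀ (W : X.ProEt) (b : Λ), b ∈ Jd → ∀ x : F.obj.obj (op W),
      (φ.hom.app (op W)).hom (b • x) = 0 := by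
    intro W b hb x
    rw [map_smul]
    have := congrArg (fun ψ : F ⟶ Y => (ψ.hom.app (op W)).hom x) (hφ b hb)
    exact this
  have h2 : ∀ (W : X.ProEt), ProEtS.IsWC W → ∀ k : K.obj.obj (op W),
      (φ.hom.app (op W)).hom ((ι.hom.app (op W)).hom k) = 0 := by
    intro W hW k
    refine Submodule.smul_induction_on (h W hW k) (fun b hb x _ => h1 W b hb x)
      (fun x y hx hy => ?_)
    rw [map_add, hx, hy, add_zero]
  have hY : Presieve.IsSheaf (Scheme.ProEt.topology X) (Y.obj ⋙ forget (ModuleCat.{u + 1} Λ)) :=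
    (isSheaf_iff_isSheaf_of_type _ _).1
      ((Presheaf.isSheaf_iff_isSheaf_forget (Scheme.ProEt.topology X) Y.obj (forget _)).1
        Y.property)
  have fin : ∀ (V : X.ProEt) (s : K.obj.obj (op V)),
      (φ.hom.app (op V)).hom ((ι.hom.app (op V)).hom s) = 0 := by
    intro V s
    obtain ⟨W, g, hg, hW⟩ := hE V
    have natφ : ∀ x : F.obj.obj (op V), (Y.obj.map g.op).hom ((φ.hom.app (op V)).hom x) =
        (φ.hom.app (op W)).hom ((F.obj.map g.op).hom x) := fun x =>
      (congrArg (fun m => m.hom x) (φ.hom.naturality g.op)).symm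
    have natι : ∀ x : K.obj.obj (op V), (F.obj.map g.op).hom ((ι.hom.app (op V)).hom x) =
        (ι.hom.app (op W)).hom ((K.obj.map g.op).hom x) := fun x =>
      (congrArg (fun m => m.hom x) (ι.hom.naturality g.op)).symm
    have key : (Y.obj.map g.op).hom ((φ.hom.app (op V)).hom ((ι.hom.app (op V)).hom s)) = 0 := by
      rw [natφ, natι, h2 W hW]
    refine (hY.isSeparated _ hg).ext (fun Z f hf => ?_)
    obtain ⟨Z', e, g', hg', rfl⟩ := hf
    cases hg'
    show (Y.obj.map (e ≫ g).op).hom ((φ.hom.app (op V)).hom ((ι.hom.app (op V)).hom s)) =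
      (Y.obj.map (e ≫ g).op).hom 0
    rw [map_zero]
    have e2 : Y.obj.map (e ≫ g).op = Y.obj.map g.op ≫ Y.obj.map e.op := by
      rw [op_comp, Functor.map_comp]
    rw [e2]
    show (Y.obj.map e.op).hom
      ((Y.obj.map g.op).hom ((φ.hom.app (op V)).hom ((ι.hom.app (op V)).hom s))) = 0
    rw [key, map_zero]
  apply Sheaf.hom_ext
  apply NatTrans.ext
  funext V
  obtain ⟨V⟩ := V
  apply ModuleCat.hom_ext
  apply LinearMap.ext
  intro s
  exact fin V s

end Groth.Agent.H67.Adic_C2b
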