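import Mathlib
import Groth.Prelude.Def_PBC
import Groth.Prelude.Def_ProEtS
import Groth.Agent.H23.EpsDefs
import Groth.Agent.H23.WCDefs

/-!
# (SURJ) for helper23's S0717 squad: sections of the sheafified Kan extension over `eps U`
come from sections of `F` over `U` (helper67)
-/

set_option autoImplicit false
set_option backward.isDefEq.respectTransparency.types false
universe u v w
open CategoryTheory CategoryTheory.Limits AlgebraicGeometry Opposite
open Groth.Agent.H23.EpsDefs Groth.Agent.H23.WCDefs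

namespace Groth.Agent.H67.Eps_SURJ

theorem map_comp_apply {C : Type v} [Category.{w} C] (P : Cᵒᵖ ⥤ AddCommGrpCat.{u + 1})
    {A B D : C} (f : A ⟶ B) (g : B ⟶ D) (y : P.obj (op D)) :
    (P.map (f ≫ g).op).hom y = (P.map f.op).hom ((P.map g.op).hom y) := by
  rw [op_comp, P.map_comp]
  rfl

theorem nat_apply {C : Type v} [Category.{w} C] {P Q : Cᵒᵖ ⥤ AddCommGrpCat.{u + 1}} (θ : P ⟶ Q)
    {A B : C} (f : A ⟶ B) (y : P.obj (op B)) :
    (θ.app (op A)).hom ((P.map f.op).hom y) = (Q.map f.op).hom ((θ.app (op B)).hom y) := by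
  have h := θ.naturality f.op
  exact congrArg (fun k => k.hom y) h

variable (X : Scheme.{u})

theorem surjective_thetaE (F : EtCoh.Ab X) [ProEtS.EpsCont X] (hR : RepAPI X F.obj)
    (hB : WCBij X F) (hS : SepAff X F) (U : X.Etale) (L : LimData X U) :
    Function.Surjective (fun s : F.obj.obj (op U) =>
      ((thetaE X F.obj).app (op ((ProEtS.eps X).obj U))).hom (lanUE X F.obj U s)) := by
  intro g
  -- (1) lift `g|W` to the Kan extension presheaf
  obtain ⟨x, hx⟩ := (hB L.W L.affW L.wcW).2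
    (((sheafify (Scheme.ProEt.topology X) (lanE X F.obj)).map L.w.op).hom g)
  -- (2) represent `x` over an affine etale stage
  obtain ⟨V, φ, s, rfl⟩ := hR.r1 L.W x
  obtain ⟨V₁, b, ψ, c, -, hψb, hψc⟩ := L.l1 V φ
  let s₁ : F.obj.obj (op V₁) := (F.obj.map c.op).hom s
  have hx1 : ((lanE X F.obj).map φ.op).hom (lanUE X F.obj V s) =
      ((lanE X F.obj).map ψ.op).hom (lanUE X F.obj V₁ s₁) := by
    rw [← hψc, map_comp_apply, hR.r0]
  -- (3) the two pullbacks to `W₂` agree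
  have h3 : ((lanE X F.obj).map (L.p₁ ≫ ψ).op).hom (lanUE X F.obj V₁ s₁) =
      ((lanE X F.obj).map (L.p₂ ≫ ψ).op).hom (lanUE X F.obj V₁ s₁) := by
    apply hS L.W₂ L.affW₂
    have key : ∀ p : L.W₂ ⟶ L.W,
        ((thetaE X F.obj).app (op L.W₂)).hom
          (((lanE X F.obj).map (p ≫ ψ).op).hom (lanUE X F.obj V₁ s₁)) =
        ((sheafify (Scheme.ProEt.topology X) (lanE X F.obj)).map (p ≫ L.w).op).hom g := by
      intro p
      calc ((thetaE X F.obj).app (op L.W₂)).hom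
            (((lanE X F.obj).map (p ≫ ψ).op).hom (lanUE X F.obj V₁ s₁))
          = ((thetaE X F.obj).app (op L.W₂)).hom (((lanE X F.obj).map p.op).hom
              (((lanE X F.obj).map ψ.op).hom (lanUE X F.obj V₁ s₁))) := by
            rw [map_comp_apply (lanE X F.obj) p ψ]
        _ = ((sheafify (Scheme.ProEt.topology X) (lanE X F.obj)).map p.op).hom
              (((thetaE X F.obj).app (op L.W)).hom
                (((lanE X F.obj).map ψ.op).hom (lanUE X F.obj V₁ s₁))) :=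
            nat_apply (thetaE X F.obj) p _
        _ = ((sheafify (Scheme.ProEt.topology X) (lanE X F.obj)).map p.op).hom
              (((sheafify (Scheme.ProEt.topology X) (lanE X F.obj)).map L.w.op).hom g) := by
            rw [← hx1, hx]
        _ = _ := (map_comp_apply _ p L.w g).symm
    rw [key, key, L.comm]
  obtain ⟨E, χ, e₁, e₂, hχ1, hχ2, he⟩ := hR.r2 L.W₂ (L.p₁ ≫ ψ) (L.p₂ ≫ ψ) s₁ s₁ h3
  -- (4) spread out
  obtain ⟨V₂, d, ψ₂, hψ₂, hT⟩ := L.l2 V₁ b ψ hψb E e₁ e₂ χ hχ1 hχ2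
  let s₂ : F.obj.obj (op V₂) := (F.obj.map d.op).hom s₁
  have hF : Presieve.IsSheaf X.smallEtaleTopology (F.obj ⋙ forget AddCommGrpCat.{u + 1}) :=
    (isSheaf_iff_isSheaf_of_type _ _).1
      ((Presheaf.isSheaf_iff_isSheaf_forget X.smallEtaleTopology F.obj
        (forget AddCommGrpCat.{u + 1})).1 F.property)
  have h4 : ∀ {T : X.Etale} (t₁ t₂ : T ⟶ V₂), t₁ ≫ d ≫ b = t₂ ≫ d ≫ b →
      (F.obj.map t₁.op).hom s₂ = (F.obj.map t₂.op).hom s₂ := by
    intro T t₁ t₂ ht
    obtain ⟨S, hS', hk⟩ := hT T t₁ t₂ ht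
    refine (hF.isSeparated S hS').ext ?_
    intro T' h hh
    obtain ⟨k, hk1, hk2⟩ := hk h hh
    show (F.obj.map h.op).hom ((F.obj.map t₁.op).hom ((F.obj.map d.op).hom s₁)) =
      (F.obj.map h.op).hom ((F.obj.map t₂.op).hom ((F.obj.map d.op).hom s₁))
    calc (F.obj.map h.op).hom ((F.obj.map t₁.op).hom ((F.obj.map d.op).hom s₁))
        = (F.obj.map (h ≫ t₁ ≫ d).op).hom s₁ := by rw [map_comp_apply, map_comp_apply]
      _ = (F.obj.map (k ≫ e₁).op).hom s₁ := by rw [hk1]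
      _ = (F.obj.map k.op).hom ((F.obj.map e₁.op).hom s₁) := map_comp_apply _ _ _ _
      _ = (F.obj.map k.op).hom ((F.obj.map e₂.op).hom s₁) := by rw [he]
      _ = (F.obj.map (k ≫ e₂).op).hom s₁ := (map_comp_apply _ _ _ _).symm
      _ = (F.obj.map (h ≫ t₂ ≫ d).op).hom s₁ := by rw [hk2]
      _ = _ := by rw [map_comp_apply, map_comp_apply]
  -- (5) descend `s₂` along the etale cover `V₂ ⟶ U`
  have hw2 : ψ₂ ≫ (ProEtS.eps X).map (d ≫ b) = L.w := by
    rw [Functor.map_comp, ← Category.assoc, hψ₂, hψb]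
  have hsurj : Function.Surjective (d ≫ b).left := by
    intro y
    obtain ⟨x, rfl⟩ := L.surj y
    refine ⟨ψ₂.left x, ?_⟩
    have e : L.w.left = ψ₂.left ≫ (d ≫ b).left := by
      rw [← hw2]
      rfl
    rw [e]
    rfl
  have hcov : Sieve.generate (Presieve.singleton (d ≫ b)) ∈ X.smallEtaleTopology U := by
    have h1 := (Scheme.ofArrows_mem_smallEtaleTopology_iff (fun _ : PUnit.{1} => d ≫ b)).2 (by
      rw [Set.eq_univ_iff_forall]
      intro y
      obtain ⟨x, hx⟩ := hsurj y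
      exact Set.mem_iUnion.2 ⟨PUnit.unit, x, hx⟩)
    rw [Sieve.ofArrows, Presieve.ofArrows_pUnit] at h1
    exact h1
  have hSF : Presieve.IsSheafFor (F.obj ⋙ forget AddCommGrpCat.{u + 1})
      (Presieve.singleton (d ≫ b)) := hF.isSheafFor _ hcov
  obtain ⟨s', hs', -⟩ := (Presieve.isSheafFor_singleton.1 hSF) s₂ (by
    intro Z p₁ p₂ hp
    exact h4 p₁ p₂ hp)
  have hs'' : (F.obj.map (d ≫ b).op).hom s' = (F.obj.map d.op).hom s₁ := hs'
  -- (6) `s'` works
  refine ⟨s', ?_⟩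
  show ((thetaE X F.obj).app (op ((ProEtS.eps X).obj U))).hom (lanUE X F.obj U s') = g
  have hG : Presieve.IsSheaf (Scheme.ProEt.topology X)
      (sheafify (Scheme.ProEt.topology X) (lanE X F.obj) ⋙ forget AddCommGrpCat.{u + 1}) :=
    (isSheaf_iff_isSheaf_of_type _ _).1
      ((Presheaf.isSheaf_iff_isSheaf_forget (Scheme.ProEt.topology X)
        (sheafify (Scheme.ProEt.topology X) (lanE X F.obj)) (forget AddCommGrpCat.{u + 1})).1
        ((presheafToSheaf (Scheme.ProEt.topology X) AddCommGrpCat.{u + 1}).obj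
          (lanE X F.obj)).property)
  refine ((Presieve.isSeparatedFor_iff_generate).2 (hG.isSeparated _ L.cover)).ext ?_
  rintro Y f ⟨⟩
  show ((sheafify (Scheme.ProEt.topology X) (lanE X F.obj)).map L.w.op).hom
      (((thetaE X F.obj).app (op ((ProEtS.eps X).obj U))).hom (lanUE X F.obj U s')) =
    ((sheafify (Scheme.ProEt.topology X) (lanE X F.obj)).map L.w.op).hom g
  rw [← nat_apply, ← hx]
  congr 1
  rw [hx1]
  calc ((lanE X F.obj).map L.w.op).hom (lanUE X F.obj U s')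
      = ((lanE X F.obj).map (ψ₂ ≫ (ProEtS.eps X).map (d ≫ b)).op).hom (lanUE X F.obj U s') := by
        rw [hw2]
    _ = ((lanE X F.obj).map ψ₂.op).hom (lanUE X F.obj V₂ ((F.obj.map (d ≫ b).op).hom s')) := by
        rw [map_comp_apply, hR.r0]
    _ = ((lanE X F.obj).map ψ₂.op).hom (lanUE X F.obj V₂ ((F.obj.map d.op).hom s₁)) := by
        rw [hs'']
    _ = ((lanE X F.obj).map ψ₂.op).hom
          (((lanE X F.obj).map ((ProEtS.eps X).map d).op).hom (lanUE X F.obj V₁ s₁)) := by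
        rw [hR.r0]
    _ = ((lanE X F.obj).map (ψ₂ ≫ (ProEtS.eps X).map d).op).hom (lanUE X F.obj V₁ s₁) :=
        (map_comp_apply _ _ _ _).symm
    _ = ((lanE X F.obj).map ψ.op).hom (lanUE X F.obj V₁ s₁) := by rw [hψ₂]

end Groth.Agent.H67.Eps_SURJ
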