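import Groth.Agent.H67.TotAcyc3
import Mathlib.CategoryTheory.Sites.Pullback

/-!
# Helper library (helper67): direct image of a totally acyclic sheaf along a morphism of sites
-/

set_option autoImplicit false
universe w v' u' u

open CategoryTheory CategoryTheory.Limits Opposite Abelian

namespace Groth.Agent.H67.TotAcyc

open Groth.Agent.H67.SieveCoh

section abstract

lemma lift_of_natLift_adj {𝒜 : Type*} {ℬ : Type*} [Category 𝒜] [Category ℬ] {L : 𝒜 ⥤ ℬ}
    {R : ℬ ⥤ 𝒜} (adj : L ⊣ R) {I Q : ℬ} (g : I ⟶ Q) {P : 𝒜}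
    (h : ∀ τ : P ⟶ R.obj Q, ∃ τ' : P ⟶ R.obj I, τ' ≫ R.map g = τ) (φ : L.obj P ⟶ Q) :
    ∃ ψ : L.obj P ⟶ I, ψ ≫ g = φ := by
  obtain ⟨τ', hτ'⟩ := h (adj.homEquiv _ _ φ)
  refine ⟨(adj.homEquiv _ _).symm τ', ?_⟩
  apply (adj.homEquiv _ _).injective
  rw [Adjunction.homEquiv_naturality_right, Equiv.apply_symm_apply, hτ']

end abstract

variable {C D : Type u} [SmallCategory C] [SmallCategory D] (J : GrothendieckTopology C)
  (K : GrothendieckTopology D) (u : D ⥤ C) [u.IsContinuous K J]

/-- the composite adjunction: pull back a sheaf of sets, then take the free abelian sheaf -/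
noncomputable def pullFreeAdj :
    u.sheafPullback (Type u) K J ⋙ freeOnSheaf J ⊣
      sheafCompose J (forget AddCommGrpCat.{u}) ⋙ u.sheafPushforwardContinuous (Type u) K J :=
  (u.sheafAdjunctionContinuous (Type u) K J).comp (freeOnSheafAdj J)

lemma lift_push_of_isTotallyAcyclic {S : ShortComplex (Sheaf J AddCommGrpCat.{u})}
    (hS : S.ShortExact) (h : CohCx.IsTotallyAcyclic S.X₁) (K' : Sheaf K (Type u))
    (φ : (freeOnSheaf K).obj K' ⟶ (CohSite.push J K u).obj S.X₃) :
    ∃ ψ : (freeOnSheaf K).obj K' ⟶ (CohSite.push J K u).obj S.X₂,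
      ψ ≫ (CohSite.push J K u).map S.g = φ := by
  refine lift_of_natLift_adj (freeOnSheafAdj K) ((CohSite.push J K u).map S.g) (fun τ => ?_) φ
  exact natLift_of_lift_adj (pullFreeAdj J K u) S.g (P := K') (fun φ' => by
    haveI : Subsingleton (Ext ((u.sheafPullback (Type u) K J ⋙ freeOnSheaf J).obj K') S.X₁ 1) :=
      h ((u.sheafPullback (Type u) K J).obj K') 0
    exact ext_lift _ hS φ') τ

lemma injective_push [HasFiniteLimits D] [PreservesFiniteLimits u]
    (I : Sheaf J AddCommGrpCat.{u}) [Injective I] :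
    Injective ((CohSite.push J K u).obj I) := by
  haveI : RepresentablyFlat u := flat_of_preservesFiniteLimits u
  haveI : ReflectsLimits (forget AddCommGrpCat.{u}) := reflectsLimits_of_reflectsIsomorphisms
  haveI : PreservesFiniteLimits
      (u.op.lan : (Dᵒᵖ ⥤ AddCommGrpCat.{u}) ⥤ (Cᵒᵖ ⥤ AddCommGrpCat.{u})) :=
    lan_preservesFiniteLimits_of_flat AddCommGrpCat.{u} u
  haveI : PreservesFiniteLimits (u.sheafPullback AddCommGrpCat.{u} K J) :=
    Functor.sheafPullbackConstruction.preservesFiniteLimits u AddCommGrpCat.{u} K J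
  exact Injective.injective_of_adjoint (u.sheafAdjunctionContinuous AddCommGrpCat.{u} K J) I

/-- the direct image of a totally acyclic sheaf along a morphism of sites is totally acyclic -/
theorem push_isTotallyAcyclic [HasFiniteLimits D] [PreservesFiniteLimits u] :
    ∀ (p : ℕ) (F : Sheaf J AddCommGrpCat.{u}), CohCx.IsTotallyAcyclic F →
      ∀ K' : Sheaf K (Type u),
        Subsingleton (CohCx.HK K' ((CohSite.push J K u).obj F) (p + 1))
  | 0, F, hF, K' => by
      have hS := injSC_shortExact J F
      have hS' := map_push_shortExact K u hS (surjective_of_isTotallyAcyclic hS hF)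
      haveI : Injective ((injSC J F).map (CohSite.push J K u)).X₂ :=
        injective_push J K u (injSC J F).X₂
      exact ext_one_of_lift _ hS' (fun φ => lift_push_of_isTotallyAcyclic J K u hS hF K' φ)
  | p + 1, F, hF, K' => by
      have hS := injSC_shortExact J F
      have hS' := map_push_shortExact K u hS (surjective_of_isTotallyAcyclic hS hF)
      haveI : Injective ((injSC J F).map (CohSite.push J K u)).X₂ :=
        injective_push J K u (injSC J F).X₂
      have hQ : CohCx.IsTotallyAcyclic (injSC J F).X₃ := fun K'' q =>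
        ext_shift_down' _ hS q (hF K'' (q + 1)) (Ext.subsingleton_of_injective _ _ _)
      exact ext_shift_up _ hS' p (push_isTotallyAcyclic p (injSC J F).X₃ hQ K')

end Groth.Agent.H67.TotAcyc
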