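import Groth.Agent.H67.CechF
import Groth.Agent.H67.CechE

/-!
# Helper library (helper67): Čech cohomology on topological spaces versus Čech cohomology on the
site of opens
-/

set_option autoImplicit false
universe u

open CategoryTheory CategoryTheory.Limits Opposite TopologicalSpace

namespace Groth.Agent.H67.CechTop

variable {X : TopCat.{u}}

/-- A family of opens contained in `U` as a family over `U`. -/
abbrev famOver (U : Opens X) {ι : Type u} (V : ι → Opens X) (hV : ∀ i, V i ≤ U) : ι → Over U :=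
  fun i => Over.mk (homOfLE (hV i))

lemma isIso_cmp {U : Opens X} {ι : Type u} (Y : ι → Over U) {n : ℕ} (a : Fin (n + 1) → ι) :
    IsIso (Cech.cmp (Over.forget U) Y a) := by
  let W : Over U := Over.mk (Limits.Pi.π (Cech.imgFam (Over.forget U) Y ∘ a) 0 ≫ (Y (a 0)).hom)
  let l : W ⟶ ∏ᶜ (Y ∘ a) := Limits.Pi.lift (fun k =>
    (Over.homMk (Limits.Pi.π (Cech.imgFam (Over.forget U) Y ∘ a) k) (Subsingleton.elim _ _) :
      W ⟶ Y (a k)))
  exact ⟨⟨l.left, Subsingleton.elim _ _, Subsingleton.elim _ _⟩⟩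

/-- Čech cohomology on the space agrees with Čech cohomology on the site of opens. -/
noncomputable def cechHIso (P : (Opens X)ᵒᵖ ⥤ AddCommGrpCat.{u}) {U : Opens X} {ι : Type u}
    (Y : ι → Over U) (p : ℕ) :
    CohTop.cechH P (fun i => (Y i).left) p ≅ CohCx.cechH P Y p :=
  Cech.homologyIso (Over.forget U) Y P (fun _ a => isIso_cmp Y a) p

lemma covering_of_iSup_eq {U : Opens X} {ι : Type u} (Y : ι → Over U)
    (h : iSup (fun i => (Y i).left) = U) :
    Sieve.ofArrows (fun i => (Y i).left) (fun i => (Y i).hom) ∈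
      Opens.grothendieckTopology X U := by
  intro x hx
  rw [← h] at hx
  obtain ⟨k, hk⟩ := Opens.mem_iSup.1 hx
  exact ⟨(Y k).left, (Y k).hom, Sieve.ofArrows_mk _ _ k, hk⟩

/-- the family of all arrows of a sieve -/
abbrev sieveIdx {U : Opens X} (T : Sieve U) : Type u := Σ W : Opens X, {f : W ⟶ U // T f}

lemma iSup_sieve {U : Opens X} (T : Sieve U) (hT : T ∈ Opens.grothendieckTopology X U) :
    iSup (fun w : sieveIdx T => w.1) = U := by
  apply le_antisymm
  · exact iSup_le (fun w => w.2.1.le)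
  · refine SetLike.le_def.2 (fun x hx => ?_)
    obtain ⟨W, f, hf, hxW⟩ := hT x hx
    exact Opens.mem_iSup.2 ⟨⟨W, f, hf⟩, hxW⟩

theorem surjective_of_cechH1_top (S : ShortComplex (CohTop.Ab X)) (hS : S.ShortExact)
    (U : Opens X)
    (h : ∀ (ι : Type u) (V : ι → Opens X), iSup V = U →
      ∃ (κ : Type u) (W : κ → Opens X) (r : κ → ι), iSup W = U ∧ (∀ k, W k ≤ V (r k)) ∧
        IsZero (CohTop.cechH S.X₁.obj W 1)) :
    Function.Surjective (S.g.hom.app (op U)) := by
  refine Cech.surjective_of_cechH1 S hS U (fun T hT => ?_)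
  obtain ⟨κ, W, r, hW, hle, hH⟩ := h (sieveIdx T) (fun w => w.1) (iSup_sieve T hT)
  have hWU : ∀ k, W k ≤ U := fun k => hW ▸ le_iSup W k
  refine ⟨κ, famOver U W hWU, fun k => ?_, covering_of_iSup_eq _ hW, ?_⟩
  · have h1 := T.downward_closed (r k).2.2 (homOfLE (hle k))
    have e : homOfLE (hle k) ≫ (r k).2.1 = (famOver U W hWU k).hom := Subsingleton.elim _ _
    rw [← e]
    exact h1
  · exact IsZero.of_iso hH (cechHIso S.X₁.obj (famOver U W hWU) 1).symm

theorem cartan_top (F : CohTop.Ab X)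
    (h : ∀ (ι : Type u) (U : ι → Opens X) (p : ℕ), IsZero (CohTop.cechH F.obj U (p + 1)))
    (U : Opens X) (p : ℕ) : Subsingleton (CohTop.HU F (p + 1) U) := by
  refine Cech.cartan (Opens.grothendieckTopology X) Set.univ
    (fun U ι Y => Sieve.ofArrows (fun i => (Y i).left) (fun i => (Y i).hom) ∈
      Opens.grothendieckTopology X U) ?_ ?_ p F ?_ U trivial
  · intro U ι Y hc
    exact ⟨trivial, hc, fun _ _ => trivial⟩
  · intro U _ T hT
    refine ⟨sieveIdx T, fun w => Over.mk w.2.1, ?_, fun w => w.2.2⟩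
    refine (Opens.grothendieckTopology X).superset_covering ?_ hT
    intro W f hf
    exact Sieve.ofArrows_mk (fun w : sieveIdx T => w.1) (fun w => w.2.1) ⟨W, f, hf⟩
  · intro U ι Y _ p
    exact IsZero.of_iso (h ι (fun i => (Y i).left) p) (cechHIso F.obj Y (p + 1)).symm

lemma prod_left_eq_iInf {U : Opens X} {ι : Type u} (Y : ι → Over U) {n : ℕ}
    (a : Fin (n + 1) → ι) :
    (∏ᶜ fun k => Y (a k)).left = iInf fun k => (Y (a k)).left := by
  apply le_antisymm
  · exact le_iInf (fun k => (Limits.Pi.π (fun k => Y (a k)) k).left.le)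
  · let W : Over U := Over.mk (homOfLE (iInf_le (fun k => (Y (a k)).left) 0) ≫ (Y (a 0)).hom)
    let l : W ⟶ ∏ᶜ fun k => Y (a k) := Limits.Pi.lift (fun k =>
      (Over.homMk (homOfLE (iInf_le (fun k => (Y (a k)).left) k)) (Subsingleton.elim _ _) :
        W ⟶ Y (a k)))
    exact l.left.le

theorem cartan_basis_top (F : CohTop.Ab X)
    (B : Set (Opens X)) (Cov : ∀ (ι : Type u), (ι → Opens X) → Prop)
    (h1 : ∀ (ι : Type u) (V : ι → Opens X), Cov ι V →
      iSup V ∈ B ∧ ∀ (p : ℕ) (a : Fin (p + 1) → ι), (iInf fun k => V (a k)) ∈ B)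
    (h2 : ∀ U ∈ B, ∀ (κ : Type u) (W : κ → Opens X), iSup W = U →
      ∃ (ι : Type u) (V : ι → Opens X), Cov ι V ∧ iSup V = U ∧ ∀ i, ∃ k, V i ≤ W k)
    (h3 : ∀ (ι : Type u) (V : ι → Opens X), Cov ι V →
      ∀ p : ℕ, IsZero (CohTop.cechH F.obj V (p + 1)))
    (U : Opens X) (hU : U ∈ B) (p : ℕ) : Subsingleton (CohTop.HU F (p + 1) U) := by
  refine Cech.cartan (Opens.grothendieckTopology X) B
    (fun U ι Y => Cov ι (fun i => (Y i).left) ∧ iSup (fun i => (Y i).left) = U)
    ?_ ?_ p F ?_ U hU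
  · rintro U ι Y ⟨hc, hYU⟩
    refine ⟨hYU ▸ (h1 ι _ hc).1, covering_of_iSup_eq Y hYU, fun p a => ?_⟩
    rw [prod_left_eq_iInf]
    exact (h1 ι _ hc).2 p a
  · intro U hU T hT
    obtain ⟨ι, V, hc, hVU, hle⟩ := h2 U hU (sieveIdx T) (fun w => w.1) (iSup_sieve T hT)
    have hV : ∀ i, V i ≤ U := fun i => hVU ▸ le_iSup V i
    refine ⟨ι, famOver U V hV, ⟨hc, hVU⟩, fun i => ?_⟩
    obtain ⟨k, hk⟩ := hle i
    have h1' := T.downward_closed k.2.2 (homOfLE hk)
    have e : homOfLE hk ≫ k.2.1 = (famOver U V hV i).hom := Subsingleton.elim _ _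
    rw [← e]
    exact h1'
  · rintro U ι Y ⟨hc, _⟩ p
    exact IsZero.of_iso (h3 ι _ hc p) (cechHIso F.obj Y (p + 1)).symm

end Groth.Agent.H67.CechTop
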