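import Mathlib
import Groth.Agent.H67.SieveCoh

/-!
# Helper library (helper67): `Hom(-, F)` is exact on a left resolution by `Ext(-, F)`-acyclic objects
-/

set_option autoImplicit false
universe w v' u'

open CategoryTheory CategoryTheory.Limits Abelian

namespace Groth.Agent.H67.ResHom

/-- a left resolution `… → X 1 → X 0 → M → 0`, presented unbundled -/
structure Res (A : Type u') [Category.{v'} A] [Abelian A] where
  X : ℕ → A
  d : ∀ n, X (n + 1) ⟶ X n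
  M : A
  τ : X 0 ⟶ M
  dd : ∀ n, d (n + 1) ≫ d n = 0
  dτ : d 0 ≫ τ = 0
  exact_succ : ∀ n, (ShortComplex.mk (d (n + 1)) (d n) (dd n)).Exact
  exact_zero : (ShortComplex.mk (d 0) τ dτ).Exact
  epi_τ : Epi τ

variable {A : Type u'} [Category.{v'} A] [Abelian A]

namespace Res

variable (R : Res A)

noncomputable def τ' : R.X 1 ⟶ kernel R.τ := kernel.lift R.τ (R.d 0) R.dτ

lemma τ'_ι : R.τ' ≫ kernel.ι R.τ = R.d 0 := kernel.lift_ι _ _ _

lemma d_τ' : R.d 1 ≫ R.τ' = 0 := by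
  rw [← cancel_mono (kernel.ι R.τ), Category.assoc, τ'_ι, zero_comp]
  exact R.dd 0

lemma epi_τ' : Epi R.τ' := R.exact_zero.epi_kernelLift

lemma exact_τ' : (ShortComplex.mk (R.d 1) R.τ' R.d_τ').Exact := by
  let φ : ShortComplex.mk (R.d 1) R.τ' R.d_τ' ⟶ ShortComplex.mk (R.d 1) (R.d 0) (R.dd 0) :=
    { τ₁ := 𝟙 _
      τ₂ := 𝟙 _
      τ₃ := kernel.ι R.τ
      comm₁₂ := by simp
      comm₂₃ := by
        show 𝟙 _ ≫ R.d 0 = R.τ' ≫ kernel.ι R.τ
        rw [τ'_ι, Category.id_comp] }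
  have : Epi φ.τ₁ := (inferInstance : Epi (𝟙 _))
  have : IsIso φ.τ₂ := (inferInstance : IsIso (𝟙 _))
  have : Mono φ.τ₃ := (inferInstance : Mono (kernel.ι R.τ))
  exact (ShortComplex.exact_iff_of_epi_of_isIso_of_mono φ).2 (R.exact_succ 0)

/-- shifting a resolution by one step: a resolution of `ker τ` -/
noncomputable def shift : Res A where
  X n := R.X (n + 1)
  d n := R.d (n + 1)
  M := kernel R.τ
  τ := R.τ'
  dd n := R.dd (n + 1)
  dτ := R.d_τ'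
  exact_succ n := R.exact_succ (n + 1)
  exact_zero := R.exact_τ'
  epi_τ := R.epi_τ'

noncomputable def kerSC : ShortComplex A :=
  ShortComplex.mk (kernel.ι R.τ) R.τ (kernel.condition R.τ)

lemma kerSC_shortExact : R.kerSC.ShortExact :=
  have := R.epi_τ
  ShortComplex.ShortExact.mk' (R.kerSC.exact_of_f_is_kernel (kernelIsKernel R.τ))
    (inferInstanceAs (Mono (kernel.ι R.τ))) (inferInstanceAs (Epi R.τ))

end Res

variable [HasExt.{w} A]

lemma ext_extend (F : A) {S : ShortComplex A} (hS : S.ShortExact)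
    [Subsingleton (Ext S.X₃ F 1)] (φ : S.X₁ ⟶ F) : ∃ ψ : S.X₂ ⟶ F, S.f ≫ ψ = φ := by
  obtain ⟨x₂, hx₂⟩ := Ext.contravariant_sequence_exact₁ hS F (Ext.mk₀ φ) (rfl : 1 + 0 = 1)
    (Subsingleton.elim _ _)
  obtain ⟨ψ, rfl⟩ := (Ext.mk₀_bijective _ _).2 x₂
  rw [Ext.mk₀_comp_mk₀] at hx₂
  exact ⟨ψ, (Ext.mk₀_bijective _ _).1 hx₂⟩

lemma ext_vanish_X₁ (F : A) {S : ShortComplex A} (hS : S.ShortExact) (n : ℕ)
    (h2 : Subsingleton (Ext S.X₂ F (n + 1))) (h3 : Subsingleton (Ext S.X₃ F (n + 2))) :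
    Subsingleton (Ext S.X₁ F (n + 1)) := by
  have key : ∀ x : Ext S.X₁ F (n + 1), x = 0 := fun x => by
    obtain ⟨x₂, hx₂⟩ := Ext.contravariant_sequence_exact₁ hS F x
      (by omega : 1 + (n + 1) = n + 2) (Subsingleton.elim _ _)
    rw [← hx₂, Subsingleton.elim x₂ 0, Ext.comp_zero]
  exact ⟨fun x y => by rw [key x, key y]⟩

theorem Res.hom_exact (F : A) : ∀ (n : ℕ) (R : Res A)
    (_ : ∀ p : ℕ, Subsingleton (Ext R.M F (p + 1)))
    (_ : ∀ m p : ℕ, Subsingleton (Ext (R.X m) F (p + 1)))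
    (φ : R.X (n + 1) ⟶ F) (_ : R.d (n + 1) ≫ φ = 0), ∃ ψ : R.X n ⟶ F, R.d n ≫ ψ = φ := by
  intro n
  induction n with
  | zero =>
    intro R hM hX φ hφ
    have : Epi (ShortComplex.mk (R.d 1) R.τ' R.d_τ').g := R.epi_τ'
    let φ' : kernel R.τ ⟶ F := R.exact_τ'.desc φ hφ
    have hφ' : R.τ' ≫ φ' = φ := R.exact_τ'.g_desc φ hφ
    have : Subsingleton (Ext R.kerSC.X₃ F 1) := hM 0
    obtain ⟨ψ, hψ⟩ := ext_extend F R.kerSC_shortExact φ'
    refine ⟨ψ, ?_⟩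
    have h1 : kernel.ι R.τ ≫ ψ = φ' := hψ
    rw [← R.τ'_ι, Category.assoc, h1, hφ']
  | succ n ih =>
    intro R hM hX φ hφ
    exact ih R.shift
      (fun p => ext_vanish_X₁ F R.kerSC_shortExact p (hX 0 p) (hM (p + 1)))
      (fun m p => hX (m + 1) p) φ hφ

end Groth.Agent.H67.ResHom
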