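import Groth.Prelude.Def_CohCx
import Mathlib.Algebra.Homology.CommSq
import Mathlib.CategoryTheory.Sites.Adjunction

/-!
# Helper library (helper67): totally acyclic sheaves, restriction along monomorphisms
-/

set_option autoImplicit false
universe w v' u' u

open CategoryTheory CategoryTheory.Limits Opposite Abelian

namespace Groth.Agent.H67.TotAcyc

section abstract

variable {A : Type u'} [Category.{v'} A] [Abelian A] [HasExt.{w} A]

lemma extend_of_pushout {Z₁ Z₂ Z₄ F : A} (f : Z₁ ⟶ Z₂) [Mono f] (inl inr : Z₂ ⟶ Z₄)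
    (h : IsPushout f f inl inr) [Subsingleton (Ext Z₄ F 1)] (φ : Z₁ ⟶ F) :
    ∃ a : Z₂ ⟶ F, f ≫ a = φ := by
  have hmono' : Mono (biprod.lift f (-f)) := by
    have : biprod.lift f (-f) ≫ biprod.fst = f := biprod.lift_fst _ _
    exact mono_of_mono_fac this
  have hmono : Mono h.shortComplex.f := hmono'
  have hepi : Epi h.shortComplex.g := h.epi_shortComplex_g
  have hex : h.shortComplex.Exact :=
    ShortComplex.exact_of_g_is_cokernel _ h.isColimitCokernelCofork
  have hS : h.shortComplex.ShortExact := ShortComplex.ShortExact.mk' hex hmono hepi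
  haveI : Subsingleton (Ext h.shortComplex.X₃ F 1) := ‹_›
  obtain ⟨x₂, hx₂⟩ := Ext.contravariant_sequence_exact₁ hS F (Ext.mk₀ φ) (rfl : 1 + 0 = 1)
    (Subsingleton.elim _ _)
  obtain ⟨ψ, rfl⟩ := (Ext.mk₀_bijective _ _).2 x₂
  rw [Ext.mk₀_comp_mk₀] at hx₂
  have hψ : biprod.lift f (-f) ≫ ψ = φ := (Ext.mk₀_bijective _ _).1 hx₂
  refine ⟨biprod.inl ≫ ψ - biprod.inr ≫ ψ, ?_⟩
  rw [← hψ, biprod.lift_eq, Preadditive.add_comp, Preadditive.comp_sub, Category.assoc,
    Category.assoc, Preadditive.neg_comp, sub_eq_add_neg]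

end abstract

section concrete

variable {C : Type u} [SmallCategory C] (J : GrothendieckTopology C)

/-- The free abelian sheaf on a sheaf of sets. -/
noncomputable abbrev freeOnSheaf : Sheaf J (Type u) ⥤ Sheaf J AddCommGrpCat.{u} :=
  sheafToPresheaf J (Type u) ⋙ (Functor.whiskeringRight _ _ _).obj AddCommGrpCat.free.{u} ⋙
    presheafToSheaf J AddCommGrpCat.{u}

/-- The free/forget adjunction on sheaves. -/
noncomputable def freeOnSheafAdj :
    freeOnSheaf J ⊣ sheafCompose J (forget AddCommGrpCat.{u}) :=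
  Sheaf.adjunction J AddCommGrpCat.adj.{u}

instance : PreservesColimitsOfSize.{0, 0} (freeOnSheaf J) :=
  (freeOnSheafAdj J).leftAdjoint_preservesColimits

lemma mono_freeOnSheaf_map {Y X : Sheaf J (Type u)} (ι : Y ⟶ X) [Mono ι] :
    Mono ((freeOnSheaf J).map ι) := by
  have h1 : Mono ι.hom := inferInstance
  have h2 : Mono (Functor.whiskerRight ι.hom AddCommGrpCat.free.{u}) := by
    haveI : ∀ U, Mono ((Functor.whiskerRight ι.hom AddCommGrpCat.free.{u}).app U) := fun U => by
      haveI : Mono (ι.hom.app U) := (NatTrans.mono_iff_mono_app ι.hom).1 h1 U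
      exact AddCommGrpCat.free.{u}.map_mono (ι.hom.app U)
    exact NatTrans.mono_of_mono_app _
  exact (presheafToSheaf J AddCommGrpCat.{u}).map_mono
    (Functor.whiskerRight ι.hom AddCommGrpCat.free.{u})

lemma extend_of_mono (F : Sheaf J AddCommGrpCat.{u}) (hF : CohCx.IsTotallyAcyclic F)
    {Y X : Sheaf J (Type u)} (ι : Y ⟶ X) [Mono ι] (φ : (freeOnSheaf J).obj Y ⟶ F) :
    ∃ a : (freeOnSheaf J).obj X ⟶ F, (freeOnSheaf J).map ι ≫ a = φ := by
  have hpo : IsPushout ι ι (pushout.inl ι ι) (pushout.inr ι ι) := IsPushout.of_hasPushout ι ι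
  have hpo' := hpo.map (freeOnSheaf J)
  haveI := mono_freeOnSheaf_map J ι
  haveI : Subsingleton (Ext ((freeOnSheaf J).obj (pushout ι ι)) F 1) := hF (pushout ι ι) 0
  exact extend_of_pushout _ _ _ hpo' φ

end concrete

end Groth.Agent.H67.TotAcyc
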