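import Mathlib
import Groth.Prelude.Def_CohCx
import Groth.Agent.H67.ResHom
import Groth.Agent.H67.TotAcyc
import Groth.Agent.H30.CechRes3
import Groth.Agent.S5218

/-!
# Helper library (helper67): Čech complexes of epimorphisms of sheaves of sets versus total acyclicity
-/

set_option autoImplicit false
universe u

open CategoryTheory CategoryTheory.Limits Opposite Abelian AlgebraicTopology Simplicial

namespace Groth.Agent.H67.CechTopos

open Groth.Agent.H67.SieveCoh Groth.Agent.H67.ResHom Groth.Agent.H30.CechRes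

variable {C : Type u} [SmallCategory C] {J : GrothendieckTopology C}

/-- free abelian sheaf on a sheaf of sets -/
noncomputable abbrev Φ (J : GrothendieckTopology C) : Sheaf J (Type u) ⥤ Sheaf J AddCommGrpCat.{u} :=
  Sheaf.composeAndSheafify J AddCommGrpCat.free.{u}

/-- the free Čech chain complex of a morphism of sheaves of sets -/
noncomputable abbrev Pc {K' K : Sheaf J (Type u)} (f : K' ⟶ K) :
    ChainComplex (Sheaf J AddCommGrpCat.{u}) ℕ :=
  AlternatingFaceMapComplex.obj ((Arrow.mk f).cechNerve ⋙ Φ J)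

noncomputable abbrev τc {K' K : Sheaf J (Type u)} (f : K' ⟶ K) : (Pc f).X 0 ⟶ (Φ J).obj K :=
  (Φ J).map (WidePullback.base (fun _ : Fin (0 + 1) => (Arrow.mk f).hom))

lemma d_τc {K' K : Sheaf J (Type u)} (f : K' ⟶ K) : (Pc f).d 1 0 ≫ τc f = 0 := by
  have h : ∀ i : Fin 2, (Arrow.mk f).cechNerve.map (SimplexCategory.δ i).op ≫
      WidePullback.base (fun _ : Fin (0 + 1) => (Arrow.mk f).hom) =
      WidePullback.base (fun _ : Fin (1 + 1) => (Arrow.mk f).hom) := fun i =>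
    WidePullback.lift_base _ _ _ _
  rw [d10_eq]
  show ((Φ J).map _ - (Φ J).map _) ≫ (Φ J).map _ = 0
  rw [Preadditive.sub_comp, ← Functor.map_comp, ← Functor.map_comp, h 0, h 1, sub_self]

noncomputable def resOf {K' K : Sheaf J (Type u)} (f : K' ⟶ K) [Epi f] :
    Res (Sheaf J AddCommGrpCat.{u}) where
  X n := (Pc f).X n
  d n := (Pc f).d (n + 1) n
  M := (Φ J).obj K
  τ := τc f
  dd n := (Pc f).d_comp_d _ _ _
  dτ := d_τc f
  exact_succ n :=
    (HomologicalComplex.exactAt_iff' _ (n + 2) (n + 1) n (ChainComplex.prev ℕ (n + 1))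
      (ChainComplex.next_nat_succ n)).1 (exactAt_succ J (Arrow.mk f) n)
  exact_zero :=
    have : Epi (Arrow.mk f).hom := ‹Epi f›
    (deg0_exact_base (Arrow.mk f) (τc f) rfl (d_τc f)).1
  epi_τ :=
    have : Epi (Arrow.mk f).hom := ‹Epi f›
    (deg0_exact_base (Arrow.mk f) (τc f) rfl (d_τc f)).2

lemma hom_sum_apply {M N : AddCommGrpCat.{u}} {ι : Type*} (s : Finset ι) (g : ι → (M ⟶ N))
    (x : M) : (∑ i ∈ s, g i).hom x = ∑ i ∈ s, (g i).hom x := by
  classical
  induction s using Finset.induction_on with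
  | empty => simp
  | insert a s ha ih =>
    rw [Finset.sum_insert ha, Finset.sum_insert ha, AddCommGrpCat.hom_add, AddMonoidHom.add_apply,
      ih]

lemma coface_d_apply (Y : SimplexCategory ⥤ AddCommGrpCat.{u}) (n : ℕ) (x : Y.obj ⦋n⦌) :
    (((alternatingCofaceMapComplex AddCommGrpCat.{u}).obj Y).d n (n + 1)).hom x =
      ∑ i : Fin (n + 2), (-1 : ℤ) ^ (i : ℕ) • (Y.map (SimplexCategory.δ i)).hom x := by
  have h1 : ((alternatingCofaceMapComplex AddCommGrpCat.{u}).obj Y).d n (n + 1) =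
      ∑ i : Fin (n + 2), (-1 : ℤ) ^ (i : ℕ) • Y.map (SimplexCategory.δ i) := by
    have h2 : (AlternatingCofaceMapComplex.obj Y).d n (n + 1) =
        AlternatingCofaceMapComplex.objD Y n := by
      simp [AlternatingCofaceMapComplex.obj]
    exact h2
  exact ((congrArg (fun ψ => ψ.hom x) h1).trans (hom_sum_apply _ _ x)).trans
    (Finset.sum_congr rfl (fun i _ => rfl))

lemma d_apply (F : Sheaf J AddCommGrpCat.{u}) {K' K : Sheaf J (Type u)} (f : K' ⟶ K) (n : ℕ)
    (φ : (Pc f).X n ⟶ F) :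
    ((CohCx.cechNerveCx F f).d n (n + 1)).hom φ = (Pc f).d (n + 1) n ≫ φ := by
  refine (coface_d_apply ((Arrow.mk f).cechNerve.rightOp ⋙ CohCx.HK0Functor J F) n φ).trans ?_
  rw [AlternatingFaceMapComplex.obj_d_eq, Preadditive.sum_comp]
  refine Finset.sum_congr rfl (fun i _ => ?_)
  rw [Preadditive.zsmul_comp]
  rfl

lemma isZero_homology_iff (F : Sheaf J AddCommGrpCat.{u}) {K' K : Sheaf J (Type u)} (f : K' ⟶ K)
    (q : ℕ) :
    IsZero ((CohCx.cechNerveCx F f).homology (q + 1)) ↔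
      ∀ φ : (Pc f).X (q + 1) ⟶ F, (Pc f).d (q + 2) (q + 1) ≫ φ = 0 →
        ∃ ψ : (Pc f).X q ⟶ F, (Pc f).d (q + 1) q ≫ ψ = φ := by
  rw [← HomologicalComplex.exactAt_iff_isZero_homology,
    HomologicalComplex.exactAt_iff' _ q (q + 1) (q + 2) (CochainComplex.prev_nat_succ q)
      (CochainComplex.next ℕ (q + 1)), ShortComplex.ab_exact_iff]
  constructor
  · intro h φ hφ
    obtain ⟨ψ, hψ⟩ := h φ ((d_apply F f (q + 1) φ).trans hφ)
    exact ⟨ψ, (d_apply F f q ψ).symm.trans hψ⟩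
  · intro h x hx
    obtain ⟨ψ, hψ⟩ := h x ((d_apply F f (q + 1) x).symm.trans hx)
    exact ⟨ψ, (d_apply F f q ψ).trans hψ⟩

/-- `Hom`-exactness of the free Čech complexes of all epimorphisms, in positive degrees -/
def HE (F : Sheaf J AddCommGrpCat.{u}) : Prop :=
  ∀ (K' K : Sheaf J (Type u)) (f : K' ⟶ K), Epi f → ∀ (n : ℕ) (φ : (Pc f).X (n + 1) ⟶ F),
    (Pc f).d (n + 2) (n + 1) ≫ φ = 0 → ∃ ψ : (Pc f).X n ⟶ F, (Pc f).d (n + 1) n ≫ ψ = φ

theorem he_of_totallyAcyclic (F : Sheaf J AddCommGrpCat.{u}) (hF : CohCx.IsTotallyAcyclic F) :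
    HE F := by
  intro K' K f hf n φ hφ
  exact Res.hom_exact F n (resOf f) (fun p => hF K p)
    (fun m p => hF ((Arrow.mk f).cechNerve.obj (op ⦋m⦌)) p) φ hφ

lemma isTotallyAcyclic_of_injective (I : Sheaf J AddCommGrpCat.{u}) [Injective I] :
    CohCx.IsTotallyAcyclic I := fun K p =>
  ⟨fun x y => by
    have hx : x = 0 := Ext.eq_zero_of_injective x
    have hy : y = 0 := Ext.eq_zero_of_injective y
    rw [hx, hy]⟩

theorem lift_of_he {S : ShortComplex (Sheaf J AddCommGrpCat.{u})} (hS : S.ShortExact)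
    (hF : HE S.X₁) (K : Sheaf J (Type u)) (s : (Φ J).obj K ⟶ S.X₃) :
    ∃ r : (Φ J).obj K ⟶ S.X₂, r ≫ S.g = s := by
  let adj := TotAcyc.freeOnSheafAdj J
  let U := sheafCompose J (forget AddCommGrpCat.{u})
  let sb : K ⟶ U.obj S.X₃ := adj.homEquiv K S.X₃ s
  have hg : Epi S.g := hS.epi_g
  have hls : Sheaf.IsLocallySurjective S.g :=
    (Sheaf.isLocallySurjective_iff_epi' AddCommGrpCat.{u} S.g).2 hg
  have hUg : Epi (U.map S.g) := inferInstance
  let f : pullback sb (U.map S.g) ⟶ K := pullback.fst sb (U.map S.g)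
  have hf : Epi f := by
    have h : EffectiveEpi (pullback.fst sb (U.map S.g)) :=
      Groth.Agent.S5218.result J (U.map S.g) (pullback.snd sb (U.map S.g)) sb
        (pullback.fst sb (U.map S.g)) (IsPullback.of_hasPullback sb (U.map S.g))
    infer_instance
  let t : (Φ J).obj (pullback sb (U.map S.g)) ⟶ S.X₂ :=
    (adj.homEquiv _ S.X₂).symm (pullback.snd sb (U.map S.g))
  have ht : t ≫ S.g = (Φ J).map f ≫ s := by
    apply (adj.homEquiv _ S.X₃).injective
    rw [adj.homEquiv_naturality_right, adj.homEquiv_naturality_left, Equiv.apply_symm_apply]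
    exact pullback.condition.symm
  -- Čech data
  have hepi : Epi (Arrow.mk f).hom := hf
  obtain ⟨hex0, hτepi⟩ := deg0_exact_base (Arrow.mk f) (τc f) rfl (d_τc f)
  let t₀ : (Pc f).X 0 ⟶ S.X₂ := (Φ J).map (p0 (Arrow.mk f)) ≫ t
  have ht₀ : t₀ ≫ S.g = τc f ≫ s := by
    have hb : τc f = (Φ J).map (p0 (Arrow.mk f)) ≫ (Φ J).map f := by
      rw [← Functor.map_comp]
      exact congrArg (Φ J).map (base_eq (Arrow.mk f))
    rw [hb, Category.assoc, Category.assoc, ht]
  have h1 : ((Pc f).d 1 0 ≫ t₀) ≫ S.g = 0 := by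
    rw [Category.assoc, ht₀, ← Category.assoc, d_τc, zero_comp]
  have hmono : Mono S.f := hS.mono_f
  let c : (Pc f).X 1 ⟶ S.X₁ := hS.exact.lift _ h1
  have hc : c ≫ S.f = (Pc f).d 1 0 ≫ t₀ := hS.exact.lift_f _ h1
  have hc2 : (Pc f).d 2 1 ≫ c = 0 := by
    rw [← cancel_mono S.f, Category.assoc, hc, ← Category.assoc, (Pc f).d_comp_d, zero_comp,
      zero_comp]
  obtain ⟨e, he0⟩ := hF _ _ f hf 0 c hc2
  have he : (Pc f).d 1 0 ≫ e = c := he0
  have ht₁ : (Pc f).d 1 0 ≫ (t₀ - e ≫ S.f) = 0 := by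
    rw [Preadditive.comp_sub, ← Category.assoc ((Pc f).d 1 0) e, he, hc, sub_self]
  have hτepi' : Epi (ShortComplex.mk ((Pc f).d 1 0) (τc f) (d_τc f)).g := hτepi
  let r : (Φ J).obj K ⟶ S.X₂ := hex0.desc _ ht₁
  have hr : τc f ≫ r = t₀ - e ≫ S.f := hex0.g_desc _ ht₁
  refine ⟨r, ?_⟩
  have hτepi'' : Epi (τc f) := hτepi
  rw [← cancel_epi (τc f), ← Category.assoc, hr, Preadditive.sub_comp, ht₀, Category.assoc,
    S.zero, comp_zero, sub_zero]

theorem ext_one_vanish (F : Sheaf J AddCommGrpCat.{u}) (hF : HE F) (K : Sheaf J (Type u)) :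
    Subsingleton (Ext ((Φ J).obj K) F 1) :=
  ext_one_of_lift ((Φ J).obj K) (injSC_shortExact J F)
    (fun s => lift_of_he (injSC_shortExact J F) hF K s)

theorem he_quot {S : ShortComplex (Sheaf J AddCommGrpCat.{u})} (hS : S.ShortExact)
    [Injective S.X₂] (hF : HE S.X₁) : HE S.X₃ := by
  intro K' K f hf n c hc
  have hmono : Mono S.f := hS.mono_f
  have h1 : Subsingleton (Ext ((Pc f).X (n + 1)) S.X₁ 1) :=
    ext_one_vanish S.X₁ hF ((Arrow.mk f).cechNerve.obj (op ⦋n + 1⦌))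
  obtain ⟨c', hc'⟩ := ext_lift ((Pc f).X (n + 1)) hS c
  have h2 : ((Pc f).d (n + 2) (n + 1) ≫ c') ≫ S.g = 0 := by
    rw [Category.assoc, hc', hc]
  let e' : (Pc f).X (n + 2) ⟶ S.X₁ := hS.exact.lift _ h2
  have he' : e' ≫ S.f = (Pc f).d (n + 2) (n + 1) ≫ c' := hS.exact.lift_f _ h2
  have he2 : (Pc f).d (n + 3) (n + 2) ≫ e' = 0 := by
    rw [← cancel_mono S.f, Category.assoc, he', ← Category.assoc, (Pc f).d_comp_d, zero_comp,
      zero_comp]
  obtain ⟨e, he⟩ := hF _ _ f hf (n + 1) e' he2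
  have h3 : (Pc f).d (n + 2) (n + 1) ≫ (c' - e ≫ S.f) = 0 := by
    rw [Preadditive.comp_sub, ← Category.assoc, he, he', sub_self]
  obtain ⟨b, hb⟩ := he_of_totallyAcyclic S.X₂ (isTotallyAcyclic_of_injective S.X₂) _ _ f hf n
    (c' - e ≫ S.f) h3
  refine ⟨b ≫ S.g, ?_⟩
  rw [← Category.assoc, hb, Preadditive.sub_comp, hc', Category.assoc, S.zero, comp_zero, sub_zero]

theorem ext_vanish_of_he (p : ℕ) : ∀ (F : Sheaf J AddCommGrpCat.{u}), HE F →
    ∀ K : Sheaf J (Type u), Subsingleton (Ext ((Φ J).obj K) F (p + 1)) := by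
  induction p with
  | zero =>
    intro F h K
    exact ext_one_vanish F h K
  | succ p ih =>
    intro F h K
    have hS := injSC_shortExact J F
    have hQ : HE (injSC J F).X₃ := he_quot hS h
    exact ext_shift_up _ hS p (ih _ hQ K)

theorem isTotallyAcyclic_of_he (F : Sheaf J AddCommGrpCat.{u}) (h : HE F) :
    CohCx.IsTotallyAcyclic F := fun K p => ext_vanish_of_he p F h K

theorem he_of_isZero (F : Sheaf J AddCommGrpCat.{u})
    (h : ∀ (K' K : Sheaf J (Type u)) (f : K' ⟶ K), Epi f →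
      ∀ q : ℕ, IsZero ((CohCx.cechNerveCx F f).homology (q + 1))) : HE F :=
  fun K' K f hf n φ hφ => (isZero_homology_iff F f n).1 (h K' K f hf n) φ hφ

end Groth.Agent.H67.CechTopos
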