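import Groth.Agent.H67.ColimCech
import Groth.Agent.H67.CechTop

/-!
# Helper library (helper67): cohomology of compact opens of a prespectral quasi-separated space
commutes with filtered colimits
-/

set_option autoImplicit false
universe u

open CategoryTheory CategoryTheory.Limits Opposite TopologicalSpace

namespace Groth.Agent.H67.ColimTop

variable {X : TopCat.{u}}

/-- the class of compact opens -/
def Bc (X : TopCat.{u}) : Set (Opens X) := {V | IsCompact (V : Set X)}

/-- finite coverings of compact opens by compact opens -/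
def Covc (X : TopCat.{u}) : ∀ (U : Opens X) (ι : Type u), (ι → Over U) → Prop :=
  fun U ι Y => Finite ι ∧ (∀ i, IsCompact ((Y i).left : Set X)) ∧ IsCompact (U : Set X) ∧
    iSup (fun i => (Y i).left) = U

lemma isCompact_iInf [QuasiSeparatedSpace X] {κ : Type*} [Finite κ] [Nonempty κ]
    (V : κ → Opens X) (hV : ∀ k, IsCompact (V k : Set X)) :
    IsCompact ((iInf V : Opens X) : Set X) := by
  rw [Opens.coe_iInf, ← Set.sInter_range]
  refine QuasiSeparatedSpace.isCompact_sInter_of_nonempty (Set.finite_range _)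
    (Set.range_nonempty _) ?_ ?_
  · rintro t ⟨k, rfl⟩
    exact Or.inl (V k).isOpen
  · rintro t ⟨k, rfl⟩
    exact hV k

theorem data [PrespectralSpace X] [QuasiSeparatedSpace X] :
    ColimSec.Data (Opens.grothendieckTopology X) (Bc X) (Covc X) := by
  constructor
  · rintro U ι Y ⟨hfin, hY, hU, hsup⟩
    refine ⟨hfin, hU, CechTop.covering_of_iSup_eq Y hsup, fun p a => ?_⟩
    show IsCompact (((∏ᶜ fun k => Y (a k)).left : Opens X) : Set X)
    rw [CechTop.prod_left_eq_iInf]
    exact isCompact_iInf (fun k => (Y (a k)).left) (fun k => hY (a k))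
  · intro U hU T hT
    have hU' : IsCompact (U : Set X) := hU
    -- choose, for every point of `U`, a compact open neighbourhood belonging to `T`
    have hx : ∀ x : U, ∃ K : Opens X, IsCompact (K : Set X) ∧ (x : X) ∈ K ∧
        ∃ (hK : K ≤ U), T.arrows (homOfLE hK) := by
      intro x
      obtain ⟨W, f, hf, hxW⟩ := hT x.1 x.2
      obtain ⟨K, ⟨hKo, hKc⟩, hxK, hKW⟩ :=
        (PrespectralSpace.isTopologicalBasis (X := X)).exists_subset_of_mem_open hxW W.isOpen
      refine ⟨⟨K, hKo⟩, hKc, hxK, ?_⟩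
      have hKW' : (⟨K, hKo⟩ : Opens X) ≤ W := hKW
      refine ⟨hKW'.trans f.le, ?_⟩
      have h1 := T.downward_closed hf (homOfLE hKW')
      have e : homOfLE hKW' ≫ f = homOfLE (hKW'.trans f.le) := Subsingleton.elim _ _
      rw [e] at h1
      exact h1
    choose K hKc hxK hKU hKT using hx
    obtain ⟨t, ht⟩ := hU'.elim_finite_subcover (fun x : U => ((K x : Opens X) : Set X))
      (fun x => (K x).isOpen) (fun y hy => Set.mem_iUnion.2 ⟨⟨y, hy⟩, hxK ⟨y, hy⟩⟩)
    refine ⟨ULift.{u} t, fun i => Over.mk (homOfLE (hKU i.down.1)), ⟨?_, ?_, hU', ?_⟩, ?_⟩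
    · infer_instance
    · intro i
      exact hKc i.down.1
    · apply le_antisymm
      · exact iSup_le (fun i => hKU i.down.1)
      · refine SetLike.le_def.2 (fun y hy => ?_)
        obtain ⟨x, hx⟩ := Set.mem_iUnion.1 (ht hy)
        obtain ⟨hxt, hyK⟩ := Set.mem_iUnion.1 hx
        exact Opens.mem_iSup.2 ⟨⟨⟨x, hxt⟩⟩, hyK⟩
    · intro i
      exact hKT i.down.1

theorem preservesColimit [PrespectralSpace X] [QuasiSeparatedSpace X]
    (U : Opens X) (hU : IsCompact (U : Set X)) (q : ℕ)
    {Λ : Type u} [SmallCategory Λ] [IsFiltered Λ] (D : Λ ⥤ CohTop.Ab X) :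
    PreservesColimit D
      ((Sheaf.cohomologyPresheafFunctor (Opens.grothendieckTopology X) q).flip.obj (op U)) := by
  have hp := ColimSec.preservesColimit_ext D (data (X := X)) U hU q
  exact preservesColimit_of_natIso D
    (NatIso.ofComponents (fun G => Iso.refl _) (fun {X Y} f =>
      (Category.comp_id _).trans (Category.id_comp _).symm) :
      Abelian.extFunctorObj ((SieveCoh.freeSh (Opens.grothendieckTopology X)).obj
        (yoneda.obj U)) q ≅
        (Sheaf.cohomologyPresheafFunctor (Opens.grothendieckTopology X) q).flip.obj (op U))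

/-! ### compact quasi-separated opens of an arbitrary prespectral space -/

/-- the class of compact opens which are quasi-separated as subsets -/
def Bq (X : TopCat.{u}) : Set (Opens X) :=
  {V | IsCompact (V : Set X) ∧ IsQuasiSeparated (V : Set X)}

/-- finite coverings of compact quasi-separated opens by compact opens -/
def Covq (X : TopCat.{u}) : ∀ (U : Opens X) (ι : Type u), (ι → Over U) → Prop :=
  fun U ι Y => Finite ι ∧ (∀ i, IsCompact ((Y i).left : Set X)) ∧ IsCompact (U : Set X) ∧
    IsQuasiSeparated (U : Set X) ∧ iSup (fun i => (Y i).left) = U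

lemma isCompact_iInter_fin {s : Set X} (hs : IsQuasiSeparated s) :
    ∀ (n : ℕ) (V : Fin (n + 1) → Set X), (∀ k, IsOpen (V k)) → (∀ k, IsCompact (V k)) →
      (∀ k, V k ⊆ s) → IsCompact (⋂ k, V k)
  | 0, V, _, hc, _ => by
    have e : (⋂ k, V k) = V 0 := by
      ext x
      simp only [Set.mem_iInter]
      refine ⟨fun h => h 0, fun h k => ?_⟩
      have hk : k = 0 := Fin.ext (by have := k.2; omega)
      rw [hk]
      exact h
    rw [e]
    exact hc 0
  | n + 1, V, ho, hc, hsub => by
    have e : (⋂ k, V k) = V 0 ∩ ⋂ k : Fin (n + 1), V k.succ := by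
      ext x
      simp only [Set.mem_iInter, Set.mem_inter_iff]
      constructor
      · intro h
        exact ⟨h 0, fun k => h k.succ⟩
      · rintro ⟨h0, h1⟩ k
        exact Fin.cases (motive := fun k => x ∈ V k) h0 h1 k
    rw [e]
    refine hs _ _ (hsub 0) (ho 0) (hc 0) ?_ (isOpen_iInter_of_finite fun k => ho k.succ)
      (isCompact_iInter_fin hs n _ (fun k => ho k.succ) (fun k => hc k.succ)
        (fun k => hsub k.succ))
    exact (Set.iInter_subset _ 0).trans (hsub (Fin.succ 0))

theorem dataq [PrespectralSpace X] :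
    ColimSec.Data (Opens.grothendieckTopology X) (Bq X) (Covq X) := by
  constructor
  · rintro U ι Y ⟨hfin, hY, hU, hUq, hsup⟩
    refine ⟨hfin, ⟨hU, hUq⟩, CechTop.covering_of_iSup_eq Y hsup, fun p a => ?_⟩
    have hle : ∀ i, ((Y i).left : Set X) ⊆ (U : Set X) := fun i => (Y i).hom.le
    have e : (((∏ᶜ fun k => Y (a k)).left : Opens X) : Set X) =
        ⋂ k, ((Y (a k)).left : Set X) := by
      rw [CechTop.prod_left_eq_iInf, Opens.coe_iInf]
    refine ⟨?_, ?_⟩
    · show IsCompact (((∏ᶜ fun k => Y (a k)).left : Opens X) : Set X)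
      rw [e]
      exact isCompact_iInter_fin hUq p _ (fun k => (Y (a k)).left.isOpen) (fun k => hY (a k))
        (fun k => hle (a k))
    · show IsQuasiSeparated (((∏ᶜ fun k => Y (a k)).left : Opens X) : Set X)
      rw [e]
      exact hUq.of_subset ((Set.iInter_subset _ 0).trans (hle (a 0)))
  · intro U hU T hT
    have hU' : IsCompact (U : Set X) := hU.1
    have hx : ∀ x : U, ∃ K : Opens X, IsCompact (K : Set X) ∧ (x : X) ∈ K ∧
        ∃ (hK : K ≤ U), T.arrows (homOfLE hK) := by
      intro x
      obtain ⟨W, f, hf, hxW⟩ := hT x.1 x.2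
      obtain ⟨K, ⟨hKo, hKc⟩, hxK, hKW⟩ :=
        (PrespectralSpace.isTopologicalBasis (X := X)).exists_subset_of_mem_open hxW W.isOpen
      refine ⟨⟨K, hKo⟩, hKc, hxK, ?_⟩
      have hKW' : (⟨K, hKo⟩ : Opens X) ≤ W := hKW
      refine ⟨hKW'.trans f.le, ?_⟩
      have h1 := T.downward_closed hf (homOfLE hKW')
      have e : homOfLE hKW' ≫ f = homOfLE (hKW'.trans f.le) := Subsingleton.elim _ _
      rw [e] at h1
      exact h1
    choose K hKc hxK hKU hKT using hx
    obtain ⟨t, ht⟩ := hU'.elim_finite_subcover (fun x : U => ((K x : Opens X) : Set X))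
      (fun x => (K x).isOpen) (fun y hy => Set.mem_iUnion.2 ⟨⟨y, hy⟩, hxK ⟨y, hy⟩⟩)
    refine ⟨ULift.{u} t, fun i => Over.mk (homOfLE (hKU i.down.1)), ⟨?_, ?_, hU', hU.2, ?_⟩, ?_⟩
    · infer_instance
    · intro i
      exact hKc i.down.1
    · apply le_antisymm
      · exact iSup_le (fun i => hKU i.down.1)
      · refine SetLike.le_def.2 (fun y hy => ?_)
        obtain ⟨x, hx⟩ := Set.mem_iUnion.1 (ht hy)
        obtain ⟨hxt, hyK⟩ := Set.mem_iUnion.1 hx
        exact Opens.mem_iSup.2 ⟨⟨⟨x, hxt⟩⟩, hyK⟩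
    · intro i
      exact hKT i.down.1

theorem preservesColimitq [PrespectralSpace X]
    (U : Opens X) (hU : IsCompact (U : Set X)) (hUq : IsQuasiSeparated (U : Set X)) (q : ℕ)
    {Λ : Type u} [SmallCategory Λ] [IsFiltered Λ] (D : Λ ⥤ CohTop.Ab X) :
    PreservesColimit D
      ((Sheaf.cohomologyPresheafFunctor (Opens.grothendieckTopology X) q).flip.obj (op U)) := by
  have hp := ColimSec.preservesColimit_ext D (dataq (X := X)) U ⟨hU, hUq⟩ q
  exact preservesColimit_of_natIso D
    (NatIso.ofComponents (fun G => Iso.refl _) (fun {X Y} f =>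
      (Category.comp_id _).trans (Category.id_comp _).symm) :
      Abelian.extFunctorObj ((SieveCoh.freeSh (Opens.grothendieckTopology X)).obj
        (yoneda.obj U)) q ≅
        (Sheaf.cohomologyPresheafFunctor (Opens.grothendieckTopology X) q).flip.obj (op U))

end Groth.Agent.H67.ColimTop
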