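import Groth.Agent.H67.SieveCoh2

/-!
# Helper library (helper67): sections as maps out of free sheaves on representables
-/

set_option autoImplicit false
universe u

open CategoryTheory CategoryTheory.Limits Opposite Abelian

namespace Groth.Agent.H67.SieveCoh

variable {C : Type u} [SmallCategory C] (J : GrothendieckTopology C)

/-- Maps out of the free abelian sheaf on `h_X` are sections over `X`. -/
noncomputable def secEquiv (X : C) (G : Sheaf J AddCommGrpCat.{u}) :
    ((freeSh J).obj (yoneda.obj X) ⟶ G) ≃ ((forgetSh J).obj G).obj (op X) :=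
  ((freeAdj J).homEquiv (yoneda.obj X) G).trans (yonedaEquiv (F := (forgetSh J).obj G))

lemma secEquiv_comp (X : C) {G G' : Sheaf J AddCommGrpCat.{u}}
    (φ : (freeSh J).obj (yoneda.obj X) ⟶ G) (g : G ⟶ G') :
    secEquiv J X G' (φ ≫ g) = ((forgetSh J).map g).app (op X) (secEquiv J X G φ) := by
  rw [secEquiv, Equiv.trans_apply, Adjunction.homEquiv_naturality_right, yonedaEquiv_comp]
  rfl

lemma secEquiv_map {X Y : C} (f : Y ⟶ X) (G : Sheaf J AddCommGrpCat.{u})
    (φ : (freeSh J).obj (yoneda.obj X) ⟶ G) :
    secEquiv J Y G ((freeSh J).map (yoneda.map f) ≫ φ) =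
      ((forgetSh J).obj G).map f.op (secEquiv J X G φ) := by
  rw [secEquiv, Equiv.trans_apply, Adjunction.homEquiv_naturality_left,
    ← yonedaEquiv_naturality]
  rfl

end Groth.Agent.H67.SieveCoh
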