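import Groth.Agent.H67.DerivedNat
import Groth.Agent.H67.SieveCoh3
import Groth.Prelude.Def_CohSite

/-!
# Helper library (helper67): higher direct images commute with a colimit as soon as the cohomology
of enough objects does
-/

set_option autoImplicit false
universe u

open CategoryTheory CategoryTheory.Limits Opposite Abelian

namespace Groth.Agent.H67.RpushColim

open Groth.Agent.H67.DerivedNat Groth.Agent.H67.SieveCoh

section LemmaM

variable {D : Type u} [SmallCategory D] (K : GrothendieckTopology D)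
  {𝒜 : Type*} [Category 𝒜] {ι : Type u} [SmallCategory ι] (F : ι ⥤ 𝒜)
  (Φ : 𝒜 ⥤ (Dᵒᵖ ⥤ AddCommGrpCat.{u}))

theorem preservesColimit_comp_sheafify
    (h : ∀ V : D, ∃ (κ : Type u) (Y : κ → D) (g : ∀ k, Y k ⟶ V), Sieve.ofArrows Y g ∈ K V ∧
      ∀ k, PreservesColimit F (Φ ⋙ (evaluation Dᵒᵖ AddCommGrpCat.{u}).obj (op (Y k)))) :
    PreservesColimit F (Φ ⋙ presheafToSheaf K AddCommGrpCat.{u}) := by
  constructor
  intro c hc
  haveI : PreservesColimitsOfSize.{u, u} (presheafToSheaf K AddCommGrpCat.{u}) :=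
    (sheafificationAdjunction K AddCommGrpCat.{u}).leftAdjoint_preservesColimits
  let hc₀ : IsColimit (colimit.cocone (F ⋙ Φ)) := colimit.isColimit (F ⋙ Φ)
  let ψ : colimit (F ⋙ Φ) ⟶ Φ.obj c.pt := hc₀.desc (Φ.mapCocone c)
  have hbij : ∀ V : D,
      PreservesColimit F (Φ ⋙ (evaluation Dᵒᵖ AddCommGrpCat.{u}).obj (op V)) →
      Function.Bijective (ψ.app (op V)) := by
    intro V hV
    let ev := (evaluation Dᵒᵖ AddCommGrpCat.{u}).obj (op V)
    let P : IsColimit (ev.mapCocone (colimit.cocone (F ⋙ Φ))) := isColimitOfPreserves ev hc₀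
    have Q : Nonempty (IsColimit (ev.mapCocone (Φ.mapCocone c))) :=
      ⟨isColimitOfPreserves (Φ ⋙ ev) hc⟩
    have hiso : IsIso (P.desc (ev.mapCocone (Φ.mapCocone c))) :=
      (P.nonempty_isColimit_iff_isIso_desc).1 Q
    have e : P.desc (ev.mapCocone (Φ.mapCocone c)) = ev.map ψ :=
      preserves_desc_mapCocone (G := ev) (c₁ := colimit.cocone (F ⋙ Φ)) (c₂ := Φ.mapCocone c)
        (t := hc₀)
    rw [e] at hiso
    exact ConcreteCategory.bijective_of_isIso (ev.map ψ)
  haveI hinj : Presheaf.IsLocallyInjective K ψ := ⟨by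
    intro X x y hxy
    obtain ⟨κ, Y, g, hcov, hY⟩ := h X.unop
    refine K.superset_covering ?_ hcov
    intro W f hf
    obtain ⟨k, a, rfl⟩ := (Sieve.mem_ofArrows_iff Y g f).1 hf
    refine (Presheaf.equalizerSieve x y).downward_closed ?_ a
    show (colimit (F ⋙ Φ)).map (g k).op x = (colimit (F ⋙ Φ)).map (g k).op y
    apply (hbij (Y k) (hY k)).1
    rw [NatTrans.naturality_apply ψ (g k).op x, NatTrans.naturality_apply ψ (g k).op y, hxy]⟩
  haveI hsurj : Presheaf.IsLocallySurjective K ψ := ⟨by
    intro U s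
    obtain ⟨κ, Y, g, hcov, hY⟩ := h U
    refine K.superset_covering ?_ hcov
    intro W f hf
    obtain ⟨k, a, rfl⟩ := (Sieve.mem_ofArrows_iff Y g f).1 hf
    refine (Presheaf.imageSieve ψ s).downward_closed ?_ a
    obtain ⟨t, ht⟩ := (hbij (Y k) (hY k)).2 ((Φ.obj c.pt).map (g k).op s)
    exact ⟨t, ht⟩⟩
  have hW : K.W ψ := K.W_of_isLocallyBijective ψ
  have hiso : IsIso ((presheafToSheaf K AddCommGrpCat.{u}).map ψ) := (K.W_iff ψ).1 hW
  let Pa : IsColimit ((presheafToSheaf K AddCommGrpCat.{u}).mapCocone (colimit.cocone (F ⋙ Φ))) :=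
    isColimitOfPreserves (presheafToSheaf K AddCommGrpCat.{u}) hc₀
  have e : Pa.desc ((presheafToSheaf K AddCommGrpCat.{u}).mapCocone (Φ.mapCocone c)) =
      (presheafToSheaf K AddCommGrpCat.{u}).map ψ :=
    preserves_desc_mapCocone (G := presheafToSheaf K AddCommGrpCat.{u})
      (c₁ := colimit.cocone (F ⋙ Φ)) (c₂ := Φ.mapCocone c) (t := hc₀)
  rw [← e] at hiso
  exact (Pa.nonempty_isColimit_iff_isIso_desc).2 hiso

end LemmaM

section Sec

variable {C : Type u} [SmallCategory C] (J : GrothendieckTopology C)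

/-- sections over `U` -/
noncomputable abbrev secF (U : C) : Sheaf J AddCommGrpCat.{u} ⥤ AddCommGrpCat.{u} :=
  sheafToPresheaf J AddCommGrpCat.{u} ⋙ (evaluation Cᵒᵖ AddCommGrpCat.{u}).obj (op U)

/-- the free abelian sheaf on `h_U` -/
noncomputable abbrev ZU (U : C) : Sheaf J AddCommGrpCat.{u} := (freeSh J).obj (yoneda.obj U)

/-- the universal section -/
noncomputable def usec (U : C) : ((ZU J U).obj.obj (op U) : Type u) :=
  secEquiv J U (ZU J U) (𝟙 _)

/-- `secEquiv` with values in the group of sections -/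
noncomputable def secFun (U : C) (G : Sheaf J AddCommGrpCat.{u}) (φ : ZU J U ⟶ G) :
    (G.obj.obj (op U) : Type u) := secEquiv J U G φ

lemma secFun_eq (U : C) (G : Sheaf J AddCommGrpCat.{u}) (φ : ZU J U ⟶ G) :
    secFun J U G φ = (φ.hom.app (op U)).hom (usec J U) := by
  have := secEquiv_comp J U (𝟙 (ZU J U)) φ
  rw [Category.id_comp] at this
  exact this

/-- maps out of the free sheaf are sections, additively -/
noncomputable def secAddEquiv (U : C) (G : Sheaf J AddCommGrpCat.{u}) :
    (ZU J U ⟶ G) ≃+ (G.obj.obj (op U) : Type u) where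
  toFun φ := secFun J U G φ
  invFun s := (secEquiv J U G).symm s
  left_inv φ := (secEquiv J U G).symm_apply_apply φ
  right_inv s := (secEquiv J U G).apply_symm_apply s
  map_add' φ ψ := by
    show secFun J U G (φ + ψ) = secFun J U G φ + secFun J U G ψ
    rw [secFun_eq, secFun_eq, secFun_eq, Sheaf.Hom.add_app]
    rfl

/-- sections over `U` are maps out of the free sheaf, naturally -/
noncomputable def secIso (U : C) : secF J U ≅ homF (ZU J U) :=
  NatIso.ofComponents (fun G => (AddEquiv.toAddCommGrpIso (secAddEquiv J U G)).symm) (by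
    intro G G' g
    ext s
    show (secEquiv J U G').symm ((g.hom.app (op U)).hom s) = (secEquiv J U G).symm s ≫ g
    apply (secEquiv J U G').injective
    rw [Equiv.apply_symm_apply, secEquiv_comp, Equiv.apply_symm_apply]
    rfl)

/-- `Ext` out of the free sheaf is the cohomology presheaf -/
noncomputable def cohIso (U : C) (p : ℕ) :
    extFunctorObj (ZU J U) p ≅ (Sheaf.cohomologyPresheafFunctor J p).flip.obj (op U) :=
  NatIso.ofComponents (fun G => Iso.refl _) (fun {X Y} f =>
    (Category.comp_id _).trans (Category.id_comp _).symm)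

end Sec

section Main

variable {C D : Type u} [SmallCategory C] [SmallCategory D] (J : GrothendieckTopology C)
  (K : GrothendieckTopology D) (u : D ⥤ C) [u.IsContinuous K J]

/-- the presheaf-valued direct image -/
noncomputable abbrev Gp : Sheaf J AddCommGrpCat.{u} ⥤ (Dᵒᵖ ⥤ AddCommGrpCat.{u}) :=
  CohSite.push J K u ⋙ sheafToPresheaf K AddCommGrpCat.{u}

/-- the direct image is the sheafification of the presheaf-valued direct image -/
noncomputable def pushIso :
    CohSite.push J K u ≅ Gp J K u ⋙ presheafToSheaf K AddCommGrpCat.{u} :=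
  (Functor.rightUnitor _).symm ≪≫
    Functor.isoWhiskerLeft (CohSite.push J K u)
      (asIso (sheafificationAdjunction K AddCommGrpCat.{u}).counit).symm ≪≫
    (Functor.associator _ _ _).symm

/-- evaluating the presheaf-valued direct image -/
noncomputable def gpEvIso (V : D) :
    Gp J K u ⋙ (evaluation Dᵒᵖ AddCommGrpCat.{u}).obj (op V) ≅ secF J (u.obj V) :=
  NatIso.ofComponents (fun G => Iso.refl _) (fun {X Y} f =>
    (Category.comp_id _).trans (Category.id_comp _).symm)

theorem preservesColimit_Rpush {ι : Type u} [SmallCategory ι]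
    (F : ι ⥤ Sheaf J AddCommGrpCat.{u}) (p : ℕ)
    (h : ∀ V : D, ∃ (κ : Type u) (Y : κ → D) (g : ∀ k, Y k ⟶ V), Sieve.ofArrows Y g ∈ K V ∧
      ∀ k, PreservesColimit F
        ((Sheaf.cohomologyPresheafFunctor J p).flip.obj (op (u.obj (Y k))))) :
    PreservesColimit F (CohSite.Rpush J K u p) := by
  cases p with
  | zero =>
    have : PreservesLimitsOfSize.{u, u} (CohSite.push J K u) :=
      (Functor.sheafPullbackConstruction.sheafAdjunctionContinuous u AddCommGrpCat.{u}
        K J).rightAdjoint_preservesLimits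
    have : PreservesFiniteLimits (CohSite.push J K u) := inferInstance
    have e0 : Gp J K u ⋙ presheafToSheaf K AddCommGrpCat.{u} ≅ CohSite.Rpush J K u 0 :=
      (pushIso J K u).symm ≪≫ (CohSite.push J K u).rightDerivedZeroIsoSelf.symm
    have key : PreservesColimit F (Gp J K u ⋙ presheafToSheaf K AddCommGrpCat.{u}) := by
      apply preservesColimit_comp_sheafify K F (Gp J K u)
      intro V
      obtain ⟨κ, Y, g, hcov, hY⟩ := h V
      refine ⟨κ, Y, g, hcov, fun k => ?_⟩
      haveI := hY k
      exact preservesColimit_of_natIso F ((cohIso J (u.obj (Y k)) 0).symm ≪≫ ext0Iso _ ≪≫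
        (secIso J _).symm ≪≫ (gpEvIso J K u (Y k)).symm)
    exact preservesColimit_of_natIso F e0
  | succ p =>
    have e0 : (Gp J K u).rightDerived (p + 1) ⋙ presheafToSheaf K AddCommGrpCat.{u} ≅
        CohSite.Rpush J K u (p + 1) :=
      (rightDerivedCompIso (Gp J K u) (presheafToSheaf K AddCommGrpCat.{u}) (p + 1)).symm ≪≫
        (rightDerivedNatIso (pushIso J K u) (p + 1)).symm
    have key : PreservesColimit F
        ((Gp J K u).rightDerived (p + 1) ⋙ presheafToSheaf K AddCommGrpCat.{u}) := by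
      apply preservesColimit_comp_sheafify K F ((Gp J K u).rightDerived (p + 1))
      intro V
      obtain ⟨κ, Y, g, hcov, hY⟩ := h V
      refine ⟨κ, Y, g, hcov, fun k => ?_⟩
      haveI := hY k
      exact preservesColimit_of_natIso F ((cohIso J (u.obj (Y k)) (p + 1)).symm ≪≫
        (extIso _ p).symm ≪≫ (rightDerivedNatIso (secIso J _) (p + 1)).symm ≪≫
        (rightDerivedNatIso (gpEvIso J K u (Y k)) (p + 1)).symm ≪≫
        rightDerivedCompIso (Gp J K u) ((evaluation Dᵒᵖ AddCommGrpCat.{u}).obj (op (Y k))) (p + 1))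
    exact preservesColimit_of_natIso F e0

end Main

end Groth.Agent.H67.RpushColim
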