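import Mathlib
import Groth.Agent.H42.ExtYoneda

/-!
# Helper library (helper67): naturality statements for right derived functors

* `rightDerivedCompIso G E n : (G ⋙ E).rightDerived n ≅ G.rightDerived n ⋙ E` for exact `E`;
* `rightDerivedNatIso e n : G.rightDerived n ≅ G'.rightDerived n` for `e : G ≅ G'`;
* `extIso Z n : (homF Z).rightDerived (n + 1) ≅ extFunctorObj Z (n + 1)`;
* `ext0Iso Z : extFunctorObj Z 0 ≅ homF Z`.
-/

set_option autoImplicit false

universe v u

open CategoryTheory CategoryTheory.Limits Opposite Abelian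

namespace Groth.Agent.H67.DerivedNat

lemma paste3 {C : Type*} [Category C] {X0 X0' X1 X1' X2 X2' X3 X3' : C} (A : X0 ⟶ X0')
    (a : X0 ⟶ X1) (a' : X0' ⟶ X1') (B : X1 ⟶ X1') (b : X1 ⟶ X2) (b' : X1' ⟶ X2')
    (Cm : X2 ⟶ X2') (c : X2 ⟶ X3) (c' : X2' ⟶ X3') (D : X3 ⟶ X3')
    (h1 : A ≫ a' = a ≫ B) (h2 : B ≫ b' = b ≫ Cm) (h3 : Cm ≫ c' = c ≫ D) :
    A ≫ (a' ≫ b' ≫ c') = (a ≫ b ≫ c) ≫ D := by
  rw [← Category.assoc, h1, Category.assoc, ← Category.assoc B, h2, Category.assoc, h3]
  simp only [Category.assoc]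

section CompExact

variable {𝒜 : Type*} {ℬ : Type*} {𝒞 : Type*} [Category 𝒜] [Category ℬ] [Category 𝒞]
  [Abelian 𝒜] [Abelian ℬ] [Abelian 𝒞] [HasInjectiveResolutions 𝒜]
  (G : 𝒜 ⥤ ℬ) (E : ℬ ⥤ 𝒞) [G.Additive] [E.Additive] [E.PreservesHomology]

/-- exact functors commute with the homology of complexes -/
noncomputable def midIso (K : CochainComplex 𝒜 ℕ) (n : ℕ) :
    (HomologicalComplex.homologyFunctor 𝒞 (ComplexShape.up ℕ) n).obj
      (((G ⋙ E).mapHomologicalComplex (ComplexShape.up ℕ)).obj K) ≅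
    E.obj ((HomologicalComplex.homologyFunctor ℬ (ComplexShape.up ℕ) n).obj
      ((G.mapHomologicalComplex (ComplexShape.up ℕ)).obj K)) :=
  (((G.mapHomologicalComplex (ComplexShape.up ℕ)).obj K).sc n).mapHomologyIso E

lemma midIso_naturality {K K' : CochainComplex 𝒜 ℕ} (φ : K ⟶ K') (n : ℕ) :
    (HomologicalComplex.homologyFunctor 𝒞 (ComplexShape.up ℕ) n).map
        (((G ⋙ E).mapHomologicalComplex (ComplexShape.up ℕ)).map φ) ≫ (midIso G E K' n).hom =
      (midIso G E K n).hom ≫
        E.map ((HomologicalComplex.homologyFunctor ℬ (ComplexShape.up ℕ) n).map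
          ((G.mapHomologicalComplex (ComplexShape.up ℕ)).map φ)) :=
  ShortComplex.mapHomologyIso_hom_naturality
    ((HomologicalComplex.shortComplexFunctor ℬ (ComplexShape.up ℕ) n).map
      ((G.mapHomologicalComplex (ComplexShape.up ℕ)).map φ)) E

/-- the component of `rightDerivedCompIso` -/
noncomputable def compObjIso (n : ℕ) (X : 𝒜) :
    ((G ⋙ E).rightDerived n).obj X ≅ (G.rightDerived n ⋙ E).obj X :=
  (injectiveResolution X).isoRightDerivedObj (G ⋙ E) n ≪≫
    midIso G E (injectiveResolution X).cocomplex n ≪≫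
    E.mapIso ((injectiveResolution X).isoRightDerivedObj G n).symm

/-- right derived functors commute with postcomposition by an exact functor -/
noncomputable def rightDerivedCompIso (n : ℕ) :
    (G ⋙ E).rightDerived n ≅ G.rightDerived n ⋙ E :=
  NatIso.ofComponents (compObjIso G E n) (by
    intro X Y f
    let I := injectiveResolution X
    let I' := injectiveResolution Y
    let φ := InjectiveResolution.desc f I' I
    have comm : I.ι.f 0 ≫ φ.f 0 = f ≫ I'.ι.f 0 := InjectiveResolution.desc_commutes_zero f I' I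
    have h1 : ((G ⋙ E).rightDerived n).map f ≫ (I'.isoRightDerivedObj (G ⋙ E) n).hom =
        (I.isoRightDerivedObj (G ⋙ E) n).hom ≫
          (HomologicalComplex.homologyFunctor 𝒞 (ComplexShape.up ℕ) n).map
            (((G ⋙ E).mapHomologicalComplex (ComplexShape.up ℕ)).map φ) :=
      InjectiveResolution.isoRightDerivedObj_hom_naturality f I I' φ comm (G ⋙ E) n
    have h2 : (I.isoRightDerivedObj G n).inv ≫ (G.rightDerived n).map f =
        (HomologicalComplex.homologyFunctor ℬ (ComplexShape.up ℕ) n).map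
            ((G.mapHomologicalComplex (ComplexShape.up ℕ)).map φ) ≫
          (I'.isoRightDerivedObj G n).inv :=
      InjectiveResolution.isoRightDerivedObj_inv_naturality f I I' φ comm G n
    have h3 := midIso_naturality G E φ n
    show ((G ⋙ E).rightDerived n).map f ≫ ((I'.isoRightDerivedObj (G ⋙ E) n).hom ≫
        (midIso G E I'.cocomplex n).hom ≫ E.map (I'.isoRightDerivedObj G n).inv) =
      ((I.isoRightDerivedObj (G ⋙ E) n).hom ≫ (midIso G E I.cocomplex n).hom ≫
        E.map (I.isoRightDerivedObj G n).inv) ≫ E.map ((G.rightDerived n).map f)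
    rw [← Category.assoc, h1, Category.assoc, ← Category.assoc _ (midIso G E I'.cocomplex n).hom,
      h3, Category.assoc, ← E.map_comp, ← h2, E.map_comp]
    simp only [Category.assoc])

end CompExact

section NatIso

variable {𝒜 : Type*} {ℬ : Type*} [Category 𝒜] [Category ℬ]
  [Abelian 𝒜] [Abelian ℬ] [HasInjectiveResolutions 𝒜]

/-- isomorphic functors have isomorphic right derived functors -/
noncomputable def rightDerivedNatIso {G G' : 𝒜 ⥤ ℬ} [G.Additive] [G'.Additive] (e : G ≅ G')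
    (n : ℕ) : G.rightDerived n ≅ G'.rightDerived n where
  hom := NatTrans.rightDerived e.hom n
  inv := NatTrans.rightDerived e.inv n
  hom_inv_id := by rw [← NatTrans.rightDerived_comp, e.hom_inv_id, NatTrans.rightDerived_id]
  inv_hom_id := by rw [← NatTrans.rightDerived_comp, e.inv_hom_id, NatTrans.rightDerived_id]

end NatIso

section ExtSec

open Groth.Agent.H42

variable {A : Type u} [Category.{v} A] [Abelian A] [HasExt.{v} A]

/-- `Hom(Z, -)` as a functor to abelian groups -/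
noncomputable abbrev homF (Z : A) : A ⥤ AddCommGrpCat.{v} := preadditiveYoneda.flip.obj (op Z)

instance (Z : A) : (homF Z).Additive where
  map_add {X Y f g} := by
    refine AddCommGrpCat.hom_ext (AddMonoidHom.ext fun a => ?_)
    exact Preadditive.comp_add _ _ _ a f g

/-- the covariant functoriality of `Ext`, with explicit types -/
noncomputable def extPush (Z : Aᵒᵖ) {X X' : A} (f : X ⟶ X') (k : ℕ) :
    (AddCommGrpCat.of (Ext Z.unop X k) : AddCommGrpCat.{v}) ⟶ AddCommGrpCat.of (Ext Z.unop X' k) :=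
  (extFunctorObj Z.unop k).map f

lemma Ψ_nat {X X' : A} {R : InjectiveResolution X} {R' : InjectiveResolution X'} {f : X ⟶ X'}
    (φ : InjectiveResolution.Hom R R' f) (n : ℕ) (Z : Aᵒᵖ)
    (m : ExtYoneda.HS R n Z ⟶ ExtYoneda.HS R' n Z)
    (hm : m.τ₂ = (preadditiveYoneda.map (φ.hom.f (n + 1))).app Z) :
    ShortComplex.homologyMap m ≫ (ExtYoneda.Ψ R' n Z).hom =
      (ExtYoneda.Ψ R n Z).hom ≫ extPush Z f (n + 1) := by
  rw [← cancel_epi (ExtYoneda.HS R n Z).homologyπ, ShortComplex.homologyπ_naturality_assoc]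
  have h1 : (ExtYoneda.HS R' n Z).homologyπ ≫ (ExtYoneda.Ψ R' n Z).hom = _ :=
    ExtYoneda.homologyπ_abHomologyIsoOfKer (ExtYoneda.HS R' n Z) _ (ExtYoneda.κ R' n Z)
      (ExtYoneda.κ_surjective R' n Z) (ExtYoneda.κ_ker R' n Z)
  have h2 : (ExtYoneda.HS R n Z).homologyπ ≫ (ExtYoneda.Ψ R n Z).hom = _ :=
    ExtYoneda.homologyπ_abHomologyIsoOfKer (ExtYoneda.HS R n Z) _ (ExtYoneda.κ R n Z)
      (ExtYoneda.κ_surjective R n Z) (ExtYoneda.κ_ker R n Z)
  rw [h1, reassoc_of% h2]
  ext c
  change ExtYoneda.κ R' n Z ((ExtYoneda.HS R' n Z).abCyclesIso.hom (ShortComplex.cyclesMap m c)) =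
    Ext.comp (ExtYoneda.κ R n Z ((ExtYoneda.HS R n Z).abCyclesIso.hom c) : Ext Z.unop X (n + 1))
      (Ext.mk₀ f) (add_zero (n + 1))
  rw [ExtYoneda.κ_apply, ExtYoneda.κ_apply, InjectiveResolution.extMk_comp_mk₀ _ _ _ _ φ]
  apply ExtYoneda.extMk_congr
  rw [ExtYoneda.abCyclesIso_hom_apply_coe, ExtYoneda.abCyclesIso_hom_apply_coe]
  have hc := congrArg (fun ψ => (ConcreteCategory.hom ψ) c) (ShortComplex.cyclesMap_i m)
  refine (congrArg (ExtYoneda.homEquiv Z _) hc).trans ?_
  have hm' : (ConcreteCategory.hom ((ExtYoneda.HS R n Z).iCycles ≫ m.τ₂)) c =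
      ((preadditiveYoneda.map (φ.hom.f (n + 1))).app Z).hom ((ExtYoneda.HS R n Z).iCycles c) := by
    rw [hm]
    rfl
  exact (congrArg (ExtYoneda.homEquiv Z _) hm').trans
    (ExtYoneda.homEquiv_postcomp Z (φ.hom.f (n + 1)) ((ExtYoneda.HS R n Z).iCycles c))

variable [HasInjectiveResolutions A]

/-- the component of `extIso` -/
noncomputable def extObjIso (Z : A) (n : ℕ) (X : A) :
    ((homF Z).rightDerived (n + 1)).obj X ≅ (extFunctorObj Z (n + 1)).obj X :=
  (injectiveResolution X).isoRightDerivedObj (homF Z) (n + 1) ≪≫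
    (HomologicalComplex.homologyFunctorIso' AddCommGrpCat.{v} (ComplexShape.up ℕ) n (n + 1) (n + 2)
      (by simp) (by simp)).app
        (((homF Z).mapHomologicalComplex (ComplexShape.up ℕ)).obj
          (injectiveResolution X).cocomplex) ≪≫
    ExtYoneda.Ψ (injectiveResolution X) n (op Z)

/-- `Ext` groups are the right derived functors of `Hom` -/
noncomputable def extIso (Z : A) (n : ℕ) :
    (homF Z).rightDerived (n + 1) ≅ extFunctorObj Z (n + 1) :=
  NatIso.ofComponents (extObjIso Z n) (by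
    intro X Y f
    let I := injectiveResolution X
    let I' := injectiveResolution Y
    let φ := InjectiveResolution.desc f I' I
    have comm : I.ι.f 0 ≫ φ.f 0 = f ≫ I'.ι.f 0 := InjectiveResolution.desc_commutes_zero f I' I
    let φH : InjectiveResolution.Hom I I' f := ⟨φ, by
      rw [CochainComplex.single₀_map_f_zero]
      exact comm⟩
    let ψ := ((homF Z).mapHomologicalComplex (ComplexShape.up ℕ)).map φ
    let e := HomologicalComplex.homologyFunctorIso' AddCommGrpCat.{v} (ComplexShape.up ℕ) n (n + 1)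
      (n + 2) (by simp) (by simp)
    have h1 : ((homF Z).rightDerived (n + 1)).map f ≫
        (I'.isoRightDerivedObj (homF Z) (n + 1)).hom =
        (I.isoRightDerivedObj (homF Z) (n + 1)).hom ≫
          (HomologicalComplex.homologyFunctor AddCommGrpCat.{v} (ComplexShape.up ℕ) (n + 1)).map ψ :=
      InjectiveResolution.isoRightDerivedObj_hom_naturality f I I' φ comm (homF Z) (n + 1)
    have h2 : (HomologicalComplex.homologyFunctor AddCommGrpCat.{v} (ComplexShape.up ℕ)
        (n + 1)).map ψ ≫ e.hom.app _ = e.hom.app _ ≫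
        ShortComplex.homologyMap ((HomologicalComplex.shortComplexFunctor' AddCommGrpCat.{v}
          (ComplexShape.up ℕ) n (n + 1) (n + 2)).map ψ) := e.hom.naturality ψ
    have h3 : ShortComplex.homologyMap ((HomologicalComplex.shortComplexFunctor' AddCommGrpCat.{v}
          (ComplexShape.up ℕ) n (n + 1) (n + 2)).map ψ) ≫ (ExtYoneda.Ψ I' n (op Z)).hom =
        (ExtYoneda.Ψ I n (op Z)).hom ≫ extPush (op Z) f (n + 1) :=
      Ψ_nat φH n (op Z) ((HomologicalComplex.shortComplexFunctor' AddCommGrpCat.{v}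
          (ComplexShape.up ℕ) n (n + 1) (n + 2)).map ψ) rfl
    show ((homF Z).rightDerived (n + 1)).map f ≫ ((I'.isoRightDerivedObj (homF Z) (n + 1)).hom ≫
        e.hom.app _ ≫ (ExtYoneda.Ψ I' n (op Z)).hom) =
      ((I.isoRightDerivedObj (homF Z) (n + 1)).hom ≫ e.hom.app _ ≫
        (ExtYoneda.Ψ I n (op Z)).hom) ≫ (extFunctorObj Z (n + 1)).map f
    exact paste3 _ _ _ _ _ _ _ _ _ _ h1 h2 h3)

/-- `Ext^0(Z, -) ≅ Hom(Z, -)` -/
noncomputable def ext0Iso (Z : A) : extFunctorObj Z 0 ≅ homF Z :=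
  NatIso.ofComponents (fun Y => AddEquiv.toAddCommGrpIso (Ext.addEquiv₀ (X := Z) (Y := Y))) (by
    intro Y Y' g
    ext α
    obtain ⟨φ, rfl⟩ := (Ext.mk₀_bijective _ _).2 α
    change Ext.addEquiv₀ ((Ext.mk₀ φ).comp (Ext.mk₀ g) (add_zero 0)) =
      Ext.addEquiv₀ (Ext.mk₀ φ) ≫ g
    rw [Ext.mk₀_comp_mk₀]
    have h : ∀ {X Y : A} (ψ : X ⟶ Y), Ext.addEquiv₀ (Ext.mk₀ ψ) = ψ :=
      fun ψ => Ext.addEquiv₀.apply_symm_apply ψ
    rw [h, h])

end ExtSec

end Groth.Agent.H67.DerivedNat
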