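import Mathlib
import Groth.Prelude.Def_CohSite
import Groth.Agent.S0487
import Groth.Agent.S0483
import Groth.Agent.H30.CompDer
import Groth.Agent.H45.OverMapShriek

/-!
# Helper library (helper67): relocalisation pushforward `f_*` along `Over.map f`

For `f : X ⟶ Y` with pullbacks along `f`, on a small site: `R^q f_* (f⁻¹ F')` is the sheafification of
`V ↦ H^q(V ×_Y X, F')`; a class on `X` whose two pullbacks to `X ×_Y X` agree dies locally on `Y`
when that sheafification is a sheaf for a finer topology for which `{X → Y}` is a covering.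
-/

set_option autoImplicit false
universe u
open CategoryTheory CategoryTheory.Limits Opposite

namespace Groth.Agent.H67.SiteCmpA

section General

variable {D : Type u} [SmallCategory D]

/-- sections of a presheaf which is a sheaf for `K₂`, vanishing on a covering sieve, vanish -/
lemma eq_zero_of_locally (K₂ : GrothendieckTopology D) (P : Dᵒᵖ ⥤ AddCommGrpCat.{u})
    (hP : Presheaf.IsSheaf K₂ P) {V : D} (S : Sieve V) (hS : S ∈ K₂ V)
    (x : P.obj (op V)) (h : ∀ ⦃W : D⦄ (f : W ⟶ V), S f → P.map f.op x = 0) : x = 0 := by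
  have hsh : Presieve.IsSheaf K₂ (P ⋙ forget AddCommGrpCat.{u}) :=
    (isSheaf_iff_isSheaf_of_type K₂ _).1
      ((Presheaf.isSheaf_iff_isSheaf_forget K₂ P (forget AddCommGrpCat.{u})).1 hP)
  refine (hsh.isSeparated S hS).ext (fun W f hf => ?_)
  show P.map f.op x = P.map f.op 0
  rw [h f hf, map_zero]

lemma toSheafify_eq_zero_of_locally (K : GrothendieckTopology D) (H : Dᵒᵖ ⥤ AddCommGrpCat.{u})
    {V : D} (S : Sieve V) (hS : S ∈ K V) (x : H.obj (op V))
    (h : ∀ ⦃W : D⦄ (f : W ⟶ V), S f → H.map f.op x = 0) :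
    (toSheafify K H).app (op V) x = 0 := by
  refine eq_zero_of_locally K (sheafify K H)
    ((presheafToSheaf K AddCommGrpCat.{u}).obj H).property S hS _ (fun W f hf => ?_)
  rw [← NatTrans.naturality_apply (toSheafify K H) f.op x, h f hf, map_zero]

lemma locally_zero_of_toSheafify_eq_zero (K : GrothendieckTopology D)
    (H : Dᵒᵖ ⥤ AddCommGrpCat.{u}) {V : D} (x : H.obj (op V))
    (h : (toSheafify K H).app (op V) x = 0) :
    ∃ S : Sieve V, S ∈ K V ∧ ∀ ⦃W : D⦄ (f : W ⟶ V), S f → H.map f.op x = 0 := by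
  have h' : (toSheafify K H).app (op V) x = (toSheafify K H).app (op V) 0 := by
    rw [h, map_zero]
  refine ⟨Presheaf.equalizerSieve (X := op V) x 0,
    Presheaf.equalizerSieve_mem K (toSheafify K H) x 0 h', fun W f hf => ?_⟩
  have h2 : H.map f.op x = H.map f.op 0 := hf
  rw [h2, map_zero]

lemma res_comp {K : GrothendieckTopology D} (F : Sheaf K AddCommGrpCat.{u}) (q : ℕ)
    {U V W : D} (g₁ : W ⟶ V) (g₂ : V ⟶ U) (θ : CohSite.HU F q U) :
    CohSite.res F q (g₁ ≫ g₂) θ = CohSite.res F q g₁ (CohSite.res F q g₂ θ) := by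
  show ((Sheaf.cohomologyPresheaf.{u} F q).map (g₁ ≫ g₂).op).hom θ = _
  rw [op_comp, Functor.map_comp]
  rfl

/-- direct images along continuous functors are left exact -/
lemma preservesFiniteLimits_push {C' : Type u} [SmallCategory C'] (J : GrothendieckTopology C')
    (K : GrothendieckTopology D) (u : D ⥤ C') [u.IsContinuous K J] :
    PreservesFiniteLimits (CohSite.push J K u) := by
  have : PreservesLimitsOfSize.{u, u} (CohSite.push J K u) :=
    (Functor.sheafPullbackConstruction.sheafAdjunctionContinuous u AddCommGrpCat.{u}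
      K J).rightAdjoint_preservesLimits
  infer_instance

end General

section Geom

variable {C : Type u} [SmallCategory C] (J' : GrothendieckTopology C) {X Y : C} (f : X ⟶ Y)
  [HasPullbacksAlong f]

instance vCont : (Over.pullback f).IsContinuous (J'.over Y) (J'.over X) :=
  (Over.mapPullbackAdj f).isContinuous_of_isCocontinuous (J'.over X) (J'.over Y)

instance wCont : (Over.pullback f ⋙ Over.map f).IsContinuous (J'.over Y) (J'.over Y) :=
  Functor.isContinuous_comp (Over.pullback f) (Over.map f) (J'.over Y) (J'.over X) (J'.over Y)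

/-- restriction `f⁻¹` along `Over.map f` -/
noncomputable abbrev pushU :
    Sheaf (J'.over Y) AddCommGrpCat.{u} ⥤ Sheaf (J'.over X) AddCommGrpCat.{u} :=
  CohSite.push (J'.over Y) (J'.over X) (Over.map f)

/-- direct image along the continuous functor `Over.pullback f` -/
noncomputable abbrev pushV :
    Sheaf (J'.over X) AddCommGrpCat.{u} ⥤ Sheaf (J'.over Y) AddCommGrpCat.{u} :=
  CohSite.push (J'.over X) (J'.over Y) (Over.pullback f)

/-- direct image along `V ↦ (V ×_Y X → Y)` -/
noncomputable abbrev pushW :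
    Sheaf (J'.over Y) AddCommGrpCat.{u} ⥤ Sheaf (J'.over Y) AddCommGrpCat.{u} :=
  CohSite.push (J'.over Y) (J'.over Y) (Over.pullback f ⋙ Over.map f)

/-- the relocalisation pushforward `f_*` -/
noncomputable abbrev fStar :
    Sheaf (J'.over X) AddCommGrpCat.{u} ⥤ Sheaf (J'.over Y) AddCommGrpCat.{u} :=
  (Over.map f).sheafPushforwardCocontinuous AddCommGrpCat.{u} (J'.over X) (J'.over Y)

noncomputable def adj₁ : pushU J' f ⊣ fStar J' f :=
  (Over.map f).sheafAdjunctionCocontinuous AddCommGrpCat.{u} (J'.over X) (J'.over Y)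

noncomputable def adj₂ : pushU J' f ⊣ pushV J' f :=
  (Over.mapPullbackAdj f).sheafPushforwardContinuous (E := AddCommGrpCat.{u})
    (J'.over X) (J'.over Y)

noncomputable def eV : fStar J' f ≅ pushV J' f :=
  (adj₁ J' f).rightAdjointUniq (adj₂ J' f)

noncomputable def eT : pushW J' f ⋙ 𝟭 _ ≅ pushU J' f ⋙ fStar J' f :=
  Functor.rightUnitor _ ≪≫
    (Functor.sheafPushforwardContinuousComp (Over.pullback f) (Over.map f) AddCommGrpCat.{u}
      (J'.over Y) (J'.over X) (J'.over Y)).symm ≪≫
    Functor.isoWhiskerLeft (pushU J' f) (eV J' f).symm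

instance fStar_additive : (fStar J' f).Additive := (adj₁ J' f).right_adjoint_additive

lemma fStar_preservesFiniteLimits : PreservesFiniteLimits (fStar J' f) := by
  have : PreservesLimitsOfSize.{u, u} (fStar J' f) := (adj₁ J' f).rightAdjoint_preservesLimits
  infer_instance

lemma pushU_preservesFiniteColimits : PreservesFiniteColimits (pushU J' f) := by
  have : PreservesColimitsOfSize.{u, u} (pushU J' f) := (adj₁ J' f).leftAdjoint_preservesColimits
  infer_instance

omit [HasPullbacksAlong f] in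
/-- extension by zero `f_!` along `Over.map f` is exact -/
theorem preservesFiniteLimits_shriek :
    PreservesFiniteLimits
      ((Over.map f).sheafPullback AddCommGrpCat.{u} (J'.over X) (J'.over Y)) := by
  haveI : ∀ V : (Over Y)ᵒᵖ, HasExactColimitsOfShape
      (CostructuredArrow (Over.map f).op V) AddCommGrpCat.{u} := fun V =>
    hasExactColimitsOfShape_of_final AddCommGrpCat.{u}
      (Groth.Agent.H45.overMapSection f V.unop)
  exact Groth.Agent.H45.sheafPullback_preservesFiniteLimits_of_exactColimits (Over.map f)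
    AddCommGrpCat.{u} (J'.over X) (J'.over Y)

omit [HasPullbacksAlong f] in
/-- restriction to a localised site preserves injectives -/
theorem injective_pushU (I : Sheaf (J'.over Y) AddCommGrpCat.{u}) [Injective I] :
    Injective ((CohSite.push (J'.over Y) (J'.over X) (Over.map f)).obj I) := by
  haveI := preservesFiniteLimits_shriek J' f
  exact Injective.injective_of_adjoint
    ((Over.map f).sheafAdjunctionContinuous AddCommGrpCat.{u} (J'.over X) (J'.over Y)) I

/-- the presheaf `V ↦ H^q(V ×_Y X, F')` on `Over Y` -/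
noncomputable abbrev Hpre (F' : Sheaf (J'.over Y) AddCommGrpCat.{u}) (q : ℕ) :
    (Over Y)ᵒᵖ ⥤ AddCommGrpCat.{u} :=
  (Over.pullback f ⋙ Over.map f).op ⋙ Sheaf.cohomologyPresheaf.{u} F' q

/-- `R^q f_* (f⁻¹ F')` is the sheafification of `V ↦ H^q(V ×_Y X, F')` -/
theorem key_iso (F' : Sheaf (J'.over Y) AddCommGrpCat.{u}) (q : ℕ) :
    Nonempty (((fStar J' f).rightDerived q).obj ((pushU J' f).obj F') ≅
      (presheafToSheaf (J'.over Y) AddCommGrpCat.{u}).obj (Hpre J' f F' q)) := by
  haveI := preservesFiniteLimits_push (J'.over Y) (J'.over Y) (Over.pullback f ⋙ Over.map f)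
  haveI := preservesFiniteLimits_push (J'.over Y) (J'.over X) (Over.map f)
  haveI := fStar_preservesFiniteLimits J' f
  haveI := pushU_preservesFiniteColimits J' f
  have hacy : ∀ I : Sheaf (J'.over Y) AddCommGrpCat.{u}, Injective I → ∀ k : ℕ,
      IsZero (((fStar J' f).rightDerived (k + 1)).obj ((pushU J' f).obj I)) := by
    intro I hI k
    haveI := hI
    haveI := injective_pushU J' f I
    exact Functor.isZero_rightDerived_obj_injective_succ (fStar J' f) k _
  obtain ⟨e₁⟩ := Groth.Agent.H30.CompDer.main (pushW J' f) (fStar J' f) (pushU J' f) (𝟭 _)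
    (eT J' f) hacy q F'
  obtain ⟨e₂⟩ := Groth.Agent.S0487.result (J'.over Y) (J'.over Y)
    (Over.pullback f ⋙ Over.map f) F' q
  exact ⟨e₁.symm ≪≫ e₂⟩

/-- the map `(V ×_Y X → Y) ⟶ (X → Y)` -/
noncomputable def σ (V : Over Y) : (Over.pullback f ⋙ Over.map f).obj V ⟶ Over.mk f :=
  Over.homMk (pullback.snd V.hom f) rfl

/-- the counit `(V ×_Y X → Y) ⟶ V` -/
noncomputable def ε (V : Over Y) : (Over.pullback f ⋙ Over.map f).obj V ⟶ V :=
  Over.homMk (pullback.fst V.hom f) pullback.condition

@[simp] lemma σ_left (V : Over Y) : (σ f V).left = pullback.snd V.hom f := rfl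
@[simp] lemma ε_left (V : Over Y) : (ε f V).left = pullback.fst V.hom f := rfl

lemma w_map_σ {V' V : Over Y} (a : V' ⟶ V) :
    (Over.pullback f ⋙ Over.map f).map a ≫ σ f V = σ f V' := by
  apply Over.OverMorphism.ext
  simp
  exact pullback.lift_snd _ _ _

lemma w_map_ε {V' V : Over Y} (a : V' ⟶ V) :
    (Over.pullback f ⋙ Over.map f).map a ≫ ε f V = ε f V' ≫ a := by
  apply Over.OverMorphism.ext
  simp
  exact pullback.lift_fst _ _ _

variable (F' : Sheaf (J'.over Y) AddCommGrpCat.{u}) (n : ℕ)

/-- a class pulled back from `V` dies in the sheafification over `V` -/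
lemma toSheafify_res_ε (V : Over Y) (θ₁ : CohSite.HU F' (n + 1) V) :
    (toSheafify (J'.over Y) (Hpre J' f F' (n + 1))).app (op V)
      (CohSite.res F' (n + 1) (ε f V) θ₁) = 0 := by
  obtain ⟨S, hS⟩ := Groth.Agent.S0483.result (J'.over Y) F' V n θ₁
  refine toSheafify_eq_zero_of_locally (J'.over Y) (Hpre J' f F' (n + 1)) S.1 S.2 _
    (fun W a ha => ?_)
  show CohSite.res F' (n + 1) ((Over.pullback f ⋙ Over.map f).map a)
    (CohSite.res F' (n + 1) (ε f V) θ₁) = 0
  rw [← res_comp, w_map_ε, res_comp]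
  have h0 : CohSite.res F' (n + 1) a θ₁ = 0 := hS ⟨W, a, ha⟩
  rw [h0, map_zero]

variable {J : GrothendieckTopology C}

theorem main (hcov : Sieve.ofArrows (fun _ : PUnit.{u + 1} => X) (fun _ => f) ∈ J Y)
    (hsh : Presheaf.IsSheaf (J.over Y)
      ((presheafToSheaf (J'.over Y) AddCommGrpCat.{u}).obj (Hpre J' f F' (n + 1))).obj)
    (θ : CohSite.HU F' (n + 1) (Over.mk f))
    (hθ : CohSite.res F' (n + 1)
        (Over.homMk (pullback.fst f f) rfl : Over.mk (pullback.fst f f ≫ f) ⟶ Over.mk f) θ =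
      CohSite.res F' (n + 1)
        (Over.homMk (pullback.snd f f) pullback.condition.symm :
          Over.mk (pullback.fst f f ≫ f) ⟶ Over.mk f) θ) :
    ∃ S₀ : Sieve (Over.mk (𝟙 Y)), S₀ ∈ (J'.over Y) (Over.mk (𝟙 Y)) ∧
      ∀ ⦃V : Over Y⦄ (a : V ⟶ Over.mk (𝟙 Y)), S₀ a →
        CohSite.res F' (n + 1) (σ f V) θ = 0 := by
  -- step 1 : the class `σ^* θ` over `X → Y` dies in the sheafification
  have hXY : (toSheafify (J'.over Y) (Hpre J' f F' (n + 1))).app (op (Over.mk f))
      (CohSite.res F' (n + 1) (σ f (Over.mk f)) θ) = 0 := by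
    have hj : (pullback.snd (Over.mk f).hom f ≫ f) = pullback.fst f f ≫ f :=
      pullback.condition.symm
    let j : (Over.pullback f ⋙ Over.map f).obj (Over.mk f) ⟶ Over.mk (pullback.fst f f ≫ f) :=
      Over.homMk (𝟙 _) (by
        show 𝟙 _ ≫ (pullback.fst f f ≫ f) = pullback.snd (Over.mk f).hom f ≫ f
        rw [Category.id_comp]; exact hj.symm)
    have h1 : σ f (Over.mk f) = j ≫ (Over.homMk (pullback.snd f f) pullback.condition.symm :
        Over.mk (pullback.fst f f ≫ f) ⟶ Over.mk f) := by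
      apply Over.OverMorphism.ext
      show pullback.snd (Over.mk f).hom f = 𝟙 _ ≫ pullback.snd f f
      rw [Category.id_comp]; rfl
    have h2 : ε f (Over.mk f) = j ≫ (Over.homMk (pullback.fst f f) rfl :
        Over.mk (pullback.fst f f ≫ f) ⟶ Over.mk f) := by
      apply Over.OverMorphism.ext
      show pullback.fst (Over.mk f).hom f = 𝟙 _ ≫ pullback.fst f f
      rw [Category.id_comp]; rfl
    have h3 : CohSite.res F' (n + 1) (σ f (Over.mk f)) θ =
        CohSite.res F' (n + 1) (ε f (Over.mk f)) θ := by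
      rw [h1, h2, res_comp, res_comp, hθ]
    rw [h3]
    exact toSheafify_res_ε J' f F' n (Over.mk f) θ
  -- step 2 : the class over the terminal object dies in the sheafification
  have hT : (toSheafify (J'.over Y) (Hpre J' f F' (n + 1))).app (op (Over.mk (𝟙 Y)))
      (CohSite.res F' (n + 1) (σ f (Over.mk (𝟙 Y))) θ) = 0 := by
    refine eq_zero_of_locally (J.over Y) _ hsh
      ((Sieve.overEquiv (Over.mk (𝟙 Y))).symm
        (Sieve.ofArrows (fun _ : PUnit.{u + 1} => X) (fun _ => f)))
      (J.overEquiv_symm_mem_over (Over.mk (𝟙 Y)) _ hcov) _ (fun V b hb => ?_)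
    have hb' : (Sieve.ofArrows (fun _ : PUnit.{u + 1} => X) (fun _ => f)).arrows b.left := hb
    obtain ⟨_, b₀, hfac⟩ := (Sieve.mem_ofArrows_iff _ _ _).1 hb'
    have hbw : b.left = V.hom := by
      have := Over.w b
      simpa using this
    let b' : V ⟶ Over.mk f := Over.homMk b₀ (by
      show b₀ ≫ f = V.hom
      rw [← hfac, hbw])
    rw [← NatTrans.naturality_apply (toSheafify (J'.over Y) (Hpre J' f F' (n + 1))) b.op]
    have e1 : (Hpre J' f F' (n + 1)).map b.op
        (CohSite.res F' (n + 1) (σ f (Over.mk (𝟙 Y))) θ) =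
        (Hpre J' f F' (n + 1)).map b'.op (CohSite.res F' (n + 1) (σ f (Over.mk f)) θ) := by
      show CohSite.res F' (n + 1) ((Over.pullback f ⋙ Over.map f).map b)
          (CohSite.res F' (n + 1) (σ f (Over.mk (𝟙 Y))) θ) =
        CohSite.res F' (n + 1) ((Over.pullback f ⋙ Over.map f).map b')
          (CohSite.res F' (n + 1) (σ f (Over.mk f)) θ)
      rw [← res_comp, ← res_comp, w_map_σ, w_map_σ]
    rw [e1, NatTrans.naturality_apply (toSheafify (J'.over Y) (Hpre J' f F' (n + 1))) b'.op,
      hXY, map_zero]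
  -- step 3 : local injectivity of sheafification
  obtain ⟨S₀, hS₀, hz⟩ := locally_zero_of_toSheafify_eq_zero (J'.over Y) (Hpre J' f F' (n + 1))
    _ hT
  refine ⟨S₀, hS₀, fun V a ha => ?_⟩
  have h4 := hz a ha
  have h5 : (Hpre J' f F' (n + 1)).map a.op (CohSite.res F' (n + 1) (σ f (Over.mk (𝟙 Y))) θ) =
      CohSite.res F' (n + 1) (σ f V) θ := by
    show CohSite.res F' (n + 1) ((Over.pullback f ⋙ Over.map f).map a)
        (CohSite.res F' (n + 1) (σ f (Over.mk (𝟙 Y))) θ) = _
    rw [← res_comp, w_map_σ]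
  rw [← h5]; exact h4

end Geom

end Groth.Agent.H67.SiteCmpA
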