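import Mathlib
import Groth.Prelude.Def_SiteCmp
import Groth.Agent.H67.SiteCmpA
import Groth.Agent.H67.DerivedNat
import Groth.Agent.H92.RIncl

/-!
# Helper library (helper67): comparing two topologies, part B

* `gs` : composite functors, when `R^q E M = 0` for `1 ≤ q ≤ n` (`E` preserving injectives),
  `R^i (E ⋙ G) M ≅ R^i G (E M)` for `i ≤ n`.
* `injective_eps`, `cohPresheaf_iso_of_vanish` : for `K' ≤ K`, `ε_*` preserves injectives and, when
  `R^q ε_* F = 0` for `1 ≤ q ≤ n`, the cohomology presheaves of `F` and `ε_* F` agree up to degree `n`.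
* `fstar_iso` : `R^q f_* G'` is the sheafification of `V ↦ H^q(V ×_Y X, G')`.
* `twoTop` : a `K'`-sheafification which happens to be a `K`-sheaf is the `K`-sheafification.
-/

set_option autoImplicit false
universe u
open CategoryTheory CategoryTheory.Limits Opposite
open Groth.Agent.H45.RDP
open Groth.Agent.H67.DerivedNat

namespace Groth.Agent.H67.SiteCmpB

section GS

universe v₁ v₂ v₃ u₁ u₂ u₃

variable {A : Type u₁} [Category.{v₁} A] [Abelian A] [HasInjectiveResolutions A]
  {B : Type u₂} [Category.{v₂} B] [Abelian B] [HasInjectiveResolutions B]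
  {C : Type u₃} [Category.{v₃} C] [Abelian C]
  (E : A ⥤ B) [E.Additive] [PreservesFiniteLimits E]
  (G : B ⥤ C) [G.Additive] [PreservesFiniteLimits G]

set_option maxHeartbeats 800000 in
theorem gs (hinj : ∀ I : A, Injective I → Injective (E.obj I)) (n : ℕ) (M : A)
    (hM : ∀ q : ℕ, 1 ≤ q → q ≤ n → IsZero ((E.rightDerived q).obj M)) (i : ℕ) (hi : i ≤ n) :
    Nonempty (((E ⋙ G).rightDerived i).obj M ≅ (G.rightDerived i).obj (E.obj M)) := by
  let _ := HasDerivedCategory.standard A
  let _ := HasDerivedCategory.standard B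
  let _ := HasDerivedCategory.standard C
  have := Groth.Agent.H5.GSS.enoughInjectives_of_hasInjectiveResolutions A
  have := Groth.Agent.H5.GSS.enoughInjectives_of_hasInjectiveResolutions B
  have key : ∀ (n : ℕ) (M : A),
      (∀ q : ℕ, 1 ≤ q → q ≤ n → IsZero ((RnF E (q : ℤ)).obj M)) →
      ∀ i : ℕ, i ≤ n →
        Nonempty ((RnF (E ⋙ G) (i : ℤ)).obj M ≅ (RnF G (i : ℤ)).obj (E.obj M)) := by
    intro n
    induction n with
    | zero =>
      intro M _ i hi
      obtain rfl : i = 0 := by omega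
      exact ⟨(Groth.Agent.H92.DimShift.r0Iso (E ⋙ G)).app M ≪≫
        ((Groth.Agent.H92.DimShift.r0Iso G).app (E.obj M)).symm⟩
    | succ n ih =>
      intro M hM i hi
      let S : ShortComplex A := ShortComplex.mk (Injective.ι M) (cokernel.π (Injective.ι M))
        (cokernel.condition _)
      have hS : S.ShortExact :=
        { exact := ShortComplex.exact_cokernel _
          mono_f := inferInstanceAs (Mono (Injective.ι M))
          epi_g := inferInstanceAs (Epi (cokernel.π (Injective.ι M))) }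
      haveI : Injective S.X₂ := inferInstanceAs (Injective (Injective.under M))
      haveI hEI : Injective (E.obj S.X₂) := hinj _ inferInstance
      have hES : (S.map E).ShortExact := by
        obtain ⟨hex, hmono⟩ :=
          (Functor.preservesFiniteLimits_iff_forall_exact_map_and_mono E).1 inferInstance S hS
        obtain ⟨δ, w₁, w₂, e₁, e₂⟩ := RnF_exists_δ E hS ((0 : ℕ) : ℤ) ((1 : ℕ) : ℤ) (by norm_num)
        have hz : IsZero ((RnF E ((1 : ℕ) : ℤ)).obj S.X₁) := hM 1 le_rfl (by omega)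
        have hepi : Epi ((RnF E ((0 : ℕ) : ℤ)).map S.g) := e₁.epi_f (hz.eq_of_tgt _ _)
        have hepi' : Epi (E.map S.g) := by
          have hnat := (Groth.Agent.H92.DimShift.r0Iso E).hom.naturality S.g
          have h2 : E.map S.g = (Groth.Agent.H92.DimShift.r0Iso E).inv.app S.X₂ ≫
              (RnF E ((0 : ℕ) : ℤ)).map S.g ≫ (Groth.Agent.H92.DimShift.r0Iso E).hom.app S.X₃ := by
            rw [show (RnF E ((0 : ℕ) : ℤ)).map S.g ≫
                (Groth.Agent.H92.DimShift.r0Iso E).hom.app S.X₃ =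
              (Groth.Agent.H92.DimShift.r0Iso E).hom.app S.X₂ ≫ E.map S.g from hnat,
              Iso.inv_hom_id_app_assoc]
          rw [h2]
          infer_instance
        haveI : Mono (S.map E).f := hmono
        haveI : Epi (S.map E).g := hepi'
        exact { exact := hex }
      have hQ : ∀ q : ℕ, 1 ≤ q → q ≤ n → IsZero ((RnF E (q : ℤ)).obj S.X₃) := by
        intro q hq1 hqn
        obtain ⟨p, rfl⟩ : ∃ p, q = p + 1 := ⟨q - 1, by omega⟩
        obtain ⟨c⟩ := Groth.Agent.H92.DimShift.rs E hS p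
        exact IsZero.of_iso (hM (p + 2) (by omega) (by omega)) c.symm
      have ihQ := ih S.X₃ hQ
      match i, hi with
      | 0, _ =>
        exact ⟨(Groth.Agent.H92.DimShift.r0Iso (E ⋙ G)).app M ≪≫
          ((Groth.Agent.H92.DimShift.r0Iso G).app (E.obj M)).symm⟩
      | 1, _ =>
        obtain ⟨a⟩ := Groth.Agent.H92.DimShift.r1 (E ⋙ G) hS
        have hz : IsZero ((RnF G 1).obj (S.map E).X₂) :=
          isZero_RnF_obj_of_injective G (E.obj S.X₂) 1 (by norm_num)
        obtain ⟨b⟩ := Groth.Agent.H30.CompDer.r1' G hES hz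
        exact ⟨a ≪≫ b.symm⟩
      | p + 2, hp =>
        obtain ⟨a⟩ := Groth.Agent.H92.DimShift.rs (E ⋙ G) hS p
        obtain ⟨b⟩ := ihQ (p + 1) (by omega)
        have hz1 : IsZero ((RnF G ((p + 1 : ℕ) : ℤ)).obj (S.map E).X₂) :=
          isZero_RnF_obj_of_injective G (E.obj S.X₂) _ (by push_cast; omega)
        have hz2 : IsZero ((RnF G ((p + 2 : ℕ) : ℤ)).obj (S.map E).X₂) :=
          isZero_RnF_obj_of_injective G (E.obj S.X₂) _ (by push_cast; omega)
        obtain ⟨c⟩ := Groth.Agent.H30.CompDer.rs' G hES p hz1 hz2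
        exact ⟨a ≪≫ b ≪≫ c.symm⟩
  have hM' : ∀ q : ℕ, 1 ≤ q → q ≤ n → IsZero ((RnF E (q : ℤ)).obj M) := by
    intro q h1 h2
    obtain ⟨c⟩ := Groth.Agent.H5.GSS.nonempty_rnf_iso E M q
    exact IsZero.of_iso (hM q h1 h2) c
  obtain ⟨a⟩ := key n M hM' i hi
  obtain ⟨b⟩ := Groth.Agent.H5.GSS.nonempty_rnf_iso (E ⋙ G) M i
  obtain ⟨c⟩ := Groth.Agent.H5.GSS.nonempty_rnf_iso G (E.obj M) i
  exact ⟨b.symm ≪≫ a ≪≫ c⟩

end GS

section Eps

variable {D : Type u} [SmallCategory D] {K K' : GrothendieckTopology D} (hle : K' ≤ K)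

/-- `ε_*` does not change the underlying presheaf -/
noncomputable def epsForget :
    SiteCmp.epsSh hle AddCommGrpCat.{u} ⋙ sheafToPresheaf K' AddCommGrpCat.{u} ≅
      sheafToPresheaf K AddCommGrpCat.{u} :=
  NatIso.ofComponents
    (fun F => NatIso.ofComponents (fun U => Iso.refl _)
      (fun {U V} g => (Category.comp_id _).trans (Category.id_comp _).symm))
    (by
      intro F G φ
      apply NatTrans.ext
      funext U
      show φ.hom.app U ≫ 𝟙 _ = 𝟙 _ ≫ φ.hom.app U
      rw [Category.comp_id, Category.id_comp])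

/-- `ε⁻¹ ⊣ ε_*`, with `ε⁻¹` the `K`-sheafification of the underlying presheaf -/
noncomputable def epsAdj :
    sheafToPresheaf K' AddCommGrpCat.{u} ⋙ presheafToSheaf K AddCommGrpCat.{u} ⊣
      SiteCmp.epsSh hle AddCommGrpCat.{u} :=
  (sheafificationAdjunction K AddCommGrpCat.{u}).restrictFullyFaithful
    (fullyFaithfulSheafToPresheaf K' AddCommGrpCat.{u}) (Functor.FullyFaithful.id (Sheaf K AddCommGrpCat.{u}))
    (Functor.rightUnitor _).symm
    (Functor.leftUnitor _ ≪≫ (epsForget hle).symm)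

theorem injective_eps (I : Sheaf K AddCommGrpCat.{u}) [Injective I] :
    Injective ((SiteCmp.epsSh hle AddCommGrpCat.{u}).obj I) :=
  Injective.injective_of_adjoint (epsAdj hle) I

theorem preservesFiniteLimits_eps :
    PreservesFiniteLimits (SiteCmp.epsSh hle AddCommGrpCat.{u}) := by
  haveI := SiteCmp.idContinuous hle
  exact Groth.Agent.H67.SiteCmpA.preservesFiniteLimits_push K K' (𝟭 D)

theorem cohPresheaf_iso_of_vanish (F : Sheaf K AddCommGrpCat.{u}) (n : ℕ)
    (hF : ∀ q : ℕ, 1 ≤ q → q ≤ n →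
      IsZero (((SiteCmp.epsSh hle AddCommGrpCat.{u}).rightDerived q).obj F))
    (i : ℕ) (hi : i ≤ n) :
    Nonempty (Sheaf.cohomologyPresheaf.{u} ((SiteCmp.epsSh hle AddCommGrpCat.{u}).obj F) i ≅
      Sheaf.cohomologyPresheaf.{u} F i) := by
  haveI := preservesFiniteLimits_eps hle
  obtain ⟨a⟩ := gs (SiteCmp.epsSh hle AddCommGrpCat.{u}) (sheafToPresheaf K' AddCommGrpCat.{u})
    (fun I hI => by haveI := hI; exact injective_eps hle I) n F hF i hi
  obtain ⟨b⟩ := Groth.Agent.H92.RIncl.main K' i ((SiteCmp.epsSh hle AddCommGrpCat.{u}).obj F)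
  obtain ⟨c⟩ := Groth.Agent.H92.RIncl.main K i F
  exact ⟨b ≪≫ a.symm ≪≫ (rightDerivedNatIso (epsForget hle) i).app F ≪≫ c.symm⟩

theorem twoTop (P : Dᵒᵖ ⥤ AddCommGrpCat.{u}) (hP : Presheaf.IsSheaf K (sheafify K' P)) :
    Nonempty ((SiteCmp.epsSh hle AddCommGrpCat.{u}).obj
        ((presheafToSheaf K AddCommGrpCat.{u}).obj P) ≅
      (presheafToSheaf K' AddCommGrpCat.{u}).obj P) := by
  let S : Sheaf K AddCommGrpCat.{u} := ⟨sheafify K' P, hP⟩
  have hW : K.W (toSheafify K' P) := by
    haveI : Presheaf.IsLocallyInjective K (toSheafify K' P) :=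
      ⟨fun x y hxy => hle _ (Presheaf.equalizerSieve_mem K' (toSheafify K' P) x y hxy)⟩
    haveI : Presheaf.IsLocallySurjective K (toSheafify K' P) :=
      ⟨fun {U} s => hle _ (Presheaf.imageSieve_mem K' (toSheafify K' P) (U := op U) s)⟩
    exact K.W_of_isLocallyBijective _
  haveI : IsIso ((presheafToSheaf K AddCommGrpCat.{u}).map (toSheafify K' P)) := (K.W_iff _).1 hW
  let e₁ : (presheafToSheaf K AddCommGrpCat.{u}).obj P ≅
      (presheafToSheaf K AddCommGrpCat.{u}).obj S.obj :=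
    asIso ((presheafToSheaf K AddCommGrpCat.{u}).map (toSheafify K' P))
  let e₂ : (presheafToSheaf K AddCommGrpCat.{u}).obj S.obj ≅ S :=
    asIso ((sheafificationAdjunction K AddCommGrpCat.{u}).counit.app S)
  let e₃ : (SiteCmp.epsSh hle AddCommGrpCat.{u}).obj S ≅
      (presheafToSheaf K' AddCommGrpCat.{u}).obj P :=
    (fullyFaithfulSheafToPresheaf K' AddCommGrpCat.{u}).preimageIso
      (NatIso.ofComponents (fun U => Iso.refl _)
        (fun {U V} g => (Category.comp_id _).trans (Category.id_comp _).symm))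
  exact ⟨(SiteCmp.epsSh hle AddCommGrpCat.{u}).mapIso (e₁ ≪≫ e₂) ≪≫ e₃⟩

end Eps

section Geom

variable {C : Type u} [SmallCategory C] (Jt : GrothendieckTopology C) {X Y : C} (f : X ⟶ Y)
  [HasPullbacksAlong f]

/-- `R^q f_* G'` is the sheafification of `V ↦ H^q(V ×_Y X, G')` -/
theorem fstar_iso (G' : Sheaf (Jt.over X) AddCommGrpCat.{u}) (q : ℕ) :
    Nonempty (((Groth.Agent.H67.SiteCmpA.fStar Jt f).rightDerived q).obj G' ≅
      (presheafToSheaf (Jt.over Y) AddCommGrpCat.{u}).obj
        ((Over.pullback f).op ⋙ Sheaf.cohomologyPresheaf.{u} G' q)) := by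
  obtain ⟨e₂⟩ := Groth.Agent.S0487.result (Jt.over X) (Jt.over Y) (Over.pullback f) G' q
  exact ⟨(rightDerivedNatIso (Groth.Agent.H67.SiteCmpA.eV Jt f) q).app G' ≪≫ e₂⟩

end Geom

end Groth.Agent.H67.SiteCmpB
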