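import Mathlib.Combinatorics.SimpleGraph.Finite
import Mathlib.Combinatorics.SimpleGraph.Connectivity.Connected
import Mathlib.Combinatorics.SimpleGraph.DeleteEdges
import Mathlib.Algebra.Group.Pi.Lemmas
import Mathlib.Algebra.BigOperators.Group.Finset.Basic
import Mathlib.Algebra.BigOperators.Group.Finset.Piecewise
import Mathlib.Algebra.BigOperators.GroupWithZero.Action
import Mathlib.Algebra.BigOperators.Ring.Finset
import Mathlib.Algebra.Module.BigOperators
import Mathlib.Tactic.Ring

set_option autoImplicit false

namespace Groth.Agent.H67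

open SimpleGraph

universe u v

variable {V : Type u}

/-- Labelling of the edges along a walk: the edge `x — y` traversed from `x` gets `σ x`. -/
def walkLab {G : SimpleGraph V} [DecidableEq V] (σ : V → ℤ) :
    ∀ {u v : V}, G.Walk u v → Sym2 V → ℤ
  | _, _, .nil => fun _ => 0
  | _, _, @Walk.cons _ _ x y _ _ p => fun e => (if e = s(x, y) then σ x else 0) + walkLab σ p e

theorem walkLab_nil {G : SimpleGraph V} [DecidableEq V] (σ : V → ℤ) (u : V) (e : Sym2 V) :
    walkLab σ (Walk.nil : G.Walk u u) e = 0 := rfl

theorem walkLab_cons {G : SimpleGraph V} [DecidableEq V] (σ : V → ℤ) {x y z : V}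
    (h : G.Adj x y) (p : G.Walk y z) (e : Sym2 V) :
    walkLab σ (Walk.cons h p) e = (if e = s(x, y) then σ x else 0) + walkLab σ p e := rfl

theorem walkLab_supp {G : SimpleGraph V} [DecidableEq V] (σ : V → ℤ) {u v : V}
    (p : G.Walk u v) (e : Sym2 V) (he : e ∉ G.edgeSet) : walkLab σ p e = 0 := by
  induction p with
  | nil => rfl
  | @cons x y z h p ih =>
    have hne : e ≠ s(x, y) := fun h' => he (h' ▸ (G.mem_edgeSet.2 h))
    rw [walkLab_cons, if_neg hne, ih, add_zero]

theorem walkLab_sum {G : SimpleGraph V} [Fintype V] [DecidableEq V] [DecidableRel G.Adj]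
    (σ : V → ℤ) (hσ : ∀ u w, G.Adj u w → σ w = - σ u) {u v : V} (p : G.Walk u v) (t : V) :
    ∑ e ∈ G.incidenceFinset t, walkLab σ p e =
      (if t = u then σ u else 0) - (if t = v then σ v else 0) := by
  induction p with
  | nil => simp [walkLab_nil]
  | @cons x y z h p ih =>
    have hmem : s(x, y) ∈ G.incidenceFinset t ↔ (t = x ∨ t = y) := by
      rw [mem_incidenceFinset, mk'_mem_incidenceSet_iff]
      exact ⟨fun h' => h'.2, fun h' => ⟨h, h'⟩⟩
    have hne : x ≠ y := h.ne
    have hne' : ¬ y = x := fun h' => hne h'.symm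
    have hw := hσ x y h
    have hsum : ∑ e ∈ G.incidenceFinset t, walkLab σ (Walk.cons h p) e =
        (if s(x, y) ∈ G.incidenceFinset t then σ x else 0) +
          ((if t = y then σ y else 0) - (if t = z then σ z else 0)) := by
      rw [← ih, ← Finset.sum_ite_eq' (G.incidenceFinset t) s(x, y) (fun _ => σ x),
        ← Finset.sum_add_distrib]
      exact Finset.sum_congr rfl (fun e _ => walkLab_cons σ h p e)
    rw [hsum]
    by_cases h1 : t = x
    · have h2 : ¬ t = y := fun h' => hne (h1.symm.trans h')
      rw [if_pos (hmem.2 (Or.inl h1)), if_pos h1, if_neg h2]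
      ring
    · by_cases h2 : t = y
      · rw [if_pos (hmem.2 (Or.inr h2)), if_neg h1, if_pos h2, hw]
        ring
      · have : ¬ s(x, y) ∈ G.incidenceFinset t := fun h' => (hmem.1 h').elim h1 h2
        rw [if_neg this, if_neg h1, if_neg h2]
        ring

/-- In a connected graph with a sign function alternating along edges, every vertex weighting
with vanishing signed sum is the vector of incidence sums of an edge labelling supported on the
edges. -/
theorem exists_labelling {G : SimpleGraph V} [Fintype V] [DecidableEq V] [DecidableRel G.Adj]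
    (hconn : G.Connected) (σ : V → ℤ) (hσ : ∀ u w, G.Adj u w → σ w = - σ u)
    (hσ1 : ∀ v, σ v * σ v = 1) {A : Type v} [AddCommGroup A] (a : V → A)
    (h0 : ∑ v, σ v • a v = 0) :
    ∃ x : Sym2 V → A, (∀ e, e ∉ G.edgeSet → x e = 0) ∧
      ∀ t, ∑ e ∈ G.incidenceFinset t, x e = a t := by
  obtain ⟨r⟩ := hconn.nonempty
  let p : ∀ v, G.Walk v r := fun v => (hconn.preconnected v r).some
  refine ⟨fun e => ∑ v, (σ v * walkLab σ (p v) e) • a v, ?_, ?_⟩
  · intro e he
    apply Finset.sum_eq_zero
    intro v _
    rw [walkLab_supp σ (p v) e he, mul_zero, zero_smul]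
  · intro t
    rw [Finset.sum_comm]
    have key : ∀ v, ∑ e ∈ G.incidenceFinset t, (σ v * walkLab σ (p v) e) • a v =
        (if t = v then a v else 0) - (if t = r then σ r else 0) • (σ v • a v) := by
      intro v
      rw [← Finset.sum_smul, ← Finset.mul_sum, walkLab_sum σ hσ (p v) t, mul_sub, sub_smul]
      congr 1
      · by_cases h : t = v
        · rw [if_pos h, if_pos h, hσ1, one_smul]
        · rw [if_neg h, if_neg h, mul_zero, zero_smul]
      · rw [mul_comm, mul_smul]
    rw [Finset.sum_congr rfl (fun v _ => key v), Finset.sum_sub_distrib, ← Finset.smul_sum, h0,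
      smul_zero, sub_zero, Finset.sum_ite_eq]
    simp

/-- The sign function of a Boolean colouring. -/
def bsign {W : Type u} (c : W → Bool) : W → ℤ := fun v => if c v = true then 1 else -1

theorem bsign_mul_self {W : Type u} (c : W → Bool) (v : W) : bsign c v * bsign c v = 1 := by
  unfold bsign
  split_ifs <;> simp

theorem bsign_adj {W : Type u} (c : W → Bool) (u w : W) (h : c u ≠ c w) :
    bsign c w = - bsign c u := by
  unfold bsign
  cases hu : c u <;> cases hw : c w <;> simp_all

end Groth.Agent.H67
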