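import Mathlib.CategoryTheory.Sites.SheafCohomology.Cech
import Mathlib.Algebra.Category.Grp.AB
import Mathlib.Algebra.Category.Grp.Limits
import Mathlib.Algebra.Homology.ShortComplex.Ab
import Mathlib.Algebra.Homology.HomologySequence

/-!
# Helper library (helper67): Čech complexes of presheaves of abelian groups — generalized
simplices, evaluation, and the contraction lemma.
-/

set_option autoImplicit false
universe u

open CategoryTheory CategoryTheory.Limits Opposite Simplicial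

namespace Groth.Agent.H67.Cech

variable {D : Type u} [Category.{u} D] [HasFiniteProducts D] {ι : Type u} (Y : ι → D)
  (R : Dᵒᵖ ⥤ AddCommGrpCat.{u})

/-- The Čech cosimplicial abelian group. -/
noncomputable abbrev cosimp : CosimplicialObject AddCommGrpCat.{u} :=
  (FormalCoproduct.cosimplicialObjectFunctor (FormalCoproduct.mk _ Y).cech).obj R

/-- The Čech complex. -/
noncomputable abbrev cx : CochainComplex AddCommGrpCat.{u} ℕ := (cechComplexFunctor Y).obj R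

lemma cx_eq : cx Y R = (AlgebraicTopology.alternatingCofaceMapComplex _).obj (cosimp Y R) := rfl

/-- The value of `R` on the fibre product indexed by `a`. -/
noncomputable abbrev term (n : ℕ) (a : Fin (n + 1) → ι) : AddCommGrpCat.{u} :=
  R.obj (op (∏ᶜ (Y ∘ a)))

lemma cosimp_obj (n : ℕ) : (cosimp Y R).obj ⦋n⦌ = ∏ᶜ (term Y R n) := rfl

/-- Generalized simplices: an `(n+1)`-tuple of indices with maps from `W`. -/
abbrev Simplex (W : D) (n : ℕ) : Type u := Fin (n + 1) → Σ i, (W ⟶ Y i)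

variable {Y}

/-- The canonical simplex on the product. -/
noncomputable abbrev can {n : ℕ} (a : Fin (n + 1) → ι) : Simplex Y (∏ᶜ (Y ∘ a)) n :=
  fun j => ⟨a j, Pi.π (Y ∘ a) j⟩

/-- Pull back a simplex. -/
abbrev Simplex.pull {W W' : D} {n : ℕ} (σ : Simplex Y W n) (h : W' ⟶ W) : Simplex Y W' n :=
  fun j => ⟨(σ j).1, h ≫ (σ j).2⟩

/-- index tuple of a simplex -/
abbrev Simplex.idx {W : D} {n : ℕ} (σ : Simplex Y W n) : Fin (n + 1) → ι := fun j => (σ j).1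

/-- the map to the product -/
noncomputable def Simplex.toProd {W : D} {n : ℕ} (σ : Simplex Y W n) : W ⟶ ∏ᶜ (Y ∘ σ.idx) :=
  Pi.lift fun j => (σ j).2

/-- Evaluation of cochains on a generalized simplex. -/
noncomputable def ev {W : D} {n : ℕ} (σ : Simplex Y W n) :
    ∏ᶜ (term Y R n) ⟶ R.obj (op W) :=
  Pi.π (term Y R n) σ.idx ≫ R.map σ.toProd.op

lemma ev_eq_of {W : D} {n : ℕ} (σ : Simplex Y W n) (a : Fin (n + 1) → ι)
    (g : W ⟶ ∏ᶜ (Y ∘ a)) (h : σ = fun j => ⟨a j, g ≫ Pi.π (Y ∘ a) j⟩) :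
    ev R σ = Pi.π (term Y R n) a ≫ R.map g.op := by
  subst h
  have : Simplex.toProd (Y := Y) (fun j => ⟨a j, g ≫ Pi.π (Y ∘ a) j⟩) = g := by
    apply Pi.hom_ext
    intro j
    simp [Simplex.toProd]
  show Pi.π (term Y R n) a ≫ R.map (Simplex.toProd (Y := Y) (fun j => ⟨a j, g ≫ Pi.π (Y ∘ a) j⟩)).op = _
  rw [this]

lemma ev_can {n : ℕ} (a : Fin (n + 1) → ι) : ev R (can a) = Pi.π (term Y R n) a := by
  rw [ev_eq_of R (can a) a (𝟙 _) (by funext j; simp [can])]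
  simp

lemma ev_pull {W W' : D} {n : ℕ} (σ : Simplex Y W n) (h : W' ⟶ W) :
    ev R σ ≫ R.map h.op = ev R (σ.pull h) := by
  rw [ev_eq_of R (σ.pull h) σ.idx (h ≫ σ.toProd)
    (by funext j; simp [Simplex.pull, Simplex.toProd, Simplex.idx])]
  simp only [ev, Category.assoc, op_comp, Functor.map_comp]

/-- The cosimplicial structure maps of the Čech cosimplicial group, explicitly. -/
noncomputable def cmap {m n : ℕ} (f : ⦋m⦌ ⟶ ⦋n⦌) : ∏ᶜ (term Y R m) ⟶ ∏ᶜ (term Y R n) :=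
  Pi.lift (f := term Y R n) (fun (a : Fin (n + 1) → ι) =>
      Pi.π (term Y R m) (a ∘ f.toOrderHom) ≫
        R.map (Pi.lift (fun j => Pi.π (Y ∘ a) (f.toOrderHom j)) :
          ∏ᶜ (Y ∘ a) ⟶ ∏ᶜ (Y ∘ a ∘ f.toOrderHom)).op)

lemma cosimp_map {m n : ℕ} (f : ⦋m⦌ ⟶ ⦋n⦌) :
    (cosimp Y R).map f = cmap R f := by
  rfl

lemma cmap_ev {W : D} {m n : ℕ} (f : ⦋m⦌ ⟶ ⦋n⦌) (σ : Simplex Y W n) :
    cmap R f ≫ ev R σ = ev R (fun j => σ (f.toOrderHom j)) := by
  rw [ev_eq_of R (fun j => σ (f.toOrderHom j)) (σ.idx ∘ f.toOrderHom)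
    (σ.toProd ≫ Pi.lift (fun j => Pi.π (Y ∘ σ.idx) (f.toOrderHom j)))
    (by funext j; simp [Simplex.toProd, Simplex.idx])]
  simp only [ev, cmap, Category.assoc, op_comp, Functor.map_comp, Pi.lift_π_assoc]


section Contraction

variable (Y)

/-- The presheaf `W ↦ ∏_i R(W × Y_i)`. -/
noncomputable def RY : Dᵒᵖ ⥤ AddCommGrpCat.{u} where
  obj W := ∏ᶜ fun i => R.obj (op (W.unop ⨯ Y i))
  map {W W'} h := Limits.Pi.map fun i => R.map (prod.map h.unop (𝟙 (Y i))).op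
  map_id W := by
    apply Limits.Pi.hom_ext
    intro i
    simp
  map_comp f g := by
    apply Limits.Pi.hom_ext
    intro i
    simp only [Limits.Pi.map_π, Category.assoc, Limits.Pi.map_π_assoc, ← R.map_comp, ← op_comp]
    congr 3
    ext <;> simp

/-- The canonical map `R ⟶ R^Y`. -/
noncomputable def η : R ⟶ RY Y R where
  app W := Limits.Pi.lift fun i => R.map (prod.fst : W.unop ⨯ Y i ⟶ W.unop).op
  naturality W W' h := by
    apply Limits.Pi.hom_ext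
    intro i
    simp only [RY, Category.assoc, Limits.Pi.lift_π, Limits.Pi.map_π, Limits.Pi.lift_π_assoc,
      ← R.map_comp, ← op_comp]
    congr 2
    simp

variable {Y}

/-- Maps into `R^Y(W)`. -/
noncomputable def RYlift {W : D} {Z : AddCommGrpCat.{u}} (φ : ∀ i, Z ⟶ R.obj (op (W ⨯ Y i))) :
    Z ⟶ (RY Y R).obj (op W) :=
  Limits.Pi.lift φ

lemma comp_RYlift {W : D} {Z Z' : AddCommGrpCat.{u}} (ψ : Z' ⟶ Z)
    (φ : ∀ i, Z ⟶ R.obj (op (W ⨯ Y i))) :
    ψ ≫ RYlift R φ = RYlift R (fun i => ψ ≫ φ i) := by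
  show ψ ≫ Limits.Pi.lift φ = Limits.Pi.lift (fun i => ψ ≫ φ i)
  apply Limits.Pi.hom_ext
  intro i
  simp

lemma RYlift_map {W W' : D} {Z : AddCommGrpCat.{u}} (φ : ∀ i, Z ⟶ R.obj (op (W ⨯ Y i)))
    (h : W' ⟶ W) :
    RYlift R φ ≫ (RY Y R).map h.op =
      RYlift R (fun i => φ i ≫ R.map (prod.map h (𝟙 (Y i))).op) := by
  show Limits.Pi.lift φ ≫ Limits.Pi.map (fun i => R.map (prod.map h (𝟙 (Y i))).op) =
    Limits.Pi.lift (fun i => φ i ≫ R.map (prod.map h (𝟙 (Y i))).op)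
  apply Limits.Pi.hom_ext
  intro i
  simp

lemma η_app (W : D) :
    (η Y R).app (op W) = RYlift R (fun i => R.map (prod.fst : W ⨯ Y i ⟶ W).op) := rfl

/-- Extend a simplex on `W` to a simplex on `W × Y_i` by putting `i` in front. -/
noncomputable abbrev Simplex.ext {W : D} {n : ℕ} (σ : Simplex Y W n) (i : ι) :
    Simplex Y (W ⨯ Y i) (n + 1) :=
  Fin.cons ⟨i, prod.snd⟩ (fun j => ⟨(σ j).1, prod.fst ≫ (σ j).2⟩)

lemma Simplex.ext_succ {W : D} {n : ℕ} (σ : Simplex Y W n) (i : ι) :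
    (fun j => σ.ext i (Fin.succ j)) = σ.pull prod.fst := by
  funext j
  simp [Simplex.ext, Simplex.pull]

lemma Simplex.ext_succAbove {W : D} {n : ℕ} (σ : Simplex Y W (n + 1)) (i : ι) (k : Fin (n + 2)) :
    (fun j => σ.ext i (Fin.succAbove k.succ j)) = Simplex.ext (fun j => σ (k.succAbove j)) i := by
  funext j
  refine Fin.cases ?_ (fun j' => ?_) j
  · simp [Simplex.ext]
  · simp [Simplex.ext]

lemma Simplex.ext_pull {W W' : D} {n : ℕ} (σ : Simplex Y W n) (i : ι) (h : W' ⟶ W) :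
    (σ.ext i).pull (prod.map h (𝟙 (Y i))) = (σ.pull h).ext i := by
  funext j
  refine Fin.cases ?_ (fun j' => ?_) j
  · show (⟨i, prod.map h (𝟙 (Y i)) ≫ prod.snd⟩ : Σ i', (W' ⨯ Y i ⟶ Y i')) = ⟨i, prod.snd⟩
    rw [prod.map_snd, Category.comp_id]
  · show (⟨(σ j').1, prod.map h (𝟙 (Y i)) ≫ prod.fst ≫ (σ j').2⟩ :
      Σ i', (W' ⨯ Y i ⟶ Y i')) = ⟨(σ j').1, prod.fst ≫ h ≫ (σ j').2⟩
    rw [prod.map_fst_assoc]

variable (r : RY Y R ⟶ R)

/-- The contraction operator evaluated on a generalized simplex. -/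
noncomputable def Sop {W : D} {n : ℕ} (σ : Simplex Y W n) :
    ∏ᶜ (term Y R (n + 1)) ⟶ R.obj (op W) :=
  RYlift R (fun i => ev R (σ.ext i)) ≫ r.app (op W)

lemma comp_Sop {W : D} {n : ℕ} (σ : Simplex Y W n) {Z : AddCommGrpCat.{u}}
    (φ : Z ⟶ ∏ᶜ (term Y R (n + 1))) :
    φ ≫ Sop R r σ = RYlift R (fun i => φ ≫ ev R (σ.ext i)) ≫ r.app (op W) := by
  unfold Sop
  rw [← Category.assoc, comp_RYlift]

lemma δ_zero_Sop (hr : η Y R ≫ r = 𝟙 R) {W : D} {n : ℕ} (σ : Simplex Y W n) :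
    cmap R (SimplexCategory.δ (0 : Fin (n + 2))) ≫ Sop R r σ = ev R σ := by
  rw [comp_Sop]
  have h1 : ∀ i, cmap R (SimplexCategory.δ (0 : Fin (n + 2))) ≫ ev R (σ.ext i) =
      ev R σ ≫ R.map (prod.fst : W ⨯ Y i ⟶ W).op := by
    intro i
    rw [cmap_ev, ev_pull, ← Simplex.ext_succ σ i]
    rfl
  simp only [h1]
  rw [← comp_RYlift, ← η_app, Category.assoc]
  have h3 : (η Y R).app (op W) ≫ r.app (op W) = 𝟙 _ := by
    rw [← NatTrans.comp_app, hr]
    rfl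
  rw [h3, Category.comp_id]

lemma δ_succ_Sop {W : D} {n : ℕ} (σ : Simplex Y W (n + 1)) (k : Fin (n + 2)) :
    cmap R (SimplexCategory.δ k.succ) ≫ Sop R r σ =
      Sop R r (fun j => σ ((SimplexCategory.δ k).toOrderHom j)) := by
  rw [comp_Sop]
  unfold Sop
  congr 2
  funext i
  rw [cmap_ev]
  congr 1
  exact Simplex.ext_succAbove σ i k

lemma Sop_pull {W W' : D} {n : ℕ} (σ : Simplex Y W n) (h : W' ⟶ W) :
    Sop R r σ ≫ R.map h.op = Sop R r (σ.pull h) := by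
  unfold Sop
  rw [Category.assoc, ← r.naturality, ← Category.assoc, RYlift_map]
  congr 2
  funext i
  rw [← Simplex.ext_pull, ← ev_pull]

/-- The contracting homotopy. -/
noncomputable def sHom (n : ℕ) : ∏ᶜ (term Y R (n + 1)) ⟶ ∏ᶜ (term Y R n) :=
  Limits.Pi.lift (f := term Y R n) (fun b => Sop R r (can b))

lemma sHom_ev {W : D} {n : ℕ} (σ : Simplex Y W n) : sHom R r n ≫ ev R σ = Sop R r σ := by
  have h : (can σ.idx).pull σ.toProd = σ := by
    funext j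
    simp [Simplex.pull, can, Simplex.toProd, Simplex.idx]
  unfold ev sHom
  rw [Limits.Pi.lift_π_assoc, Sop_pull, h]

lemma δ_zero_sHom (hr : η Y R ≫ r = 𝟙 R) (n : ℕ) :
    cmap R (SimplexCategory.δ (0 : Fin (n + 2))) ≫ sHom R r n = 𝟙 _ := by
  apply Limits.Pi.hom_ext
  intro b
  unfold sHom
  rw [Category.assoc, Limits.Pi.lift_π, δ_zero_Sop R r hr, ev_can, Category.id_comp]

lemma δ_succ_sHom (n : ℕ) (k : Fin (n + 2)) :
    cmap R (SimplexCategory.δ k.succ) ≫ sHom R r (n + 1) =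
      sHom R r n ≫ cmap R (SimplexCategory.δ k) := by
  apply Limits.Pi.hom_ext
  intro a
  rw [Category.assoc, Category.assoc, ← ev_can, cmap_ev, sHom_ev, sHom_ev, δ_succ_Sop]

/-- The Čech differential, explicitly. -/
noncomputable def dd (n : ℕ) : ∏ᶜ (term Y R n) ⟶ ∏ᶜ (term Y R (n + 1)) :=
  ∑ k : Fin (n + 2), (-1 : ℤ) ^ (k : ℕ) • cmap R (SimplexCategory.δ k)

lemma cx_d (n : ℕ) : (cx Y R).d n (n + 1) = dd R n := by
  have h : (cx Y R).d n (n + 1) =
      AlgebraicTopology.AlternatingCofaceMapComplex.objD (cosimp Y R) n :=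
    CochainComplex.of_d (fun n => (cosimp Y R).obj ⦋n⦌)
      (AlgebraicTopology.AlternatingCofaceMapComplex.objD (cosimp Y R)) n
  exact h.trans rfl

omit [HasFiniteProducts D] in
lemma alt_sum_identity {A : Type*} [Category A] [Preadditive A] {X0 X1 X2 : A} (m : ℕ)
    (δ' : Fin (m + 2) → (X1 ⟶ X2)) (δ : Fin (m + 1) → (X0 ⟶ X1)) (s' : X2 ⟶ X1) (s : X1 ⟶ X0)
    (h0 : δ' 0 ≫ s' = 𝟙 X1) (h1 : ∀ k : Fin (m + 1), δ' k.succ ≫ s' = s ≫ δ k) :
    (∑ k : Fin (m + 2), (-1 : ℤ) ^ (k : ℕ) • δ' k) ≫ s' +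
      s ≫ (∑ k : Fin (m + 1), (-1 : ℤ) ^ (k : ℕ) • δ k) = 𝟙 X1 := by
  rw [Preadditive.sum_comp, Preadditive.comp_sum, Fin.sum_univ_succ]
  have e0 : ((-1 : ℤ) ^ ((0 : Fin (m + 2)) : ℕ) • δ' 0) ≫ s' = 𝟙 X1 := by
    rw [Fin.val_zero, pow_zero, one_smul, h0]
  have e1 : ∀ k : Fin (m + 1), ((-1 : ℤ) ^ ((k.succ : Fin (m + 2)) : ℕ) • δ' k.succ) ≫ s' =
      - (s ≫ ((-1 : ℤ) ^ (k : ℕ) • δ k)) := by
    intro k
    rw [Preadditive.zsmul_comp, Preadditive.comp_zsmul, h1, Fin.val_succ, pow_succ, mul_neg_one,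
      neg_smul]
  rw [e0, Finset.sum_congr rfl (fun k _ => e1 k), Finset.sum_neg_distrib]
  abel

lemma homotopy_identity (hr : η Y R ≫ r = 𝟙 R) (n : ℕ) :
    dd R (n + 1) ≫ sHom R r (n + 1) + sHom R r n ≫ dd R n = 𝟙 _ :=
  alt_sum_identity (n + 1) (fun k => cmap R (SimplexCategory.δ k))
    (fun k => cmap R (SimplexCategory.δ k)) _ _ (δ_zero_sHom R r hr (n + 1))
    (fun k => δ_succ_sHom R r n k)

theorem isZero_homology_succ_of_retraction (hr : η Y R ≫ r = 𝟙 R) (p : ℕ) :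
    IsZero ((cx Y R).homology (p + 1)) := by
  rw [← HomologicalComplex.exactAt_iff_isZero_homology,
    HomologicalComplex.exactAt_iff' _ p (p + 1) (p + 2) (by simp) (by simp),
    ShortComplex.ab_exact_iff]
  intro x hx
  have hx' : (dd R (p + 1)).hom x = 0 := by
    rw [← cx_d]
    exact hx
  refine ⟨(sHom R r p).hom x, ?_⟩
  have h := congrArg (fun φ => φ.hom x) (homotopy_identity R r hr p)
  simp only [AddCommGrpCat.hom_add, AddCommGrpCat.hom_comp, AddMonoidHom.add_apply,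
    AddMonoidHom.comp_apply, hx', map_zero, zero_add, AddCommGrpCat.hom_id,
    AddMonoidHom.id_apply] at h
  show ((cx Y R).d p (p + 1)).hom _ = x
  rw [cx_d]
  exact h

end Contraction

end Groth.Agent.H67.Cech
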