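import Groth.Agent.H67.CechA
import Groth.Agent.H45.OverShriek
import Groth.Prelude.Def_CohCx
import Mathlib.CategoryTheory.Sites.Abelian
import Mathlib.CategoryTheory.Sites.LeftExact
import Mathlib.CategoryTheory.Preadditive.Injective.Basic

/-!
# Helper library (helper67): Čech cohomology of injective sheaves vanishes
-/

set_option autoImplicit false
universe u

open CategoryTheory CategoryTheory.Limits Opposite

namespace Groth.Agent.H67.Cech

variable {C : Type u} [SmallCategory C] (J : GrothendieckTopology C)

/-- The restriction to `Over U` of (the underlying presheaf of) an injective sheaf is an injective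
presheaf. -/
lemma injective_over (I : Sheaf J AddCommGrpCat.{u}) [Injective I] (U : C) :
    Injective ((Over.forget U).op ⋙ I.obj) := by
  haveI : Injective I.obj :=
    Injective.injective_of_adjoint (sheafificationAdjunction J AddCommGrpCat.{u}) I
  haveI := Groth.Agent.H45.lan_preservesFiniteLimits_of_exactColimits AddCommGrpCat.{u}
    (Over.forget U)
  exact Injective.injective_of_adjoint ((Over.forget U).op.lanAdjunction AddCommGrpCat.{u}) I.obj

/-- sections of a sheaf vanishing on a covering sieve vanish -/
lemma eq_zero_of_locally (F : Sheaf J AddCommGrpCat.{u}) {V : C} (S : Sieve V) (hS : S ∈ J V)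
    (x : F.obj.obj (op V)) (h : ∀ ⦃W : C⦄ (f : W ⟶ V), S f → F.obj.map f.op x = 0) : x = 0 := by
  have hsh : Presieve.IsSheaf J (F.obj ⋙ forget AddCommGrpCat.{u}) :=
    (isSheaf_iff_isSheaf_of_type J _).1
      ((Presheaf.isSheaf_iff_isSheaf_forget J F.obj (forget AddCommGrpCat.{u})).1 F.property)
  refine (hsh.isSeparated S hS).ext (fun W f hf => ?_)
  show F.obj.map f.op x = F.obj.map f.op 0
  rw [h f hf, map_zero]

variable [HasPullbacks C]

open CohCx in
lemma mono_η (F : Sheaf J AddCommGrpCat.{u}) {U : C} {ι : Type u} (Y : ι → Over U)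
    (hY : Sieve.ofArrows (fun i => (Y i).left) (fun i => (Y i).hom) ∈ J U) :
    Mono (η Y ((Over.forget U).op ⋙ F.obj)) := by
  haveI : ∀ W, Mono ((η Y ((Over.forget U).op ⋙ F.obj)).app W) := by
    intro W
    rw [AddCommGrpCat.mono_iff_injective, injective_iff_map_eq_zero]
    intro x hx
    have hx' : ∀ i, F.obj.map (prod.fst : W.unop ⨯ Y i ⟶ W.unop).left.op x = 0 := by
      intro i
      have e : (η Y ((Over.forget U).op ⋙ F.obj)).app W ≫ Limits.Pi.π (fun i =>
          ((Over.forget U).op ⋙ F.obj).obj (op (W.unop ⨯ Y i))) i =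
          F.obj.map (prod.fst : W.unop ⨯ Y i ⟶ W.unop).left.op :=
        Limits.Pi.lift_π _ i
      have h2 : ((η Y ((Over.forget U).op ⋙ F.obj)).app W ≫ Limits.Pi.π (fun i =>
          ((Over.forget U).op ⋙ F.obj).obj (op (W.unop ⨯ Y i))) i).hom x = 0 := by
        show (Limits.Pi.π (fun i => ((Over.forget U).op ⋙ F.obj).obj (op (W.unop ⨯ Y i))) i).hom
          ((ConcreteCategory.hom ((η Y ((Over.forget U).op ⋙ F.obj)).app W)) x) = 0
        rw [hx]
        exact map_zero _
      rw [e] at h2
      exact h2
    refine eq_zero_of_locally J F (Sieve.pullback W.unop.hom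
      (Sieve.ofArrows (fun i => (Y i).left) (fun i => (Y i).hom))) (J.pullback_stable _ hY) x ?_
    intro V f hf
    obtain ⟨i, g, hg⟩ := (Sieve.mem_ofArrows_iff _ _ _).1 hf
    let V' : Over U := Over.mk (f ≫ W.unop.hom)
    let f' : V' ⟶ W.unop := Over.homMk f rfl
    let g' : V' ⟶ Y i := Over.homMk g hg.symm
    have hl : (prod.lift f' g').left ≫ (prod.fst : W.unop ⨯ Y i ⟶ W.unop).left = f := by
      rw [← Over.comp_left, prod.lift_fst]
      rfl
    rw [← hl, op_comp, F.obj.map_comp]
    show (F.obj.map (prod.lift f' g').left.op).hom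
      ((F.obj.map (prod.fst : W.unop ⨯ Y i ⟶ W.unop).left.op).hom x) = 0
    rw [hx' i, map_zero]
  exact NatTrans.mono_of_mono_app _

open CohCx in
/-- Čech cohomology of an injective sheaf with respect to a covering family vanishes in positive
degrees. -/
theorem cechH_isZero_of_injective (I : Sheaf J AddCommGrpCat.{u}) [Injective I] {U : C}
    {ι : Type u} (Y : ι → Over U)
    (hY : Sieve.ofArrows (fun i => (Y i).left) (fun i => (Y i).hom) ∈ J U) (p : ℕ) :
    IsZero (CohCx.cechH I.obj Y (p + 1)) := by
  haveI := injective_over J I U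
  haveI := mono_η J I Y hY
  exact isZero_homology_succ_of_retraction _
    (Injective.factorThru (𝟙 _) (η Y ((Over.forget U).op ⋙ I.obj)))
    (Injective.comp_factorThru _ _) p

end Groth.Agent.H67.Cech
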