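import Groth.Agent.H67.CechB
import Groth.Agent.H67.CechC
import Groth.Agent.H67.SieveCoh2

/-!
# Helper library (helper67): Čech H¹ vanishing on refinements gives surjectivity of sections;
short exact sequences of Čech complexes of sheaves
-/

set_option autoImplicit false
universe u

open CategoryTheory CategoryTheory.Limits Opposite

namespace Groth.Agent.H67.Cech

variable {C : Type u} [SmallCategory C] (J : GrothendieckTopology C)

/-- sections over `V` -/
noncomputable abbrev Γ (V : C) : Sheaf J AddCommGrpCat.{u} ⥤ AddCommGrpCat.{u} :=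
  sheafToPresheaf J AddCommGrpCat.{u} ⋙ (evaluation Cᵒᵖ AddCommGrpCat.{u}).obj (op V)

variable {J}

lemma sections_exact {S : ShortComplex (Sheaf J AddCommGrpCat.{u})} (hS : S.ShortExact) (V : C) :
    (S.map (Γ J V)).Exact := by
  have := hS.mono_f
  exact hS.exact.map_of_mono_of_preservesKernel _ hS.mono_f inferInstance

lemma sections_mono {S : ShortComplex (Sheaf J AddCommGrpCat.{u})} (hS : S.ShortExact) (V : C) :
    Mono (S.map (Γ J V)).f := by
  have := hS.mono_f
  exact (Γ J V).map_mono S.f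

lemma sections_injective {S : ShortComplex (Sheaf J AddCommGrpCat.{u})} (hS : S.ShortExact)
    (V : C) : Function.Injective (S.f.hom.app (op V)).hom :=
  (AddCommGrpCat.mono_iff_injective _).1 (sections_mono hS V)

lemma sections_exists {S : ShortComplex (Sheaf J AddCommGrpCat.{u})} (hS : S.ShortExact)
    (V : C) (x : S.X₂.obj.obj (op V)) (hx : (S.g.hom.app (op V)).hom x = 0) :
    ∃ y : S.X₁.obj.obj (op V), (S.f.hom.app (op V)).hom y = x :=
  (ShortComplex.ab_exact_iff _).1 (sections_exact hS V) x hx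

lemma sections_shortExact {S : ShortComplex (Sheaf J AddCommGrpCat.{u})} (hS : S.ShortExact)
    (V : C) (hsurj : Function.Surjective (S.g.hom.app (op V)).hom) :
    (S.map (Γ J V)).ShortExact :=
  ShortComplex.ShortExact.mk' (sections_exact hS V) (sections_mono hS V)
    ((AddCommGrpCat.epi_iff_surjective _).2 hsurj)

lemma sections_comp_zero {S : ShortComplex (Sheaf J AddCommGrpCat.{u})} (V : C)
    (y : S.X₁.obj.obj (op V)) :
    (S.g.hom.app (op V)).hom ((S.f.hom.app (op V)).hom y) = 0 := by
  have h : S.f.hom.app (op V) ≫ S.g.hom.app (op V) = 0 := by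
    have h0 := congrArg (fun ψ => ψ.hom.app (op V)) S.zero
    exact h0
  exact congrArg (fun ψ => ψ.hom y) h

variable [HasPullbacks C]

/-- restriction of sheaves to presheaves on `Over U` -/
noncomputable abbrev resU (J : GrothendieckTopology C) (U : C) :
    Sheaf J AddCommGrpCat.{u} ⥤ ((Over U)ᵒᵖ ⥤ AddCommGrpCat.{u}) :=
  sheafToPresheaf J AddCommGrpCat.{u} ⋙
    (Functor.whiskeringLeft (Over U)ᵒᵖ Cᵒᵖ AddCommGrpCat.{u}).obj (Over.forget U).op

open CohCx in
/-- A short exact sequence of sheaves which is surjective on sections over all the fibre products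
of the family gives a short exact sequence of Čech complexes. -/
theorem cech_shortExact {S : ShortComplex (Sheaf J AddCommGrpCat.{u})} (hS : S.ShortExact)
    {U : C} {ι : Type u} (Y : ι → Over U)
    (hsurj : ∀ (n : ℕ) (a : Fin (n + 1) → ι),
      Function.Surjective (S.g.hom.app (op (∏ᶜ (Y ∘ a)).left)).hom) :
    ((S.map (resU J U)).map (cechComplexFunctor Y)).ShortExact :=
  cx_shortExact Y _ (fun n a => sections_shortExact hS _ (hsurj n a))

open CohCx in
/-- If every covering sieve of `U` is refined by a covering family with vanishing first Čech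
cohomology of `S.X₁`, then `S.X₂(U) → S.X₃(U)` is surjective. -/
theorem surjective_of_cechH1 (S : ShortComplex (Sheaf J AddCommGrpCat.{u})) (hS : S.ShortExact)
    (U : C)
    (h : ∀ T ∈ J U, ∃ (ι : Type u) (Y : ι → Over U), (∀ i, T.arrows (Y i).hom) ∧
      Sieve.ofArrows (fun i => (Y i).left) (fun i => (Y i).hom) ∈ J U ∧
      IsZero (CohCx.cechH S.X₁.obj Y 1)) :
    Function.Surjective (S.g.hom.app (op U)) := by
  intro s
  haveI := hS.epi_g
  haveI hls : Presheaf.IsLocallySurjective J S.g.hom := SieveCoh.isLocallySurjective_of_epi S.g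
  obtain ⟨ι, Y, hYT, hYcov, hH⟩ := h _ (Presheaf.imageSieve_mem J S.g.hom (U := op U) s)
  choose t ht using hYT
  have ht' : ∀ i, (S.g.hom.app (op (Y i).left)).hom (t i) = (S.X₃.obj.map (Y i).hom.op).hom s := ht
  -- local differences come from `S.X₁`
  have hloc : ∀ (W : Over U) (s₁ s₂ : Σ i, (W ⟶ Y i)),
      ∃ c : ((Over.forget U).op ⋙ S.X₁.obj).obj (op W),
        ((Functor.whiskerLeft (Over.forget U).op S.f.hom).app (op W)).hom c =
          rs ((Over.forget U).op ⋙ S.X₂.obj) t s₂ - rs ((Over.forget U).op ⋙ S.X₂.obj) t s₁ := by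
    intro W s₁ s₂
    have key : ∀ s' : Σ i, (W ⟶ Y i), (S.g.hom.app (op W.left)).hom
        ((S.X₂.obj.map s'.2.left.op).hom (t s'.1)) = (S.X₃.obj.map W.hom.op).hom s := by
      intro s'
      have h1 := congrArg (fun ψ => ψ.hom (t s'.1)) (S.g.hom.naturality s'.2.left.op)
      have h2 : (S.g.hom.app (op W.left)).hom ((S.X₂.obj.map s'.2.left.op).hom (t s'.1)) =
          (S.X₃.obj.map s'.2.left.op).hom ((S.g.hom.app (op (Y s'.1).left)).hom (t s'.1)) := h1
      rw [h2, ht']
      have h3 : S.X₃.obj.map W.hom.op =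
          S.X₃.obj.map (Y s'.1).hom.op ≫ S.X₃.obj.map s'.2.left.op := by
        rw [← S.X₃.obj.map_comp, ← op_comp, Over.w]
      rw [h3]
      rfl
    apply sections_exists hS W.left
    show (S.g.hom.app (op W.left)).hom ((S.X₂.obj.map s₂.2.left.op).hom (t s₂.1) -
      (S.X₂.obj.map s₁.2.left.op).hom (t s₁.1)) = 0
    rw [map_sub, key, key, sub_self]
  obtain ⟨e, he⟩ := exists_correction (Y := Y)
    (Functor.whiskerLeft (Over.forget U).op S.f.hom)
    (fun W => sections_injective hS W.left) t hloc hH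
  -- glue
  have hsh : Presieve.IsSheaf J (S.X₂.obj ⋙ forget AddCommGrpCat.{u}) :=
    (isSheaf_iff_isSheaf_of_type J _).1
      ((Presheaf.isSheaf_iff_isSheaf_forget J S.X₂.obj (forget AddCommGrpCat.{u})).1 S.X₂.property)
  have hsf := (Presieve.isSheafFor_iff_generate _).2 (hsh _ hYcov)
  obtain ⟨tg, htg, -⟩ := (Presieve.isSheafFor_arrows_iff _ _).1 hsf
    (fun i => t i - (S.f.hom.app (op (Y i).left)).hom (e i)) (by
      intro i j Z gi gj hcomm
      let W : Over U := Over.mk (gi ≫ (Y i).hom)
      exact he W ⟨i, Over.homMk gi rfl⟩ ⟨j, Over.homMk gj hcomm.symm⟩)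
  refine ⟨tg, ?_⟩
  -- check locally
  have hz : (S.g.hom.app (op U)).hom tg - s = 0 := by
    refine eq_zero_of_locally J S.X₃ _ hYcov _ ?_
    intro V f hf
    obtain ⟨i, a, rfl⟩ := (Sieve.mem_ofArrows_iff _ _ _).1 hf
    have h1 : (S.X₃.obj.map (Y i).hom.op).hom ((S.g.hom.app (op U)).hom tg - s) = 0 := by
      rw [map_sub]
      have h2 := congrArg (fun ψ => ψ.hom tg) (S.g.hom.naturality (Y i).hom.op)
      have h3 : (S.X₃.obj.map (Y i).hom.op).hom ((S.g.hom.app (op U)).hom tg) =
          (S.g.hom.app (op (Y i).left)).hom ((S.X₂.obj.map (Y i).hom.op).hom tg) := h2.symm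
      have h4 : (S.X₂.obj.map (Y i).hom.op).hom tg =
          t i - (S.f.hom.app (op (Y i).left)).hom (e i) := htg i
      rw [h3, h4, map_sub, sections_comp_zero, sub_zero, ht', sub_self]
    rw [op_comp, S.X₃.obj.map_comp]
    show (S.X₃.obj.map a.op).hom ((S.X₃.obj.map (Y i).hom.op).hom _) = 0
    rw [h1, map_zero]
  exact sub_eq_zero.1 hz

end Groth.Agent.H67.Cech
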