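import Groth.Agent.H67.CechD
import Groth.Prelude.Def_CechEdge

/-!
# Helper library (helper67): degree zero Čech cohomology of a sheaf
-/

set_option autoImplicit false
universe u

open CategoryTheory CategoryTheory.Limits Opposite

namespace Groth.Agent.H67.Cech

section General

variable {D : Type u} [Category.{u} D] [HasFiniteProducts D] {ι : Type u} {Y : ι → D}
  (R : Dᵒᵖ ⥤ AddCommGrpCat.{u})

/-- the component of a 0-cochain at `i` -/
noncomputable def comp0 (x : (∏ᶜ (term Y R 0) : AddCommGrpCat.{u})) (i : ι) : R.obj (op (Y i)) :=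
  (ev R (fun _ => ⟨i, 𝟙 (Y i)⟩ : Simplex Y (Y i) 0)).hom x

lemma ev_zero_apply {W : D} (s : Σ i, (W ⟶ Y i)) (x : (∏ᶜ (term Y R 0) : AddCommGrpCat.{u})) :
    (ev R (fun _ => s : Simplex Y W 0)).hom x = (R.map s.2.op).hom (comp0 R x s.1) := by
  rw [ev_zero_eq]
  rfl

lemma can_zero (a : Fin 1 → ι) :
    (can a : Simplex Y (∏ᶜ (Y ∘ a)) 0) = fun _ => ⟨a 0, Limits.Pi.π (Y ∘ a) 0⟩ := by
  funext j
  fin_cases j
  rfl

lemma can_one (a : Fin 2 → ι) :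
    (can a : Simplex Y (∏ᶜ (Y ∘ a)) 1) =
      ![⟨a 0, Limits.Pi.π (Y ∘ a) 0⟩, ⟨a 1, Limits.Pi.π (Y ∘ a) 1⟩] := by
  funext j
  fin_cases j <;> rfl

lemma π_zero_apply (a : Fin 1 → ι) (x : (∏ᶜ (term Y R 0) : AddCommGrpCat.{u})) :
    (Limits.Pi.π (term Y R 0) a).hom x =
      (R.map (Limits.Pi.π (Y ∘ a) 0).op).hom (comp0 R x (a 0)) := by
  rw [← ev_can, can_zero]
  exact ev_zero_apply R ⟨a 0, Limits.Pi.π (Y ∘ a) 0⟩ x

lemma cocycle_iff (x : (∏ᶜ (term Y R 0) : AddCommGrpCat.{u})) :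
    (dd R 0).hom x = 0 ↔ ∀ (W : D) (s s' : Σ i, (W ⟶ Y i)),
      rs R (comp0 R x) s = rs R (comp0 R x) s' := by
  constructor
  · intro hx W s s'
    have h := congrArg (fun φ => φ.hom x) (dd_zero_ev R s s')
    have h0 : (dd R 0 ≫ ev R (![s, s'] : Simplex Y W 1)).hom x = 0 := by
      show (ev R (![s, s'] : Simplex Y W 1)).hom ((dd R 0).hom x) = 0
      rw [hx, map_zero]
    have h' : (dd R 0 ≫ ev R (![s, s'] : Simplex Y W 1)).hom x =
        (ev R (fun _ => s' : Simplex Y W 0)).hom x - (ev R (fun _ => s : Simplex Y W 0)).hom x := h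
    rw [h0, ev_zero_apply, ev_zero_apply] at h'
    exact (sub_eq_zero.1 h'.symm).symm
  · intro h
    apply pi_ext
    intro a
    rw [map_zero, ← ev_can, can_one]
    have h' := congrArg (fun φ => φ.hom x)
      (dd_zero_ev R (⟨a 0, Limits.Pi.π (Y ∘ a) 0⟩ : Σ i, (∏ᶜ (Y ∘ a) ⟶ Y i))
        ⟨a 1, Limits.Pi.π (Y ∘ a) 1⟩)
    have h'' : (ev R (![⟨a 0, Limits.Pi.π (Y ∘ a) 0⟩, ⟨a 1, Limits.Pi.π (Y ∘ a) 1⟩] :
        Simplex Y (∏ᶜ (Y ∘ a)) 1)).hom ((dd R 0).hom x) =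
        (ev R (fun _ => ⟨a 1, Limits.Pi.π (Y ∘ a) 1⟩ : Simplex Y (∏ᶜ (Y ∘ a)) 0)).hom x -
          (ev R (fun _ => ⟨a 0, Limits.Pi.π (Y ∘ a) 0⟩ : Simplex Y (∏ᶜ (Y ∘ a)) 0)).hom x := h'
    rw [h'', ev_zero_apply, ev_zero_apply, sub_eq_zero]
    exact (h _ _ _).symm

end General

section Site

variable {C : Type u} [SmallCategory C] [HasPullbacks C] (J : GrothendieckTopology C)
  (P : Cᵒᵖ ⥤ AddCommGrpCat.{u}) {U : C} {ι : Type u} (Y : ι → Over U)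

open CohCx

lemma toCech₀_π (a : Fin 1 → ι) (s : P.obj (op U)) :
    (Limits.Pi.π (term Y ((Over.forget U).op ⋙ P) 0) a).hom ((CechEdge.toCech₀ P Y).hom s) =
      (P.map (∏ᶜ (Y ∘ a)).hom.op).hom s := by
  have h := congrArg (fun φ => φ.hom s)
    (Limits.Pi.lift_π (fun (i : Fin 1 → ι) => P.map (∏ᶜ (Y ∘ i)).hom.op) a)
  exact h

lemma comp0_toCech₀ (s : P.obj (op U)) (i : ι) :
    comp0 ((Over.forget U).op ⋙ P) ((CechEdge.toCech₀ P Y).hom s) i =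
      (P.map (Y i).hom.op).hom s := by
  have h1 : comp0 ((Over.forget U).op ⋙ P) ((CechEdge.toCech₀ P Y).hom s) i =
      (P.map (Simplex.toProd (fun _ => ⟨i, 𝟙 (Y i)⟩ : Simplex Y (Y i) 0)).left.op).hom
        ((Limits.Pi.π (term Y ((Over.forget U).op ⋙ P) 0)
          (Simplex.idx (fun _ => ⟨i, 𝟙 (Y i)⟩ : Simplex Y (Y i) 0))).hom
            ((CechEdge.toCech₀ P Y).hom s)) := rfl
  rw [h1, toCech₀_π]
  have h2 : P.map (Y i).hom.op = P.map (∏ᶜ (Y ∘ Simplex.idx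
      (fun _ => ⟨i, 𝟙 (Y i)⟩ : Simplex Y (Y i) 0))).hom.op ≫
      P.map (Simplex.toProd (fun _ => ⟨i, 𝟙 (Y i)⟩ : Simplex Y (Y i) 0)).left.op := by
    rw [← P.map_comp, ← op_comp, Over.w]
  rw [h2]
  rfl

variable {P} in
lemma toCech₀_injective (hP : Presheaf.IsSheaf J P)
    (hY : Sieve.ofArrows (fun i => (Y i).left) (fun i => (Y i).hom) ∈ J U) :
    Function.Injective (CechEdge.toCech₀ P Y).hom := by
  rw [injective_iff_map_eq_zero]
  intro s hs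
  refine eq_zero_of_locally J ⟨P, hP⟩ _ hY s ?_
  intro V f hf
  obtain ⟨i, a, rfl⟩ := (Sieve.mem_ofArrows_iff _ _ _).1 hf
  have h1 : (P.map (Y i).hom.op).hom s = 0 := by
    rw [← comp0_toCech₀, hs]
    exact map_zero _
  rw [op_comp, P.map_comp]
  show (P.map a.op).hom ((P.map (Y i).hom.op).hom s) = 0
  rw [h1, map_zero]

variable {P} in
lemma exists_of_cocycle (hP : Presheaf.IsSheaf J P)
    (hY : Sieve.ofArrows (fun i => (Y i).left) (fun i => (Y i).hom) ∈ J U)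
    (x : (CechEdge.cx P Y).X 0) (hx : ((CechEdge.cx P Y).d 0 1).hom x = 0) :
    ∃ s : P.obj (op U), (CechEdge.toCech₀ P Y).hom s = x := by
  have hx' : (dd ((Over.forget U).op ⋙ P) 0).hom x = 0 := by
    rw [← cx_d]
    exact hx
  have hcomp := (cocycle_iff ((Over.forget U).op ⋙ P) x).1 hx'
  have hsh : Presieve.IsSheaf J (P ⋙ forget AddCommGrpCat.{u}) :=
    (isSheaf_iff_isSheaf_of_type J _).1
      ((Presheaf.isSheaf_iff_isSheaf_forget J P (forget AddCommGrpCat.{u})).1 hP)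
  have hsf := (Presieve.isSheafFor_iff_generate _).2 (hsh _ hY)
  obtain ⟨s, hs, -⟩ := (Presieve.isSheafFor_arrows_iff _ _).1 hsf
    (fun i => comp0 ((Over.forget U).op ⋙ P) x i) (by
      intro i j Z gi gj hcomm
      let W : Over U := Over.mk (gi ≫ (Y i).hom)
      exact hcomp W ⟨i, Over.homMk gi rfl⟩ ⟨j, Over.homMk gj hcomm.symm⟩)
  refine ⟨s, pi_ext (F := term Y ((Over.forget U).op ⋙ P) 0) (fun a => ?_)⟩
  refine (toCech₀_π P Y a s).trans ?_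
  refine Eq.trans ?_ (π_zero_apply ((Over.forget U).op ⋙ P) a x).symm
  have hs' : (P.map (Y (a 0)).hom.op).hom s = comp0 ((Over.forget U).op ⋙ P) x (a 0) := hs (a 0)
  rw [← hs']
  have h2 : P.map (∏ᶜ (Y ∘ a)).hom.op = P.map (Y (a 0)).hom.op ≫
      P.map (Limits.Pi.π (Y ∘ a) 0).left.op := by
    have hw : (Limits.Pi.π (Y ∘ a) 0).left ≫ (Y (a 0)).hom = (∏ᶜ (Y ∘ a)).hom :=
      Over.w (Limits.Pi.π (Y ∘ a) 0)
    rw [← P.map_comp, ← op_comp, hw]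
  rw [h2]
  rfl

variable {P} in
theorem toCech_bijective (hP : Presheaf.IsSheaf J P)
    (hY : Sieve.ofArrows (fun i => (Y i).left) (fun i => (Y i).hom) ∈ J U) :
    Function.Bijective (CechEdge.toCech Y P) := by
  have hπ : Function.Bijective ((CechEdge.cx P Y).homologyπ 0).hom :=
    ConcreteCategory.bijective_of_isIso ((CechEdge.cx P Y).homologyπ 0)
  have hi : Function.Injective ((CechEdge.cx P Y).iCycles 0).hom :=
    (AddCommGrpCat.mono_iff_injective _).1 inferInstance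
  have hci : ∀ s, ((CechEdge.cx P Y).iCycles 0).hom ((CechEdge.toCycles P Y).hom s) =
      (CechEdge.toCech₀ P Y).hom s := fun s =>
    congrArg (fun φ => φ.hom s) (CechEdge.toCycles_i P Y)
  constructor
  · intro s s' h
    have h1 : (CechEdge.toCycles P Y).hom s = (CechEdge.toCycles P Y).hom s' := hπ.1 h
    apply toCech₀_injective J Y hP hY
    rw [← hci, ← hci, h1]
  · intro y
    obtain ⟨z, rfl⟩ := hπ.2 y
    have hz : ((CechEdge.cx P Y).d 0 1).hom (((CechEdge.cx P Y).iCycles 0).hom z) = 0 :=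
      congrArg (fun φ => φ.hom z) ((CechEdge.cx P Y).iCycles_d 0 1)
    obtain ⟨s, hs⟩ := exists_of_cocycle J Y hP hY _ hz
    refine ⟨s, ?_⟩
    have : (CechEdge.toCycles P Y).hom s = z := hi ((hci s).trans hs)
    show ((CechEdge.cx P Y).homologyπ 0).hom ((CechEdge.toCycles P Y).hom s) = _
    rw [this]

/-- naturality of `toCech₀` -/
lemma toCech₀_naturality {P Q : Cᵒᵖ ⥤ AddCommGrpCat.{u}} (φ : P ⟶ Q) :
    CechEdge.toCech₀ P Y ≫ ((CechEdge.cxFunctor Y).map φ).f 0 =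
      φ.app (op U) ≫ CechEdge.toCech₀ Q Y := by
  show CechEdge.toCech₀ P Y ≫ Limits.Pi.map (fun (a : Fin 1 → ι) =>
    φ.app (op (∏ᶜ (Y ∘ a)).left)) = _
  apply Limits.Pi.hom_ext
  intro a
  have e1 : Limits.Pi.map (fun (a : Fin 1 → ι) => φ.app (op (∏ᶜ (Y ∘ a)).left)) ≫
      Limits.Pi.π (fun (a : Fin 1 → ι) => Q.obj (op (∏ᶜ (Y ∘ a)).left)) a =
      Limits.Pi.π (fun (a : Fin 1 → ι) => P.obj (op (∏ᶜ (Y ∘ a)).left)) a ≫
        φ.app (op (∏ᶜ (Y ∘ a)).left) := Limits.Pi.map_π _ a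
  have e2 : CechEdge.toCech₀ P Y ≫
      Limits.Pi.π (fun (a : Fin 1 → ι) => P.obj (op (∏ᶜ (Y ∘ a)).left)) a =
      P.map (∏ᶜ (Y ∘ a)).hom.op := Limits.Pi.lift_π _ a
  have e3 : CechEdge.toCech₀ Q Y ≫
      Limits.Pi.π (fun (a : Fin 1 → ι) => Q.obj (op (∏ᶜ (Y ∘ a)).left)) a =
      Q.map (∏ᶜ (Y ∘ a)).hom.op := Limits.Pi.lift_π _ a
  calc (CechEdge.toCech₀ P Y ≫ Limits.Pi.map (fun (a : Fin 1 → ι) =>
          φ.app (op (∏ᶜ (Y ∘ a)).left))) ≫
        Limits.Pi.π (fun (a : Fin 1 → ι) => Q.obj (op (∏ᶜ (Y ∘ a)).left)) a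
      = CechEdge.toCech₀ P Y ≫ (Limits.Pi.map (fun (a : Fin 1 → ι) =>
          φ.app (op (∏ᶜ (Y ∘ a)).left)) ≫
          Limits.Pi.π (fun (a : Fin 1 → ι) => Q.obj (op (∏ᶜ (Y ∘ a)).left)) a) :=
        Category.assoc _ _ _
    _ = CechEdge.toCech₀ P Y ≫ (Limits.Pi.π (fun (a : Fin 1 → ι) =>
          P.obj (op (∏ᶜ (Y ∘ a)).left)) a ≫ φ.app (op (∏ᶜ (Y ∘ a)).left)) :=
        congrArg (fun z => CechEdge.toCech₀ P Y ≫ z) e1
    _ = (CechEdge.toCech₀ P Y ≫ Limits.Pi.π (fun (a : Fin 1 → ι) =>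
          P.obj (op (∏ᶜ (Y ∘ a)).left)) a) ≫ φ.app (op (∏ᶜ (Y ∘ a)).left) :=
        (Category.assoc _ _ _).symm
    _ = P.map (∏ᶜ (Y ∘ a)).hom.op ≫ φ.app (op (∏ᶜ (Y ∘ a)).left) :=
        congrArg (fun z => z ≫ φ.app (op (∏ᶜ (Y ∘ a)).left)) e2
    _ = φ.app (op U) ≫ Q.map (∏ᶜ (Y ∘ a)).hom.op := φ.naturality _
    _ = φ.app (op U) ≫ (CechEdge.toCech₀ Q Y ≫
          Limits.Pi.π (fun (a : Fin 1 → ι) => Q.obj (op (∏ᶜ (Y ∘ a)).left)) a) :=
        congrArg (fun z => φ.app (op U) ≫ z) e3.symm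
    _ = (φ.app (op U) ≫ CechEdge.toCech₀ Q Y) ≫
          Limits.Pi.π (fun (a : Fin 1 → ι) => Q.obj (op (∏ᶜ (Y ∘ a)).left)) a :=
        (Category.assoc _ _ _).symm

lemma toCycles_naturality {P Q : Cᵒᵖ ⥤ AddCommGrpCat.{u}} (φ : P ⟶ Q) :
    CechEdge.toCycles P Y ≫ HomologicalComplex.cyclesMap ((CechEdge.cxFunctor Y).map φ) 0 =
      φ.app (op U) ≫ CechEdge.toCycles Q Y := by
  apply (cancel_mono ((CechEdge.cx Q Y).iCycles 0)).1
  have e1 : HomologicalComplex.cyclesMap ((CechEdge.cxFunctor Y).map φ) 0 ≫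
      (CechEdge.cx Q Y).iCycles 0 = (CechEdge.cx P Y).iCycles 0 ≫
        ((CechEdge.cxFunctor Y).map φ).f 0 :=
    HomologicalComplex.cyclesMap_i ((CechEdge.cxFunctor Y).map φ) 0
  calc (CechEdge.toCycles P Y ≫ HomologicalComplex.cyclesMap ((CechEdge.cxFunctor Y).map φ) 0) ≫
        (CechEdge.cx Q Y).iCycles 0
      = CechEdge.toCycles P Y ≫ (HomologicalComplex.cyclesMap ((CechEdge.cxFunctor Y).map φ) 0 ≫
        (CechEdge.cx Q Y).iCycles 0) := Category.assoc _ _ _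
    _ = CechEdge.toCycles P Y ≫ ((CechEdge.cx P Y).iCycles 0 ≫
        ((CechEdge.cxFunctor Y).map φ).f 0) := congrArg (fun z => CechEdge.toCycles P Y ≫ z) e1
    _ = (CechEdge.toCycles P Y ≫ (CechEdge.cx P Y).iCycles 0) ≫
        ((CechEdge.cxFunctor Y).map φ).f 0 := (Category.assoc _ _ _).symm
    _ = CechEdge.toCech₀ P Y ≫ ((CechEdge.cxFunctor Y).map φ).f 0 :=
        congrArg (fun z => z ≫ ((CechEdge.cxFunctor Y).map φ).f 0) (CechEdge.toCycles_i P Y)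
    _ = φ.app (op U) ≫ CechEdge.toCech₀ Q Y := toCech₀_naturality Y φ
    _ = φ.app (op U) ≫ (CechEdge.toCycles Q Y ≫ (CechEdge.cx Q Y).iCycles 0) :=
        congrArg (fun z => φ.app (op U) ≫ z) (CechEdge.toCycles_i Q Y).symm
    _ = (φ.app (op U) ≫ CechEdge.toCycles Q Y) ≫ (CechEdge.cx Q Y).iCycles 0 :=
        (Category.assoc _ _ _).symm

lemma toCech_naturality {P Q : Cᵒᵖ ⥤ AddCommGrpCat.{u}} (φ : P ⟶ Q) (s : P.obj (op U)) :
    CechEdge.cechHMap Y φ 0 (CechEdge.toCech Y P s) =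
      CechEdge.toCech Y Q ((φ.app (op U)).hom s) := by
  have e2 : (CechEdge.cx P Y).homologyπ 0 ≫
      HomologicalComplex.homologyMap ((CechEdge.cxFunctor Y).map φ) 0 =
      HomologicalComplex.cyclesMap ((CechEdge.cxFunctor Y).map φ) 0 ≫
        (CechEdge.cx Q Y).homologyπ 0 :=
    HomologicalComplex.homologyπ_naturality ((CechEdge.cxFunctor Y).map φ) 0
  have h2 : (CechEdge.toCycles P Y ≫ (CechEdge.cx P Y).homologyπ 0) ≫
      HomologicalComplex.homologyMap ((CechEdge.cxFunctor Y).map φ) 0 =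
      φ.app (op U) ≫ CechEdge.toCycles Q Y ≫ (CechEdge.cx Q Y).homologyπ 0 :=
    calc (CechEdge.toCycles P Y ≫ (CechEdge.cx P Y).homologyπ 0) ≫
          HomologicalComplex.homologyMap ((CechEdge.cxFunctor Y).map φ) 0
        = CechEdge.toCycles P Y ≫ ((CechEdge.cx P Y).homologyπ 0 ≫
          HomologicalComplex.homologyMap ((CechEdge.cxFunctor Y).map φ) 0) :=
          Category.assoc _ _ _
      _ = CechEdge.toCycles P Y ≫ (HomologicalComplex.cyclesMap ((CechEdge.cxFunctor Y).map φ) 0 ≫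
          (CechEdge.cx Q Y).homologyπ 0) := congrArg (fun z => CechEdge.toCycles P Y ≫ z) e2
      _ = (CechEdge.toCycles P Y ≫ HomologicalComplex.cyclesMap ((CechEdge.cxFunctor Y).map φ) 0) ≫
          (CechEdge.cx Q Y).homologyπ 0 := (Category.assoc _ _ _).symm
      _ = (φ.app (op U) ≫ CechEdge.toCycles Q Y) ≫ (CechEdge.cx Q Y).homologyπ 0 :=
          congrArg (fun z => z ≫ (CechEdge.cx Q Y).homologyπ 0) (toCycles_naturality Y φ)
      _ = φ.app (op U) ≫ CechEdge.toCycles Q Y ≫ (CechEdge.cx Q Y).homologyπ 0 :=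
          Category.assoc _ _ _
  exact congrArg (fun ψ => ψ.hom s) h2

end Site

end Groth.Agent.H67.Cech
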