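import Groth.Agent.H67.CechI
import Groth.Agent.H67.CechG
import Groth.Agent.H67.SieveCoh

/-!
# Helper library (helper67): edge families from Čech to sheaf cohomology — uniqueness
-/

set_option autoImplicit false
universe u

open CategoryTheory CategoryTheory.Limits Opposite Abelian

namespace Groth.Agent.H67.Cech

variable {C : Type u} [SmallCategory C]

instance enoughInjectives_presheaf : EnoughInjectives (Cᵒᵖ ⥤ AddCommGrpCat.{u}) :=
  EnoughInjectives.of_equivalence
    (sheafBotEquivalence (C := C) AddCommGrpCat.{u}).inverse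

/-- the injective embedding short complex of a presheaf -/
noncomputable def injSCP (P : Cᵒᵖ ⥤ AddCommGrpCat.{u}) :
    ShortComplex (Cᵒᵖ ⥤ AddCommGrpCat.{u}) :=
  ShortComplex.mk (Injective.ι P) (cokernel.π (Injective.ι P)) (cokernel.condition _)

lemma injSCP_shortExact (P : Cᵒᵖ ⥤ AddCommGrpCat.{u}) : (injSCP P).ShortExact :=
  ShortComplex.ShortExact.mk' (ShortComplex.exact_cokernel _)
    (by dsimp [injSCP]; infer_instance) (by dsimp [injSCP]; infer_instance)

instance (P : Cᵒᵖ ⥤ AddCommGrpCat.{u}) : Injective (injSCP P).X₂ := by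
  dsimp [injSCP]; infer_instance

variable [HasPullbacks C]

open CohCx in
/-- a short exact sequence of presheaves gives a short exact sequence of Čech complexes -/
theorem cxFunctor_shortExact {S : ShortComplex (Cᵒᵖ ⥤ AddCommGrpCat.{u})} (hS : S.ShortExact)
    {U : C} {ι : Type u} (Y : ι → Over U) : (S.map (CechEdge.cxFunctor Y)).ShortExact := by
  have h := cx_shortExact Y
    (S.map ((Functor.whiskeringLeft (Over U)ᵒᵖ Cᵒᵖ AddCommGrpCat.{u}).obj (Over.forget U).op))
    (fun n a => hS.map_of_exact
      ((evaluation Cᵒᵖ AddCommGrpCat.{u}).obj (op (∏ᶜ (Y ∘ a)).left)))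
  exact h

open CohCx in
lemma cechδ_surjective {S : ShortComplex (Cᵒᵖ ⥤ AddCommGrpCat.{u})} [Injective S.X₂]
    {U : C} {ι : Type u} (Y : ι → Over U) (hC : (S.map (CechEdge.cxFunctor Y)).ShortExact)
    (p : ℕ) : Function.Surjective (hC.δ p (p + 1) rfl).hom := by
  haveI := hC.epi_δ p (p + 1) rfl (cechH_isZero_of_injective_presheaf S.X₂ Y p)
  exact (AddCommGrpCat.epi_iff_surjective (hC.δ p (p + 1) rfl)).1 inferInstance

variable (J : GrothendieckTopology C) {U : C} {ι : Type u} (Y : ι → Over U)

lemma HUmap_bijective_of_isIso {F G : Sheaf J AddCommGrpCat.{u}} (ψ : F ⟶ G) [IsIso ψ]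
    (p : ℕ) (U : C) : Function.Bijective (CechEdge.HUmap ψ p U) :=
  ConcreteCategory.bijective_of_isIso
    (((Sheaf.cohomologyPresheafFunctor J p).map ψ).app (op U))

open CohCx in
/-- Two edge families coincide. -/
theorem isEdge_unique
    (e e' : ∀ (P : Cᵒᵖ ⥤ AddCommGrpCat.{u}) (p : ℕ),
      CohCx.cechH P Y p →+ CohSite.HU (CechEdge.shf J P) p U)
    (he : CechEdge.IsEdge J Y e) (he' : CechEdge.IsEdge J Y e') :
    ∀ (p : ℕ) (P : Cᵒᵖ ⥤ AddCommGrpCat.{u}), e P p = e' P p
  | 0, P => by
      apply AddMonoidHom.ext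
      intro x
      have hn := he.natural P (CechEdge.shf J P).obj (toSheafify J P) 0 x
      have hn' := he'.natural P (CechEdge.shf J P).obj (toSheafify J P) 0 x
      obtain ⟨s, hs⟩ := (toCech_bijective J Y (CechEdge.shf J P).property he.cover).2
        (CechEdge.cechHMap Y (toSheafify J P) 0 x)
      have h1 : e (CechEdge.shf J P).obj 0 (CechEdge.cechHMap Y (toSheafify J P) 0 x) =
          e' (CechEdge.shf J P).obj 0 (CechEdge.cechHMap Y (toSheafify J P) 0 x) := by
        rw [← hs, he.zero, he'.zero]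
      rw [hn, hn'] at h1
      exact (HUmap_bijective_of_isIso J (CechEdge.shfMap J (toSheafify J P)) 0 U).1 h1
  | p + 1, P => by
      apply AddMonoidHom.ext
      intro y
      have hS := injSCP_shortExact P
      have hC := cxFunctor_shortExact hS Y
      obtain ⟨x, rfl⟩ := cechδ_surjective Y hC p y
      have h1 := he.delta (injSCP P) hS hC p x
      have h2 := he'.delta (injSCP P) hS hC p x
      rw [isEdge_unique e e' he he' p (injSCP P).X₃] at h1
      exact h1.trans h2.symm

end Groth.Agent.H67.Cech
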