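import Groth.Agent.H67.CechE
import Groth.Agent.H67.CechF

/-!
# Helper library (helper67): pull-back of an injective sheaf along a continuous functor
commuting with fibre products is acyclic on every object
-/

set_option autoImplicit false
universe u

open CategoryTheory CategoryTheory.Limits Opposite

namespace Groth.Agent.H67.Cech

section post

variable {C D : Type u} [SmallCategory C] [SmallCategory D] [HasPullbacks C] [HasPullbacks D]
  (u : C ⥤ D) [PreservesLimitsOfShape WalkingCospan u]

instance preservesPullbacks_overPost (U : C) :
    PreservesLimitsOfShape WalkingCospan (Over.post u (X := U)) := by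
  haveI : PreservesLimitsOfShape WalkingCospan
      (Over.post u (X := U) ⋙ Over.forget (u.obj U)) := by
    rw [Over.post_forget_eq_forget_comp]
    infer_instance
  exact preservesLimitsOfShape_of_reflects_of_preserves (Over.post u (X := U))
    (Over.forget (u.obj U))

instance preservesTerminal_overPost (U : C) :
    PreservesLimit (Functor.empty.{0} (Over U)) (Over.post u (X := U)) :=
  preservesLimit_of_preserves_limit_cone Over.mkIdTerminal
    ((isLimitMapConeEmptyConeEquiv (Over.post u (X := U)) (Over.mk (𝟙 U))).symm
      (IsTerminal.ofIso (Over.mkIdTerminal (X := u.obj U))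
        (Over.isoMk (Iso.refl _) (by
          show 𝟙 (u.obj U) ≫ u.map (𝟙 U) = 𝟙 (u.obj U)
          rw [u.map_id, Category.comp_id]) :
          Over.mk (𝟙 (u.obj U)) ≅ (Over.post u (X := U)).obj (Over.mk (𝟙 U)))))

instance preservesFiniteLimits_overPost (U : C) :
    PreservesFiniteLimits (Over.post u (X := U)) := by
  haveI := preservesLimitsOfShape_pempty_of_preservesTerminal (Over.post u (X := U))
  exact preservesFiniteLimits_of_preservesTerminal_and_pullbacks (Over.post u (X := U))

lemma isIso_cmp_post {U : C} {ι : Type u} (Y : ι → Over U) {n : ℕ} (a : Fin (n + 1) → ι) :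
    IsIso (cmp (Over.post u (X := U)) Y a) := by
  show IsIso (piComparison (Over.post u (X := U)) (Y ∘ a))
  infer_instance

variable (J : GrothendieckTopology C) (K : GrothendieckTopology D)

open Groth.Agent.H67.SieveCoh in
theorem push_injective_acyclic (hu : CoverPreserving J K u) [u.IsContinuous J K]
    (I : Sheaf K AddCommGrpCat.{u}) [Injective I] (U : C) (p : ℕ) :
    Subsingleton (CohSite.HU ((CohSite.push K J u).obj I) (p + 1) U) := by
  refine cartan J Set.univ
    (fun U ι Y => Sieve.ofArrows (fun i => (Y i).left) (fun i => (Y i).hom) ∈ J U)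
    (fun U ι Y hc => ⟨trivial, hc, fun _ _ => trivial⟩) ?_ p _ ?_ U trivial
  · intro U _ T hT
    refine ⟨Σ V : C, {f : V ⟶ U // T.arrows f}, fun i => Over.mk i.2.1, ?_, fun i => i.2.2⟩
    exact J.superset_covering (fun V f hf => Sieve.ofArrows_mk
      (fun i : Σ V : C, {f : V ⟶ U // T.arrows f} => (Over.mk i.2.1).left)
      (fun i => (Over.mk i.2.1).hom) ⟨V, f, hf⟩) hT
  · intro U ι Y hc q
    have hcov : Sieve.ofArrows (fun i => ((Over.post u (X := U)).obj (Y i)).left)
        (fun i => ((Over.post u (X := U)).obj (Y i)).hom) ∈ K (u.obj U) := by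
      have := hu.cover_preserve hc
      rw [Sieve.functorPushforward_ofArrows] at this
      exact this
    have hz := cechH_isZero_of_injective K I (fun i => (Over.post u (X := U)).obj (Y i)) hcov q
    exact hz.of_iso (homologyIso (Over.post u (X := U)) Y
      ((Over.forget (u.obj U)).op ⋙ I.obj) (fun n a => isIso_cmp_post u Y a) (q + 1)).symm

end post

end Groth.Agent.H67.Cech
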