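import Groth.Agent.H67.CechK

/-!
# Helper library (helper67): refinement maps of Čech complexes
-/

set_option autoImplicit false
universe u

open CategoryTheory CategoryTheory.Limits Opposite Simplicial

namespace Groth.Agent.H67.Cech

section homology

variable {A : Type*} [Category A] [Abelian A]

lemma homologyMap_of_cycles {K L : CochainComplex A ℕ} (φ : K ⟶ L) {Z : A}
    (z : Z ⟶ K.cycles 0) (z' : Z ⟶ L.cycles 0)
    (h : z ≫ K.iCycles 0 ≫ φ.f 0 = z' ≫ L.iCycles 0) :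
    (z ≫ K.homologyπ 0) ≫ HomologicalComplex.homologyMap φ 0 = z' ≫ L.homologyπ 0 := by
  have hc : z ≫ HomologicalComplex.cyclesMap φ 0 = z' := by
    rw [← cancel_mono (L.iCycles 0), Category.assoc, HomologicalComplex.cyclesMap_i]
    exact h
  rw [Category.assoc, HomologicalComplex.homologyπ_naturality, ← Category.assoc, hc]

lemma homologyMap_zero_eq {K L : CochainComplex A ℕ} (φ ψ : K ⟶ L)
    (h : K.iCycles 0 ≫ φ.f 0 = K.iCycles 0 ≫ ψ.f 0) :
    HomologicalComplex.homologyMap φ 0 = HomologicalComplex.homologyMap ψ 0 := by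
  have hc : HomologicalComplex.cyclesMap φ 0 = HomologicalComplex.cyclesMap ψ 0 := by
    rw [← cancel_mono (L.iCycles 0), HomologicalComplex.cyclesMap_i,
      HomologicalComplex.cyclesMap_i]
    exact h
  rw [← cancel_epi (K.homologyπ 0), HomologicalComplex.homologyπ_naturality,
    HomologicalComplex.homologyπ_naturality, hc]

end homology

section abstract

variable {D : Type u} [Category.{u} D] [HasFiniteProducts D] {ι κ : Type u} {Y : ι → D}
  {Y' : κ → D} (R : Dᵒᵖ ⥤ AddCommGrpCat.{u}) (r : ι → κ) (φ : ∀ i, Y i ⟶ Y' (r i))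

/-- refinement map on cochains -/
noncomputable def rmap (n : ℕ) : ∏ᶜ (term Y' R n) ⟶ ∏ᶜ (term Y R n) :=
  Pi.lift (f := term Y R n) (fun (a : Fin (n + 1) → ι) =>
    Pi.π (term Y' R n) (r ∘ a) ≫
      R.map (Limits.Pi.map (fun k => φ (a k)) : ∏ᶜ (Y ∘ a) ⟶ ∏ᶜ (Y' ∘ (r ∘ a))).op)

lemma rmap_π (n : ℕ) (a : Fin (n + 1) → ι) :
    rmap R r φ n ≫ Pi.π (term Y R n) a = Pi.π (term Y' R n) (r ∘ a) ≫
      R.map (Limits.Pi.map (fun k => φ (a k)) : ∏ᶜ (Y ∘ a) ⟶ ∏ᶜ (Y' ∘ (r ∘ a))).op :=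
  Pi.lift_π _ _

/-- push a simplex along the refinement -/
abbrev Simplex.push {W : D} {n : ℕ} (σ : Simplex Y W n) : Simplex Y' W n :=
  fun j => ⟨r (σ j).1, (σ j).2 ≫ φ (σ j).1⟩

lemma rmap_ev {W : D} {n : ℕ} (σ : Simplex Y W n) :
    rmap R r φ n ≫ ev R σ = ev R (σ.push r φ) := by
  rw [ev_eq_of R (σ.push r φ) (r ∘ σ.idx) (σ.toProd ≫ Limits.Pi.map (fun k => φ (σ.idx k)))
    (by funext j; simp [Simplex.push, Simplex.toProd, Simplex.idx])]
  simp only [ev, rmap, Category.assoc, op_comp, Functor.map_comp, Pi.lift_π_assoc]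

/-- on `0`-cocycles, two refinements agree -/
lemma rmap_zero_eq_of_cocycle (r' : ι → κ) (φ' : ∀ i, Y i ⟶ Y' (r' i)) {Z : AddCommGrpCat.{u}}
    (z : Z ⟶ ∏ᶜ (term Y' R 0)) (hz : z ≫ dd R 0 = 0) :
    z ≫ rmap R r φ 0 = z ≫ rmap R r' φ' 0 := by
  apply Limits.Pi.hom_ext
  intro a
  rw [Category.assoc, Category.assoc, ← ev_can R a, rmap_ev, rmap_ev]
  have e1 : (can a : Simplex Y (∏ᶜ (Y ∘ a)) 0).push r φ =
      fun _ => ⟨r (a 0), Pi.π (Y ∘ a) 0 ≫ φ (a 0)⟩ := by
    funext j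
    have hj : j = 0 := Fin.ext (by have := j.isLt; omega)
    rw [hj]
  have e2 : (can a : Simplex Y (∏ᶜ (Y ∘ a)) 0).push r' φ' =
      fun _ => ⟨r' (a 0), Pi.π (Y ∘ a) 0 ≫ φ' (a 0)⟩ := by
    funext j
    have hj : j = 0 := Fin.ext (by have := j.isLt; omega)
    rw [hj]
  rw [e1, e2]
  have h := dd_zero_ev (Y := Y') R
    (⟨r (a 0), Pi.π (Y ∘ a) 0 ≫ φ (a 0)⟩ : Σ i, (∏ᶜ (Y ∘ a) ⟶ Y' i))
    ⟨r' (a 0), Pi.π (Y ∘ a) 0 ≫ φ' (a 0)⟩
  have h2 : z ≫ (dd R 0 ≫ ev R (![⟨r (a 0), Pi.π (Y ∘ a) 0 ≫ φ (a 0)⟩,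
      ⟨r' (a 0), Pi.π (Y ∘ a) 0 ≫ φ' (a 0)⟩] : Simplex Y' (∏ᶜ (Y ∘ a)) 1)) = 0 := by
    rw [← Category.assoc, hz, zero_comp]
  rw [h, Preadditive.comp_sub, sub_eq_zero] at h2
  exact h2.symm

end abstract

section site

variable {C : Type u} [SmallCategory C] [HasPullbacks C] {U : C}

section general

variable {𝒰 𝒰' : FormalCoproduct.{u} (Over U)} (f g : 𝒰 ⟶ 𝒰')

lemma cechRefine_f (P : Cᵒᵖ ⥤ AddCommGrpCat.{u}) (n : ℕ) :
    (CohCx.cechRefine P f).f n = rmap ((Over.forget U).op ⋙ P) f.f f.φ n := rfl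

lemma cechRefine_naturality {P Q : Cᵒᵖ ⥤ AddCommGrpCat.{u}} (ψ : P ⟶ Q) :
    CohCx.cechRefine P f ≫ (CechEdge.cxFunctor 𝒰.obj).map ψ =
      (CechEdge.cxFunctor 𝒰'.obj).map ψ ≫ CohCx.cechRefine Q f := by
  have h := ((Functor.whiskeringLeft _ _ AddCommGrpCat.{u}).map
    (NatTrans.rightOp (FormalCoproduct.cechFunctor.map f))).naturality
    ((FormalCoproduct.evalOp.{u} (Over U) AddCommGrpCat.{u}).map
      (Functor.whiskerLeft (Over.forget U).op ψ))
  exact ((AlgebraicTopology.alternatingCofaceMapComplex AddCommGrpCat.{u}).map_comp _ _).symm.trans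
    ((congrArg (fun z => (AlgebraicTopology.alternatingCofaceMapComplex AddCommGrpCat.{u}).map z)
      h.symm).trans
      ((AlgebraicTopology.alternatingCofaceMapComplex AddCommGrpCat.{u}).map_comp _ _))

/-- the morphism of short complexes of Čech complexes induced by a refinement -/
noncomputable def refSC (S : ShortComplex (Cᵒᵖ ⥤ AddCommGrpCat.{u})) :
    S.map (CechEdge.cxFunctor 𝒰'.obj) ⟶ S.map (CechEdge.cxFunctor 𝒰.obj) where
  τ₁ := CohCx.cechRefine S.X₁ f
  τ₂ := CohCx.cechRefine S.X₂ f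
  τ₃ := CohCx.cechRefine S.X₃ f
  comm₁₂ := cechRefine_naturality f S.f
  comm₂₃ := cechRefine_naturality f S.g

lemma refine_δ (S : ShortComplex (Cᵒᵖ ⥤ AddCommGrpCat.{u}))
    (hC' : (S.map (CechEdge.cxFunctor 𝒰'.obj)).ShortExact)
    (hC : (S.map (CechEdge.cxFunctor 𝒰.obj)).ShortExact) (p : ℕ) :
    hC'.δ p (p + 1) rfl ≫ HomologicalComplex.homologyMap (CohCx.cechRefine S.X₁ f) (p + 1) =
      HomologicalComplex.homologyMap (CohCx.cechRefine S.X₃ f) p ≫ hC.δ p (p + 1) rfl :=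
  HomologicalComplex.HomologySequence.δ_naturality (refSC f S) hC' hC p (p + 1) rfl

/-- Two refinement morphisms induce the same maps on Čech cohomology. -/
theorem refine_homology_eq : ∀ (q : ℕ) (M : Cᵒᵖ ⥤ AddCommGrpCat.{u}),
    HomologicalComplex.homologyMap (CohCx.cechRefine M f) q =
      HomologicalComplex.homologyMap (CohCx.cechRefine M g) q
  | 0, M => by
      apply homologyMap_zero_eq
      exact rmap_zero_eq_of_cocycle ((Over.forget U).op ⋙ M) f.f f.φ g.f g.φ _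
        ((congrArg (fun z => HomologicalComplex.iCycles _ 0 ≫ z)
          (cx_d (Y := 𝒰'.obj) ((Over.forget U).op ⋙ M) 0)).symm.trans
          (HomologicalComplex.iCycles_d _ 0 1))
  | q + 1, M => by
      have hS := injSCP_shortExact M
      have hC' := cxFunctor_shortExact hS 𝒰'.obj
      have hC := cxFunctor_shortExact hS 𝒰.obj
      haveI : Epi (hC'.δ q (q + 1) rfl) := hC'.epi_δ q (q + 1) rfl
        (cechH_isZero_of_injective_presheaf (injSCP M).X₂ 𝒰'.obj q)
      have h1 := refine_δ f (injSCP M) hC' hC q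
      have h2 := refine_δ g (injSCP M) hC' hC q
      have h3 := refine_homology_eq q (injSCP M).X₃
      apply (cancel_epi (hC'.δ q (q + 1) rfl)).1
      exact h1.trans ((congrArg (fun z => z ≫ hC.δ q (q + 1) rfl) h3).trans h2.symm)

end general

section edge

variable (J : GrothendieckTopology C) {ι κ : Type u} (Y : ι → Over U) (Y' : κ → Over U)
  (f : FormalCoproduct.mk ι Y ⟶ FormalCoproduct.mk κ Y')

lemma refine_toCech₀ (P : Cᵒᵖ ⥤ AddCommGrpCat.{u}) :
    CechEdge.toCech₀ P Y' ≫ (CohCx.cechRefine P f).f 0 = CechEdge.toCech₀ P Y := by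
  show (Pi.lift (fun (i : Fin 1 → κ) => P.map (∏ᶜ (Y' ∘ i)).hom.op) :
      P.obj (op U) ⟶ ∏ᶜ (term Y' ((Over.forget U).op ⋙ P) 0)) ≫
      rmap ((Over.forget U).op ⋙ P) f.f f.φ 0 =
    (Pi.lift (fun (i : Fin 1 → ι) => P.map (∏ᶜ (Y ∘ i)).hom.op) :
      P.obj (op U) ⟶ ∏ᶜ (term Y ((Over.forget U).op ⋙ P) 0))
  apply Limits.Pi.hom_ext
  intro a
  rw [Category.assoc, rmap_π, Pi.lift_π_assoc, Pi.lift_π]
  show P.map _ ≫ P.map _ = P.map _
  rw [← P.map_comp]
  congr 1
  exact congrArg Quiver.Hom.op (Over.w (Limits.Pi.map (fun k => f.φ (a k)) :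
    ∏ᶜ (Y ∘ a) ⟶ ∏ᶜ (Y' ∘ (f.f ∘ a))))

lemma refine_toCech (P : Cᵒᵖ ⥤ AddCommGrpCat.{u}) (s : P.obj (op U)) :
    (HomologicalComplex.homologyMap (CohCx.cechRefine P f) 0).hom (CechEdge.toCech Y' P s) =
      CechEdge.toCech Y P s := by
  have h := homologyMap_of_cycles (CohCx.cechRefine P f) (CechEdge.toCycles P Y')
    (CechEdge.toCycles P Y)
    ((Category.assoc _ _ _).symm.trans
      ((congrArg (fun z => z ≫ (CohCx.cechRefine P f).f 0) (CechEdge.toCycles_i P Y')).trans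
        ((refine_toCech₀ Y Y' f P).trans (CechEdge.toCycles_i P Y).symm)))
  exact congrArg (fun ψ => ψ.hom s) h

lemma refine_cechHMap {P Q : Cᵒᵖ ⥤ AddCommGrpCat.{u}} (ψ : P ⟶ Q) (p : ℕ)
    (x : CohCx.cechH P Y' p) :
    (HomologicalComplex.homologyMap (CohCx.cechRefine Q f) p).hom (CechEdge.cechHMap Y' ψ p x) =
      CechEdge.cechHMap Y ψ p
        ((HomologicalComplex.homologyMap (CohCx.cechRefine P f) p).hom x) := by
  have h : HomologicalComplex.homologyMap ((CechEdge.cxFunctor Y').map ψ) p ≫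
      HomologicalComplex.homologyMap (CohCx.cechRefine Q f) p =
      HomologicalComplex.homologyMap (CohCx.cechRefine P f) p ≫
        HomologicalComplex.homologyMap ((CechEdge.cxFunctor Y).map ψ) p :=
    (HomologicalComplex.homologyMap_comp _ _ p).symm.trans
      ((congrArg (fun z => HomologicalComplex.homologyMap z p)
        (cechRefine_naturality f ψ).symm).trans (HomologicalComplex.homologyMap_comp _ _ p))
  exact congrArg (fun φ => φ.hom x) h

variable (e : ∀ (P : Cᵒᵖ ⥤ AddCommGrpCat.{u}) (p : ℕ),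
  CohCx.cechH P Y p →+ CohSite.HU (CechEdge.shf J P) p U)

/-- composing an edge family with a refinement map gives an edge family -/
theorem isEdge_refine (he : CechEdge.IsEdge J Y e)
    (hY' : Sieve.ofArrows (fun i => (Y' i).left) (fun i => (Y' i).hom) ∈ J U) :
    CechEdge.IsEdge J Y' (fun P p => (e P p).comp
      (HomologicalComplex.homologyMap (CohCx.cechRefine P f) p).hom) where
  cover := hY'
  zero P s := (congrArg (e P 0) (refine_toCech Y Y' f P s)).trans (he.zero P s)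
  natural P Q ψ p x := (congrArg (e Q p) (refine_cechHMap Y Y' f ψ p x)).trans
    (he.natural P Q ψ p _)
  delta S hS hC' p x := by
    have hC := cxFunctor_shortExact hS Y
    have h : (HomologicalComplex.homologyMap (CohCx.cechRefine S.X₁ f) (p + 1)).hom
        ((hC'.δ p (p + 1) rfl).hom x) = (hC.δ p (p + 1) rfl).hom
          ((HomologicalComplex.homologyMap (CohCx.cechRefine S.X₃ f) p).hom x) :=
      congrArg (fun φ => φ.hom x) (refine_δ f S hC' hC p)
    exact (congrArg (e S.X₁ (p + 1)) h).trans (he.delta S hS hC p _)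

/-- the edge maps are compatible with refinement -/
theorem edgeSh_refine (e' : ∀ (P : Cᵒᵖ ⥤ AddCommGrpCat.{u}) (p : ℕ),
      CohCx.cechH P Y' p →+ CohSite.HU (CechEdge.shf J P) p U)
    (he : CechEdge.IsEdge J Y e) (he' : CechEdge.IsEdge J Y' e')
    (F : Sheaf J AddCommGrpCat.{u}) (p : ℕ) (x : CohCx.cechH F.obj Y' p) :
    CechEdge.edgeSh e F p
        ((HomologicalComplex.homologyMap (CohCx.cechRefine F.obj f) p).hom x) =
      CechEdge.edgeSh e' F p x := by
  have h := isEdge_unique J Y' _ e' (isEdge_refine J Y Y' f e he he'.cover) he' p F.obj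
  rw [edgeSh_apply, edgeSh_apply]
  exact congrArg (fun z => CechEdge.HUmap (cu J F) p U z) (DFunLike.congr_fun h x)

end edge

end site

end Groth.Agent.H67.Cech
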