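import Groth.Agent.H67.CechH
import Groth.Agent.H67.CechE
import Mathlib.CategoryTheory.Functor.Flat
import Mathlib.CategoryTheory.Sites.CoverLifting

/-!
# Helper library (helper67): cohomology of the restriction along a continuous and cocontinuous
functor commuting with fibre products
-/

set_option autoImplicit false
universe w v' u' u

open CategoryTheory CategoryTheory.Limits Opposite Abelian

namespace Groth.Agent.H67.Cech

open Groth.Agent.H67.SieveCoh

section abstract

variable {B : Type u'} [Category.{v'} B] [Abelian B] [HasExt.{w} B]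

lemma extδ_injective' (Z : B) {S : ShortComplex B} (hS : S.ShortExact) (n : ℕ)
    (h : Subsingleton (Ext Z S.X₂ (n + 1))) :
    Function.Injective (hS.extClass.postcomp Z (rfl : n + 1 + 1 = n + 1 + 1)) := by
  rw [injective_iff_map_eq_zero]
  intro x hx
  obtain ⟨x₂, hx₂⟩ := Ext.covariant_sequence_exact₃ Z hS x (rfl : n + 1 + 1 = n + 1 + 1) hx
  rw [← hx₂, Subsingleton.elim x₂ 0, Ext.zero_comp]

lemma extδ_surjective' (Z : B) {S : ShortComplex B} (hS : S.ShortExact) (n : ℕ)
    (h : Subsingleton (Ext Z S.X₂ (n + 1))) :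
    Function.Surjective (hS.extClass.postcomp Z (rfl : n + 1 = n + 1)) := by
  intro y
  obtain ⟨x₃, hx₃⟩ := Ext.covariant_sequence_exact₁ Z hS y
    (Subsingleton.elim _ _) (rfl : n + 1 = n + 1)
  exact ⟨x₃, hx₃⟩

end abstract

section nopullbacks

variable {C : Type u} [SmallCategory C] (J : GrothendieckTopology C)

/-- kernel of the degree zero Ext connecting map on sections (no fibre products needed) -/
lemma extδ_sect_eq_zero_iff' {S : ShortComplex (Sheaf J AddCommGrpCat.{u})} (hS : S.ShortExact)
    (U : C) (s : S.X₃.obj.obj (op U)) :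
    CechEdge.extδ hS U 0 (CechEdge.sectH0 J U S.X₃ s) = 0 ↔
      ∃ t : S.X₂.obj.obj (op U), (S.g.hom.app (op U)).hom t = s := by
  constructor
  · intro h
    obtain ⟨x₂, hx₂⟩ := Ext.covariant_sequence_exact₃ (CohCx.freeSheaf J U) hS
      (CechEdge.sectH0 J U S.X₃ s) (zero_add 1) h
    obtain ⟨ψ, rfl⟩ := (Ext.mk₀_bijective _ _).2 x₂
    rw [Ext.mk₀_comp_mk₀, sectH0_eq] at hx₂
    have h2 : ψ ≫ S.g = CohFree.ofSect J U S.X₃ s := (Ext.mk₀_bijective _ _).1 hx₂
    refine ⟨CohFree.evalGen J U S.X₂ ψ, ?_⟩
    have h3 : CohFree.evalGen J U S.X₃ (ψ ≫ S.g) =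
        (S.g.hom.app (op U)).hom (CohFree.evalGen J U S.X₂ ψ) := rfl
    rw [← h3, h2, CohFree.evalGen_ofSect]
  · rintro ⟨t, rfl⟩
    show (CechEdge.sectH0 J U S.X₃ ((S.g.hom.app (op U)).hom t)).comp hS.extClass (zero_add 1) = 0
    rw [sectH0_eq, ← ofSect_comp, ← Ext.mk₀_comp_mk₀, Ext.comp_assoc_of_second_deg_zero,
      hS.comp_extClass, Ext.comp_zero]

end nopullbacks

section post

variable {C D : Type u} [SmallCategory C] [SmallCategory D] [HasPullbacks C]
  (J : GrothendieckTopology C) (K : GrothendieckTopology D)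
  (u : C ⥤ D) [PreservesLimitsOfShape WalkingCospan u]

lemma preservesPullbacks_overPost' (U : C) :
    PreservesLimitsOfShape WalkingCospan (Over.post u (X := U)) := by
  haveI : PreservesLimitsOfShape WalkingCospan
      (Over.post u (X := U) ⋙ Over.forget (u.obj U)) := by
    rw [Over.post_forget_eq_forget_comp]
    infer_instance
  exact preservesLimitsOfShape_of_reflects_of_preserves (Over.post u (X := U))
    (Over.forget (u.obj U))

lemma preservesTerminal_overPost' (U : C) :
    PreservesLimit (Functor.empty.{0} (Over U)) (Over.post u (X := U)) :=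
  preservesLimit_of_preserves_limit_cone Over.mkIdTerminal
    ((isLimitMapConeEmptyConeEquiv (Over.post u (X := U)) (Over.mk (𝟙 U))).symm
      (IsTerminal.ofIso (Over.mkIdTerminal (X := u.obj U))
        (Over.isoMk (Iso.refl _) (by
          show 𝟙 (u.obj U) ≫ u.map (𝟙 U) = 𝟙 (u.obj U)
          rw [u.map_id, Category.comp_id]) :
          Over.mk (𝟙 (u.obj U)) ≅ (Over.post u (X := U)).obj (Over.mk (𝟙 U)))))

lemma preservesFiniteLimits_overPost' (U : C) :
    PreservesFiniteLimits (Over.post u (X := U)) := by
  haveI := preservesPullbacks_overPost' u U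
  haveI := preservesTerminal_overPost' u U
  haveI := preservesLimitsOfShape_pempty_of_preservesTerminal (Over.post u (X := U))
  exact preservesFiniteLimits_of_preservesTerminal_and_pullbacks (Over.post u (X := U))

variable [u.IsContinuous J K]

/-- the restriction to `Over U` of the pull-back of an injective sheaf is an injective presheaf -/
lemma injective_over_push (I : Sheaf K AddCommGrpCat.{u}) [Injective I] (U : C) :
    Injective ((Over.forget U).op ⋙ ((CohSite.push K J u).obj I).obj) := by
  haveI := injective_over K I (u.obj U)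
  haveI : HasFiniteLimits (Over U) := hasFiniteLimits_of_hasTerminal_and_pullbacks
  haveI := preservesFiniteLimits_overPost' u U
  haveI : RepresentablyFlat (Over.post u (X := U)) := flat_of_preservesFiniteLimits _
  haveI : ReflectsLimits (forget AddCommGrpCat.{u}) := reflectsLimits_of_reflectsIsomorphisms
  haveI : PreservesFiniteLimits ((Over.post u (X := U)).op.lan :
      ((Over U)ᵒᵖ ⥤ AddCommGrpCat.{u}) ⥤ ((Over (u.obj U))ᵒᵖ ⥤ AddCommGrpCat.{u})) :=
    lan_preservesFiniteLimits_of_flat AddCommGrpCat.{u} (Over.post u (X := U))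
  exact Injective.injective_of_adjoint
    ((Over.post u (X := U)).op.lanAdjunction AddCommGrpCat.{u})
    ((Over.forget (u.obj U)).op ⋙ I.obj)

/-- Čech cohomology of the pull-back of an injective sheaf vanishes for covering families -/
theorem cechH_isZero_push_injective (I : Sheaf K AddCommGrpCat.{u}) [Injective I] {U : C}
    {ι : Type u} (Y : ι → Over U)
    (hY : Sieve.ofArrows (fun i => (Y i).left) (fun i => (Y i).hom) ∈ J U) (p : ℕ) :
    IsZero (CohCx.cechH ((CohSite.push K J u).obj I).obj Y (p + 1)) := by
  haveI := injective_over_push J K u I U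
  haveI := mono_η J ((CohSite.push K J u).obj I) Y hY
  exact isZero_homology_succ_of_retraction _
    (Injective.factorThru (𝟙 _)
      (η Y ((Over.forget U).op ⋙ ((CohSite.push K J u).obj I).obj)))
    (Injective.comp_factorThru _ _) p

theorem push_injective_acyclic' (I : Sheaf K AddCommGrpCat.{u}) [Injective I] (U : C) (p : ℕ) :
    Subsingleton (CohSite.HU ((CohSite.push K J u).obj I) (p + 1) U) := by
  refine cartan J Set.univ
    (fun U ι Y => Sieve.ofArrows (fun i => (Y i).left) (fun i => (Y i).hom) ∈ J U)
    (fun U ι Y hc => ⟨trivial, hc, fun _ _ => trivial⟩) ?_ p _ ?_ U trivial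
  · intro U _ T hT
    refine ⟨Σ V : C, {f : V ⟶ U // T.arrows f}, fun i => Over.mk i.2.1, ?_, fun i => i.2.2⟩
    exact J.superset_covering (fun V f hf => Sieve.ofArrows_mk
      (fun i : Σ V : C, {f : V ⟶ U // T.arrows f} => (Over.mk i.2.1).left)
      (fun i => (Over.mk i.2.1).hom) ⟨V, f, hf⟩) hT
  · intro U ι Y hc q
    exact cechH_isZero_push_injective J K u I Y hc q

instance preservesFiniteLimits_push : PreservesFiniteLimits (CohSite.push K J u) := by
  haveI : PreservesLimitsOfSize.{0, 0} (CohSite.push K J u) :=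
    (u.sheafAdjunctionContinuous AddCommGrpCat.{u} J K).rightAdjoint_preservesLimits
  infer_instance

instance preservesFiniteColimits_push [u.IsCocontinuous J K] :
    PreservesFiniteColimits (CohSite.push K J u) := by
  haveI : PreservesColimitsOfSize.{0, 0} (CohSite.push K J u) :=
    (u.sheafAdjunctionCocontinuous AddCommGrpCat.{u} J K).leftAdjoint_preservesColimits
  infer_instance

/-- cohomology of the pull-back over `U` is cohomology over `u(U)` -/
theorem push_HU_equiv [u.IsCocontinuous J K] (U : C) :
    ∀ (p : ℕ) (F : Sheaf K AddCommGrpCat.{u}),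
      Nonempty (CohSite.HU ((CohSite.push K J u).obj F) p U ≃+ CohSite.HU F p (u.obj U))
  | 0, F => ⟨(CechEdge.sectH0 J U ((CohSite.push K J u).obj F)).symm.trans
      (CechEdge.sectH0 K (u.obj U) F)⟩
  | 1, F => by
      have hS := injSC_shortExact K F
      have hS' : ((injSC K F).map (CohSite.push K J u)).ShortExact := hS.map_of_exact _
      have hI : Subsingleton (Ext (CohCx.freeSheaf J U)
          ((injSC K F).map (CohSite.push K J u)).X₂ 1) :=
        push_injective_acyclic' J K u (injSC K F).X₂ U 0
      refine addEquiv_of_ker_eq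
        ((CechEdge.extδ hS' U 0).comp
          (CechEdge.sectH0 J U ((injSC K F).map (CohSite.push K J u)).X₃).toAddMonoidHom)
        ((CechEdge.extδ hS (u.obj U) 0).comp
          (CechEdge.sectH0 K (u.obj U) (injSC K F).X₃).toAddMonoidHom) ?_ ?_ ?_
      · exact (extδ_surjective' (CohCx.freeSheaf J U) hS' 0 hI).comp
          (CechEdge.sectH0 J U _).surjective
      · exact (extδ_surjective (CohCx.freeSheaf K (u.obj U)) hS 0).comp
          (CechEdge.sectH0 K (u.obj U) _).surjective
      · intro s
        exact (extδ_sect_eq_zero_iff' J hS' U s).trans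
          (extδ_sect_eq_zero_iff' K hS (u.obj U) s).symm
  | p + 2, F => by
      have hS := injSC_shortExact K F
      have hS' : ((injSC K F).map (CohSite.push K J u)).ShortExact := hS.map_of_exact _
      have hI : ∀ q, Subsingleton (Ext (CohCx.freeSheaf J U)
          ((injSC K F).map (CohSite.push K J u)).X₂ (q + 1)) := fun q =>
        push_injective_acyclic' J K u (injSC K F).X₂ U q
      obtain ⟨e2⟩ := push_HU_equiv U (p + 1) (injSC K F).X₃
      have e1 : CohSite.HU ((CohSite.push K J u).obj (injSC K F).X₃) (p + 1) U ≃+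
          CohSite.HU ((CohSite.push K J u).obj F) (p + 2) U :=
        AddEquiv.ofBijective (CechEdge.extδ hS' U (p + 1))
          ⟨extδ_injective' (CohCx.freeSheaf J U) hS' p (hI p),
            extδ_surjective' (CohCx.freeSheaf J U) hS' (p + 1) (hI (p + 1))⟩
      have e3 : CohSite.HU (injSC K F).X₃ (p + 1) (u.obj U) ≃+
          CohSite.HU F (p + 2) (u.obj U) :=
        AddEquiv.ofBijective (CechEdge.extδ hS (u.obj U) (p + 1))
          ⟨extδ_injective (CohCx.freeSheaf K (u.obj U)) hS p,
            extδ_surjective (CohCx.freeSheaf K (u.obj U)) hS (p + 1)⟩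
      exact ⟨e1.symm.trans (e2.trans e3)⟩

end post

end Groth.Agent.H67.Cech
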