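import Mathlib

/-!
# Helper library (helper67): `Ext^q(Z, -)` commutes with filtered colimits, by dimension shifting
along a functorial injective embedding
-/

set_option autoImplicit false
universe w' w v u

open CategoryTheory CategoryTheory.Limits Abelian MorphismProperty ZeroObject

namespace Groth.Agent.H67.ExtColim

variable {𝒜 : Type u} [Category.{v} 𝒜] [Abelian 𝒜]

section Inj

variable [IsGrothendieckAbelian.{w} 𝒜]

/-- `X ↦ (0 : X ⟶ 0)` -/
noncomputable def toZeroArrow : 𝒜 ⥤ Arrow 𝒜 where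
  obj X := Arrow.mk (0 : X ⟶ (0 : 𝒜))
  map f := Arrow.homMk f (𝟙 _) (by simp)

/-- the functorial factorization -/
noncomputable abbrev fdata :
    FunctorialFactorizationData (monomorphisms 𝒜) (monomorphisms 𝒜).rlp :=
  functorialFactorizationData _ _

/-- functorial injective hull -/
noncomputable def injF : 𝒜 ⥤ 𝒜 := toZeroArrow ⋙ (fdata (𝒜 := 𝒜)).Z

/-- the embedding -/
noncomputable def ηF : 𝟭 𝒜 ⟶ injF (𝒜 := 𝒜) where
  app X := (fdata (𝒜 := 𝒜)).i.app (Arrow.mk (0 : X ⟶ (0 : 𝒜)))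
  naturality X Y f := (fdata (𝒜 := 𝒜)).i.naturality (toZeroArrow.map f)

instance mono_ηF (X : 𝒜) : Mono ((ηF (𝒜 := 𝒜)).app X) := by
  show Mono ((fdata (𝒜 := 𝒜)).i.app (Arrow.mk (0 : X ⟶ (0 : 𝒜))))
  exact (monomorphisms.iff _).1 ((fdata (𝒜 := 𝒜)).hi _)

instance injective_injF (X : 𝒜) : Injective ((injF (𝒜 := 𝒜)).obj X) := by
  show Injective (IsGrothendieckAbelian.monoMapFactorizationDataRlp (0 : X ⟶ (0 : 𝒜))).Z
  infer_instance

/-- functorial cokernel of the embedding -/
noncomputable def QF : 𝒜 ⥤ 𝒜 where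
  obj X := cokernel ((ηF (𝒜 := 𝒜)).app X)
  map {X Y} f := cokernel.map (ηF.app X) (ηF.app Y) f (injF.map f) (ηF.naturality f).symm
  map_id X := by
    apply coequalizer.hom_ext
    simp
  map_comp f g := by
    apply coequalizer.hom_ext
    simp

noncomputable def πF : injF (𝒜 := 𝒜) ⟶ QF where
  app X := cokernel.π (ηF.app X)
  naturality X Y f := by simp [QF]

/-- the functorial short exact sequence `0 → X → I(X) → Q(X) → 0` -/
noncomputable def SC (X : 𝒜) : ShortComplex 𝒜 :=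
  ShortComplex.mk ((ηF (𝒜 := 𝒜)).app X) (πF.app X) (cokernel.condition _)

lemma SC_shortExact (X : 𝒜) : (SC X).ShortExact :=
  ShortComplex.ShortExact.mk' (ShortComplex.exact_cokernel _)
    (by dsimp [SC]; infer_instance) (by
      show Epi (cokernel.π _)
      infer_instance)

instance (X : 𝒜) : Injective (SC X).X₂ := by
  dsimp [SC]; infer_instance

noncomputable def SCmap {X Y : 𝒜} (f : X ⟶ Y) : SC X ⟶ SC Y where
  τ₁ := f
  τ₂ := injF.map f
  τ₃ := QF.map f
  comm₁₂ := ηF.naturality f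
  comm₂₃ := πF.naturality f

variable {Λ : Type w} [SmallCategory Λ] (D : Λ ⥤ 𝒜)

/-- the embedding of a diagram -/
noncomputable def ηD : D ⟶ D ⋙ injF where
  app i := ηF.app (D.obj i)
  naturality i j f := ηF.naturality (D.map f)

noncomputable abbrev πD : D ⋙ injF ⟶ D ⋙ QF := Functor.whiskerLeft D πF

/-- the short complex of diagrams -/
noncomputable def SCfun : ShortComplex (Λ ⥤ 𝒜) :=
  ShortComplex.mk (ηD D) (πD D) (by
    ext i
    exact cokernel.condition _)

lemma SCfun_shortExact : (SCfun D).ShortExact := by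
  have hm : Mono (SCfun D).f := by
    haveI : ∀ i, Mono ((SCfun D).f.app i) := fun i => mono_ηF (D.obj i)
    exact NatTrans.mono_of_mono_app _
  have he : Epi (SCfun D).g := by
    haveI : ∀ i, Epi ((SCfun D).g.app i) := fun i => by
      show Epi (cokernel.π _)
      infer_instance
    exact NatTrans.epi_of_epi_app _
  refine ShortComplex.ShortExact.mk' ?_ hm he
  rw [ShortComplex.exact_iff_isZero_homology, Functor.isZero_iff]
  intro i
  have e := (SCfun D).mapHomologyIso ((evaluation Λ 𝒜).obj i)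
  exact IsZero.of_iso ((ShortComplex.exact_iff_isZero_homology _).1
    (SC_shortExact (D.obj i)).exact) e.symm

variable [IsFiltered Λ]

/-- the colimit short complex -/
noncomputable def SCc : ShortComplex 𝒜 := (SCfun D).map colim

lemma SCc_shortExact : (SCc D).ShortExact := by
  haveI : PreservesFiniteColimits (colim : (Λ ⥤ 𝒜) ⥤ 𝒜) := by
    have := (colimConstAdj (C := 𝒜) (J := Λ)).leftAdjoint_preservesColimits
    infer_instance
  exact (SCfun_shortExact D).map_of_exact colim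

noncomputable def toSCc (i : Λ) : SC (D.obj i) ⟶ SCc D where
  τ₁ := colimit.ι D i
  τ₂ := colimit.ι (D ⋙ injF) i
  τ₃ := colimit.ι (D ⋙ QF) i
  comm₁₂ := ι_colimMap (ηD D) i
  comm₂₃ := ι_colimMap (πD D) i

end Inj

section Push

variable [HasExt.{w'} 𝒜] (Z : 𝒜)

/-- pushforward of Ext classes -/
noncomputable def push {X Y : 𝒜} (g : X ⟶ Y) {q : ℕ} (x : Ext Z X q) : Ext Z Y q :=
  x.comp (Ext.mk₀ g) (add_zero q)

variable {Z}

lemma push_id {X : 𝒜} {q : ℕ} (x : Ext Z X q) : push Z (𝟙 X) x = x := Ext.comp_mk₀_id x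

lemma push_comp {X Y W : 𝒜} (g : X ⟶ Y) (h : Y ⟶ W) {q : ℕ} (x : Ext Z X q) :
    push Z h (push Z g x) = push Z (g ≫ h) x := by
  unfold push
  rw [Ext.comp_assoc_of_third_deg_zero, Ext.mk₀_comp_mk₀]

lemma push_zero {X Y : 𝒜} (g : X ⟶ Y) {q : ℕ} : push Z g (0 : Ext Z X q) = 0 := by
  unfold push
  exact Ext.zero_comp _ _ _ _ _

lemma push_sub {X Y : 𝒜} (g : X ⟶ Y) {q : ℕ} (x y : Ext Z X q) :
    push Z g (x - y) = push Z g x - push Z g y :=
  ((Ext.mk₀ g).postcomp Z (add_zero q)).map_sub x y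

lemma push_add {X Y : 𝒜} (g : X ⟶ Y) {q : ℕ} (x y : Ext Z X q) :
    push Z g (x + y) = push Z g x + push Z g y :=
  ((Ext.mk₀ g).postcomp Z (add_zero q)).map_add x y

variable (Z) in
/-- the connecting map -/
noncomputable def δ {S : ShortComplex 𝒜} (hS : S.ShortExact) {q : ℕ} (y : Ext Z S.X₃ q) :
    Ext Z S.X₁ (q + 1) :=
  y.comp hS.extClass rfl

lemma δ_nat {S₁ S₂ : ShortComplex 𝒜} (h₁ : S₁.ShortExact) (h₂ : S₂.ShortExact) (φ : S₁ ⟶ S₂)
    {q : ℕ} (y : Ext Z S₁.X₃ q) :
    push Z φ.τ₁ (δ Z h₁ y) = δ Z h₂ (push Z φ.τ₃ y) := by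
  unfold push δ
  have e1 := Ext.comp_assoc y h₁.extClass (Ext.mk₀ φ.τ₁) (rfl : q + 1 = q + 1) (add_zero 1)
    (by omega : q + 1 + 0 = q + 1)
  have e2 := Ext.comp_assoc y (Ext.mk₀ φ.τ₃) h₂.extClass (add_zero q) (zero_add 1)
    (by omega : q + 0 + 1 = q + 1)
  rw [e1, ShortComplex.ShortExact.extClass_naturality h₁ h₂ φ, ← e2]

lemma δ_push_g {S : ShortComplex 𝒜} (hS : S.ShortExact) {q : ℕ} (w : Ext Z S.X₂ q) :
    δ Z hS (push Z S.g w) = 0 := by
  unfold δ push
  rw [Ext.comp_assoc w (Ext.mk₀ S.g) hS.extClass (add_zero q) (zero_add 1)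
    (by omega : q + 0 + 1 = q + 1), hS.comp_extClass, Ext.comp_zero]

/-- `Ext^q(Z, -)` commutes with the colimit of `D`, in elementwise form -/
structure Commutes (Z : 𝒜) (q : ℕ) {Λ : Type w} [Category.{w} Λ] (D : Λ ⥤ 𝒜) (c : Cocone D) :
    Prop where
  surj : ∀ x : Ext Z c.pt q, ∃ (i : Λ) (xi : Ext Z (D.obj i) q), push Z (c.ι.app i) xi = x
  inj : ∀ (i : Λ) (xi : Ext Z (D.obj i) q), push Z (c.ι.app i) xi = 0 →
    ∃ (j : Λ) (f : i ⟶ j), push Z (D.map f) xi = 0

end Push

section Main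

variable [IsGrothendieckAbelian.{w} 𝒜] [HasExt.{w} 𝒜] {Λ : Type w} [SmallCategory Λ]
  [IsFiltered Λ]

theorem commutes_succ (Z : 𝒜) (q : ℕ)
    (h0 : ∀ D : Λ ⥤ 𝒜, Commutes Z 0 D (colimit.cocone D))
    (hq : ∀ D : Λ ⥤ 𝒜, Commutes Z q D (colimit.cocone D))
    (hacyc : ∀ D : Λ ⥤ 𝒜, (∀ i, Injective (D.obj i)) →
      ∀ (n : ℕ) (x : Ext Z (colimit D) (n + 1)), x = 0)
    (D : Λ ⥤ 𝒜) : Commutes Z (q + 1) D (colimit.cocone D) := by
  have hI : ∀ i, Injective ((D ⋙ injF).obj i) := fun i => injective_injF (D.obj i)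
  have hSc := SCc_shortExact D
  constructor
  · intro x
    have h1 : x.comp (Ext.mk₀ (SCc D).f) (add_zero (q + 1)) = 0 := hacyc (D ⋙ injF) hI q _
    obtain ⟨y, hy⟩ := Ext.covariant_sequence_exact₁ Z hSc x h1 rfl
    obtain ⟨i, yi, hyi⟩ := (hq (D ⋙ QF)).surj y
    refine ⟨i, δ Z (SC_shortExact (D.obj i)) yi, ?_⟩
    have h2 := δ_nat (Z := Z) (SC_shortExact (D.obj i)) hSc (toSCc D i) yi
    exact h2.trans ((congrArg (δ Z hSc) hyi).trans hy)
  · intro i xi hxi
    have h1 : xi.comp (Ext.mk₀ (SC (D.obj i)).f) (add_zero (q + 1)) = 0 :=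
      Ext.eq_zero_of_injective _
    obtain ⟨yi, hyi⟩ := Ext.covariant_sequence_exact₁ Z (SC_shortExact (D.obj i)) xi h1 rfl
    have hyi' : δ Z (SC_shortExact (D.obj i)) yi = xi := hyi
    have h2 : (push Z (colimit.ι (D ⋙ QF) i) yi).comp hSc.extClass rfl = 0 := by
      have h3 := δ_nat (Z := Z) (SC_shortExact (D.obj i)) hSc (toSCc D i) yi
      rw [hyi'] at h3
      exact h3.symm.trans hxi
    obtain ⟨z, hz⟩ := Ext.covariant_sequence_exact₃ Z hSc _ rfl h2
    have hz' : push Z (colimMap (πD D)) z = push Z (colimit.ι (D ⋙ QF) i) yi := hz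
    suffices hkey : ∃ (j : Λ) (f : i ⟶ j) (w : Ext Z (injF.obj (D.obj j)) q),
        push Z (QF.map (D.map f)) yi = push Z (πF.app (D.obj j)) w by
      obtain ⟨j, f, w, hw⟩ := hkey
      refine ⟨j, f, ?_⟩
      rw [← hyi']
      have h4 := δ_nat (Z := Z) (SC_shortExact (D.obj i)) (SC_shortExact (D.obj j))
        (SCmap (D.map f)) yi
      refine h4.trans ?_
      show δ Z (SC_shortExact (D.obj j)) (push Z (QF.map (D.map f)) yi) = 0
      rw [hw]
      exact δ_push_g (SC_shortExact (D.obj j)) w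
    rcases q with _ | q
    · obtain ⟨k, zk, hzk⟩ := (h0 (D ⋙ injF)).surj z
      have hzk' : push Z (colimit.ι (D ⋙ injF) k) zk = z := hzk
      let k' := IsFiltered.max i k
      let a : i ⟶ k' := IsFiltered.leftToMax i k
      let b : k ⟶ k' := IsFiltered.rightToMax i k
      let w' : Ext Z (injF.obj (D.obj k')) 0 := push Z (injF.map (D.map b)) zk
      let y' : Ext Z (QF.obj (D.obj k')) 0 :=
        push Z (QF.map (D.map a)) yi - push Z (πF.app (D.obj k')) w'
      have hy' : push Z (colimit.ι (D ⋙ QF) k') y' = 0 := by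
        have e1 : push Z (colimit.ι (D ⋙ QF) k') (push Z (QF.map (D.map a)) yi) =
            push Z (colimit.ι (D ⋙ QF) i) yi := by
          rw [push_comp]
          exact congrArg (fun g => push Z g yi) (colimit.w (D ⋙ QF) a)
        have e2 : push Z (colimit.ι (D ⋙ QF) k') (push Z (πF.app (D.obj k')) w') =
            push Z (colimMap (πD D)) z := by
          have e3 : πF.app (D.obj k') ≫ colimit.ι (D ⋙ QF) k' =
              colimit.ι (D ⋙ injF) k' ≫ colimMap (πD D) := (ι_colimMap (πD D) k').symm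
          have e5 : push Z (colimit.ι (D ⋙ injF) k') w' = z := by
            rw [← hzk']
            show push Z (colimit.ι (D ⋙ injF) k') (push Z (injF.map (D.map b)) zk) = _
            rw [push_comp]
            exact congrArg (fun g => push Z g zk) (colimit.w (D ⋙ injF) b)
          rw [push_comp, e3, ← push_comp, e5]
        show push Z _ (_ - _) = 0
        rw [push_sub, e1, e2, hz', sub_self]
      obtain ⟨j, g, hg⟩ := (h0 (D ⋙ QF)).inj k' y' hy'
      have hg' : push Z (QF.map (D.map g)) y' = 0 := hg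
      refine ⟨j, a ≫ g, push Z (injF.map (D.map g)) w', ?_⟩
      have e4 : push Z (QF.map (D.map g)) (push Z (QF.map (D.map a)) yi) =
          push Z (QF.map (D.map g)) (push Z (πF.app (D.obj k')) w') := by
        have : push Z (QF.map (D.map g)) (push Z (QF.map (D.map a)) yi -
            push Z (πF.app (D.obj k')) w') = 0 := hg'
        rw [push_sub, sub_eq_zero] at this
        exact this
      calc push Z (QF.map (D.map (a ≫ g))) yi
          = push Z (QF.map (D.map g)) (push Z (QF.map (D.map a)) yi) := by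
            rw [push_comp, ← QF.map_comp, ← D.map_comp]
        _ = push Z (QF.map (D.map g)) (push Z (πF.app (D.obj k')) w') := e4
        _ = push Z (πF.app (D.obj k') ≫ QF.map (D.map g)) w' := push_comp _ _ _
        _ = push Z (injF.map (D.map g) ≫ πF.app (D.obj j)) w' :=
            congrArg (fun g => push Z g w') (πF.naturality (D.map g)).symm
        _ = push Z (πF.app (D.obj j)) (push Z (injF.map (D.map g)) w') := (push_comp _ _ _).symm
    · have hz0 : z = 0 := hacyc (D ⋙ injF) hI q z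
      have hz'' : push Z (colimit.ι (D ⋙ QF) i) yi = 0 := by
        rw [← hz', hz0]
        exact push_zero _
      obtain ⟨j, f, hf⟩ := (hq (D ⋙ QF)).inj i yi hz''
      exact ⟨j, f, 0, by rw [push_zero]; exact hf⟩

theorem commutes_all (Z : 𝒜)
    (h0 : ∀ D : Λ ⥤ 𝒜, Commutes Z 0 D (colimit.cocone D))
    (hacyc : ∀ D : Λ ⥤ 𝒜, (∀ i, Injective (D.obj i)) →
      ∀ (n : ℕ) (x : Ext Z (colimit D) (n + 1)), x = 0) :
    ∀ (q : ℕ) (D : Λ ⥤ 𝒜), Commutes Z q D (colimit.cocone D)
  | 0 => h0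
  | q + 1 => commutes_succ Z q h0 (commutes_all Z h0 hacyc q) hacyc

theorem preservesColimit_of_commutes (Z : 𝒜) (q : ℕ) (D : Λ ⥤ 𝒜)
    (h : Commutes Z q D (colimit.cocone D)) : PreservesColimit D (extFunctorObj Z q) := by
  have key : ∀ (i : Λ) (x y : Ext Z (D.obj i) q),
      push Z (colimit.ι D i) x = push Z (colimit.ι D i) y →
      ∃ (j : Λ) (f : i ⟶ j), push Z (D.map f) x = push Z (D.map f) y := by
    intro i x y hxy
    have h1 : push Z (colimit.ι D i) (x - y) = 0 := by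
      rw [push_sub, sub_eq_zero]
      exact hxy
    obtain ⟨j, f, hf⟩ := h.inj i (x - y) h1
    refine ⟨j, f, ?_⟩
    rw [push_sub, sub_eq_zero] at hf
    exact hf
  apply preservesColimit_of_preserves_colimit_cocone (colimit.isColimit D)
  have : ReflectsColimitsOfShape Λ (forget AddCommGrpCat.{w}) :=
    reflectsColimitsOfShape_of_reflectsIsomorphisms
  apply isColimitOfReflects (forget AddCommGrpCat.{w})
  apply Types.FilteredColimit.isColimitOf'
  · intro x
    obtain ⟨i, xi, hxi⟩ := h.surj x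
    exact ⟨i, xi, hxi.symm⟩
  · intro i x y hxy
    exact key i x y hxy

end Main

end Groth.Agent.H67.ExtColim
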