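import Mathlib
import Groth.Prelude.Def_CohCx
import Groth.Prelude.Def_CohSite
import Groth.Agent.H67.CechE
import Groth.Agent.H67.CechC
import Groth.Agent.H67.SieveCoh3
import Groth.Agent.H67.ExtColim

/-!
# Helper library (helper67): sections over "quasi-compact" objects commute with filtered colimits
of abelian sheaves; Čech acyclicity passes to filtered colimits
-/

set_option autoImplicit false
universe u

open CategoryTheory CategoryTheory.Limits Opposite

namespace Groth.Agent.H67.ColimSec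

section Filtered

variable {Λ : Type u} [SmallCategory Λ] [IsFiltered Λ]

lemma exists_common {κ : Type*} [Finite κ] (i : Λ) (P : κ → ∀ j : Λ, (i ⟶ j) → Prop)
    (hmono : ∀ (k : κ) (j j' : Λ) (f : i ⟶ j) (g : j ⟶ j'), P k j f → P k j' (f ≫ g))
    (h : ∀ k, ∃ (j : Λ) (f : i ⟶ j), P k j f) : ∃ (j : Λ) (f : i ⟶ j), ∀ k, P k j f := by
  classical
  cases nonempty_fintype κ
  suffices H : ∀ s : Finset κ, ∃ (j : Λ) (f : i ⟶ j), ∀ k ∈ s, P k j f by
    obtain ⟨j, f, hf⟩ := H Finset.univ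
    exact ⟨j, f, fun k => hf k (Finset.mem_univ k)⟩
  intro s
  induction s using Finset.induction_on with
  | empty => exact ⟨i, 𝟙 i, fun k hk => by simp at hk⟩
  | insert a s ha ih =>
    obtain ⟨j₁, f₁, h₁⟩ := ih
    obtain ⟨j₂, f₂, h₂⟩ := h a
    let m := IsFiltered.max j₁ j₂
    let g₁ : j₁ ⟶ m := IsFiltered.leftToMax j₁ j₂
    let g₂ : j₂ ⟶ m := IsFiltered.rightToMax j₁ j₂
    let e := IsFiltered.coeq (f₁ ≫ g₁) (f₂ ≫ g₂)
    let c : m ⟶ e := IsFiltered.coeqHom (f₁ ≫ g₁) (f₂ ≫ g₂)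
    have hc : (f₁ ≫ g₁) ≫ c = (f₂ ≫ g₂) ≫ c := IsFiltered.coeq_condition _ _
    refine ⟨e, (f₁ ≫ g₁) ≫ c, fun k hk => ?_⟩
    rcases Finset.mem_insert.1 hk with rfl | hk
    · rw [hc, Category.assoc]
      exact hmono _ _ _ _ _ h₂
    · rw [Category.assoc]
      exact hmono _ _ _ _ _ (h₁ k hk)

lemma exists_common_obj {κ : Type*} [Finite κ] (ik : κ → Λ) :
    ∃ i : Λ, ∀ k, Nonempty (ik k ⟶ i) := by
  classical
  cases nonempty_fintype κ
  obtain ⟨S, hS⟩ := IsFiltered.sup_objs_exists (Finset.univ.image ik)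
  exact ⟨S, fun k => hS (Finset.mem_image_of_mem ik (Finset.mem_univ k))⟩

end Filtered

variable {C : Type u} [SmallCategory C] {J : GrothendieckTopology C}
  {Λ : Type u} [SmallCategory Λ] [IsFiltered Λ] (D : Λ ⥤ Sheaf J AddCommGrpCat.{u})

/-- sections over `V` commute with the colimit, elementwise form -/
structure SecCommutes (c : Cocone D) (V : C) : Prop where
  surj : ∀ t : c.pt.obj.obj (op V), ∃ (i : Λ) (s : (D.obj i).obj.obj (op V)),
    (c.ι.app i).hom.app (op V) s = t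
  inj : ∀ (i : Λ) (s : (D.obj i).obj.obj (op V)), (c.ι.app i).hom.app (op V) s = 0 →
    ∃ (j : Λ) (f : i ⟶ j), (D.map f).hom.app (op V) s = 0

lemma map_comp_apply {i j k : Λ} (f : i ⟶ j) (g : j ⟶ k) (W : Cᵒᵖ) (x : (D.obj i).obj.obj W) :
    (D.map (f ≫ g)).hom.app W x = (D.map g).hom.app W ((D.map f).hom.app W x) := by
  rw [D.map_comp]
  rfl

lemma cocone_w_apply (c : Cocone D) {i j : Λ} (f : i ⟶ j) (W : Cᵒᵖ) (x : (D.obj i).obj.obj W) :
    (c.ι.app j).hom.app W ((D.map f).hom.app W x) = (c.ι.app i).hom.app W x := by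
  rw [← c.w f]
  rfl

lemma hom_natural {G G' : Sheaf J AddCommGrpCat.{u}} (φ : G ⟶ G') {W W' : Cᵒᵖ} (g : W ⟶ W')
    (x : G.obj.obj W) : φ.hom.app W' (G.obj.map g x) = G'.obj.map g (φ.hom.app W x) :=
  NatTrans.naturality_apply φ.hom g x

lemma map_comp_op_apply (G : Sheaf J AddCommGrpCat.{u}) {X Y Z : C} (f : X ⟶ Y) (g : Y ⟶ Z)
    (x : G.obj.obj (op Z)) : G.obj.map (f ≫ g).op x = G.obj.map f.op (G.obj.map g.op x) := by
  rw [op_comp, G.obj.map_comp]
  rfl

lemma eq_of_locally (F : Sheaf J AddCommGrpCat.{u}) {V : C} (S : Sieve V) (hS : S ∈ J V)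
    (x y : F.obj.obj (op V)) (h : ∀ ⦃W : C⦄ (f : W ⟶ V), S f → F.obj.map f.op x = F.obj.map f.op y) :
    x = y := by
  have h0 := Cech.eq_zero_of_locally J F S hS (x - y) (fun W f hf => by
    rw [map_sub, h f hf, sub_self])
  exact sub_eq_zero.1 h0

variable {D}

lemma SecCommutes.inj_eq {c : Cocone D} {V : C} (h : SecCommutes D c V) (i : Λ)
    (s s' : (D.obj i).obj.obj (op V))
    (hs : (c.ι.app i).hom.app (op V) s = (c.ι.app i).hom.app (op V) s') :
    ∃ (j : Λ) (f : i ⟶ j), (D.map f).hom.app (op V) s = (D.map f).hom.app (op V) s' := by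
  obtain ⟨j, f, hf⟩ := h.inj i (s - s') (by rw [map_sub, hs, sub_self])
  refine ⟨j, f, ?_⟩
  rw [map_sub, sub_eq_zero] at hf
  exact hf

lemma SecCommutes.of_isColimit {c c' : Cocone D} (hc : IsColimit c) (hc' : IsColimit c') {V : C}
    (h : SecCommutes D c V) : SecCommutes D c' V := by
  let e := hc.coconePointUniqueUpToIso hc'
  have he : ∀ i, c.ι.app i ≫ e.hom = c'.ι.app i := fun i =>
    hc.comp_coconePointUniqueUpToIso_hom hc' i
  have he' : ∀ (i : Λ) (s : (D.obj i).obj.obj (op V)),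
      e.hom.hom.app (op V) ((c.ι.app i).hom.app (op V) s) = (c'.ι.app i).hom.app (op V) s :=
    fun i s => congrArg (fun φ => φ.hom.app (op V) s) (he i)
  have h1 : ∀ t : c'.pt.obj.obj (op V), e.hom.hom.app (op V) (e.inv.hom.app (op V) t) = t :=
    fun t => congrArg (fun φ => φ.hom.app (op V) t) e.inv_hom_id
  have h2 : ∀ t : c.pt.obj.obj (op V), e.inv.hom.app (op V) (e.hom.hom.app (op V) t) = t :=
    fun t => congrArg (fun φ => φ.hom.app (op V) t) e.hom_inv_id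
  constructor
  · intro t
    obtain ⟨i, s, hs⟩ := h.surj (e.inv.hom.app (op V) t)
    refine ⟨i, s, ?_⟩
    rw [← he', hs, h1]
  · intro i s hs
    apply h.inj i s
    rw [← h2 ((c.ι.app i).hom.app (op V) s), he', hs, map_zero]

variable (D)

/-- the diagram of underlying presheaves -/
abbrev Pd : Λ ⥤ (Cᵒᵖ ⥤ AddCommGrpCat.{u}) := D ⋙ sheafToPresheaf J AddCommGrpCat.{u}

/-- the objectwise colimit -/
noncomputable abbrev Ec : Cocone (Pd D) := colimit.cocone (Pd D)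

/-- the sheafified colimit cocone -/
noncomputable abbrev cS : Cocone D := Sheaf.sheafifyCocone (Ec D)

noncomputable def cS_isColimit : IsColimit (cS D) :=
  Sheaf.isColimitSheafifyCocone _ (colimit.isColimit _)

lemma cS_ι_apply (i : Λ) (W : Cᵒᵖ) (s : (D.obj i).obj.obj W) :
    ((cS D).ι.app i).hom.app W s =
      (toSheafify J (Ec D).pt).app W (((Ec D).ι.app i).app W s) :=
  congrArg (fun φ => φ.app W s) (Sheaf.sheafifyCocone_ι_app_val (Ec D) i)

lemma E_surj (W : Cᵒᵖ) (x : (Ec D).pt.obj W) :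
    ∃ (i : Λ) (s : (D.obj i).obj.obj W), ((Ec D).ι.app i).app W s = x := by
  haveI : PreservesColimitsOfShape Λ (forget AddCommGrpCat.{u}) :=
    PreservesFilteredColimitsOfSize.preserves_filtered_colimits Λ
  have hcol : IsColimit (((evaluation Cᵒᵖ AddCommGrpCat.{u}).obj W).mapCocone (Ec D)) :=
    isColimitOfPreserves _ (colimit.isColimit _)
  exact Concrete.isColimit_exists_rep (Pd D ⋙ (evaluation Cᵒᵖ AddCommGrpCat.{u}).obj W) hcol x

lemma E_inj (W : Cᵒᵖ) (i : Λ) (s : (D.obj i).obj.obj W) (h : ((Ec D).ι.app i).app W s = 0) :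
    ∃ (j : Λ) (f : i ⟶ j), (D.map f).hom.app W s = 0 := by
  haveI : PreservesColimitsOfShape Λ (forget AddCommGrpCat.{u}) :=
    PreservesFilteredColimitsOfSize.preserves_filtered_colimits Λ
  have hcol : IsColimit (((evaluation Cᵒᵖ AddCommGrpCat.{u}).obj W).mapCocone (Ec D)) :=
    isColimitOfPreserves _ (colimit.isColimit _)
  obtain ⟨k, f, g, hfg⟩ := Concrete.isColimit_exists_of_rep_eq
    (Pd D ⋙ (evaluation Cᵒᵖ AddCommGrpCat.{u}).obj W) hcol s (0 : (D.obj i).obj.obj W)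
    (h.trans (map_zero _).symm)
  exact ⟨k, f, hfg.trans (map_zero _)⟩

variable [HasPullbacks C]

/-- the hypotheses on the class `B` of objects and the class `Cov` of finite coverings -/
structure Data (J : GrothendieckTopology C) (B : Set C)
    (Cov : ∀ (U : C) (ι : Type u), (ι → Over U) → Prop) : Prop where
  h1 : ∀ (U : C) (ι : Type u) (Y : ι → Over U), Cov U ι Y → Finite ι ∧ U ∈ B ∧
      Sieve.ofArrows (fun i => (Y i).left) (fun i => (Y i).hom) ∈ J U ∧
      ∀ (p : ℕ) (a : Fin (p + 1) → ι), (∏ᶜ fun k => Y (a k)).left ∈ B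
  h2 : ∀ U ∈ B, ∀ T ∈ J U, ∃ (ι : Type u) (Y : ι → Over U), Cov U ι Y ∧
      ∀ i, T.arrows (Y i).hom

variable {B : Set C} {Cov : ∀ (U : C) (ι : Type u), (ι → Over U) → Prop}

theorem sec_inj (hd : Data J B Cov) (V : C) (hV : V ∈ B) (i : Λ)
    (s : (D.obj i).obj.obj (op V)) (h : ((cS D).ι.app i).hom.app (op V) s = 0) :
    ∃ (j : Λ) (f : i ⟶ j), (D.map f).hom.app (op V) s = 0 := by
  have h' : (toSheafify J (Ec D).pt).app (op V) (((Ec D).ι.app i).app (op V) s) =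
      (toSheafify J (Ec D).pt).app (op V) 0 := by
    rw [map_zero, ← cS_ι_apply]
    exact h
  have hT : Presheaf.equalizerSieve (((Ec D).ι.app i).app (op V) s) 0 ∈ J V :=
    Presheaf.equalizerSieve_mem J (toSheafify J (Ec D).pt) _ _ h'
  obtain ⟨ι₀, Y, hY, hYT⟩ := hd.h2 V hV _ hT
  obtain ⟨hfin, -, hcov, -⟩ := hd.h1 V ι₀ Y hY
  haveI := hfin
  have hk : ∀ k : ι₀, ∃ (j : Λ) (f : i ⟶ j),
      (D.map f).hom.app (op (Y k).left) ((D.obj i).obj.map (Y k).hom.op s) = 0 := by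
    intro k
    apply E_inj
    have h1 : (Ec D).pt.map (Y k).hom.op (((Ec D).ι.app i).app (op V) s) =
        (Ec D).pt.map (Y k).hom.op 0 := hYT k
    rw [map_zero] at h1
    rw [← h1]
    exact NatTrans.naturality_apply ((Ec D).ι.app i) (Y k).hom.op s
  obtain ⟨j, f, hf⟩ := exists_common i
    (fun k j f => (D.map f).hom.app (op (Y k).left) ((D.obj i).obj.map (Y k).hom.op s) = 0)
    (fun k j j' f g hP => by
      show (D.map (f ≫ g)).hom.app _ _ = 0
      rw [map_comp_apply, hP, map_zero]) hk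
  refine ⟨j, f, ?_⟩
  apply Cech.eq_zero_of_locally J (D.obj j) _ hcov
  intro W g hg
  obtain ⟨k, a, rfl⟩ := (Sieve.mem_ofArrows_iff _ _ _).1 hg
  rw [map_comp_op_apply, ← hom_natural, hf k, map_zero]

set_option maxHeartbeats 800000 in
theorem sec_surj (hd : Data J B Cov) (V : C) (hV : V ∈ B) (t : (cS D).pt.obj.obj (op V)) :
    ∃ (i : Λ) (s : (D.obj i).obj.obj (op V)), ((cS D).ι.app i).hom.app (op V) s = t := by
  have hT : Presheaf.imageSieve (toSheafify J (Ec D).pt) t ∈ J V :=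
    Presheaf.imageSieve_mem J (toSheafify J (Ec D).pt) t
  obtain ⟨ι₀, Y, hY, hYT⟩ := hd.h2 V hV _ hT
  obtain ⟨hfin, -, hcov, hB⟩ := hd.h1 V ι₀ Y hY
  haveI := hfin
  have hYT' : ∀ k, ∃ r : (Ec D).pt.obj (op (Y k).left),
      (toSheafify J (Ec D).pt).app (op (Y k).left) r = (cS D).pt.obj.map (Y k).hom.op t := hYT
  choose r hr using hYT'
  choose ik sk hsk using fun k => E_surj D (op (Y k).left) (r k)
  obtain ⟨i₀, hi₀⟩ := exists_common_obj ik
  let s₀ : ∀ k, (D.obj i₀).obj.obj (op (Y k).left) :=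
    fun k => (D.map (hi₀ k).some).hom.app _ (sk k)
  have hs₀ : ∀ k, ((cS D).ι.app i₀).hom.app (op (Y k).left) (s₀ k) =
      (cS D).pt.obj.map (Y k).hom.op t := by
    intro k
    show ((cS D).ι.app i₀).hom.app _ ((D.map (hi₀ k).some).hom.app _ (sk k)) = _
    rw [cocone_w_apply, cS_ι_apply, hsk k]
    exact hr k
  -- agreement on overlaps at a later stage
  have hpair : ∀ a : Fin 2 → ι₀, ∃ (j : Λ) (f : i₀ ⟶ j),
      (D.map f).hom.app (op (∏ᶜ (Y ∘ a)).left)
        ((D.obj i₀).obj.map (Pi.π (Y ∘ a) 0).left.op (s₀ (a 0)) -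
          (D.obj i₀).obj.map (Pi.π (Y ∘ a) 1).left.op (s₀ (a 1))) = 0 := by
    intro a
    refine sec_inj D hd (∏ᶜ (Y ∘ a)).left (hB 1 a) i₀ _ ?_
    have key : ∀ m : Fin 2, ((cS D).ι.app i₀).hom.app (op (∏ᶜ (Y ∘ a)).left)
        ((D.obj i₀).obj.map (Pi.π (Y ∘ a) m).left.op (s₀ (a m))) =
        (cS D).pt.obj.map (∏ᶜ (Y ∘ a)).hom.op t := by
      intro m
      have e1 : ((cS D).ι.app i₀).hom.app (op (∏ᶜ (Y ∘ a)).left)
          ((D.obj i₀).obj.map (Pi.π (Y ∘ a) m).left.op (s₀ (a m))) =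
          (cS D).pt.obj.map (Pi.π (Y ∘ a) m).left.op
            (((cS D).ι.app i₀).hom.app (op (Y (a m)).left) (s₀ (a m))) :=
        hom_natural ((cS D).ι.app i₀) (Pi.π (Y ∘ a) m).left.op (s₀ (a m))
      have e2 : (cS D).pt.obj.map (Pi.π (Y ∘ a) m).left.op
          ((cS D).pt.obj.map (Y (a m)).hom.op t) =
          (cS D).pt.obj.map ((Pi.π (Y ∘ a) m).left ≫ (Y (a m)).hom).op t :=
        (map_comp_op_apply (cS D).pt _ _ t).symm
      have e3 : (Pi.π (Y ∘ a) m).left ≫ (Y (a m)).hom = (∏ᶜ (Y ∘ a)).hom :=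
        Over.w (Pi.π (Y ∘ a) m)
      rw [e3] at e2
      exact e1.trans ((congrArg _ (hs₀ (a m))).trans e2)
    rw [map_sub, key 0, key 1, sub_self]
  obtain ⟨j, f, hf⟩ := exists_common i₀
    (fun (a : Fin 2 → ι₀) j f => (D.map f).hom.app (op (∏ᶜ (Y ∘ a)).left)
        ((D.obj i₀).obj.map (Pi.π (Y ∘ a) 0).left.op (s₀ (a 0)) -
          (D.obj i₀).obj.map (Pi.π (Y ∘ a) 1).left.op (s₀ (a 1))) = 0)
    (fun a j j' f g hP => by
      show (D.map (f ≫ g)).hom.app _ _ = 0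
      rw [map_comp_apply, hP, map_zero]) hpair
  -- the family at stage `j`
  let x : ∀ k, (D.obj j).obj.obj (op (Y k).left) := fun k => (D.map f).hom.app _ (s₀ k)
  have hglue : ∀ (W : C) (a : Fin 2 → ι₀) (w : W ⟶ (∏ᶜ (Y ∘ a)).left),
      (D.obj j).obj.map (w ≫ (Pi.π (Y ∘ a) 0).left).op (x (a 0)) =
        (D.obj j).obj.map (w ≫ (Pi.π (Y ∘ a) 1).left).op (x (a 1)) := by
    intro W a w
    rw [map_comp_op_apply, map_comp_op_apply]
    congr 1
    have h1 := hf a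
    rw [map_sub, sub_eq_zero, hom_natural, hom_natural] at h1
    exact h1
  have hsh : Presieve.IsSheaf J ((D.obj j).obj ⋙ forget AddCommGrpCat.{u}) :=
    (isSheaf_iff_isSheaf_of_type J _).1
      ((Presheaf.isSheaf_iff_isSheaf_forget J (D.obj j).obj (forget AddCommGrpCat.{u})).1
        (D.obj j).property)
  have hsf := (Presieve.isSheafFor_iff_generate _).2 (hsh _ hcov)
  obtain ⟨sg, hsg, -⟩ := (Presieve.isSheafFor_arrows_iff _ _).1 hsf x (by
    intro k l W gk gl hcomm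
    let W' : Over V := Over.mk (gk ≫ (Y k).hom)
    let gk' : W' ⟶ Y k := Over.homMk gk rfl
    let gl' : W' ⟶ Y l := Over.homMk gl hcomm.symm
    let σ : Cech.Simplex Y W' 1 := ![⟨k, gk'⟩, ⟨l, gl'⟩]
    have h0 : σ.toProd.left ≫ (Pi.π (Y ∘ σ.idx) 0).left = gk := by
      rw [← Over.comp_left]
      have : σ.toProd ≫ Pi.π (Y ∘ σ.idx) 0 = gk' := Pi.lift_π _ _
      rw [this]
      rfl
    have h1 : σ.toProd.left ≫ (Pi.π (Y ∘ σ.idx) 1).left = gl := by
      rw [← Over.comp_left]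
      have : σ.toProd ≫ Pi.π (Y ∘ σ.idx) 1 = gl' := Pi.lift_π _ _
      rw [this]
      rfl
    have e := hglue W σ.idx σ.toProd.left
    rw [h0, h1] at e
    exact e)
  have hsg' : ∀ k, (D.obj j).obj.map (Y k).hom.op sg = x k := hsg
  refine ⟨j, sg, ?_⟩
  apply eq_of_locally (cS D).pt _ hcov
  intro W g hg
  obtain ⟨k, a, rfl⟩ := (Sieve.mem_ofArrows_iff _ _ _).1 hg
  rw [map_comp_op_apply, map_comp_op_apply]
  congr 1
  have e1 : (cS D).pt.obj.map (Y k).hom.op (((cS D).ι.app j).hom.app (op V) sg) =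
      ((cS D).ι.app j).hom.app _ ((D.obj j).obj.map (Y k).hom.op sg) :=
    (hom_natural ((cS D).ι.app j) (Y k).hom.op sg).symm
  rw [e1, hsg' k]
  show ((cS D).ι.app j).hom.app _ ((D.map f).hom.app _ (s₀ k)) = _
  rw [cocone_w_apply]
  exact hs₀ k

theorem secCommutes (hd : Data J B Cov) (V : C) (hV : V ∈ B) {c : Cocone D} (hc : IsColimit c) :
    SecCommutes D c V :=
  SecCommutes.of_isColimit (cS_isColimit D) hc
    ⟨fun t => sec_surj D hd V hV t, fun i s h => sec_inj D hd V hV i s h⟩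

end Groth.Agent.H67.ColimSec
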