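import Mathlib
import Groth.Agent.H67.CechTopos

/-!
# Helper library (helper67): sectionwise description of maps out of free abelian sheaves,
Čech `H¹` of an epimorphism versus `Ext¹`, the terminal sheaf and the constant sheaf `ℤ`
-/

set_option autoImplicit false
universe u

open CategoryTheory CategoryTheory.Limits Opposite Abelian AlgebraicTopology Simplicial

namespace Groth.Agent.H67.TorsA

open Groth.Agent.H67.SieveCoh Groth.Agent.H67.ResHom Groth.Agent.H30.CechRes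
  Groth.Agent.H67.CechTopos

variable {C : Type u} [SmallCategory C] {J : GrothendieckTopology C}

/-- the free/forget adjunction -/
noncomputable abbrev adj (J : GrothendieckTopology C) :
    Φ J ⊣ sheafCompose J (forget AddCommGrpCat.{u}) := TotAcyc.freeOnSheafAdj J

/-- the underlying sheaf of sets -/
noncomputable abbrev UU (J : GrothendieckTopology C) :
    Sheaf J AddCommGrpCat.{u} ⥤ Sheaf J (Type u) := sheafCompose J (forget AddCommGrpCat.{u})

section ev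

variable {L L' : Sheaf J (Type u)} {A B : Sheaf J AddCommGrpCat.{u}}

/-- the section of the free sheaf given by a section of `L` -/
noncomputable def usec (L : Sheaf J (Type u)) (U : Cᵒᵖ) (x : L.obj.obj U) :
    ((Φ J).obj L).obj.obj U :=
  ((adj J).unit.app L).hom.app U x

/-- evaluate a map out of the free sheaf on a section -/
noncomputable def ev (ψ : (Φ J).obj L ⟶ A) (U : Cᵒᵖ) (x : L.obj.obj U) : A.obj.obj U :=
  (ψ.hom.app U).hom (usec L U x)

lemma ev_eq (ψ : (Φ J).obj L ⟶ A) (U : Cᵒᵖ) (x : L.obj.obj U) :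
    ev ψ U x = ((adj J).homEquiv L A ψ).hom.app U x := by
  rw [Adjunction.homEquiv_unit]
  rfl

lemma ev_symm (m : L ⟶ (UU J).obj A) (U : Cᵒᵖ) (x : L.obj.obj U) :
    ev (((adj J).homEquiv L A).symm m) U x = m.hom.app U x := by
  rw [ev_eq, Equiv.apply_symm_apply]

lemma ev_add (ψ₁ ψ₂ : (Φ J).obj L ⟶ A) (U : Cᵒᵖ) (x : L.obj.obj U) :
    ev (ψ₁ + ψ₂) U x = ev ψ₁ U x + ev ψ₂ U x := by
  unfold ev
  rw [Sheaf.Hom.add_app]
  rfl

/-- evaluation as a group homomorphism -/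
noncomputable def evHom (A : Sheaf J AddCommGrpCat.{u}) (U : Cᵒᵖ) (x : L.obj.obj U) :
    ((Φ J).obj L ⟶ A) →+ A.obj.obj U :=
  AddMonoidHom.mk' (fun ψ => ev ψ U x) (fun a b => ev_add a b U x)

lemma evHom_apply (ψ : (Φ J).obj L ⟶ A) (U : Cᵒᵖ) (x : L.obj.obj U) :
    evHom A U x ψ = ev ψ U x := rfl

lemma ev_map_comp (g : L' ⟶ L) (ψ : (Φ J).obj L ⟶ A) (U : Cᵒᵖ) (x : L'.obj.obj U) :
    ev ((Φ J).map g ≫ ψ) U x = ev ψ U (g.hom.app U x) := by
  rw [ev_eq, ev_eq, Adjunction.homEquiv_naturality_left]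
  rfl

lemma ev_comp (ψ : (Φ J).obj L ⟶ A) (a : A ⟶ B) (U : Cᵒᵖ) (x : L.obj.obj U) :
    ev (ψ ≫ a) U x = (a.hom.app U).hom (ev ψ U x) := rfl

lemma ev_ext {ψ ψ' : (Φ J).obj L ⟶ A} (h : ∀ U x, ev ψ U x = ev ψ' U x) : ψ = ψ' := by
  apply ((adj J).homEquiv L A).injective
  refine Sheaf.hom_ext (NatTrans.ext (funext fun U => ConcreteCategory.hom_ext _ _ (fun x => ?_)))
  have := h U x
  rw [ev_eq, ev_eq] at this
  exact this

end ev

/-- `Ext¹(ℤ[K], G) = 0` kills Čech `H¹` of every epimorphism onto `K` -/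
theorem cech_one_of_ext_one {S : ShortComplex (Sheaf J AddCommGrpCat.{u})} (hS : S.ShortExact)
    [Injective S.X₂] {K' K : Sheaf J (Type u)} (f : K' ⟶ K) [Epi f]
    (hK : Subsingleton (Ext ((Φ J).obj K) S.X₁ 1))
    (c : (Pc f).X 1 ⟶ S.X₁) (hc : (Pc f).d 2 1 ≫ c = 0) :
    ∃ e : (Pc f).X 0 ⟶ S.X₁, (Pc f).d 1 0 ≫ e = c := by
  have hmono : Mono S.f := hS.mono_f
  have hepi0 : Epi (Arrow.mk f).hom := ‹Epi f›
  obtain ⟨hex0, hτepi⟩ := deg0_exact_base (Arrow.mk f) (τc f) rfl (d_τc f)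
  obtain ⟨ψ, hψ⟩ := he_of_totallyAcyclic S.X₂ (isTotallyAcyclic_of_injective S.X₂) _ _ f ‹Epi f› 0
    (c ≫ S.f) (by rw [← Category.assoc, hc, zero_comp])
  have hψ' : (Pc f).d 1 0 ≫ ψ = c ≫ S.f := hψ
  have h1 : (Pc f).d 1 0 ≫ (ψ ≫ S.g) = 0 := by
    rw [← Category.assoc, hψ', Category.assoc, S.zero, comp_zero]
  have hτepi' : Epi (ShortComplex.mk ((Pc f).d 1 0) (τc f) (d_τc f)).g := hτepi
  let r₀ : (Φ J).obj K ⟶ S.X₃ := hex0.desc _ h1
  have hr₀ : τc f ≫ r₀ = ψ ≫ S.g := hex0.g_desc _ h1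
  obtain ⟨r, hr⟩ := ext_lift ((Φ J).obj K) hS r₀
  have h2 : (ψ - τc f ≫ r) ≫ S.g = 0 := by
    rw [Preadditive.sub_comp, Category.assoc, hr, hr₀, sub_self]
  let e := hS.exact.lift _ h2
  have he : e ≫ S.f = ψ - τc f ≫ r := hS.exact.lift_f _ h2
  refine ⟨e, ?_⟩
  rw [← cancel_mono S.f, Category.assoc, he, Preadditive.comp_sub, hψ', ← Category.assoc, d_τc,
    zero_comp, sub_zero]

section terminal

/-- the constant sheaf of sets with value a point -/
noncomputable abbrev K₁ (J : GrothendieckTopology C) : Sheaf J (Type u) :=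
  Sheaf.terminal J Types.isTerminalPunit

noncomputable def K₁term (J : GrothendieckTopology C) : IsTerminal (K₁ J) :=
  Sheaf.isTerminalTerminal J _

/-- the constant sheaf `ℤ` -/
noncomputable abbrev Zc (J : GrothendieckTopology C) : Sheaf J AddCommGrpCat.{u} :=
  (constantSheaf J AddCommGrpCat.{u}).obj (AddCommGrpCat.of (ULift.{u} ℤ))

/-- the free abelian sheaf on the point is the constant sheaf `ℤ` -/
noncomputable def isoZ (J : GrothendieckTopology C) : (Φ J).obj (K₁ J) ≅ Zc J :=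
  (presheafToSheaf J AddCommGrpCat.{u}).mapIso
    (Functor.constComp _ _ _ ≪≫ (Functor.const _).mapIso
      (((FreeAbelianGroup.uniqueEquiv PUnit.{u + 1}).trans AddEquiv.ulift.symm).toAddCommGrpIso))

lemma ext_subsingleton_of_iso {𝒜 : Type*} [Category 𝒜] [Abelian 𝒜] [HasExt.{u} 𝒜] {A B : 𝒜}
    (α : A ≅ B) (F : 𝒜) (n : ℕ) (h : Subsingleton (Ext A F n)) : Subsingleton (Ext B F n) := by
  have key : ∀ x : Ext B F n, x = 0 := fun x => by
    have h0 : (Ext.mk₀ α.hom).comp x (zero_add n) = 0 := Subsingleton.elim _ _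
    have h1 : (Ext.mk₀ α.inv).comp ((Ext.mk₀ α.hom).comp x (zero_add n)) (zero_add n) = x := by
      rw [Ext.mk₀_comp_mk₀_assoc, α.inv_hom_id, Ext.mk₀_id_comp]
    rw [← h1, h0, Ext.comp_zero]
  exact ⟨fun x y => by rw [key x, key y]⟩

/-- global sections of a presheaf of sets: compatible families -/
def Glob (P : Cᵒᵖ ⥤ Type u) : Type u :=
  {s : ∀ U : Cᵒᵖ, P.obj U // ∀ ⦃U V : Cᵒᵖ⦄ (f : U ⟶ V), P.map f (s U) = s V}

noncomputable def globOfHom {P : Sheaf J (Type u)} (m : K₁ J ⟶ P) : Glob P.obj :=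
  ⟨fun U => m.hom.app U PUnit.unit, fun U V f =>
    (NatTrans.naturality_apply m.hom f PUnit.unit).symm⟩

noncomputable def homOfGlob {P : Sheaf J (Type u)} (s : Glob P.obj) : K₁ J ⟶ P :=
  ObjectProperty.homMk
    { app := fun U => TypeCat.ofHom (fun _ => s.1 U)
      naturality := fun U V f => ConcreteCategory.hom_ext _ _ (fun _ => (s.2 f).symm) }

lemma homOfGlob_app {P : Sheaf J (Type u)} (s : Glob P.obj) (U : Cᵒᵖ) (x : (K₁ J).obj.obj U) :
    (homOfGlob s).hom.app U x = s.1 U := rfl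

lemma hom_ext_K₁ {P : Sheaf J (Type u)} {m m' : K₁ J ⟶ P}
    (h : ∀ U, m.hom.app U PUnit.unit = m'.hom.app U PUnit.unit) : m = m' :=
  Sheaf.hom_ext (NatTrans.ext (funext fun U => ConcreteCategory.hom_ext _ _ (fun x => by
    cases x
    exact h U)))

end terminal

end Groth.Agent.H67.TorsA
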