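import Mathlib
import Groth.Agent.H67.TorsA
import Groth.Agent.H67.ExtColim
import Groth.Agent.H67.ColimSec

/-!
# Helper library (helper67): Cartan's criterion relative to a class of sheaves of sets closed under
Čech nerves, and commutation of `Ext` out of free sheaves with filtered colimits
-/

set_option autoImplicit false
universe u

open CategoryTheory CategoryTheory.Limits Opposite Abelian AlgebraicTopology Simplicial

namespace Groth.Agent.H67.RelCech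

open Groth.Agent.H67.SieveCoh Groth.Agent.H67.ResHom Groth.Agent.H30.CechRes
  Groth.Agent.H67.CechTopos Groth.Agent.H67.TorsA

variable {C : Type u} [SmallCategory C] {J : GrothendieckTopology C}

/-- a class of sheaves of sets with refinements of epimorphisms, closed under Čech nerves -/
structure CClass (𝒦 : Sheaf J (Type u) → Prop) : Prop where
  refine : ∀ (X F : Sheaf J (Type u)) (g : F ⟶ X), 𝒦 X → Epi g →
    ∃ (X' : Sheaf J (Type u)) (k : X' ⟶ F), 𝒦 X' ∧ Epi (k ≫ g)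
  nerve : ∀ (X' X : Sheaf J (Type u)) (f : X' ⟶ X), 𝒦 X' → 𝒦 X → ∀ n : ℕ,
    𝒦 ((Arrow.mk f).cechNerve.obj (op ⦋n⦌))

/-- `Hom`-exactness of the free Čech complexes of epimorphisms between members of the class -/
def HEK (𝒦 : Sheaf J (Type u) → Prop) (F : Sheaf J AddCommGrpCat.{u}) : Prop :=
  ∀ (K' K : Sheaf J (Type u)) (f : K' ⟶ K), 𝒦 K' → 𝒦 K → Epi f →
    ∀ (n : ℕ) (φ : (Pc f).X (n + 1) ⟶ F),
      (Pc f).d (n + 2) (n + 1) ≫ φ = 0 → ∃ ψ : (Pc f).X n ⟶ F, (Pc f).d (n + 1) n ≫ ψ = φ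

lemma hek_of_he (𝒦 : Sheaf J (Type u) → Prop) (F : Sheaf J AddCommGrpCat.{u}) (h : HE F) :
    HEK 𝒦 F := fun K' K f _ _ hf n φ hφ => h K' K f hf n φ hφ

/-- sections of a quotient lift locally -/
theorem exists_local_lift {S : ShortComplex (Sheaf J AddCommGrpCat.{u})} (hS : S.ShortExact)
    (K : Sheaf J (Type u)) (s : (Φ J).obj K ⟶ S.X₃) :
    ∃ (P : Sheaf J (Type u)) (f : P ⟶ K) (t : (Φ J).obj P ⟶ S.X₂),
      Epi f ∧ t ≫ S.g = (Φ J).map f ≫ s := by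
  let adj := TotAcyc.freeOnSheafAdj J
  let U := sheafCompose J (forget AddCommGrpCat.{u})
  let sb : K ⟶ U.obj S.X₃ := adj.homEquiv K S.X₃ s
  have hg : Epi S.g := hS.epi_g
  have hls : Sheaf.IsLocallySurjective S.g :=
    (Sheaf.isLocallySurjective_iff_epi' AddCommGrpCat.{u} S.g).2 hg
  have hUg : Epi (U.map S.g) := inferInstance
  let f : pullback sb (U.map S.g) ⟶ K := pullback.fst sb (U.map S.g)
  have hf : Epi f := by
    have h : EffectiveEpi (pullback.fst sb (U.map S.g)) :=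
      Groth.Agent.S5218.result J (U.map S.g) (pullback.snd sb (U.map S.g)) sb
        (pullback.fst sb (U.map S.g)) (IsPullback.of_hasPullback sb (U.map S.g))
    infer_instance
  let t : (Φ J).obj (pullback sb (U.map S.g)) ⟶ S.X₂ :=
    (adj.homEquiv _ S.X₂).symm (pullback.snd sb (U.map S.g))
  have ht : t ≫ S.g = (Φ J).map f ≫ s := by
    apply (adj.homEquiv _ S.X₃).injective
    rw [adj.homEquiv_naturality_right, adj.homEquiv_naturality_left, Equiv.apply_symm_apply]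
    exact pullback.condition.symm
  exact ⟨_, f, t, hf, ht⟩

/-- a local lift descends if the degree one Čech cohomology of the kernel vanishes -/
theorem lift_of_cover {S : ShortComplex (Sheaf J AddCommGrpCat.{u})} (hS : S.ShortExact)
    {K' K : Sheaf J (Type u)} (f : K' ⟶ K) (hf : Epi f) (s : (Φ J).obj K ⟶ S.X₃)
    (t : (Φ J).obj K' ⟶ S.X₂) (ht : t ≫ S.g = (Φ J).map f ≫ s)
    (hF : ∀ c : (Pc f).X 1 ⟶ S.X₁, (Pc f).d 2 1 ≫ c = 0 →
      ∃ e : (Pc f).X 0 ⟶ S.X₁, (Pc f).d 1 0 ≫ e = c) :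
    ∃ r : (Φ J).obj K ⟶ S.X₂, r ≫ S.g = s := by
  have hepi : Epi (Arrow.mk f).hom := hf
  obtain ⟨hex0, hτepi⟩ := deg0_exact_base (Arrow.mk f) (τc f) rfl (d_τc f)
  let t₀ : (Pc f).X 0 ⟶ S.X₂ := (Φ J).map (p0 (Arrow.mk f)) ≫ t
  have ht₀ : t₀ ≫ S.g = τc f ≫ s := by
    have hb : τc f = (Φ J).map (p0 (Arrow.mk f)) ≫ (Φ J).map f := by
      rw [← Functor.map_comp]
      exact congrArg (Φ J).map (base_eq (Arrow.mk f))
    rw [hb, Category.assoc, Category.assoc, ht]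
  have h1 : ((Pc f).d 1 0 ≫ t₀) ≫ S.g = 0 := by
    rw [Category.assoc, ht₀, ← Category.assoc, d_τc, zero_comp]
  have hmono : Mono S.f := hS.mono_f
  let c : (Pc f).X 1 ⟶ S.X₁ := hS.exact.lift _ h1
  have hc : c ≫ S.f = (Pc f).d 1 0 ≫ t₀ := hS.exact.lift_f _ h1
  have hc2 : (Pc f).d 2 1 ≫ c = 0 := by
    rw [← cancel_mono S.f, Category.assoc, hc, ← Category.assoc, (Pc f).d_comp_d, zero_comp,
      zero_comp]
  obtain ⟨e, he0⟩ := hF c hc2
  have he : (Pc f).d 1 0 ≫ e = c := he0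
  have ht₁ : (Pc f).d 1 0 ≫ (t₀ - e ≫ S.f) = 0 := by
    rw [Preadditive.comp_sub, ← Category.assoc ((Pc f).d 1 0) e, he, hc, sub_self]
  have hτepi' : Epi (ShortComplex.mk ((Pc f).d 1 0) (τc f) (d_τc f)).g := hτepi
  let r : (Φ J).obj K ⟶ S.X₂ := hex0.desc _ ht₁
  have hr : τc f ≫ r = t₀ - e ≫ S.f := hex0.g_desc _ ht₁
  refine ⟨r, ?_⟩
  have hτepi'' : Epi (τc f) := hτepi
  rw [← cancel_epi (τc f), ← Category.assoc, hr, Preadditive.sub_comp, ht₀, Category.assoc,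
    S.zero, comp_zero, sub_zero]

variable {𝒦 : Sheaf J (Type u) → Prop}

theorem lift_of_hek (h𝒦 : CClass 𝒦) {S : ShortComplex (Sheaf J AddCommGrpCat.{u})}
    (hS : S.ShortExact) (hF : HEK 𝒦 S.X₁) (K : Sheaf J (Type u)) (hK : 𝒦 K)
    (s : (Φ J).obj K ⟶ S.X₃) : ∃ r : (Φ J).obj K ⟶ S.X₂, r ≫ S.g = s := by
  obtain ⟨P, f, t, hf, ht⟩ := exists_local_lift hS K s
  obtain ⟨K', k, hK', hk⟩ := h𝒦.refine K P f hK hf
  refine lift_of_cover hS (k ≫ f) hk s ((Φ J).map k ≫ t) ?_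
    (fun c hc => hF K' K (k ≫ f) hK' hK hk 0 c hc)
  rw [Category.assoc, ht, Functor.map_comp, Category.assoc]

theorem ext_one_vanish_K (h𝒦 : CClass 𝒦) (F : Sheaf J AddCommGrpCat.{u}) (hF : HEK 𝒦 F)
    (K : Sheaf J (Type u)) (hK : 𝒦 K) : Subsingleton (Ext ((Φ J).obj K) F 1) :=
  ext_one_of_lift ((Φ J).obj K) (injSC_shortExact J F)
    (fun s => lift_of_hek h𝒦 (injSC_shortExact J F) hF K hK s)

theorem hek_quot (h𝒦 : CClass 𝒦) {S : ShortComplex (Sheaf J AddCommGrpCat.{u})}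
    (hS : S.ShortExact) [Injective S.X₂] (hF : HEK 𝒦 S.X₁) : HEK 𝒦 S.X₃ := by
  intro K' K f hK' hK hf n c hc
  have hmono : Mono S.f := hS.mono_f
  have h1 : Subsingleton (Ext ((Pc f).X (n + 1)) S.X₁ 1) :=
    ext_one_vanish_K h𝒦 S.X₁ hF ((Arrow.mk f).cechNerve.obj (op ⦋n + 1⦌))
      (h𝒦.nerve K' K f hK' hK (n + 1))
  obtain ⟨c', hc'⟩ := ext_lift ((Pc f).X (n + 1)) hS c
  have h2 : ((Pc f).d (n + 2) (n + 1) ≫ c') ≫ S.g = 0 := by
    rw [Category.assoc, hc', hc]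
  let e' : (Pc f).X (n + 2) ⟶ S.X₁ := hS.exact.lift _ h2
  have he' : e' ≫ S.f = (Pc f).d (n + 2) (n + 1) ≫ c' := hS.exact.lift_f _ h2
  have he2 : (Pc f).d (n + 3) (n + 2) ≫ e' = 0 := by
    rw [← cancel_mono S.f, Category.assoc, he', ← Category.assoc, (Pc f).d_comp_d, zero_comp,
      zero_comp]
  obtain ⟨e, he⟩ := hF _ _ f hK' hK hf (n + 1) e' he2
  have h3 : (Pc f).d (n + 2) (n + 1) ≫ (c' - e ≫ S.f) = 0 := by
    rw [Preadditive.comp_sub, ← Category.assoc, he, he', sub_self]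
  obtain ⟨b, hb⟩ := he_of_totallyAcyclic S.X₂ (isTotallyAcyclic_of_injective S.X₂) _ _ f hf n
    (c' - e ≫ S.f) h3
  refine ⟨b ≫ S.g, ?_⟩
  rw [← Category.assoc, hb, Preadditive.sub_comp, hc', Category.assoc, S.zero, comp_zero, sub_zero]

theorem ext_vanish_of_hek (h𝒦 : CClass 𝒦) (p : ℕ) : ∀ (F : Sheaf J AddCommGrpCat.{u}),
    HEK 𝒦 F → ∀ K : Sheaf J (Type u), 𝒦 K → Subsingleton (Ext ((Φ J).obj K) F (p + 1)) := by
  induction p with
  | zero =>
    intro F h K hK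
    exact ext_one_vanish_K h𝒦 F h K hK
  | succ p ih =>
    intro F h K hK
    have hS := injSC_shortExact J F
    have hQ : HEK 𝒦 (injSC J F).X₃ := hek_quot h𝒦 hS h
    exact ext_shift_up _ hS p (ih _ hQ K hK)

/-! ### Filtered colimits -/

variable {Λ : Type u} [SmallCategory Λ] [IsFiltered Λ]

/-- `Hom(Z, -)` commutes with the colimit, elementwise form -/
structure HomCommutes (Z : Sheaf J AddCommGrpCat.{u}) (D : Λ ⥤ Sheaf J AddCommGrpCat.{u})
    (c : Cocone D) : Prop where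
  surj : ∀ t : Z ⟶ c.pt, ∃ (i : Λ) (s : Z ⟶ D.obj i), s ≫ c.ι.app i = t
  inj : ∀ (i : Λ) (s : Z ⟶ D.obj i), s ≫ c.ι.app i = 0 → ∃ (j : Λ) (f : i ⟶ j), s ≫ D.map f = 0

lemma commutes_zero_of_homCommutes {Z : Sheaf J AddCommGrpCat.{u}}
    {D : Λ ⥤ Sheaf J AddCommGrpCat.{u}} {c : Cocone D} (h : HomCommutes Z D c) :
    ExtColim.Commutes Z 0 D c := by
  constructor
  · intro x
    obtain ⟨t, rfl⟩ := (Ext.mk₀_bijective _ _).2 x
    obtain ⟨i, s, hs⟩ := h.surj t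
    refine ⟨i, Ext.mk₀ s, ?_⟩
    unfold ExtColim.push
    rw [Ext.mk₀_comp_mk₀, hs]
  · intro i xi hxi
    obtain ⟨s, rfl⟩ := (Ext.mk₀_bijective _ _).2 xi
    unfold ExtColim.push at hxi
    rw [Ext.mk₀_comp_mk₀] at hxi
    have hs : s ≫ c.ι.app i = 0 := (Ext.mk₀_bijective _ _).1 (hxi.trans (Ext.mk₀_zero _ _).symm)
    obtain ⟨j, f, hf⟩ := h.inj i s hs
    refine ⟨j, f, ?_⟩
    unfold ExtColim.push
    rw [Ext.mk₀_comp_mk₀, hf]
    exact Ext.mk₀_zero _ _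

theorem hek_colimit (h𝒦 : CClass 𝒦) (D : Λ ⥤ Sheaf J AddCommGrpCat.{u}) (c : Cocone D)
    (hA : ∀ X, 𝒦 X → HomCommutes ((Φ J).obj X) D c) (hD : ∀ i, HEK 𝒦 (D.obj i)) :
    HEK 𝒦 c.pt := by
  intro K' K f hK' hK hf n φ hφ
  have hA1 : HomCommutes ((Pc f).X (n + 1)) D c :=
    hA _ (h𝒦.nerve K' K f hK' hK (n + 1))
  have hA2 : HomCommutes ((Pc f).X (n + 2)) D c :=
    hA _ (h𝒦.nerve K' K f hK' hK (n + 2))
  obtain ⟨i, φi, hφi⟩ := hA1.surj φ
  have h0 : ((Pc f).d (n + 2) (n + 1) ≫ φi) ≫ c.ι.app i = 0 := by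
    rw [Category.assoc, hφi, hφ]
  obtain ⟨j, g, hg⟩ := hA2.inj i _ h0
  have hcoc : (Pc f).d (n + 2) (n + 1) ≫ (φi ≫ D.map g) = 0 := by
    rw [← Category.assoc]
    exact hg
  obtain ⟨ψj, hψj⟩ := hD j K' K f hK' hK hf n (φi ≫ D.map g) hcoc
  refine ⟨ψj ≫ c.ι.app j, ?_⟩
  rw [← Category.assoc, hψj, Category.assoc, c.w g, hφi]

/-- the main theorem: `Ext` out of the free sheaf on a member of the class commutes with filtered
colimits -/
theorem core (h𝒦 : CClass 𝒦)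
    (hA : ∀ X, 𝒦 X → ∀ D : Λ ⥤ Sheaf J AddCommGrpCat.{u},
      HomCommutes ((Φ J).obj X) D (colimit.cocone D))
    (X : Sheaf J (Type u)) (hX : 𝒦 X) (q : ℕ) (D : Λ ⥤ Sheaf J AddCommGrpCat.{u}) :
    PreservesColimit D (extFunctorObj ((Φ J).obj X) q) := by
  refine ExtColim.preservesColimit_of_commutes _ q D
    (ExtColim.commutes_all ((Φ J).obj X)
      (fun D' => commutes_zero_of_homCommutes (hA X hX D')) ?_ q D)
  intro D' hI n x
  have h1 : HEK 𝒦 (colimit D') :=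
    hek_colimit h𝒦 D' (colimit.cocone D') (fun Y hY => hA Y hY D')
      (fun i => hek_of_he 𝒦 _ (he_of_totallyAcyclic _
        (haveI := hI i; isTotallyAcyclic_of_injective (D'.obj i))))
  haveI := ext_vanish_of_hek h𝒦 n (colimit D') h1 X hX
  exact Subsingleton.elim _ _

end Groth.Agent.H67.RelCech
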