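import Mathlib
import Groth.Prelude.Def_Tors
import Groth.Agent.H67.TorsA
import Groth.Agent.H67.CechD

/-!
# Helper library (helper67): torsors under an abelian sheaf and `H¹`
-/

set_option autoImplicit false
universe u

open CategoryTheory CategoryTheory.Limits Opposite Abelian AlgebraicTopology Simplicial

namespace Groth.Agent.H67.TorsB

open Groth.Agent.H67.SieveCoh Groth.Agent.H67.ResHom
  Groth.Agent.H67.CechTopos Groth.Agent.H67.TorsA Tors

variable {C : Type u} [SmallCategory C] {J : GrothendieckTopology C}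
  {G : Sheaf J AddCommGrpCat.{u}}

section ev

variable {L : Sheaf J (Type u)} {A : Sheaf J AddCommGrpCat.{u}}

lemma ev_sub (ψ₁ ψ₂ : (Φ J).obj L ⟶ A) (U : Cᵒᵖ) (x : L.obj.obj U) :
    ev (ψ₁ - ψ₂) U x = ev ψ₁ U x - ev ψ₂ U x := (evHom A U x).map_sub ψ₁ ψ₂

lemma ev_zero (U : Cᵒᵖ) (x : L.obj.obj U) : ev (0 : (Φ J).obj L ⟶ A) U x = 0 :=
  (evHom A U x).map_zero

lemma ev_natural (ψ : (Φ J).obj L ⟶ A) {U V : Cᵒᵖ} (f : U ⟶ V) (x : L.obj.obj U) :
    A.obj.map f (ev ψ U x) = ev ψ V (L.obj.map f x) := by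
  rw [ev_eq, ev_eq]
  have h := ConcreteCategory.congr_hom (((adj J).homEquiv L A ψ).hom.naturality f) x
  exact h.symm

end ev

section diff

variable (T : Torsor G)

/-- the unique `g` with `g + q = p` -/
noncomputable def diff {U : Cᵒᵖ} (p q : T.P.obj.obj U) : G.obj.obj U :=
  (T.free_transitive q p).choose

lemma diff_vadd {U : Cᵒᵖ} (p q : T.P.obj.obj U) : T.vadd (diff T p q) q = p :=
  (T.free_transitive q p).choose_spec.1

lemma diff_unique {U : Cᵒᵖ} (p q : T.P.obj.obj U) (g : G.obj.obj U) (h : T.vadd g q = p) :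
    g = diff T p q :=
  (T.free_transitive q p).choose_spec.2 g h

lemma diff_add {U : Cᵒᵖ} (a b c : T.P.obj.obj U) : diff T a c = diff T a b + diff T b c := by
  symm
  apply diff_unique
  rw [T.add_vadd, diff_vadd, diff_vadd]

lemma diff_map {U V : Cᵒᵖ} (f : U ⟶ V) (p q : T.P.obj.obj U) :
    G.obj.map f (diff T p q) = diff T (T.P.obj.map f p) (T.P.obj.map f q) := by
  apply diff_unique
  rw [← T.map_vadd, diff_vadd]

/-- the difference of two maps into the torsor -/
noncomputable def diffMor {L : Sheaf J (Type u)} (a b : L ⟶ T.P) : L ⟶ (UU J).obj G :=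
  ObjectProperty.homMk
    { app := fun U => TypeCat.ofHom (fun x => diff T (a.hom.app U x) (b.hom.app U x))
      naturality := fun U V f => ConcreteCategory.hom_ext _ _ (fun x => by
        show diff T (a.hom.app V (L.obj.map f x)) (b.hom.app V (L.obj.map f x)) =
          G.obj.map f (diff T (a.hom.app U x) (b.hom.app U x))
        rw [diff_map, NatTrans.naturality_apply, NatTrans.naturality_apply]) }

lemma diffMor_app {L : Sheaf J (Type u)} (a b : L ⟶ T.P) (U : Cᵒᵖ) (x : L.obj.obj U) :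
    (diffMor T a b).hom.app U x = diff T (a.hom.app U x) (b.hom.app U x) := rfl

end diff

section forward

variable (T : Torsor G)

/-- the map to the point -/
noncomputable abbrev fT : T.P ⟶ K₁ J := (K₁term J).from T.P

lemma epi_fT : Epi (fT T) := by
  rw [← Sheaf.isLocallySurjective_iff_epi]
  refine ⟨fun {U} s => ?_⟩
  obtain ⟨S, hS, hne⟩ := T.locally_nonempty U
  refine J.superset_covering ?_ hS
  intro V f hf
  obtain ⟨t⟩ := hne f hf
  exact ⟨t, rfl⟩

noncomputable abbrev gT : Arrow (Sheaf J (Type u)) := Arrow.mk (fT T)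

open Groth.Agent.H30.CechRes in
/-- the tautological cocycle -/
noncomputable def cT : (Pc (fT T)).X 1 ⟶ G :=
  ((adj J).homEquiv _ G).symm (diffMor T (q1 (gT T)) (q0 (gT T)))

open Groth.Agent.H30.CechRes in
lemma ev_cT (U : Cᵒᵖ) (y : ((gT T).cechNerve.obj (op ⦋1⦌)).obj.obj U) :
    ev (cT T) U y = diff T ((q1 (gT T)).hom.app U y) ((q0 (gT T)).hom.app U y) := by
  unfold cT
  rw [ev_symm]
  rfl

set_option maxHeartbeats 400000 in
set_option backward.isDefEq.respectTransparency false in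
lemma face_π (g : Arrow (Sheaf J (Type u))) (n : ℕ) (i : Fin (n + 2)) (j : Fin (n + 1))
    (k : Fin (n + 1 + 1)) (hk : i.succAbove j = k) :
    g.cechNerve.map (SimplexCategory.δ i).op ≫ WidePullback.π (fun _ : Fin (n + 1) => g.hom) j =
      WidePullback.π (fun _ : Fin (n + 1 + 1) => g.hom) k := by
  subst hk
  simp [SimplexCategory.δ]

set_option maxHeartbeats 800000 in
open Groth.Agent.H30.CechRes in
lemma cocycle : (Pc (fT T)).d 2 1 ≫ cT T = 0 := by
  have hd : (Pc (fT T)).d 2 1 =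
      (Φ J).map ((gT T).cechNerve.map (SimplexCategory.δ (0 : Fin 3)).op) -
      (Φ J).map ((gT T).cechNerve.map (SimplexCategory.δ (1 : Fin 3)).op) +
      (Φ J).map ((gT T).cechNerve.map (SimplexCategory.δ (2 : Fin 3)).op) := by
    have h := AlternatingFaceMapComplex.obj_d_eq ((gT T).cechNerve ⋙ Φ J) 1
    rw [Fin.sum_univ_three] at h
    simp only [Fin.val_zero, pow_zero, one_smul, Fin.val_one, pow_one, neg_smul, Fin.val_two,
      neg_one_sq] at h
    rw [← sub_eq_add_neg] at h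
    exact h
  apply ev_ext
  intro U x
  rw [hd, Preadditive.add_comp, Preadditive.sub_comp, ev_add, ev_sub, ev_map_comp, ev_map_comp,
    ev_map_comp, ev_zero, ev_cT, ev_cT, ev_cT]
  have e (i : Fin 3) (j : Fin 2) (k : Fin 3) (hk : i.succAbove j = k) :
      (WidePullback.π (fun _ : Fin (1 + 1) => (gT T).hom) j).hom.app U
        (((gT T).cechNerve.map (SimplexCategory.δ i).op).hom.app U x) =
      (WidePullback.π (fun _ : Fin (1 + 1 + 1) => (gT T).hom) k).hom.app U x :=
    congrArg (fun m => m.hom.app U x) (face_π (gT T) 1 i j k hk)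
  rw [e 0 1 2 (by decide), e 0 0 1 (by decide), e 1 1 2 (by decide), e 1 0 0 (by decide),
    e 2 1 1 (by decide), e 2 0 0 (by decide)]
  rw [diff_add T ((WidePullback.π (fun _ : Fin (1 + 1 + 1) => (gT T).hom) 2).hom.app U x)
    ((WidePullback.π (fun _ : Fin (1 + 1 + 1) => (gT T).hom) 1).hom.app U x)
    ((WidePullback.π (fun _ : Fin (1 + 1 + 1) => (gT T).hom) 0).hom.app U x)]
  abel

set_option maxHeartbeats 400000 in
open Groth.Agent.H30.CechRes in
lemma exists_pair (U : C) (p p' : T.P.obj.obj (op U)) :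
    ∃ x : ((gT T).cechNerve.obj (op ⦋1⦌)).obj.obj (op U),
      (q1 (gT T)).hom.app (op U) x = p ∧ (q0 (gT T)).hom.app (op U) x = p' := by
  let a : hh J U ⟶ T.P := (Groth.Agent.H30.CechRes.secEquiv J U T.P).symm p
  let b : hh J U ⟶ T.P := (Groth.Agent.H30.CechRes.secEquiv J U T.P).symm p'
  let w : hh J U ⟶ (gT T).cechNerve.obj (op ⦋1⦌) :=
    WidePullback.lift ((K₁term J).from _) (fun i : Fin (1 + 1) => ![b, a] i)
      (fun i => (K₁term J).hom_ext _ _)
  have hw1 : w ≫ q1 (gT T) = a := WidePullback.lift_π _ _ _ _ (1 : Fin (1 + 1))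
  have hw0 : w ≫ q0 (gT T) = b := WidePullback.lift_π _ _ _ _ (0 : Fin (1 + 1))
  refine ⟨Groth.Agent.H30.CechRes.secEquiv J U _ w, ?_, ?_⟩
  · rw [← Groth.Agent.H30.CechRes.secEquiv_naturality, hw1]
    exact Equiv.apply_symm_apply _ _
  · rw [← Groth.Agent.H30.CechRes.secEquiv_naturality, hw0]
    exact Equiv.apply_symm_apply _ _

set_option maxHeartbeats 800000 in
open Groth.Agent.H30.CechRes in
theorem exists_phi (h : Subsingleton (Ext ((Φ J).obj (K₁ J)) G 1)) :
    ∃ e' : (Φ J).obj T.P ⟶ G, ∀ (U : C) (p p' : T.P.obj.obj (op U)),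
      ev e' (op U) p - ev e' (op U) p' = diff T p p' := by
  have hepi : Epi (fT T) := epi_fT T
  obtain ⟨e, he⟩ := cech_one_of_ext_one (injSC_shortExact J G) (fT T) h (cT T) (cocycle T)
  refine ⟨(Φ J).map (p0Iso (gT T)).inv ≫ e, fun U p p' => ?_⟩
  obtain ⟨x, hx1, hx0⟩ := exists_pair T U p p'
  have key : ev ((Pc (fT T)).d 1 0 ≫ e) (op U) x = ev (cT T) (op U) x :=
    congrArg (fun ψ => ev ψ (op U) x) he
  rw [d10_eq, Preadditive.sub_comp, ev_sub, ev_map_comp, ev_map_comp, ev_cT, hx1, hx0] at key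
  rw [ev_map_comp, ev_map_comp]
  have h0 : ((gT T).cechNerve.map (SimplexCategory.δ (0 : Fin 2)).op).hom.app (op U) x =
      (p0Iso (gT T)).inv.hom.app (op U) p := by
    have h0' : (gT T).cechNerve.map (SimplexCategory.δ (0 : Fin 2)).op =
        q1 (gT T) ≫ (p0Iso (gT T)).inv := (Iso.eq_comp_inv (p0Iso (gT T))).2 (δ0_p0 (gT T))
    rw [← hx1]
    exact congrArg (fun m => m.hom.app (op U) x) h0'
  have h1 : ((gT T).cechNerve.map (SimplexCategory.δ (1 : Fin 2)).op).hom.app (op U) x =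
      (p0Iso (gT T)).inv.hom.app (op U) p' := by
    have h1' : (gT T).cechNerve.map (SimplexCategory.δ (1 : Fin 2)).op =
        q0 (gT T) ≫ (p0Iso (gT T)).inv := (Iso.eq_comp_inv (p0Iso (gT T))).2 (δ1_p0 (gT T))
    rw [← hx0]
    exact congrArg (fun m => m.hom.app (op U) x) h1'
  rw [← h0, ← h1]
  exact key

theorem hasSection_of_phi (e' : (Φ J).obj T.P ⟶ G)
    (h : ∀ (U : Cᵒᵖ) (p p' : T.P.obj.obj U), ev e' U p - ev e' U p' = diff T p p') :
    T.HasSection := by
  let σ : ∀ U : Cᵒᵖ, T.P.obj.obj U → T.P.obj.obj U := fun U p => T.vadd (-(ev e' U p)) p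
  have hσ : ∀ (U : Cᵒᵖ) (p p' : T.P.obj.obj U), σ U p = σ U p' := by
    intro U p p'
    calc T.vadd (-(ev e' U p)) p
        = T.vadd (-(ev e' U p)) (T.vadd (diff T p p') p') := by rw [diff_vadd]
      _ = T.vadd (-(ev e' U p) + diff T p p') p' := (T.add_vadd _ _ _).symm
      _ = T.vadd (-(ev e' U p')) p' := by
          rw [← h U p p']
          congr 1
          abel
  have hσnat : ∀ {U V : Cᵒᵖ} (f : U ⟶ V) (p : T.P.obj.obj U),
      T.P.obj.map f (σ U p) = σ V (T.P.obj.map f p) := by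
    intro U V f p
    show T.P.obj.map f (T.vadd (-(ev e' U p)) p) =
      T.vadd (-(ev e' V (T.P.obj.map f p))) (T.P.obj.map f p)
    rw [T.map_vadd, map_neg, ev_natural]
  have hPsh : Presieve.IsSheaf J T.P.obj := (isSheaf_iff_isSheaf_of_type J _).1 T.P.property
  have hne : ∀ U : C, Nonempty (T.P.obj.obj (op U)) := by
    intro U
    obtain ⟨S, hS, hS'⟩ := T.locally_nonempty U
    let x : Presieve.FamilyOfElements T.P.obj S.arrows :=
      fun V f hf => σ (op V) (hS' f hf).some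
    have hx : x.Compatible := by
      intro Y₁ Y₂ Z g₁ g₂ f₁ f₂ h₁ h₂ hcomm
      show T.P.obj.map g₁.op (σ (op Y₁) _) = T.P.obj.map g₂.op (σ (op Y₂) _)
      rw [hσnat, hσnat]
      exact hσ _ _ _
    exact ⟨(hPsh S hS).amalgamate x hx⟩
  let s : ∀ U : Cᵒᵖ, T.P.obj.obj U := fun U => σ U (hne U.unop).some
  have hs : ∀ ⦃U V : Cᵒᵖ⦄ (f : U ⟶ V), T.P.obj.map f (s U) = s V := by
    intro U V f
    show T.P.obj.map f (σ U _) = σ V _
    rw [hσnat]
    exact hσ _ _ _
  exact ⟨(K₁term J).from _ ≫ homOfGlob ⟨s, hs⟩⟩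

theorem hasSection_of_ext (h : Subsingleton (Ext ((Φ J).obj (K₁ J)) G 1)) : T.HasSection := by
  obtain ⟨e', he'⟩ := exists_phi T h
  exact hasSection_of_phi T e' (fun U p p' => he' U.unop p p')

end forward

section backward

variable (S : ShortComplex (Sheaf J AddCommGrpCat.{u}))
  (q : Glob ((UU J).obj S.X₃).obj)

lemma g_natural {U V : Cᵒᵖ} (f : U ⟶ V) (i : S.X₂.obj.obj U) :
    (S.g.hom.app V).hom ((S.X₂.obj.map f).hom i) =
      (S.X₃.obj.map f).hom ((S.g.hom.app U).hom i) :=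
  congrArg (fun ψ => ψ.hom i) (S.g.hom.naturality f)

lemma f_natural {U V : Cᵒᵖ} (f : U ⟶ V) (i : S.X₁.obj.obj U) :
    (S.f.hom.app V).hom ((S.X₁.obj.map f).hom i) =
      (S.X₂.obj.map f).hom ((S.f.hom.app U).hom i) :=
  congrArg (fun ψ => ψ.hom i) (S.f.hom.naturality f)

lemma gf_zero (U : Cᵒᵖ) (y : S.X₁.obj.obj U) :
    (S.g.hom.app U).hom ((S.f.hom.app U).hom y) = 0 :=
  Groth.Agent.H67.Cech.sections_comp_zero U.unop y

lemma q_map {U V : Cᵒᵖ} (f : U ⟶ V) : (S.X₃.obj.map f).hom (q.1 U) = q.1 V := q.2 f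

/-- the fibre of `I → Q` over a global section `q`, as a subfunctor -/
def fibSub : Subfunctor ((UU J).obj S.X₂).obj where
  obj U := {i | (S.g.hom.app U).hom i = q.1 U}
  map := fun {U V} f i hi => by
    show (S.g.hom.app V).hom ((S.X₂.obj.map f).hom i) = q.1 V
    rw [g_natural, (hi : (S.g.hom.app U).hom i = q.1 U), q_map]

lemma fibSub_isSheaf : Presheaf.IsSheaf J (fibSub S q).toFunctor := by
  rw [isSheaf_iff_isSheaf_of_type]
  have hI : Presieve.IsSheaf J ((UU J).obj S.X₂).obj :=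
    (isSheaf_iff_isSheaf_of_type J _).1 ((UU J).obj S.X₂).property
  have hQ : Presieve.IsSheaf J ((UU J).obj S.X₃).obj :=
    (isSheaf_iff_isSheaf_of_type J _).1 ((UU J).obj S.X₃).property
  rw [Subfunctor.isSheaf_iff _ hI]
  intro U s hs
  show (S.g.hom.app U).hom s = q.1 U
  refine (hQ.isSeparated _ hs).ext (fun V f hf => ?_)
  show (S.X₃.obj.map f.op).hom ((S.g.hom.app U).hom s) = (S.X₃.obj.map f.op).hom (q.1 U)
  rw [← g_natural, q_map]
  exact hf

/-- the underlying section -/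
def fval {U : Cᵒᵖ} (p : (fibSub S q).toFunctor.obj U) : S.X₂.obj.obj U := p.1

/-- constructor -/
def fmk {U : Cᵒᵖ} (i : S.X₂.obj.obj U) (h : (S.g.hom.app U).hom i = q.1 U) :
    (fibSub S q).toFunctor.obj U := ⟨i, h⟩

lemma fval_fmk {U : Cᵒᵖ} (i : S.X₂.obj.obj U) (h : (S.g.hom.app U).hom i = q.1 U) :
    fval S q (fmk S q i h) = i := rfl

lemma fval_prop {U : Cᵒᵖ} (p : (fibSub S q).toFunctor.obj U) :
    (S.g.hom.app U).hom (fval S q p) = q.1 U := p.2

lemma fval_ext {U : Cᵒᵖ} {p p' : (fibSub S q).toFunctor.obj U}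
    (h : fval S q p = fval S q p') : p = p' := Subtype.ext h

lemma fval_map {U V : Cᵒᵖ} (f : U ⟶ V) (p : (fibSub S q).toFunctor.obj U) :
    fval S q ((fibSub S q).toFunctor.map f p) = (S.X₂.obj.map f).hom (fval S q p) := rfl

variable {S}

/-- the torsor of local liftings of a global section of the quotient -/
noncomputable def fibTorsor (hS : S.ShortExact) (q : Glob ((UU J).obj S.X₃).obj) :
    Torsor S.X₁ where
  P := ⟨(fibSub S q).toFunctor, fibSub_isSheaf S q⟩
  vadd := fun {U} g p => fmk S q ((S.f.hom.app U).hom g + fval S q p) (by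
    rw [map_add, gf_zero, zero_add, fval_prop])
  zero_vadd := fun {U} p => fval_ext S q (by
    show (S.f.hom.app U).hom 0 + fval S q p = fval S q p
    rw [map_zero, zero_add])
  add_vadd := fun {U} g h p => fval_ext S q (by
    show (S.f.hom.app U).hom (g + h) + fval S q p =
      (S.f.hom.app U).hom g + ((S.f.hom.app U).hom h + fval S q p)
    rw [map_add, add_assoc])
  map_vadd := fun {U V} f g p => fval_ext S q (by
    show (S.X₂.obj.map f).hom ((S.f.hom.app U).hom g + fval S q p) =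
      (S.f.hom.app V).hom ((S.X₁.obj.map f).hom g) + (S.X₂.obj.map f).hom (fval S q p)
    rw [map_add, f_natural])
  free_transitive := fun {U} p p' => by
    have hx : (S.g.hom.app U).hom (fval S q p' - fval S q p) = 0 := by
      rw [map_sub, fval_prop, fval_prop, sub_self]
    obtain ⟨g, hg⟩ := Groth.Agent.H67.Cech.sections_exists hS U.unop
      (fval S q p' - fval S q p) hx
    have hg2 : (S.f.hom.app U).hom g = fval S q p' - fval S q p := hg
    refine ⟨g, fval_ext S q ?_, fun g' hg' => ?_⟩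
    · show (S.f.hom.app U).hom g + fval S q p = fval S q p'
      rw [hg2, sub_add_cancel]
    · apply Groth.Agent.H67.Cech.sections_injective hS U.unop
      have h1 : (S.f.hom.app U).hom g' + fval S q p = fval S q p' :=
        congrArg (fval S q) hg'
      show (S.f.hom.app U).hom g' = (S.f.hom.app U).hom g
      rw [hg2, ← h1, add_sub_cancel_right]
  locally_nonempty := fun U => by
    have hepi : Epi S.g := hS.epi_g
    have hls : Presheaf.IsLocallySurjective J S.g.hom := isLocallySurjective_of_epi S.g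
    refine ⟨Presheaf.imageSieve S.g.hom (q.1 (op U)),
      Presheaf.imageSieve_mem J S.g.hom (q.1 (op U)), ?_⟩
    rintro V f ⟨t, ht⟩
    exact ⟨fmk S q t (ht.trans (q_map S q f.op))⟩

lemma lift_of_hasSection (hS : S.ShortExact) (q : Glob ((UU J).obj S.X₃).obj)
    (h : (fibTorsor hS q).HasSection) :
    ∃ r' : K₁ J ⟶ (UU J).obj S.X₂, r' ≫ (UU J).map S.g = homOfGlob q := by
  obtain ⟨m⟩ := h
  let ιP : (fibTorsor hS q).P ⟶ (UU J).obj S.X₂ := ObjectProperty.homMk (fibSub S q).ι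
  refine ⟨terminal.from (K₁ J) ≫ m ≫ ιP, hom_ext_K₁ (fun U => ?_)⟩
  exact ((terminal.from (K₁ J) ≫ m).hom.app U PUnit.unit).2

theorem lift_of_sections (hS : S.ShortExact)
    (h : ∀ T : Torsor S.X₁, T.HasSection) (s : (Φ J).obj (K₁ J) ⟶ S.X₃) :
    ∃ r : (Φ J).obj (K₁ J) ⟶ S.X₂, r ≫ S.g = s := by
  let m : K₁ J ⟶ (UU J).obj S.X₃ := (adj J).homEquiv _ _ s
  obtain ⟨r', hr'⟩ := lift_of_hasSection hS (globOfHom m) (h _)
  have hm : homOfGlob (globOfHom m) = m := hom_ext_K₁ (fun U => rfl)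
  refine ⟨((adj J).homEquiv _ _).symm r', ?_⟩
  apply ((adj J).homEquiv _ _).injective
  rw [Adjunction.homEquiv_naturality_right, Equiv.apply_symm_apply]
  exact hr'.trans hm

end backward

theorem main (G : Sheaf J AddCommGrpCat.{u}) :
    Subsingleton (Sheaf.H.{u} G 1) ↔ ∀ T : Tors.Torsor G, T.HasSection := by
  constructor
  · intro h T
    have h' : Subsingleton (Ext ((Φ J).obj (K₁ J)) G 1) :=
      ext_subsingleton_of_iso (isoZ J).symm G 1 h
    exact hasSection_of_ext T h'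
  · intro h
    have h' : Subsingleton (Ext ((Φ J).obj (K₁ J)) G 1) :=
      ext_one_of_lift ((Φ J).obj (K₁ J)) (injSC_shortExact J G)
        (fun s => lift_of_sections (injSC_shortExact J G) h s)
    exact ext_subsingleton_of_iso (isoZ J) G 1 h'

end Groth.Agent.H67.TorsB
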