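import Mathlib
import Groth.Agent.H67.TorsB
import Groth.Agent.H67.RelCech

/-!
# Helper library (helper67): sections of sheaves of sets via sheafified representables, local
statements, and sections of free sheaves commuting with filtered colimits over quasi-compact objects
-/

set_option autoImplicit false
universe u

open CategoryTheory CategoryTheory.Limits Opposite Abelian AlgebraicTopology Simplicial

namespace Groth.Agent.H67.SecRep

open Groth.Agent.H67.TorsA Groth.Agent.H67.TorsB Groth.Agent.H67.CechTopos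
  Groth.Agent.H67.RelCech Groth.Agent.H30.CechRes

variable {C : Type u} [SmallCategory C] {J : GrothendieckTopology C}

/-! ### Sheafified representables -/

/-- the sheafified representable -/
noncomputable abbrev rep (J : GrothendieckTopology C) (V : C) : Sheaf J (Type u) :=
  (presheafToSheaf J (Type u)).obj (yoneda.obj V)

/-- sections over `V` are maps out of the sheafified representable -/
noncomputable def repEquiv (X : Sheaf J (Type u)) (V : C) : (rep J V ⟶ X) ≃ X.obj.obj (op V) :=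
  ((sheafificationAdjunction J (Type u)).homEquiv (yoneda.obj V) X).trans yonedaEquiv

lemma repEquiv_comp {X Y : Sheaf J (Type u)} (V : C) (m : rep J V ⟶ X) (a : X ⟶ Y) :
    repEquiv Y V (m ≫ a) = a.hom.app (op V) (repEquiv X V m) := by
  have h1 := (sheafificationAdjunction J (Type u)).homEquiv_naturality_right m a
  exact (congrArg yonedaEquiv h1).trans (yonedaEquiv_comp _ _)

/-- the map classifying a section -/
noncomputable def toHom {X : Sheaf J (Type u)} {V : C} (x : X.obj.obj (op V)) : rep J V ⟶ X :=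
  (repEquiv X V).symm x

lemma repEquiv_toHom {X : Sheaf J (Type u)} {V : C} (x : X.obj.obj (op V)) :
    repEquiv X V (toHom x) = x := Equiv.apply_symm_apply _ _

/-- the canonical section -/
noncomputable def can (J : GrothendieckTopology C) (V : C) : (rep J V).obj.obj (op V) :=
  repEquiv (rep J V) V (𝟙 _)

lemma repEquiv_eq {X : Sheaf J (Type u)} {V : C} (m : rep J V ⟶ X) :
    repEquiv X V m = m.hom.app (op V) (can J V) := by
  have h := repEquiv_comp V (𝟙 (rep J V)) m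
  rw [Category.id_comp] at h
  exact h

lemma toHom_can {X : Sheaf J (Type u)} {V : C} (x : X.obj.obj (op V)) :
    (toHom x).hom.app (op V) (can J V) = x := by
  rw [← repEquiv_eq, repEquiv_toHom]

lemma hom_ext_rep {X : Sheaf J (Type u)} {V : C} {m m' : rep J V ⟶ X}
    (h : m.hom.app (op V) (can J V) = m'.hom.app (op V) (can J V)) : m = m' := by
  apply (repEquiv X V).injective
  rw [repEquiv_eq, repEquiv_eq]
  exact h

lemma hom_ext_free_rep {G : Sheaf J AddCommGrpCat.{u}} {V : C}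
    {m m' : (Φ J).obj (rep J V) ⟶ G}
    (h : ev m (op V) (can J V) = ev m' (op V) (can J V)) : m = m' := by
  apply ((adj J).homEquiv _ _).injective
  apply hom_ext_rep
  rw [← ev_eq, ← ev_eq]
  exact h

/-! ### Sections of limits -/

lemma sec_prod (K₁ K₂ : Sheaf J (Type u)) {V : C} (k₁ : K₁.obj.obj (op V))
    (k₂ : K₂.obj.obj (op V)) :
    ∃ q : (K₁ ⨯ K₂).obj.obj (op V), (prod.fst : K₁ ⨯ K₂ ⟶ K₁).hom.app (op V) q = k₁ ∧
      (prod.snd : K₁ ⨯ K₂ ⟶ K₂).hom.app (op V) q = k₂ := by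
  refine ⟨repEquiv _ V (prod.lift (toHom k₁) (toHom k₂)), ?_, ?_⟩
  · rw [← repEquiv_comp, prod.lift_fst, repEquiv_toHom]
  · rw [← repEquiv_comp, prod.lift_snd, repEquiv_toHom]

lemma sec_eq {K T : Sheaf J (Type u)} (a b : K ⟶ T) {V : C} (k : K.obj.obj (op V))
    (h : a.hom.app (op V) k = b.hom.app (op V) k) :
    ∃ e : (equalizer a b).obj.obj (op V), (equalizer.ι a b).hom.app (op V) e = k := by
  have h' : toHom k ≫ a = toHom k ≫ b := by
    apply (repEquiv T V).injective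
    rw [repEquiv_comp, repEquiv_comp, repEquiv_toHom]
    exact h
  refine ⟨repEquiv _ V (equalizer.lift (toHom k) h'), ?_⟩
  rw [← repEquiv_comp, equalizer.lift_ι, repEquiv_toHom]

lemma sec_pullback {X Y Z : Sheaf J (Type u)} (f : X ⟶ Z) (g : Y ⟶ Z) {V : C}
    (x : X.obj.obj (op V)) (y : Y.obj.obj (op V))
    (h : f.hom.app (op V) x = g.hom.app (op V) y) :
    ∃ p : (pullback f g).obj.obj (op V), (pullback.fst f g).hom.app (op V) p = x ∧
      (pullback.snd f g).hom.app (op V) p = y := by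
  have h' : toHom x ≫ f = toHom y ≫ g := by
    apply (repEquiv Z V).injective
    rw [repEquiv_comp, repEquiv_comp, repEquiv_toHom, repEquiv_toHom]
    exact h
  refine ⟨repEquiv _ V (pullback.lift (toHom x) (toHom y) h'), ?_, ?_⟩
  · rw [← repEquiv_comp, pullback.lift_fst, repEquiv_toHom]
  · rw [← repEquiv_comp, pullback.lift_snd, repEquiv_toHom]

lemma sec_isPullback_ext {P X Y Z : Sheaf J (Type u)} {fst : P ⟶ X} {snd : P ⟶ Y} {f : X ⟶ Z}
    {g : Y ⟶ Z} (hP : IsPullback fst snd f g) {V : C} (p p' : P.obj.obj (op V))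
    (h1 : fst.hom.app (op V) p = fst.hom.app (op V) p')
    (h2 : snd.hom.app (op V) p = snd.hom.app (op V) p') : p = p' := by
  have h : toHom p = toHom p' := by
    apply hP.hom_ext
    · apply (repEquiv X V).injective
      rw [repEquiv_comp, repEquiv_comp, repEquiv_toHom, repEquiv_toHom]
      exact h1
    · apply (repEquiv Y V).injective
      rw [repEquiv_comp, repEquiv_comp, repEquiv_toHom, repEquiv_toHom]
      exact h2
  have h' := congrArg (repEquiv P V) h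
  rw [repEquiv_toHom, repEquiv_toHom] at h'
  exact h'

lemma comp_apply' {X Y Z : Sheaf J (Type u)} (a : X ⟶ Y) (b : Y ⟶ Z) (U : Cᵒᵖ) (x : X.obj.obj U) :
    (a ≫ b).hom.app U x = b.hom.app U (a.hom.app U x) := rfl

lemma map_apply' {X Y : Sheaf J (Type u)} (a : X ⟶ Y) {U U' : Cᵒᵖ} (g : U ⟶ U')
    (x : X.obj.obj U) : a.hom.app U' (X.obj.map g x) = Y.obj.map g (a.hom.app U x) :=
  NatTrans.naturality_apply a.hom g x

lemma map_comp' (X : Sheaf J (Type u)) {U V W : C} (g : V ⟶ U) (g' : W ⟶ V)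
    (x : X.obj.obj (op U)) :
    X.obj.map (g' ≫ g).op x = X.obj.map g'.op (X.obj.map g.op x) := by
  rw [op_comp, X.obj.map_comp]
  rfl

/-! ### Local statements -/

/-- `P` holds locally on `V` -/
def Loc (J : GrothendieckTopology C) (V : C) (P : ∀ ⦃W : C⦄, (W ⟶ V) → Prop) : Prop :=
  ∃ R ∈ J V, ∀ ⦃W : C⦄ (g : W ⟶ V), R g → P g

lemma Loc.of_forall {V : C} {P : ∀ ⦃W : C⦄, (W ⟶ V) → Prop} (h : ∀ ⦃W : C⦄ (g : W ⟶ V), P g) :
    Loc J V P := ⟨⊤, J.top_mem V, fun _ g _ => h g⟩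

lemma Loc.mono {V : C} {P Q : ∀ ⦃W : C⦄, (W ⟶ V) → Prop} (h : Loc J V P)
    (hPQ : ∀ ⦃W : C⦄ (g : W ⟶ V), P g → Q g) : Loc J V Q := by
  obtain ⟨R, hR, hRP⟩ := h
  exact ⟨R, hR, fun W g hg => hPQ g (hRP g hg)⟩

lemma Loc.bind {V : C} {P Q : ∀ ⦃W : C⦄, (W ⟶ V) → Prop} (h : Loc J V P)
    (hPQ : ∀ ⦃W : C⦄ (g : W ⟶ V), P g →
      Loc J W (fun W' (g' : W' ⟶ W) => Q (g' ≫ g))) : Loc J V Q := by
  obtain ⟨R, hR, hRP⟩ := h
  have h1 : ∀ ⦃W : C⦄ ⦃g : W ⟶ V⦄ (_ : R g), ∃ R' ∈ J W,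
      ∀ ⦃W' : C⦄ (g' : W' ⟶ W), R' g' → Q (g' ≫ g) := fun W g hg => hPQ g (hRP g hg)
  choose R' hR' hQ using h1
  refine ⟨Sieve.bind R.arrows (fun W g hg => R' hg), J.bind_covering hR (fun W g hg => hR' hg), ?_⟩
  rintro W g ⟨Y, g', f, hf, hg', rfl⟩
  exact hQ hf g' hg'

lemma loc_of_epi {K X : Sheaf J (Type u)} (π : K ⟶ X) [Epi π] {V : C} (x : X.obj.obj (op V)) :
    Loc J V (fun W g => ∃ k : K.obj.obj (op W), π.hom.app (op W) k = X.obj.map g.op x) := by
  haveI : Sheaf.IsLocallySurjective π := (Sheaf.isLocallySurjective_iff_epi π).2 inferInstance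
  exact ⟨Presheaf.imageSieve π.hom x, Presheaf.imageSieve_mem J π.hom x, fun W g hg => hg⟩

lemma epi_of_loc {K X : Sheaf J (Type u)} (π : K ⟶ X)
    (h : ∀ (V : C) (x : X.obj.obj (op V)),
      Loc J V (fun W g => ∃ k : K.obj.obj (op W), π.hom.app (op W) k = X.obj.map g.op x)) :
    Epi π := by
  rw [← Sheaf.isLocallySurjective_iff_epi]
  refine ⟨fun {V} x => ?_⟩
  obtain ⟨R, hR, hRP⟩ := h V x
  exact J.superset_covering (fun W g hg => hRP g hg) hR

/-! ### Filtered colimits of abelian sheaves, locally -/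

variable {Λ : Type u} [SmallCategory Λ] [IsFiltered Λ] (D : Λ ⥤ Sheaf J AddCommGrpCat.{u})

/-- sections of the colimit come locally from stages, and die locally at later stages -/
structure LocColim (c : Cocone D) : Prop where
  surj : ∀ (V : C) (t : c.pt.obj.obj (op V)), ∃ R ∈ J V, ∀ ⦃W : C⦄ (g : W ⟶ V), R g →
    ∃ (i : Λ) (s : (D.obj i).obj.obj (op W)),
      (c.ι.app i).hom.app (op W) s = c.pt.obj.map g.op t
  inj : ∀ (V : C) (i : Λ) (s : (D.obj i).obj.obj (op V)), (c.ι.app i).hom.app (op V) s = 0 →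
    ∃ R ∈ J V, ∀ ⦃W : C⦄ (g : W ⟶ V), R g →
      ∃ (j : Λ) (f : i ⟶ j), (D.map f).hom.app (op W) ((D.obj i).obj.map g.op s) = 0

open ColimSec in
lemma locColim_cS : LocColim D (cS D) := by
  constructor
  · intro V t
    refine ⟨_, Presheaf.imageSieve_mem J (toSheafify J (Ec D).pt) t, fun W g hg => ?_⟩
    obtain ⟨r, hr⟩ := hg
    obtain ⟨i, s, hs⟩ := E_surj D (op W) r
    refine ⟨i, s, ?_⟩
    rw [cS_ι_apply, hs]
    exact hr
  · intro V i s h
    have h' : (toSheafify J (Ec D).pt).app (op V) (((Ec D).ι.app i).app (op V) s) =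
        (toSheafify J (Ec D).pt).app (op V) 0 := by
      rw [map_zero, ← cS_ι_apply]
      exact h
    refine ⟨_, Presheaf.equalizerSieve_mem J (toSheafify J (Ec D).pt) _ _ h', fun W g hg => ?_⟩
    apply E_inj
    have h1 : (Ec D).pt.map g.op (((Ec D).ι.app i).app (op V) s) =
        (Ec D).pt.map g.op 0 := hg
    rw [map_zero] at h1
    rw [← h1]
    exact NatTrans.naturality_apply ((Ec D).ι.app i) g.op s

variable {D}

lemma LocColim.of_isColimit {c c' : Cocone D} (hc : IsColimit c) (hc' : IsColimit c')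
    (h : LocColim D c) : LocColim D c' := by
  let e := hc.coconePointUniqueUpToIso hc'
  have he : ∀ i, c.ι.app i ≫ e.hom = c'.ι.app i := fun i =>
    hc.comp_coconePointUniqueUpToIso_hom hc' i
  have he' : ∀ (i : Λ) (W : Cᵒᵖ) (s : (D.obj i).obj.obj W),
      e.hom.hom.app W ((c.ι.app i).hom.app W s) = (c'.ι.app i).hom.app W s :=
    fun i W s => congrArg (fun φ => φ.hom.app W s) (he i)
  have h1 : ∀ (W : Cᵒᵖ) (t : c'.pt.obj.obj W), e.hom.hom.app W (e.inv.hom.app W t) = t :=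
    fun W t => congrArg (fun φ => φ.hom.app W t) e.inv_hom_id
  have h2 : ∀ (W : Cᵒᵖ) (t : c.pt.obj.obj W), e.inv.hom.app W (e.hom.hom.app W t) = t :=
    fun W t => congrArg (fun φ => φ.hom.app W t) e.hom_inv_id
  constructor
  · intro V t
    obtain ⟨R, hR, hRP⟩ := h.surj V (e.inv.hom.app (op V) t)
    refine ⟨R, hR, fun W g hg => ?_⟩
    obtain ⟨i, s, hs⟩ := hRP g hg
    refine ⟨i, s, ?_⟩
    rw [← he', hs, ColimSec.hom_natural, h1]
  · intro V i s hs
    apply h.inj V i s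
    rw [← h2 (op V) ((c.ι.app i).hom.app (op V) s), he', hs, map_zero]

lemma locColim_colimit (D : Λ ⥤ Sheaf J AddCommGrpCat.{u}) : LocColim D (colimit.cocone D) :=
  (locColim_cS D).of_isColimit (ColimSec.cS_isColimit D) (colimit.isColimit D)

/-! ### Injectivity over quasi-compact objects -/

theorem hom_inj_of_qc {c : Cocone D} (hc : LocColim D c) (K : Sheaf J (Type u))
    (hK : CohCx.IsQcObject K) (i : Λ) (s : (Φ J).obj K ⟶ D.obj i) (hs : s ≫ c.ι.app i = 0) :
    ∃ (j : Λ) (f : i ⟶ j), s ≫ D.map f = 0 := by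
  classical
  let I : Type u := Σ (W : C) (y : K.obj.obj (op W)),
    {p : Σ j : Λ, (i ⟶ j) // (D.map p.2).hom.app (op W) (ev s (op W) y) = 0}
  let L : I → Sheaf J (Type u) := fun idx => rep J idx.1
  let fam : ∀ idx : I, L idx ⟶ K := fun idx => toHom idx.2.1
  have hjs : CohCx.JointlySurjective fam := by
    intro U k
    have h0 : (c.ι.app i).hom.app (op U) (ev s (op U) k) = 0 := by
      have h1 : ev (s ≫ c.ι.app i) (op U) k = (c.ι.app i).hom.app (op U) (ev s (op U) k) := rfl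
      rw [← h1, hs]
      exact ev_zero (op U) k
    obtain ⟨R, hR, h⟩ := hc.inj U i (ev s (op U) k) h0
    refine ⟨R, hR, fun W g hg => ?_⟩
    obtain ⟨j, f, hf⟩ := h g hg
    have hf' : (D.map f).hom.app (op W) (ev s (op W) (K.obj.map g.op k)) = 0 := by
      rw [← ev_natural]
      exact hf
    exact ⟨⟨W, K.obj.map g.op k, ⟨⟨j, f⟩, hf'⟩⟩, can J W, toHom_can _⟩
  obtain ⟨t₀, ht₀⟩ := hK I L fam hjs
  obtain ⟨j, f, hf⟩ := ColimSec.exists_common (κ := t₀) i
    (fun idx j f => (D.map f).hom.app (op idx.1.1) (ev s (op idx.1.1) idx.1.2.1) = 0)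
    (fun idx j j' f g hP => by
      show (D.map (f ≫ g)).hom.app _ _ = 0
      rw [ColimSec.map_comp_apply, hP, map_zero])
    (fun idx => ⟨idx.1.2.2.1.1, idx.1.2.2.1.2, idx.1.2.2.2⟩)
  refine ⟨j, f, ?_⟩
  apply ev_ext
  intro U k
  rw [ev_zero]
  obtain ⟨R, hR, h⟩ := ht₀ U.unop k
  apply Cech.eq_zero_of_locally J (D.obj j) R hR
  intro W g hg
  obtain ⟨idx, x, hx⟩ := h W g hg
  have hz : (Φ J).map (fam idx.1) ≫ s ≫ D.map f = 0 := by
    apply hom_ext_free_rep
    rw [ev_map_comp, ev_zero]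
    have h3 : (fam idx.1).hom.app (op idx.1.1) (can J idx.1.1) = idx.1.2.1 := toHom_can _
    rw [h3]
    exact hf idx
  have h4 : (D.obj j).obj.map g.op (ev (s ≫ D.map f) U k) =
      ev (s ≫ D.map f) (op W) (K.obj.map g.op k) := ev_natural (s ≫ D.map f) g.op k
  rw [h4, ← hx, ← ev_map_comp, hz, ev_zero]

theorem hom_inj_of_cover {c : Cocone D} (hc : LocColim D c) {K X : Sheaf J (Type u)}
    (π : K ⟶ X) (hπ : Epi π) (hK : CohCx.IsQcObject K) (i : Λ) (s : (Φ J).obj X ⟶ D.obj i)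
    (hs : s ≫ c.ι.app i = 0) : ∃ (j : Λ) (f : i ⟶ j), s ≫ D.map f = 0 := by
  obtain ⟨j, f, hf⟩ := hom_inj_of_qc hc K hK i ((Φ J).map π ≫ s) (by
    rw [Category.assoc, hs, comp_zero])
  refine ⟨j, f, ?_⟩
  haveI : (Φ J).PreservesEpimorphisms := (Φ J).preservesEpimorphisms_of_adjunction (adj J)
  haveI : Epi ((Φ J).map π) := (Φ J).map_epi π
  rw [← cancel_epi ((Φ J).map π), comp_zero, ← Category.assoc]
  exact hf

/-! ### Descent and surjectivity -/

theorem descend {K' X : Sheaf J (Type u)} (f : K' ⟶ X) (hf : Epi f) (c : Cocone D) (i : Λ)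
    (s' : (Φ J).obj K' ⟶ D.obj i) (t : (Φ J).obj X ⟶ c.pt)
    (hs' : s' ≫ c.ι.app i = (Φ J).map f ≫ t)
    (hinj : ∀ s : (Pc f).X 1 ⟶ D.obj i, s ≫ c.ι.app i = 0 →
      ∃ (j : Λ) (g : i ⟶ j), s ≫ D.map g = 0) :
    ∃ (j : Λ) (r : (Φ J).obj X ⟶ D.obj j), r ≫ c.ι.app j = t := by
  have hepi : Epi (Arrow.mk f).hom := hf
  obtain ⟨hex0, hτepi⟩ := deg0_exact_base (Arrow.mk f) (τc f) rfl (d_τc f)
  have hb : τc f = (Φ J).map (p0 (Arrow.mk f)) ≫ (Φ J).map f := by
    rw [← Functor.map_comp]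
    exact congrArg (Φ J).map (base_eq (Arrow.mk f))
  let s₀ : (Pc f).X 0 ⟶ D.obj i := (Φ J).map (p0 (Arrow.mk f)) ≫ s'
  have hs₀ : s₀ ≫ c.ι.app i = τc f ≫ t := by
    rw [hb, Category.assoc, Category.assoc, hs']
  have h1 : ((Pc f).d 1 0 ≫ s₀) ≫ c.ι.app i = 0 := by
    rw [Category.assoc, hs₀, ← Category.assoc, d_τc, zero_comp]
  obtain ⟨j, g, hg⟩ := hinj _ h1
  have ht₁ : (Pc f).d 1 0 ≫ (s₀ ≫ D.map g) = 0 := by
    rw [← Category.assoc]
    exact hg
  have hτepi' : Epi (ShortComplex.mk ((Pc f).d 1 0) (τc f) (d_τc f)).g := hτepi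
  let r : (Φ J).obj X ⟶ D.obj j := hex0.desc _ ht₁
  have hr : τc f ≫ r = s₀ ≫ D.map g := hex0.g_desc _ ht₁
  refine ⟨j, r, ?_⟩
  have hτepi'' : Epi (τc f) := hτepi
  rw [← cancel_epi (τc f), ← Category.assoc, hr, Category.assoc, c.w g, hs₀]

theorem hom_surj {c : Cocone D} (hc : LocColim D c) {X K : Sheaf J (Type u)} (π : K ⟶ X)
    (hπ : Epi π) (hK : CohCx.IsQcObject K)
    (href : ∀ (F : Sheaf J (Type u)) (g : F ⟶ K), Epi g →
      ∃ (K' : Sheaf J (Type u)) (k : K' ⟶ F), Epi (k ≫ g) ∧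
        ∀ (i : Λ) (s : (Pc ((k ≫ g) ≫ π)).X 1 ⟶ D.obj i), s ≫ c.ι.app i = 0 →
          ∃ (j : Λ) (f : i ⟶ j), s ≫ D.map f = 0)
    (t : (Φ J).obj X ⟶ c.pt) : ∃ (i : Λ) (s : (Φ J).obj X ⟶ D.obj i), s ≫ c.ι.app i = t := by
  classical
  let tt : K ⟶ (UU J).obj c.pt := (adj J).homEquiv K c.pt ((Φ J).map π ≫ t)
  let ιt : ∀ i, (UU J).obj (D.obj i) ⟶ (UU J).obj c.pt := fun i => (UU J).map (c.ι.app i)
  have hjs : CohCx.JointlySurjective (fun i : Λ => pullback.fst tt (ιt i)) := by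
    intro U k
    obtain ⟨R, hR, h⟩ := hc.surj U (tt.hom.app (op U) k)
    refine ⟨R, hR, fun W g hg => ?_⟩
    obtain ⟨i, s, hs⟩ := h g hg
    have hcompat : tt.hom.app (op W) (K.obj.map g.op k) = (ιt i).hom.app (op W) s :=
      (map_apply' tt g.op k).trans hs.symm
    obtain ⟨p, hp1, -⟩ := sec_pullback tt (ιt i) (K.obj.map g.op k) s hcompat
    exact ⟨i, p, hp1⟩
  obtain ⟨t₀, ht₀⟩ := hK Λ _ _ hjs
  obtain ⟨i₀, hi₀⟩ := ColimSec.exists_common_obj (fun i : t₀ => (i : Λ))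
  have hepi : Epi (pullback.fst tt (ιt i₀)) := by
    apply epi_of_loc
    intro U k
    obtain ⟨R, hR, h⟩ := ht₀ U k
    refine ⟨R, hR, fun W g hg => ?_⟩
    obtain ⟨i, x, hx⟩ := h W g hg
    let a : (i : Λ) ⟶ i₀ := (hi₀ i).some
    have hcond : tt.hom.app (op W) ((pullback.fst tt (ιt i)).hom.app (op W) x) =
        (ιt i).hom.app (op W) ((pullback.snd tt (ιt i)).hom.app (op W) x) :=
      congrArg (fun m => m.hom.app (op W) x) (pullback.condition (f := tt) (g := ιt i))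
    have hcompat : tt.hom.app (op W) (K.obj.map g.op k) =
        (ιt i₀).hom.app (op W) ((D.map a).hom.app (op W)
          ((pullback.snd tt (ιt i)).hom.app (op W) x)) := by
      rw [← hx]
      refine hcond.trans ?_
      exact (ColimSec.cocone_w_apply D c a (op W) _).symm
    obtain ⟨p, hp1, -⟩ := sec_pullback tt (ιt i₀) (K.obj.map g.op k) _ hcompat
    exact ⟨p, hp1⟩
  obtain ⟨K', k', hk', hinj⟩ := href _ (pullback.fst tt (ιt i₀)) hepi
  let s' : (Φ J).obj K' ⟶ D.obj i₀ :=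
    ((adj J).homEquiv K' (D.obj i₀)).symm (k' ≫ pullback.snd tt (ιt i₀))
  have hs' : s' ≫ c.ι.app i₀ =
      (Φ J).map ((k' ≫ pullback.fst tt (ιt i₀)) ≫ π) ≫ t := by
    have e1 : (Φ J).map ((k' ≫ pullback.fst tt (ιt i₀)) ≫ π) ≫ t =
        (Φ J).map (k' ≫ pullback.fst tt (ιt i₀)) ≫ ((Φ J).map π ≫ t) := by
      rw [Functor.map_comp, Category.assoc]
    rw [e1]
    apply ((adj J).homEquiv _ _).injective
    rw [Adjunction.homEquiv_naturality_right, Equiv.apply_symm_apply,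
      Adjunction.homEquiv_naturality_left]
    rw [Category.assoc, Category.assoc]
    exact congrArg (fun m => k' ≫ m) (pullback.condition (f := tt) (g := ιt i₀)).symm
  have hepi2 : Epi ((k' ≫ pullback.fst tt (ιt i₀)) ≫ π) := by
    haveI := hk'
    haveI := hπ
    exact epi_comp _ _
  exact descend _ hepi2 c i₀ s' t hs' (hinj i₀)

end Groth.Agent.H67.SecRep
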