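import Mathlib
import Groth.Agent.H67.SecRep

/-!
# Helper library (helper67): classes of sheaves of sets generated by a class `S` closed under
finite limits up to coverings; cohomology commutes with filtered colimits
-/

set_option autoImplicit false
universe u

open CategoryTheory CategoryTheory.Limits Opposite Abelian AlgebraicTopology Simplicial

namespace Groth.Agent.H67.LClass

open Groth.Agent.H67.TorsA Groth.Agent.H67.TorsB Groth.Agent.H67.CechTopos
  Groth.Agent.H67.RelCech Groth.Agent.H67.SecRep Groth.Agent.H30.CechRes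

/-! ### Čech nerves as iterated fibre products -/

section WP

variable {𝒞 : Type*} [Category 𝒞] {X' X : 𝒞} (f : X' ⟶ X)
  [∀ n : ℕ, HasWidePullback X (fun _ : Fin (n + 1) => X') (fun _ => f)]

/-- the `(n+1)`-fold fibre power -/
noncomputable abbrev Wn (n : ℕ) : 𝒞 := widePullback X (fun _ : Fin (n + 1) => X') (fun _ => f)

/-- forget the last factor -/
noncomputable def dropLast (n : ℕ) : Wn f (n + 1) ⟶ Wn f n :=
  WidePullback.lift (WidePullback.base (fun _ : Fin (n + 1 + 1) => f))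
    (fun j : Fin (n + 1) => WidePullback.π (fun _ : Fin (n + 1 + 1) => f) j.castSucc)
    (fun j => WidePullback.π_arrow (fun _ : Fin (n + 1 + 1) => f) j.castSucc)

variable {f} in
/-- the family of projections of a pair -/
noncomputable def fam {n : ℕ} {Y : 𝒞} (a : Y ⟶ Wn f n) (b : Y ⟶ X') :
    ∀ _ : Fin (n + 1 + 1), Y ⟶ X' :=
  Fin.lastCases b (fun j' => a ≫ WidePullback.π (fun _ : Fin (n + 1) => f) j')

variable {f} in
lemma fam_last {n : ℕ} {Y : 𝒞} (a : Y ⟶ Wn f n) (b : Y ⟶ X') :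
    fam a b (Fin.last (n + 1)) = b := by
  simp [fam]

variable {f} in
lemma fam_castSucc {n : ℕ} {Y : 𝒞} (a : Y ⟶ Wn f n) (b : Y ⟶ X') (j : Fin (n + 1)) :
    fam a b j.castSucc = a ≫ WidePullback.π (fun _ : Fin (n + 1) => f) j := by
  simp [fam]

variable {f} in
lemma fam_arrow {n : ℕ} {Y : 𝒞} (a : Y ⟶ Wn f n) (b : Y ⟶ X')
    (h : a ≫ WidePullback.base (fun _ : Fin (n + 1) => f) = b ≫ f) (j : Fin (n + 1 + 1)) :
    fam a b j ≫ f = a ≫ WidePullback.base (fun _ : Fin (n + 1) => f) := by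
  refine Fin.lastCases ?_ (fun j' => ?_) j
  · rw [fam_last]
    exact h.symm
  · rw [fam_castSucc, Category.assoc, WidePullback.π_arrow]

theorem nerve_isPullback (n : ℕ) :
    IsPullback (dropLast f n)
      (WidePullback.π (fun _ : Fin (n + 1 + 1) => f) (Fin.last (n + 1)))
      (WidePullback.base (fun _ : Fin (n + 1) => f)) f := by
  have w : dropLast f n ≫ WidePullback.base (fun _ : Fin (n + 1) => f) =
      WidePullback.π (fun _ : Fin (n + 1 + 1) => f) (Fin.last (n + 1)) ≫ f := by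
    unfold dropLast
    rw [WidePullback.lift_base, WidePullback.π_arrow]
  refine ⟨⟨w⟩, ⟨PullbackCone.IsLimit.mk _
    (fun s => WidePullback.lift (s.fst ≫ WidePullback.base (fun _ : Fin (n + 1) => f))
      (fam s.fst s.snd) (fam_arrow s.fst s.snd s.condition)) ?_ ?_ ?_⟩⟩
  · intro s
    apply WidePullback.hom_ext
    · intro j
      unfold dropLast
      rw [Category.assoc, WidePullback.lift_π, WidePullback.lift_π, fam_castSucc]
    · unfold dropLast
      rw [Category.assoc, WidePullback.lift_base, WidePullback.lift_base]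
  · intro s
    rw [WidePullback.lift_π, fam_last]
  · intro s m h1 h2
    apply WidePullback.eq_lift_of_comp_eq
    · intro j
      refine Fin.lastCases ?_ (fun j' => ?_) j
      · rw [fam_last]
        exact h2
      · rw [fam_castSucc, ← h1, Category.assoc]
        unfold dropLast
        rw [WidePullback.lift_π]
    · rw [← h1, Category.assoc]
      unfold dropLast
      rw [WidePullback.lift_base]

end WP

variable {C : Type u} [SmallCategory C] {J : GrothendieckTopology C}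

theorem nerve_mem (𝒦 : Sheaf J (Type u) → Prop)
    (hiso : ∀ X Y : Sheaf J (Type u), (X ≅ Y) → 𝒦 X → 𝒦 Y)
    (hpb : ∀ {P X Y Z : Sheaf J (Type u)} {fst : P ⟶ X} {snd : P ⟶ Y} {f : X ⟶ Z} {g : Y ⟶ Z},
      IsPullback fst snd f g → 𝒦 X → 𝒦 Y → 𝒦 Z → 𝒦 P)
    {X' X : Sheaf J (Type u)} (f : X' ⟶ X) (hX' : 𝒦 X') (hX : 𝒦 X) :
    ∀ n : ℕ, 𝒦 ((Arrow.mk f).cechNerve.obj (op ⦋n⦌)) := by
  intro n
  induction n with
  | zero => exact hiso _ _ (p0Iso (Arrow.mk f)).symm hX'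
  | succ n ih =>
    have h' : 𝒦 (Wn f n) := ih
    have h2 : 𝒦 (Wn f (n + 1)) := hpb (nerve_isPullback f n) h' hX' hX
    exact h2

/-! ### The class generated by `S` -/

variable (S : Set (Sheaf J (Type u)))

/-- a finite jointly monic family into members of `S` -/
def HasJM (Z : Sheaf J (Type u)) : Prop :=
  ∃ (ι : Type) (_ : Finite ι) (T : ι → Sheaf J (Type u)) (m : ∀ i, Z ⟶ T i), (∀ i, T i ∈ S) ∧
    ∀ (Y : Sheaf J (Type u)) (a b : Y ⟶ Z), (∀ i, a ≫ m i = b ≫ m i) → a = b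

/-- covered by a member of `S`, and embedded in a finite product of members of `S` -/
def LL (X : Sheaf J (Type u)) : Prop :=
  (∃ K ∈ S, ∃ π : K ⟶ X, Epi π) ∧ HasJM S X

variable {S}

lemma ll_of_mem {K : Sheaf J (Type u)} (hK : K ∈ S) : LL S K :=
  ⟨⟨K, hK, 𝟙 K, inferInstance⟩, ⟨Unit, inferInstance, fun _ => K, fun _ => 𝟙 K, fun _ => hK,
    fun Y a b h => by
      have h' := h ()
      rw [Category.comp_id, Category.comp_id] at h'
      exact h'⟩⟩

lemma ll_iso {X Y : Sheaf J (Type u)} (e : X ≅ Y) (h : LL S X) : LL S Y := by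
  obtain ⟨⟨K, hK, π, hπ⟩, ι, hfin, T, m, hT, jm⟩ := h
  refine ⟨⟨K, hK, π ≫ e.hom, ?_⟩, ι, hfin, T, fun i => e.inv ≫ m i, hT, fun Y' a b h => ?_⟩
  · haveI := hπ
    exact epi_comp _ _
  · have h1 : a ≫ e.inv = b ≫ e.inv := jm _ _ _ (fun i => by
      rw [Category.assoc, Category.assoc]
      exact h i)
    exact (cancel_mono e.inv).1 h1

lemma restr4 (X : Sheaf J (Type u)) {V W₁ W₂ W₃ W₄ : C} (r₁ : W₁ ⟶ V) (r₂ : W₂ ⟶ W₁)
    (r₃ : W₃ ⟶ W₂) (r₄ : W₄ ⟶ W₃) (x : X.obj.obj (op V)) :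
    X.obj.map (((r₄ ≫ r₃) ≫ r₂) ≫ r₁).op x =
      X.obj.map r₄.op (X.obj.map r₃.op (X.obj.map r₂.op (X.obj.map r₁.op x))) := by
  rw [map_comp', map_comp', map_comp']

/-- iterated equalizers into the targets of a finite family -/
theorem IT
    (h4 : ∀ K ∈ S, ∀ K' ∈ S, ∀ (a b : K ⟶ K'),
      ∃ (K'' : Sheaf J (Type u)) (g : K'' ⟶ equalizer a b), K'' ∈ S ∧ Epi g)
    {K Z : Sheaf J (Type u)} (hK : K ∈ S) (a b : K ⟶ Z) {ι : Type} (T : ι → Sheaf J (Type u))
    (hT : ∀ i, T i ∈ S) (m : ∀ i, Z ⟶ T i) (s : Finset ι) :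
    ∃ (K' : Sheaf J (Type u)) (h : K' ⟶ K), K' ∈ S ∧
      (∀ i ∈ s, h ≫ a ≫ m i = h ≫ b ≫ m i) ∧
      ∀ (V : C) (k : K.obj.obj (op V)), a.hom.app (op V) k = b.hom.app (op V) k →
        Loc J V (fun W g => ∃ k' : K'.obj.obj (op W),
          h.hom.app (op W) k' = K.obj.map g.op k) := by
  classical
  induction s using Finset.induction_on with
  | empty =>
    exact ⟨K, 𝟙 K, hK, fun i hi => by simp at hi,
      fun V k _ => Loc.of_forall (fun W g => ⟨K.obj.map g.op k, rfl⟩)⟩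
  | insert i₀ s hi₀ ih =>
    obtain ⟨K', h, hK', heq, hlift⟩ := ih
    obtain ⟨K'', g, hK'', hg⟩ := h4 K' hK' (T i₀) (hT i₀) (h ≫ a ≫ m i₀) (h ≫ b ≫ m i₀)
    refine ⟨K'', g ≫ equalizer.ι _ _ ≫ h, hK'', ?_, ?_⟩
    · intro i hi
      rcases Finset.mem_insert.1 hi with rfl | hi
      · have e := equalizer.condition (h ≫ a ≫ m i) (h ≫ b ≫ m i)
        simp only [Category.assoc]
        exact congrArg (fun t => g ≫ t) e
      · simp only [Category.assoc]
        rw [heq i hi]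
    · intro V k hk
      refine (hlift V k hk).bind (fun W g₁ hg₁ => ?_)
      obtain ⟨k', hk'⟩ := hg₁
      have e1 : a.hom.app (op W) (h.hom.app (op W) k') = b.hom.app (op W) (h.hom.app (op W) k') := by
        rw [hk', map_apply' a, map_apply' b, hk]
      have hab : (h ≫ a ≫ m i₀).hom.app (op W) k' = (h ≫ b ≫ m i₀).hom.app (op W) k' :=
        congrArg ((m i₀).hom.app (op W)) e1
      obtain ⟨e, he⟩ := sec_eq _ _ k' hab
      haveI := hg
      refine (loc_of_epi g e).mono (fun W' g₂ hg₂ => ?_)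
      obtain ⟨k'', hk''⟩ := hg₂
      refine ⟨k'', ?_⟩
      show h.hom.app _ ((equalizer.ι (h ≫ a ≫ m i₀) (h ≫ b ≫ m i₀)).hom.app _
        (g.hom.app _ k'')) = _
      rw [hk'', map_apply' (equalizer.ι (h ≫ a ≫ m i₀) (h ≫ b ≫ m i₀)), he, map_apply' h, hk',
        map_comp']

/-- the class is closed under fibre products -/
theorem ll_pullback
    (h3 : ∀ K ∈ S, ∀ K' ∈ S, ∃ (K'' : Sheaf J (Type u)) (g : K'' ⟶ K ⨯ K'), K'' ∈ S ∧ Epi g)
    (h4 : ∀ K ∈ S, ∀ K' ∈ S, ∀ (a b : K ⟶ K'),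
      ∃ (K'' : Sheaf J (Type u)) (g : K'' ⟶ equalizer a b), K'' ∈ S ∧ Epi g)
    {P X Y Z : Sheaf J (Type u)} {fst : P ⟶ X} {snd : P ⟶ Y} {f : X ⟶ Z} {g : Y ⟶ Z}
    (hP : IsPullback fst snd f g) (hX : LL S X) (hY : LL S Y) (hZ : LL S Z) : LL S P := by
  classical
  constructor
  · obtain ⟨⟨KX, hKX, πX, hπX⟩, -⟩ := hX
    obtain ⟨⟨KY, hKY, πY, hπY⟩, -⟩ := hY
    obtain ⟨-, ιZ, hfin, TZ, mZ, hTZ, jmZ⟩ := hZ
    obtain ⟨K₁, g₁, hK₁, hg₁⟩ := h3 KX hKX KY hKY
    let u₁ : K₁ ⟶ X := g₁ ≫ prod.fst ≫ πX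
    let v₁ : K₁ ⟶ Y := g₁ ≫ prod.snd ≫ πY
    haveI := Fintype.ofFinite ιZ
    obtain ⟨KN, h, hKN, heq, hlift⟩ := IT h4 hK₁ (u₁ ≫ f) (v₁ ≫ g) TZ hTZ mZ Finset.univ
    have hh : (h ≫ u₁) ≫ f = (h ≫ v₁) ≫ g := by
      rw [Category.assoc, Category.assoc]
      refine jmZ _ _ _ (fun i => ?_)
      have := heq i (Finset.mem_univ i)
      simp only [Category.assoc] at this ⊢
      exact this
    let c : KN ⟶ P := hP.lift (h ≫ u₁) (h ≫ v₁) hh
    have hc1 : c ≫ fst = h ≫ u₁ := hP.lift_fst _ _ _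
    have hc2 : c ≫ snd = h ≫ v₁ := hP.lift_snd _ _ _
    refine ⟨KN, hKN, c, epi_of_loc c (fun V p => ?_)⟩
    haveI := hπX
    haveI := hπY
    haveI := hg₁
    refine (loc_of_epi πX (fst.hom.app (op V) p)).bind (fun W₁ r₁ hr₁ => ?_)
    obtain ⟨kx, hkx⟩ := hr₁
    refine (loc_of_epi πY (Y.obj.map r₁.op (snd.hom.app (op V) p))).bind (fun W₂ r₂ hr₂ => ?_)
    obtain ⟨ky, hky⟩ := hr₂
    obtain ⟨q, hq1, hq2⟩ := sec_prod KX KY (KX.obj.map r₂.op kx) ky
    refine (loc_of_epi g₁ q).bind (fun W₃ r₃ hr₃ => ?_)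
    obtain ⟨k₁, hk₁⟩ := hr₃
    have hu : u₁.hom.app (op W₃) k₁ =
        X.obj.map r₃.op (X.obj.map r₂.op (X.obj.map r₁.op (fst.hom.app (op V) p))) := by
      show πX.hom.app (op W₃) ((prod.fst : KX ⨯ KY ⟶ KX).hom.app (op W₃)
        (g₁.hom.app (op W₃) k₁)) = _
      rw [hk₁, map_apply' (prod.fst : KX ⨯ KY ⟶ KX), hq1, map_apply' πX, map_apply' πX, hkx]
    have hv : v₁.hom.app (op W₃) k₁ =
        Y.obj.map r₃.op (Y.obj.map r₂.op (Y.obj.map r₁.op (snd.hom.app (op V) p))) := by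
      show πY.hom.app (op W₃) ((prod.snd : KX ⨯ KY ⟶ KY).hom.app (op W₃)
        (g₁.hom.app (op W₃) k₁)) = _
      rw [hk₁, map_apply' (prod.snd : KX ⨯ KY ⟶ KY), hq2, map_apply' πY, hky]
    have hw : f.hom.app (op V) (fst.hom.app (op V) p) = g.hom.app (op V) (snd.hom.app (op V) p) :=
      congrArg (fun m => m.hom.app (op V) p) hP.w
    have hab : (u₁ ≫ f).hom.app (op W₃) k₁ = (v₁ ≫ g).hom.app (op W₃) k₁ := by
      show f.hom.app (op W₃) (u₁.hom.app (op W₃) k₁) = g.hom.app (op W₃) (v₁.hom.app (op W₃) k₁)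
      rw [hu, hv, map_apply' f, map_apply' f, map_apply' f, map_apply' g, map_apply' g,
        map_apply' g, hw]
    refine (hlift W₃ k₁ hab).mono (fun W₄ r₄ hr₄ => ?_)
    obtain ⟨kN, hkN⟩ := hr₄
    refine ⟨kN, sec_isPullback_ext hP _ _ ?_ ?_⟩
    · have e1 : fst.hom.app (op W₄) (c.hom.app (op W₄) kN) = (h ≫ u₁).hom.app (op W₄) kN :=
        congrArg (fun m => m.hom.app (op W₄) kN) hc1
      rw [e1, map_apply' fst, restr4]
      show u₁.hom.app (op W₄) (h.hom.app (op W₄) kN) = _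
      rw [hkN, map_apply' u₁, hu]
    · have e1 : snd.hom.app (op W₄) (c.hom.app (op W₄) kN) = (h ≫ v₁).hom.app (op W₄) kN :=
        congrArg (fun m => m.hom.app (op W₄) kN) hc2
      rw [e1, map_apply' snd, restr4]
      show v₁.hom.app (op W₄) (h.hom.app (op W₄) kN) = _
      rw [hkN, map_apply' v₁, hv]
  · obtain ⟨-, ιX, hfX, TX, mX, hTX, jmX⟩ := hX
    obtain ⟨-, ιY, hfY, TY, mY, hTY, jmY⟩ := hY
    haveI := hfX
    haveI := hfY
    refine ⟨ιX ⊕ ιY, inferInstance, Sum.elim TX TY,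
      fun i => Sum.rec (motive := fun i => P ⟶ Sum.elim TX TY i) (fun i => fst ≫ mX i)
        (fun j => snd ≫ mY j) i,
      fun i => Sum.rec (motive := fun i => Sum.elim TX TY i ∈ S) hTX hTY i, fun Y' a b h => ?_⟩
    apply hP.hom_ext
    · refine jmX _ _ _ (fun i => ?_)
      have := h (Sum.inl i)
      simp only [Category.assoc] at this ⊢
      exact this
    · refine jmY _ _ _ (fun j => ?_)
      have := h (Sum.inr j)
      simp only [Category.assoc] at this ⊢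
      exact this

section Main

variable
    (h2 : ∀ (F : Sheaf J (Type u)) (K : Sheaf J (Type u)) (g : F ⟶ K), K ∈ S → Epi g →
      ∃ (K' : Sheaf J (Type u)) (k : K' ⟶ F), K' ∈ S ∧ Epi (k ≫ g))
    (h3 : ∀ K ∈ S, ∀ K' ∈ S, ∃ (K'' : Sheaf J (Type u)) (g : K'' ⟶ K ⨯ K'), K'' ∈ S ∧ Epi g)
    (h4 : ∀ K ∈ S, ∀ K' ∈ S, ∀ (a b : K ⟶ K'),
      ∃ (K'' : Sheaf J (Type u)) (g : K'' ⟶ equalizer a b), K'' ∈ S ∧ Epi g)
    (h5 : ∀ K ∈ S, CohCx.IsQcObject K)

include h2 h3 h4 in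
theorem cclass_LL : CClass (LL S) where
  refine := fun X F g hX hg => by
    obtain ⟨⟨K, hK, π, hπ⟩, -⟩ := hX
    haveI := hg
    have hE : EffectiveEpi (pullback.snd g π) :=
      Groth.Agent.S5218.result J g (pullback.fst g π) π (pullback.snd g π)
        (IsPullback.of_hasPullback g π).flip
    have hepi : Epi (pullback.snd g π) := inferInstance
    obtain ⟨K', k, hK', hk⟩ := h2 (pullback g π) K (pullback.snd g π) hK hepi
    refine ⟨K', k ≫ pullback.fst g π, ll_of_mem hK', ?_⟩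
    have e : (k ≫ pullback.fst g π) ≫ g = (k ≫ pullback.snd g π) ≫ π := by
      rw [Category.assoc, Category.assoc, pullback.condition]
    rw [e]
    haveI := hk
    haveI := hπ
    exact epi_comp _ _
  nerve := fun X' X f hX' hX n =>
    nerve_mem (LL S) (fun _ _ e h => ll_iso e h)
      (fun hP hX hY hZ => ll_pullback h3 h4 hP hX hY hZ) f hX' hX n

variable {Λ : Type u} [SmallCategory Λ] [IsFiltered Λ]

include h2 h3 h4 h5 in
theorem homCommutes_LL (X : Sheaf J (Type u)) (hX : LL S X)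
    (D : Λ ⥤ Sheaf J AddCommGrpCat.{u}) :
    HomCommutes ((Φ J).obj X) D (colimit.cocone D) := by
  have hc := locColim_colimit D
  have hcl := cclass_LL h2 h3 h4
  obtain ⟨K, hK, π, hπ⟩ := hX.1
  constructor
  · intro t
    refine hom_surj hc π hπ (h5 K hK) (fun F g hg => ?_) t
    obtain ⟨K', k, hK', hk⟩ := h2 F K g hK hg
    refine ⟨K', k, hk, fun i s hs => ?_⟩
    have hW : LL S ((Arrow.mk ((k ≫ g) ≫ π)).cechNerve.obj (op ⦋1⦌)) :=
      hcl.nerve _ _ _ (ll_of_mem hK') hX 1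
    obtain ⟨⟨K₂, hK₂, π₂, hπ₂⟩, -⟩ := hW
    exact hom_inj_of_cover hc π₂ hπ₂ (h5 K₂ hK₂) i s hs
  · intro i s hs
    exact hom_inj_of_cover hc π hπ (h5 K hK) i s hs

include h2 h3 h4 h5 in
theorem preservesColimit_ext_LL (X : Sheaf J (Type u)) (hX : LL S X) (q : ℕ)
    (D : Λ ⥤ Sheaf J AddCommGrpCat.{u}) :
    PreservesColimit D (extFunctorObj ((Φ J).obj X) q) :=
  core (cclass_LL h2 h3 h4) (fun Y hY D' => homCommutes_LL h2 h3 h4 h5 Y hY D') X hX q D

/-- the comparison of `Ext(ℤ, -)` with Mathlib's sheaf cohomology functor -/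
noncomputable def extIsoH (p : ℕ) : extFunctorObj (Zc J) p ≅ Sheaf.functorH J p :=
  NatIso.ofComponents (fun _ => Iso.refl _)
    (fun f => (Category.comp_id _).trans (Category.id_comp _).symm)

/-- changing the first variable by an isomorphism -/
noncomputable def extIsoOfIso {Z Z' : Sheaf J AddCommGrpCat.{u}} (e : Z ≅ Z') (p : ℕ) :
    extFunctorObj Z p ≅ extFunctorObj Z' p :=
  ((extFunctor.{u} p).mapIso e.op).symm

include h2 h3 h4 h5 in
theorem main (h1 : ∃ K ∈ S, Epi (terminal.from K)) (p : ℕ) :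
    PreservesColimitsOfShape Λ
      (Sheaf.functorH J p : Sheaf J AddCommGrpCat.{u} ⥤ AddCommGrpCat.{u}) := by
  have hT : LL S (K₁ J) := by
    obtain ⟨K, hK, hepi⟩ := h1
    refine ⟨⟨K, hK, (K₁term J).from K, ?_⟩, PEmpty, inferInstance, fun i => i.elim,
      fun i => i.elim, fun i => i.elim, fun Y a b _ => (K₁term J).hom_ext a b⟩
    let e : ⊤_ (Sheaf J (Type u)) ≅ K₁ J := terminalIsTerminal.uniqueUpToIso (K₁term J)
    have he : (K₁term J).from K = terminal.from K ≫ e.hom := (K₁term J).hom_ext _ _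
    rw [he]
    haveI := hepi
    exact epi_comp _ _
  constructor
  intro D
  haveI := preservesColimit_ext_LL h2 h3 h4 h5 (K₁ J) hT p D
  exact preservesColimit_of_natIso D (extIsoOfIso (isoZ J) p ≪≫ extIsoH p)

end Main

end Groth.Agent.H67.LClass
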