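import Mathlib
import Groth.Prelude.Def_SGA4c
import Groth.Prelude.Def_ToposFin2
import Groth.Agent.H67.LClass
import Groth.Agent.H67.RpushColim

/-!
# Helper library (helper67): quasi-compact and coherent objects of a topos of sheaves, concretely;
cohomology of coherent objects of an algebraic topos commutes with filtered colimits
-/

set_option autoImplicit false
universe u

open CategoryTheory CategoryTheory.Limits Opposite Abelian AlgebraicTopology Simplicial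

namespace Groth.Agent.H67.CohTopos

open Groth.Agent.H67.TorsA Groth.Agent.H67.TorsB Groth.Agent.H67.CechTopos
  Groth.Agent.H67.RelCech Groth.Agent.H67.SecRep Groth.Agent.H67.LClass CohCx

variable {C : Type u} [SmallCategory C] {J : GrothendieckTopology C}

/-! ### Concrete coproducts -/

section Cop

variable {κ : Type u} (T : κ → Sheaf J (Type u))

/-- the presheaf coproduct -/
def copP : Cᵒᵖ ⥤ Type u where
  obj V := Σ k, (T k).obj.obj V
  map f := TypeCat.ofHom (fun x => ⟨x.1, (T x.1).obj.map f x.2⟩)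
  map_id V := ConcreteCategory.hom_ext _ _ (fun x => by
    rcases x with ⟨k, t⟩
    have h : (T k).obj.map (𝟙 V) t = t := by
      rw [(T k).obj.map_id]
      rfl
    exact congrArg (Sigma.mk k) h)
  map_comp f g := ConcreteCategory.hom_ext _ _ (fun x => by
    rcases x with ⟨k, t⟩
    have h : (T k).obj.map (f ≫ g) t = (T k).obj.map g ((T k).obj.map f t) := by
      rw [(T k).obj.map_comp]
      rfl
    exact congrArg (Sigma.mk k) h)

/-- the coproduct sheaf -/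
noncomputable def cop : Sheaf J (Type u) := (presheafToSheaf J (Type u)).obj (copP T)

/-- the injections, on presheaves -/
def inP (k : κ) : (T k).obj ⟶ copP T where
  app _ := TypeCat.ofHom (fun t => ⟨k, t⟩)
  naturality _ _ _ := ConcreteCategory.hom_ext _ _ (fun _ => rfl)

/-- the injections -/
noncomputable def inj (k : κ) : T k ⟶ cop T :=
  ObjectProperty.homMk (inP T k ≫ toSheafify J (copP T))

lemma inj_apply (k : κ) (V : Cᵒᵖ) (t : (T k).obj.obj V) :
    (inj T k).hom.app V t = (toSheafify J (copP T)).app V (⟨k, t⟩ : (copP T).obj V) := rfl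

lemma inj_surj {V : C} (τ : (cop T).obj.obj (op V)) :
    Loc J V (fun W g => ∃ (k : κ) (t : (T k).obj.obj (op W)),
      (inj T k).hom.app (op W) t = (cop T).obj.map g.op τ) := by
  refine ⟨Presheaf.imageSieve (toSheafify J (copP T)) τ,
    Presheaf.imageSieve_mem J (toSheafify J (copP T)) τ, fun W g hg => ?_⟩
  obtain ⟨x, hx⟩ := hg
  exact ⟨x.1, x.2, hx⟩

lemma inj_injective (k : κ) {V : C} (t t' : (T k).obj.obj (op V))
    (h : (inj T k).hom.app (op V) t = (inj T k).hom.app (op V) t') : t = t' := by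
  have h1 := Presheaf.equalizerSieve_mem J (toSheafify J (copP T))
    (⟨k, t⟩ : (copP T).obj (op V)) ⟨k, t'⟩ h
  have hsh : Presieve.IsSheaf J (T k).obj := (isSheaf_iff_isSheaf_of_type J _).1 (T k).property
  refine (hsh.isSeparated _ h1).ext (fun W g hg => ?_)
  have h2 : (⟨k, (T k).obj.map g.op t⟩ : Σ k, (T k).obj.obj (op W)) =
      ⟨k, (T k).obj.map g.op t'⟩ := hg
  exact eq_of_heq (Sigma.mk.inj h2).2

lemma inj_disjoint {k l : κ} (hkl : k ≠ l) {V : C} (t : (T k).obj.obj (op V))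
    (t' : (T l).obj.obj (op V))
    (h : (inj T k).hom.app (op V) t = (inj T l).hom.app (op V) t') : (⊥ : Sieve V) ∈ J V := by
  have h1 := Presheaf.equalizerSieve_mem J (toSheafify J (copP T))
    (⟨k, t⟩ : (copP T).obj (op V)) ⟨l, t'⟩ h
  refine J.superset_covering ?_ h1
  intro W g hg
  have h2 : (⟨k, (T k).obj.map g.op t⟩ : Σ k, (T k).obj.obj (op W)) =
      ⟨l, (T l).obj.map g.op t'⟩ := hg
  exact absurd (Sigma.mk.inj h2).1 hkl

variable {T}

/-- the map out of the coproduct, on presheaves -/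
def descP {Z : Sheaf J (Type u)} (f : ∀ k, T k ⟶ Z) : copP T ⟶ Z.obj where
  app V := TypeCat.ofHom (fun x => (f x.1).hom.app V x.2)
  naturality _ _ g := ConcreteCategory.hom_ext _ _ (fun x =>
    NatTrans.naturality_apply (f x.1).hom g x.2)

/-- the map out of the coproduct -/
noncomputable def copDesc {Z : Sheaf J (Type u)} (f : ∀ k, T k ⟶ Z) : cop T ⟶ Z :=
  ObjectProperty.homMk (sheafifyLift J (descP f) Z.property)

lemma inj_desc {Z : Sheaf J (Type u)} (f : ∀ k, T k ⟶ Z) (k : κ) :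
    inj T k ≫ copDesc f = f k := by
  apply Sheaf.hom_ext
  show (inP T k ≫ toSheafify J (copP T)) ≫ sheafifyLift J (descP f) Z.property = (f k).hom
  rw [Category.assoc, toSheafify_sheafifyLift]
  rfl

end Cop

/-! ### Jointly surjective families and quasi-compact objects -/

lemma js_iff_loc {X : Sheaf J (Type u)} {I : Type u} {L : I → Sheaf J (Type u)}
    (f : ∀ i, L i ⟶ X) :
    JointlySurjective f ↔ ∀ (V : C) (x : X.obj.obj (op V)),
      Loc J V (fun W g => ∃ (i : I) (y : (L i).obj.obj (op W)),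
        (f i).hom.app (op W) y = X.obj.map g.op x) := by
  constructor
  · intro h V x
    obtain ⟨R, hR, hx⟩ := h V x
    exact ⟨R, hR, fun W g hg => hx W g hg⟩
  · intro h V x
    obtain ⟨R, hR, hx⟩ := h V x
    exact ⟨R, hR, fun W g hg => hx g hg⟩

theorem js_of_cancel {X : Sheaf J (Type u)} {I : Type u} {L : I → Sheaf J (Type u)}
    (f : ∀ i, L i ⟶ X)
    (h : ∀ (Z : Sheaf J (Type u)) (a b : X ⟶ Z), (∀ i, f i ≫ a = f i ≫ b) → a = b) :
    JointlySurjective f := by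
  have hd : Epi (copDesc f) := ⟨fun a b hab => h _ a b (fun i => by
    rw [← inj_desc f i, Category.assoc, hab, ← Category.assoc])⟩
  rw [js_iff_loc]
  intro V x
  refine (loc_of_epi (copDesc f) x).bind (fun W g hg => ?_)
  obtain ⟨z, hz⟩ := hg
  refine (inj_surj L z).mono (fun W' g' hg' => ?_)
  obtain ⟨i, t, ht⟩ := hg'
  refine ⟨i, t, ?_⟩
  have e1 : (f i).hom.app (op W') t = (copDesc f).hom.app (op W') ((inj L i).hom.app (op W') t) :=
    (congrArg (fun m => m.hom.app (op W') t) (inj_desc f i)).symm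
  rw [e1, ht, map_apply' (copDesc f), hz, map_comp']

theorem epi_sigma_iff {X : Sheaf J (Type u)} {I : Type u} (L : I → Sheaf J (Type u))
    (f : ∀ i, L i ⟶ X) : Epi (Sigma.desc f) ↔ JointlySurjective f := by
  constructor
  · intro h
    apply js_of_cancel
    intro Z a b hab
    rw [← cancel_epi (Sigma.desc f)]
    apply Sigma.hom_ext
    intro i
    rw [Sigma.ι_desc_assoc, Sigma.ι_desc_assoc]
    exact hab i
  · intro h
    apply epi_of_loc
    intro V x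
    obtain ⟨R, hR, hx⟩ := h V x
    refine ⟨R, hR, fun W g hg => ?_⟩
    obtain ⟨i, y, hy⟩ := hx W g hg
    refine ⟨(Sigma.ι L i).hom.app (op W) y, ?_⟩
    rw [← hy]
    exact congrArg (fun m => m.hom.app (op W) y) (Sigma.ι_desc f i)

theorem isQC_iff (X : Sheaf J (Type u)) : ToposFin.IsQC X ↔ IsQcObject X := by
  constructor
  · intro h I L f hf
    obtain ⟨s, hs⟩ := h I L f ((epi_sigma_iff L f).2 hf)
    exact ⟨s, (epi_sigma_iff (fun i : s => L i) (fun i : s => f i)).1 hs⟩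
  · intro h I L f hf
    obtain ⟨s, hs⟩ := h I L f ((epi_sigma_iff L f).1 hf)
    exact ⟨s, (epi_sigma_iff (fun i : s => L i) (fun i : s => f i)).2 hs⟩

/-- a finite jointly surjective family of quasi-compact objects has a quasi-compact target -/
theorem qc_of_finite_cover {X : Sheaf J (Type u)} {κ : Type u} [Finite κ]
    (T : κ → Sheaf J (Type u)) (p : ∀ k, T k ⟶ X) (hp : JointlySurjective p)
    (hT : ∀ k, IsQcObject (T k)) : IsQcObject X := by
  classical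
  cases nonempty_fintype κ
  intro I L f hf
  have hk : ∀ k, JointlySurjective (fun i : I => pullback.snd (f i) (p k)) := by
    intro k
    rw [js_iff_loc]
    intro V t
    refine ((js_iff_loc f).1 hf V ((p k).hom.app (op V) t)).mono (fun W g hg => ?_)
    obtain ⟨i, y, hy⟩ := hg
    obtain ⟨z, -, hz⟩ := sec_pullback (f i) (p k) y ((T k).obj.map g.op t)
      (hy.trans (map_apply' (p k) g.op t).symm)
    exact ⟨i, z, hz⟩
  choose s hs using fun k => hT k I _ _ (hk k)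
  refine ⟨Finset.univ.biUnion s, ?_⟩
  rw [js_iff_loc]
  intro V x
  refine ((js_iff_loc p).1 hp V x).bind (fun W g hg => ?_)
  obtain ⟨k, t, ht⟩ := hg
  refine ((js_iff_loc _).1 (hs k) W t).mono (fun W' g' hg' => ?_)
  obtain ⟨i, z, hz⟩ := hg'
  refine ⟨⟨i.1, Finset.mem_biUnion.2 ⟨k, Finset.mem_univ k, i.2⟩⟩,
    (pullback.fst (f i.1) (p k)).hom.app (op W') z, ?_⟩
  have hc : (f i.1).hom.app (op W') ((pullback.fst (f i.1) (p k)).hom.app (op W') z) =
      (p k).hom.app (op W') ((pullback.snd (f i.1) (p k)).hom.app (op W') z) :=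
    congrArg (fun m => m.hom.app (op W') z) (pullback.condition (f := f i.1) (g := p k))
  show (f i.1).hom.app (op W') _ = _
  rw [hc, hz, map_apply' (p k), ht, map_comp']

theorem qc_of_epi {Y X : Sheaf J (Type u)} (π : Y ⟶ X) [Epi π] (hY : IsQcObject Y) :
    IsQcObject X := by
  refine qc_of_finite_cover (κ := PUnit.{u + 1}) (fun _ => Y) (fun _ => π) ?_ (fun _ => hY)
  rw [js_iff_loc]
  intro V x
  refine (loc_of_epi π x).mono (fun W g hg => ?_)
  obtain ⟨y, hy⟩ := hg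
  exact ⟨PUnit.unit, y, hy⟩


/-! ### Sections of limit forks -/

lemma sec_fork {P K T : Sheaf J (Type u)} {a b : K ⟶ T} {e : P ⟶ K} {w : e ≫ a = e ≫ b}
    (hl : IsLimit (Fork.ofι e w)) {V : C} (k : K.obj.obj (op V))
    (h : a.hom.app (op V) k = b.hom.app (op V) k) :
    ∃ p : P.obj.obj (op V), e.hom.app (op V) p = k := by
  have h' : toHom k ≫ a = toHom k ≫ b := by
    apply (repEquiv T V).injective
    rw [repEquiv_comp, repEquiv_comp, repEquiv_toHom]
    exact h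
  obtain ⟨l, hl'⟩ := Fork.IsLimit.lift' hl (toHom k) h'
  refine ⟨repEquiv P V l, ?_⟩
  have hl'' : l ≫ e = toHom k := hl'
  rw [← repEquiv_comp, hl'', repEquiv_toHom]

lemma sec_eq_ext {K T : Sheaf J (Type u)} (a b : K ⟶ T) {V : C}
    (e e' : (equalizer a b).obj.obj (op V))
    (h : (equalizer.ι a b).hom.app (op V) e = (equalizer.ι a b).hom.app (op V) e') : e = e' := by
  have h1 : toHom e = toHom e' := by
    apply equalizer.hom_ext
    apply (repEquiv K V).injective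
    rw [repEquiv_comp, repEquiv_comp, repEquiv_toHom, repEquiv_toHom]
    exact h
  have h2 := congrArg (repEquiv _ V) h1
  rw [repEquiv_toHom, repEquiv_toHom] at h2
  exact h2

lemma sec_eq_cond {K T : Sheaf J (Type u)} (a b : K ⟶ T) {V : C}
    (e : (equalizer a b).obj.obj (op V)) :
    a.hom.app (op V) ((equalizer.ι a b).hom.app (op V) e) =
      b.hom.app (op V) ((equalizer.ι a b).hom.app (op V) e) :=
  congrArg (fun m => m.hom.app (op V) e) (equalizer.condition a b)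

lemma sec_pb_cond {X Y Z : Sheaf J (Type u)} (f : X ⟶ Z) (g : Y ⟶ Z) {V : C}
    (p : (pullback f g).obj.obj (op V)) :
    f.hom.app (op V) ((pullback.fst f g).hom.app (op V) p) =
      g.hom.app (op V) ((pullback.snd f g).hom.app (op V) p) :=
  congrArg (fun m => m.hom.app (op V) p) (pullback.condition (f := f) (g := g))

/-! ### Algebraic topoi, concretely -/

/-- the concrete form of the hypotheses on the generating family -/
structure Alg (S₀ : Set (Sheaf J (Type u))) : Prop where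
  qc : ∀ K ∈ S₀, IsQcObject K
  gen : ∀ X : Sheaf J (Type u), ∃ (ι : Type u) (F : ι → Sheaf J (Type u)) (π : ∀ i, F i ⟶ X),
    (∀ i, F i ∈ S₀) ∧ JointlySurjective π
  eq : ToposFin.ClosedUnderEqualizers S₀

lemma alg_of_isAlgebraic (h : ToposFin.IsAlgebraic J) : ∃ S₀ : Set (Sheaf J (Type u)), Alg S₀ := by
  obtain ⟨S₀, hqc, hgen, -, heq⟩ := h
  refine ⟨S₀, fun K hK => (isQC_iff K).1 (hqc K hK), fun X => ?_, heq⟩
  obtain ⟨ι, F, π, hF, hπ⟩ := hgen X
  exact ⟨ι, F, π, hF, js_of_cancel π hπ⟩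

variable {S₀ : Set (Sheaf J (Type u))}

lemma gen_finite_over (hA : Alg S₀) {F' X : Sheaf J (Type u)} (g : F' ⟶ X) [Epi g]
    (hX : IsQcObject X) :
    ∃ (κ : Type u) (_ : Finite κ) (F : κ → Sheaf J (Type u)) (π : ∀ k, F k ⟶ F'),
      (∀ k, F k ∈ S₀) ∧ JointlySurjective (fun k => π k ≫ g) := by
  obtain ⟨ι, F, π, hF, hπ⟩ := hA.gen F'
  have hjs : JointlySurjective (fun i => π i ≫ g) := by
    rw [js_iff_loc]
    intro V x
    refine (loc_of_epi g x).bind (fun W r hr => ?_)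
    obtain ⟨y, hy⟩ := hr
    refine ((js_iff_loc π).1 hπ W y).mono (fun W' r' hr' => ?_)
    obtain ⟨i, z, hz⟩ := hr'
    refine ⟨i, z, ?_⟩
    show g.hom.app _ ((π i).hom.app _ z) = _
    rw [hz, map_apply' g, hy, map_comp']
  obtain ⟨t, ht⟩ := hX ι _ _ hjs
  exact ⟨t, inferInstance, fun k => F k, fun k => π k, fun k => hF k, ht⟩

lemma gen_finite (hA : Alg S₀) {Y : Sheaf J (Type u)} (hY : IsQcObject Y) :
    ∃ (κ : Type u) (_ : Finite κ) (F : κ → Sheaf J (Type u)) (π : ∀ k, F k ⟶ Y),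
      (∀ k, F k ∈ S₀) ∧ JointlySurjective π := by
  obtain ⟨κ, hfin, F, π, hF, hπ⟩ := gen_finite_over hA (𝟙 Y) hY
  refine ⟨κ, hfin, F, π, hF, ?_⟩
  have h := hπ
  simp only [Category.comp_id] at h
  exact h

/-- equalizers of maps from a quasi-compact object to a generator are quasi-compact -/
theorem qc_equalizer_of_mem (hA : Alg S₀) {Y X : Sheaf J (Type u)} (hY : IsQcObject Y)
    (hX : X ∈ S₀) (a b : Y ⟶ X) : IsQcObject (equalizer a b) := by
  obtain ⟨κ, hfin, F, π, hF, hπ⟩ := gen_finite hA hY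
  haveI := hfin
  choose P e w hP hl using fun k => hA.eq (π k ≫ a) (π k ≫ b) (hF k) hX
  let m : ∀ k, P k ⟶ equalizer a b := fun k =>
    equalizer.lift (e k ≫ π k) (by
      rw [Category.assoc, Category.assoc]
      exact w k)
  refine qc_of_finite_cover P m ?_ (fun k => hA.qc _ (hP k))
  rw [js_iff_loc]
  intro V ε
  refine ((js_iff_loc π).1 hπ V ((equalizer.ι a b).hom.app (op V) ε)).mono (fun W r hr => ?_)
  obtain ⟨k, y, hy⟩ := hr
  have hab : (π k ≫ a).hom.app (op W) y = (π k ≫ b).hom.app (op W) y := by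
    show a.hom.app _ ((π k).hom.app _ y) = b.hom.app _ ((π k).hom.app _ y)
    rw [hy, map_apply' a, map_apply' b, sec_eq_cond]
  obtain ⟨p, hp⟩ := sec_fork (hl k).some y hab
  refine ⟨k, p, sec_eq_ext a b _ _ ?_⟩
  have e1 : (equalizer.ι a b).hom.app (op W) ((m k).hom.app (op W) p) =
      (e k ≫ π k).hom.app (op W) p :=
    congrArg (fun t' : P k ⟶ Y => t'.hom.app (op W) p) (equalizer.lift_ι _ _)
  rw [e1, map_apply' (equalizer.ι a b)]
  show (π k).hom.app _ ((e k).hom.app _ p) = _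
  rw [hp, hy]

/-- concrete quasi-separatedness -/
def QSc (B : Sheaf J (Type u)) : Prop :=
  ∀ (Y Z : Sheaf J (Type u)) (a : Y ⟶ B) (b : Z ⟶ B), IsQcObject Y → IsQcObject Z →
    IsQcObject (pullback a b)

lemma qsc_of_isQS {B : Sheaf J (Type u)} (h : ToposFin.IsQS B) : QSc B :=
  fun Y Z a b hY hZ => (isQC_iff _).1 (h Y Z a b ((isQC_iff _).2 hY) ((isQC_iff _).2 hZ))

/-- equalizers of maps out of quasi-compact objects are quasi-compact -/
def EqQ (X : Sheaf J (Type u)) : Prop :=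
  ∀ (Y : Sheaf J (Type u)) (a b : Y ⟶ X), IsQcObject Y → IsQcObject (equalizer a b)

lemma eq_base_cond {𝒞 : Type*} [Category 𝒞] {E Q Y' Y B : 𝒞} (ι : E ⟶ Q) (p₁ p₂ : Q ⟶ Y')
    (p : Y' ⟶ Y) (a b : Y ⟶ B) (c1 : p₁ ≫ p ≫ a = p₂ ≫ p ≫ b) (c2 : ι ≫ p₁ = ι ≫ p₂) :
    (ι ≫ p₁ ≫ p) ≫ a = (ι ≫ p₁ ≫ p) ≫ b := by
  calc (ι ≫ p₁ ≫ p) ≫ a = ι ≫ (p₁ ≫ p ≫ a) := by simp only [Category.assoc]
    _ = ι ≫ (p₂ ≫ p ≫ b) := by rw [c1]
    _ = (ι ≫ p₂) ≫ p ≫ b := by simp only [Category.assoc]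
    _ = (ι ≫ p₁) ≫ p ≫ b := by rw [c2]
    _ = (ι ≫ p₁ ≫ p) ≫ b := by simp only [Category.assoc]

theorem eqQ_base (hA : Alg S₀) {B : Sheaf J (Type u)} (hB : QSc B) : EqQ B := by
  intro Y a b hY
  obtain ⟨κ, hfin, F, π, hF, hπ⟩ := gen_finite hA hY
  haveI := hfin
  let E : κ → Sheaf J (Type u) := fun k =>
    equalizer (pullback.fst (π k ≫ a) (π k ≫ b)) (pullback.snd (π k ≫ a) (π k ≫ b))
  have hE : ∀ k, IsQcObject (E k) := fun k =>
    qc_equalizer_of_mem hA (hB _ _ _ _ (hA.qc _ (hF k)) (hA.qc _ (hF k))) (hF k) _ _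
  let m : ∀ k, E k ⟶ equalizer a b := fun k =>
    equalizer.lift (equalizer.ι (pullback.fst (π k ≫ a) (π k ≫ b))
      (pullback.snd (π k ≫ a) (π k ≫ b)) ≫ pullback.fst (π k ≫ a) (π k ≫ b) ≫ π k)
      (eq_base_cond _ _ _ _ _ _ (pullback.condition (f := π k ≫ a) (g := π k ≫ b))
        (equalizer.condition _ _))
  refine qc_of_finite_cover E m ?_ hE
  rw [js_iff_loc]
  intro V ε
  refine ((js_iff_loc π).1 hπ V ((equalizer.ι a b).hom.app (op V) ε)).mono (fun W r hr => ?_)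
  obtain ⟨k, y, hy⟩ := hr
  have hab : (π k ≫ a).hom.app (op W) y = (π k ≫ b).hom.app (op W) y := by
    show a.hom.app _ ((π k).hom.app _ y) = b.hom.app _ ((π k).hom.app _ y)
    rw [hy, map_apply' a, map_apply' b, sec_eq_cond]
  obtain ⟨q, hq1, hq2⟩ := sec_pullback (π k ≫ a) (π k ≫ b) y y hab
  obtain ⟨e, he⟩ := sec_eq (pullback.fst (π k ≫ a) (π k ≫ b)) (pullback.snd (π k ≫ a) (π k ≫ b)) q
    (hq1.trans hq2.symm)
  refine ⟨k, e, sec_eq_ext a b _ _ ?_⟩
  have e1 : (equalizer.ι a b).hom.app (op W) ((m k).hom.app (op W) e) =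
      (equalizer.ι (pullback.fst (π k ≫ a) (π k ≫ b)) (pullback.snd (π k ≫ a) (π k ≫ b)) ≫
        pullback.fst (π k ≫ a) (π k ≫ b) ≫ π k).hom.app (op W) e :=
    congrArg (fun t' : E k ⟶ Y => t'.hom.app (op W) e) (equalizer.lift_ι _ _)
  rw [e1, map_apply' (equalizer.ι a b)]
  show (π k).hom.app _ ((pullback.fst (π k ≫ a) (π k ≫ b)).hom.app _
    ((equalizer.ι (pullback.fst (π k ≫ a) (π k ≫ b))
      (pullback.snd (π k ≫ a) (π k ≫ b))).hom.app _ e)) = _
  rw [he, hq1, hy]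

/-! ### Pieces of a quasi-compact object over a coproduct -/

lemma pb_fst_inj {κ : Type u} (T : κ → Sheaf J (Type u)) {Y : Sheaf J (Type u)} (c : Y ⟶ cop T)
    (k : κ) {V : C} (α α' : (pullback c (inj T k)).obj.obj (op V))
    (h : (pullback.fst c (inj T k)).hom.app (op V) α =
      (pullback.fst c (inj T k)).hom.app (op V) α') : α = α' := by
  refine sec_isPullback_ext (IsPullback.of_hasPullback c (inj T k)) α α' h ?_
  apply inj_injective T k
  rw [← sec_pb_cond, ← sec_pb_cond, h]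

theorem qc_piece {κ : Type u} (T : κ → Sheaf J (Type u)) {Y : Sheaf J (Type u)}
    (hY : IsQcObject Y) (c : Y ⟶ cop T) (k₀ : κ) : IsQcObject (pullback c (inj T k₀)) := by
  classical
  intro I L f hf
  let L' : I ⊕ {k : κ // k ≠ k₀} → Sheaf J (Type u) :=
    Sum.elim L (fun k => pullback c (inj T k.1))
  let f' : ∀ i, L' i ⟶ Y := fun i =>
    Sum.rec (motive := fun i => L' i ⟶ Y) (fun i => f i ≫ pullback.fst c (inj T k₀))
      (fun k => pullback.fst c (inj T k.1)) i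
  have hjs : JointlySurjective f' := by
    rw [js_iff_loc]
    intro V y
    refine (inj_surj T (c.hom.app (op V) y)).bind (fun W r hr => ?_)
    obtain ⟨k, t, ht⟩ := hr
    obtain ⟨z, hz1, -⟩ := sec_pullback c (inj T k) (Y.obj.map r.op y) t
      ((map_apply' c r.op y).trans ht.symm)
    by_cases hk : k = k₀
    · subst hk
      refine ((js_iff_loc f).1 hf W z).mono (fun W' r' hr' => ?_)
      obtain ⟨i, ℓ, hℓ⟩ := hr'
      refine ⟨Sum.inl i, ℓ, ?_⟩
      show (pullback.fst c (inj T k)).hom.app _ ((f i).hom.app _ ℓ) = _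
      rw [hℓ, map_apply' (pullback.fst c (inj T k)), hz1, map_comp']
    · refine Loc.of_forall (fun W' r' =>
        ⟨Sum.inr ⟨k, hk⟩, (pullback c (inj T k)).obj.map r'.op z, ?_⟩)
      show (pullback.fst c (inj T k)).hom.app _ _ = _
      rw [map_apply' (pullback.fst c (inj T k)), hz1, map_comp']
  obtain ⟨t', ht'⟩ := hY _ L' f' hjs
  refine ⟨t'.toLeft, ?_⟩
  rw [js_iff_loc]
  intro V α
  refine ((js_iff_loc _).1 ht' V ((pullback.fst c (inj T k₀)).hom.app (op V) α)).bind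
    (fun W r hr => ?_)
  obtain ⟨⟨i, hi⟩, ℓ, hℓ⟩ := hr
  rcases i with i | k
  · refine Loc.of_forall (fun W' r' =>
      ⟨⟨i, Finset.mem_toLeft.2 hi⟩, (L i).obj.map r'.op ℓ, ?_⟩)
    have hℓ' : (pullback.fst c (inj T k₀)).hom.app (op W) ((f i).hom.app (op W) ℓ) =
        Y.obj.map r.op ((pullback.fst c (inj T k₀)).hom.app (op V) α) := hℓ
    apply pb_fst_inj T c k₀
    rw [map_apply' (f i), map_apply' (pullback.fst c (inj T k₀)), hℓ',
      map_apply' (pullback.fst c (inj T k₀)), map_comp']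
  · have hℓ' : (pullback.fst c (inj T k.1)).hom.app (op W) ℓ =
        Y.obj.map r.op ((pullback.fst c (inj T k₀)).hom.app (op V) α) := hℓ
    have h1 : (inj T k.1).hom.app (op W) ((pullback.snd c (inj T k.1)).hom.app (op W) ℓ) =
        (inj T k₀).hom.app (op W) ((T k₀).obj.map r.op
          ((pullback.snd c (inj T k₀)).hom.app (op V) α)) := by
      rw [← sec_pb_cond, hℓ', map_apply' c, sec_pb_cond, map_apply' (inj T k₀)]
    have hbot : (⊥ : Sieve W) ∈ J W := inj_disjoint T k.2 _ _ h1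
    exact ⟨⊥, hbot, fun W' r' hr' => hr'.elim⟩

lemma chain_cond {𝒞 : Type*} [Category 𝒞] {E B A Y T Tk : 𝒞} (ι : E ⟶ B) (fB : B ⟶ A)
    (sB : B ⟶ Tk) (fA : A ⟶ Y) (sA : A ⟶ Tk) (j : Tk ⟶ T) (a b : Y ⟶ T)
    (c1 : fA ≫ a = sA ≫ j) (c2 : fB ≫ fA ≫ b = sB ≫ j) (c3 : ι ≫ fB ≫ sA = ι ≫ sB) :
    (ι ≫ fB ≫ fA) ≫ a = (ι ≫ fB ≫ fA) ≫ b := by
  calc (ι ≫ fB ≫ fA) ≫ a = ι ≫ fB ≫ (fA ≫ a) := by simp only [Category.assoc]
    _ = ι ≫ fB ≫ (sA ≫ j) := by rw [c1]
    _ = (ι ≫ fB ≫ sA) ≫ j := by simp only [Category.assoc]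
    _ = (ι ≫ sB) ≫ j := by rw [c3]
    _ = ι ≫ (fB ≫ fA ≫ b) := by rw [Category.assoc, ← c2]
    _ = (ι ≫ fB ≫ fA) ≫ b := by simp only [Category.assoc]

theorem eqQ_cop (hA : Alg S₀) {κ : Type u} [Finite κ] (T : κ → Sheaf J (Type u))
    (hT : ∀ k, T k ∈ S₀) : EqQ (cop T) := by
  intro Y a b hY
  have hA' : ∀ k, IsQcObject (pullback a (inj T k)) := fun k => qc_piece T hY a k
  have hB' : ∀ k, IsQcObject (pullback (pullback.fst a (inj T k) ≫ b) (inj T k)) :=
    fun k => qc_piece T (hA' k) _ k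
  let E : κ → Sheaf J (Type u) := fun k =>
    equalizer (pullback.fst (pullback.fst a (inj T k) ≫ b) (inj T k) ≫ pullback.snd a (inj T k))
      (pullback.snd (pullback.fst a (inj T k) ≫ b) (inj T k))
  have hE : ∀ k, IsQcObject (E k) := fun k => qc_equalizer_of_mem hA (hB' k) (hT k) _ _
  let m : ∀ k, E k ⟶ equalizer a b := fun k =>
    equalizer.lift (equalizer.ι
      (pullback.fst (pullback.fst a (inj T k) ≫ b) (inj T k) ≫ pullback.snd a (inj T k))
      (pullback.snd (pullback.fst a (inj T k) ≫ b) (inj T k)) ≫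
        pullback.fst (pullback.fst a (inj T k) ≫ b) (inj T k) ≫ pullback.fst a (inj T k))
      (chain_cond _ _ _ _ _ _ _ _ (pullback.condition (f := a) (g := inj T k))
        (pullback.condition (f := pullback.fst a (inj T k) ≫ b) (g := inj T k))
        (equalizer.condition
            (pullback.fst (pullback.fst a (inj T k) ≫ b) (inj T k) ≫ pullback.snd a (inj T k))
            (pullback.snd (pullback.fst a (inj T k) ≫ b) (inj T k))))
  refine qc_of_finite_cover E m ?_ hE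
  rw [js_iff_loc]
  intro V ε
  refine (inj_surj T (a.hom.app (op V) ((equalizer.ι a b).hom.app (op V) ε))).mono
    (fun W r hr => ?_)
  obtain ⟨k, t, ht⟩ := hr
  have hya : a.hom.app (op W) (Y.obj.map r.op ((equalizer.ι a b).hom.app (op V) ε)) =
      (inj T k).hom.app (op W) t := (map_apply' a r.op _).trans ht.symm
  obtain ⟨zA, hzA1, hzA2⟩ := sec_pullback a (inj T k) _ t hya
  have hyb : (pullback.fst a (inj T k) ≫ b).hom.app (op W) zA = (inj T k).hom.app (op W) t := by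
    show b.hom.app _ ((pullback.fst a (inj T k)).hom.app _ zA) = _
    rw [hzA1, map_apply' b, ← sec_eq_cond, ← map_apply' a]
    exact hya
  obtain ⟨zB, hzB1, hzB2⟩ := sec_pullback (pullback.fst a (inj T k) ≫ b) (inj T k) zA t hyb
  have huv : (pullback.fst (pullback.fst a (inj T k) ≫ b) (inj T k) ≫
      pullback.snd a (inj T k)).hom.app (op W) zB =
      (pullback.snd (pullback.fst a (inj T k) ≫ b) (inj T k)).hom.app (op W) zB := by
    show (pullback.snd a (inj T k)).hom.app _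
      ((pullback.fst (pullback.fst a (inj T k) ≫ b) (inj T k)).hom.app _ zB) = _
    rw [hzB1, hzA2, hzB2]
  obtain ⟨e, he⟩ := sec_eq _ _ zB huv
  refine ⟨k, e, sec_eq_ext a b _ _ ?_⟩
  have e1 : (equalizer.ι a b).hom.app (op W) ((m k).hom.app (op W) e) =
      (equalizer.ι
      (pullback.fst (pullback.fst a (inj T k) ≫ b) (inj T k) ≫ pullback.snd a (inj T k))
      (pullback.snd (pullback.fst a (inj T k) ≫ b) (inj T k)) ≫
        pullback.fst (pullback.fst a (inj T k) ≫ b) (inj T k) ≫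
          pullback.fst a (inj T k)).hom.app (op W) e :=
    congrArg (fun t' : E k ⟶ Y => t'.hom.app (op W) e) (equalizer.lift_ι _ _)
  rw [e1, map_apply' (equalizer.ι a b)]
  show (pullback.fst a (inj T k)).hom.app _
    ((pullback.fst (pullback.fst a (inj T k) ≫ b) (inj T k)).hom.app _
      ((equalizer.ι
        (pullback.fst (pullback.fst a (inj T k) ≫ b) (inj T k) ≫ pullback.snd a (inj T k))
        (pullback.snd (pullback.fst a (inj T k) ≫ b) (inj T k))).hom.app _ e)) = _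
  rw [he, hzB1, hzA1]

/-! ### Sectionwise surjections -/

lemma epi_of_surj {K X : Sheaf J (Type u)} (π : K ⟶ X)
    (h : ∀ (V : C) (x : X.obj.obj (op V)), ∃ k : K.obj.obj (op V), π.hom.app (op V) k = x) :
    Epi π :=
  epi_of_loc π (fun V x => Loc.of_forall (fun W g => h W (X.obj.map g.op x)))

lemma epi_eq_lift {Y' P E₁ T : Sheaf J (Type u)} (c d : Y' ⟶ P) (ι₁ : E₁ ⟶ Y') (a b : E₁ ⟶ T)
    (h₁ : ∀ (V : C) (y : Y'.obj.obj (op V)), c.hom.app (op V) y = d.hom.app (op V) y →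
      ∃ e₁ : E₁.obj.obj (op V), ι₁.hom.app (op V) e₁ = y)
    (h₂ : ∀ (V : C) (e₁ : E₁.obj.obj (op V)),
      c.hom.app (op V) (ι₁.hom.app (op V) e₁) = d.hom.app (op V) (ι₁.hom.app (op V) e₁) →
      a.hom.app (op V) e₁ = b.hom.app (op V) e₁)
    (hw : (equalizer.ι a b ≫ ι₁) ≫ c = (equalizer.ι a b ≫ ι₁) ≫ d) :
    Epi (equalizer.lift (equalizer.ι a b ≫ ι₁) hw) := by
  apply epi_of_surj
  intro V ε
  have hcd := sec_eq_cond c d ε
  obtain ⟨e₁, he₁⟩ := h₁ V _ hcd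
  have hab : a.hom.app (op V) e₁ = b.hom.app (op V) e₁ := by
    apply h₂
    rw [he₁]
    exact hcd
  obtain ⟨e₂, he₂⟩ := sec_eq a b e₁ hab
  refine ⟨e₂, sec_eq_ext c d _ _ ?_⟩
  have e1 : (equalizer.ι c d).hom.app (op V)
      ((equalizer.lift (equalizer.ι a b ≫ ι₁) hw).hom.app (op V) e₂) =
      ι₁.hom.app (op V) ((equalizer.ι a b).hom.app (op V) e₂) :=
    congrArg (fun t' : equalizer a b ⟶ Y' => t'.hom.app (op V) e₂) (equalizer.lift_ι _ hw)
  rw [e1, he₂, he₁]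

lemma epi_lift_of_surj {P X Y Z Q : Sheaf J (Type u)} {fst : P ⟶ X} {snd : P ⟶ Y} {f : X ⟶ Z}
    {g : Y ⟶ Z} (hP : IsPullback fst snd f g) (p₁ : Q ⟶ X) (p₂ : Q ⟶ Y)
    (hQ : ∀ (V : C) (x : X.obj.obj (op V)) (y : Y.obj.obj (op V)),
      f.hom.app (op V) x = g.hom.app (op V) y →
      ∃ q : Q.obj.obj (op V), p₁.hom.app (op V) q = x ∧ p₂.hom.app (op V) q = y)
    (hw : (equalizer.ι (p₁ ≫ f) (p₂ ≫ g) ≫ p₁) ≫ f = (equalizer.ι (p₁ ≫ f) (p₂ ≫ g) ≫ p₂) ≫ g) :
    Epi (hP.lift (equalizer.ι (p₁ ≫ f) (p₂ ≫ g) ≫ p₁) (equalizer.ι (p₁ ≫ f) (p₂ ≫ g) ≫ p₂) hw) := by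
  apply epi_of_surj
  intro V p
  have hfg : f.hom.app (op V) (fst.hom.app (op V) p) = g.hom.app (op V) (snd.hom.app (op V) p) :=
    congrArg (fun t' : P ⟶ Z => t'.hom.app (op V) p) hP.w
  obtain ⟨q, hq1, hq2⟩ := hQ V _ _ hfg
  have hq : (p₁ ≫ f).hom.app (op V) q = (p₂ ≫ g).hom.app (op V) q := by
    show f.hom.app _ (p₁.hom.app _ q) = g.hom.app _ (p₂.hom.app _ q)
    rw [hq1, hq2]
    exact hfg
  obtain ⟨e, he⟩ := sec_eq (p₁ ≫ f) (p₂ ≫ g) q hq
  refine ⟨e, sec_isPullback_ext hP _ _ ?_ ?_⟩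
  · have e1 : fst.hom.app (op V) ((hP.lift (equalizer.ι (p₁ ≫ f) (p₂ ≫ g) ≫ p₁)
        (equalizer.ι (p₁ ≫ f) (p₂ ≫ g) ≫ p₂) hw).hom.app (op V) e) =
        p₁.hom.app (op V) ((equalizer.ι (p₁ ≫ f) (p₂ ≫ g)).hom.app (op V) e) :=
      congrArg (fun t' : equalizer (p₁ ≫ f) (p₂ ≫ g) ⟶ X => t'.hom.app (op V) e)
        (hP.lift_fst _ _ hw)
    rw [e1, he, hq1]
  · have e1 : snd.hom.app (op V) ((hP.lift (equalizer.ι (p₁ ≫ f) (p₂ ≫ g) ≫ p₁)
        (equalizer.ι (p₁ ≫ f) (p₂ ≫ g) ≫ p₂) hw).hom.app (op V) e) =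
        p₂.hom.app (op V) ((equalizer.ι (p₁ ≫ f) (p₂ ≫ g)).hom.app (op V) e) :=
      congrArg (fun t' : equalizer (p₁ ≫ f) (p₂ ≫ g) ⟶ Y => t'.hom.app (op V) e)
        (hP.lift_snd _ _ hw)
    rw [e1, he, hq2]

/-! ### Quasi-compactness of fibre products -/

theorem qc_isPullback {B : Sheaf J (Type u)} (hB : QSc B) {P X Y Z : Sheaf J (Type u)}
    {fst : P ⟶ X} {snd : P ⟶ Y} {f : X ⟶ Z} {g : Y ⟶ Z} (hP : IsPullback fst snd f g)
    (hX : IsQcObject X) (hY : IsQcObject Y) (hZ : EqQ Z) (s : Z ⟶ B) : IsQcObject P := by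
  have hQ : IsQcObject (pullback (f ≫ s) (g ≫ s)) := hB _ _ _ _ hX hY
  have hE : IsQcObject (equalizer (pullback.fst (f ≫ s) (g ≫ s) ≫ f)
      (pullback.snd (f ≫ s) (g ≫ s) ≫ g)) := hZ _ _ _ hQ
  have hw : (equalizer.ι (pullback.fst (f ≫ s) (g ≫ s) ≫ f) (pullback.snd (f ≫ s) (g ≫ s) ≫ g) ≫
      pullback.fst (f ≫ s) (g ≫ s)) ≫ f =
      (equalizer.ι (pullback.fst (f ≫ s) (g ≫ s) ≫ f) (pullback.snd (f ≫ s) (g ≫ s) ≫ g) ≫
      pullback.snd (f ≫ s) (g ≫ s)) ≫ g := by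
    rw [Category.assoc, Category.assoc]
    exact equalizer.condition _ _
  haveI := epi_lift_of_surj hP (pullback.fst (f ≫ s) (g ≫ s)) (pullback.snd (f ≫ s) (g ≫ s))
    (fun V x y h => sec_pullback (f ≫ s) (g ≫ s) x y (by
      show s.hom.app _ (f.hom.app _ x) = s.hom.app _ (g.hom.app _ y)
      rw [h])) hw
  exact qc_of_epi (hP.lift (equalizer.ι (pullback.fst (f ≫ s) (g ≫ s) ≫ f)
    (pullback.snd (f ≫ s) (g ≫ s) ≫ g) ≫ pullback.fst (f ≫ s) (g ≫ s))
    (equalizer.ι (pullback.fst (f ≫ s) (g ≫ s) ≫ f) (pullback.snd (f ≫ s) (g ≫ s) ≫ g) ≫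
      pullback.snd (f ≫ s) (g ≫ s)) hw) hE

lemma eq_pb_cond {𝒞 : Type*} [Category 𝒞] {E₂ E₁ Y' P X Y : 𝒞} (ι₂ : E₂ ⟶ E₁) (ι₁ : E₁ ⟶ Y')
    (c d : Y' ⟶ P) (fst : P ⟶ X) (snd : P ⟶ Y)
    (hext : ∀ (W : 𝒞) (a b : W ⟶ P), a ≫ fst = b ≫ fst → a ≫ snd = b ≫ snd → a = b)
    (c1 : ι₁ ≫ c ≫ fst = ι₁ ≫ d ≫ fst) (c2 : ι₂ ≫ ι₁ ≫ c ≫ snd = ι₂ ≫ ι₁ ≫ d ≫ snd) :
    (ι₂ ≫ ι₁) ≫ c = (ι₂ ≫ ι₁) ≫ d := by
  refine hext _ _ _ ?_ ?_
  · calc ((ι₂ ≫ ι₁) ≫ c) ≫ fst = ι₂ ≫ (ι₁ ≫ c ≫ fst) := by simp only [Category.assoc]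
      _ = ι₂ ≫ (ι₁ ≫ d ≫ fst) := by rw [c1]
      _ = ((ι₂ ≫ ι₁) ≫ d) ≫ fst := by simp only [Category.assoc]
  · calc ((ι₂ ≫ ι₁) ≫ c) ≫ snd = ι₂ ≫ ι₁ ≫ c ≫ snd := by simp only [Category.assoc]
      _ = ι₂ ≫ ι₁ ≫ d ≫ snd := c2
      _ = ((ι₂ ≫ ι₁) ≫ d) ≫ snd := by simp only [Category.assoc]

theorem eqQ_isPullback {P X Y Z : Sheaf J (Type u)}
    {fst : P ⟶ X} {snd : P ⟶ Y} {f : X ⟶ Z} {g : Y ⟶ Z} (hP : IsPullback fst snd f g)
    (hX : EqQ X) (hY : EqQ Y) : EqQ P := by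
  intro Y' c d hY'
  have hE₁ : IsQcObject (equalizer (c ≫ fst) (d ≫ fst)) := hX _ _ _ hY'
  have hE₂ : IsQcObject (equalizer (equalizer.ι (c ≫ fst) (d ≫ fst) ≫ c ≫ snd)
      (equalizer.ι (c ≫ fst) (d ≫ fst) ≫ d ≫ snd)) := hY _ _ _ hE₁
  have hw := eq_pb_cond (equalizer.ι (equalizer.ι (c ≫ fst) (d ≫ fst) ≫ c ≫ snd)
      (equalizer.ι (c ≫ fst) (d ≫ fst) ≫ d ≫ snd)) (equalizer.ι (c ≫ fst) (d ≫ fst)) c d fst snd
      (fun W a b h1 h2 => hP.hom_ext h1 h2) (equalizer.condition (c ≫ fst) (d ≫ fst))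
      (equalizer.condition (equalizer.ι (c ≫ fst) (d ≫ fst) ≫ c ≫ snd)
        (equalizer.ι (c ≫ fst) (d ≫ fst) ≫ d ≫ snd))
  haveI := epi_eq_lift c d (equalizer.ι (c ≫ fst) (d ≫ fst))
    (equalizer.ι (c ≫ fst) (d ≫ fst) ≫ c ≫ snd) (equalizer.ι (c ≫ fst) (d ≫ fst) ≫ d ≫ snd)
    (fun V y h => sec_eq (c ≫ fst) (d ≫ fst) y (by
      show fst.hom.app _ (c.hom.app _ y) = fst.hom.app _ (d.hom.app _ y)
      rw [h]))
    (fun V e₁ h => by
      show snd.hom.app _ (c.hom.app _ ((equalizer.ι (c ≫ fst) (d ≫ fst)).hom.app _ e₁)) =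
        snd.hom.app _ (d.hom.app _ ((equalizer.ι (c ≫ fst) (d ≫ fst)).hom.app _ e₁))
      rw [h]) hw
  exact qc_of_epi (equalizer.lift (equalizer.ι (equalizer.ι (c ≫ fst) (d ≫ fst) ≫ c ≫ snd)
      (equalizer.ι (c ≫ fst) (d ≫ fst) ≫ d ≫ snd) ≫ equalizer.ι (c ≫ fst) (d ≫ fst)) hw) hE₂

/-! ### The class of coherent objects over a quasi-separated base -/

/-- quasi-compact, with quasi-compact equalizers, and with a map to `B` -/
def KB (B X : Sheaf J (Type u)) : Prop :=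
  IsQcObject X ∧ EqQ X ∧ Nonempty (X ⟶ B)

theorem kb_pullback {B : Sheaf J (Type u)} (hB : QSc B) {P X Y Z : Sheaf J (Type u)}
    {fst : P ⟶ X} {snd : P ⟶ Y} {f : X ⟶ Z} {g : Y ⟶ Z} (hP : IsPullback fst snd f g)
    (hX : KB B X) (hY : KB B Y) (hZ : KB B Z) : KB B P := by
  obtain ⟨s⟩ := hZ.2.2
  obtain ⟨sX⟩ := hX.2.2
  exact ⟨qc_isPullback hB hP hX.1 hY.1 hZ.2.1 s, eqQ_isPullback hP hX.2.1 hY.2.1, ⟨fst ≫ sX⟩⟩

theorem kb_iso {B : Sheaf J (Type u)} (hB : QSc B) {X Y : Sheaf J (Type u)} (e : X ≅ Y)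
    (h : KB B X) : KB B Y :=
  kb_pullback hB (IsPullback.of_horiz_isIso (fst := e.inv) (snd := e.inv) (f := 𝟙 X) (g := 𝟙 X)
    ⟨rfl⟩) h h h

theorem kb_refine (hA : Alg S₀) {B X F : Sheaf J (Type u)} (g : F ⟶ X) [Epi g] (hX : KB B X) :
    ∃ (X' : Sheaf J (Type u)) (k : X' ⟶ F), KB B X' ∧ Epi (k ≫ g) := by
  obtain ⟨κ, hfin, G, π, hG, hπ⟩ := gen_finite_over hA g hX.1
  haveI := hfin
  obtain ⟨sX⟩ := hX.2.2
  refine ⟨cop G, copDesc π, ⟨?_, eqQ_cop hA G hG, ⟨copDesc π ≫ g ≫ sX⟩⟩, ?_⟩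
  · refine qc_of_finite_cover G (inj G) ?_ (fun k => hA.qc _ (hG k))
    rw [js_iff_loc]
    intro V x
    exact inj_surj G x
  · apply epi_of_loc
    intro V x
    refine ((js_iff_loc _).1 hπ V x).mono (fun W r hr => ?_)
    obtain ⟨k, y, hy⟩ := hr
    refine ⟨(inj G k).hom.app (op W) y, ?_⟩
    have e1 : (copDesc π).hom.app (op W) ((inj G k).hom.app (op W) y) = (π k).hom.app (op W) y :=
      congrArg (fun t' : G k ⟶ F => t'.hom.app (op W) y) (inj_desc π k)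
    show g.hom.app _ ((copDesc π).hom.app _ _) = _
    rw [e1]
    exact hy

theorem cclass_KB (hA : Alg S₀) {B : Sheaf J (Type u)} (hB : QSc B) : CClass (KB B) where
  refine := fun X F g hX hg => by
    haveI := hg
    exact kb_refine hA g hX
  nerve := fun X' X f hX' hX n =>
    nerve_mem (KB B) (fun _ _ e h => kb_iso hB e h)
      (fun hP hX hY hZ => kb_pullback hB hP hX hY hZ) f hX' hX n

section Colim

variable {Λ : Type u} [SmallCategory Λ] [IsFiltered Λ]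

theorem homCommutes_KB (hA : Alg S₀) {B : Sheaf J (Type u)} (hB : QSc B) (X : Sheaf J (Type u))
    (hX : KB B X) (D : Λ ⥤ Sheaf J AddCommGrpCat.{u}) :
    HomCommutes ((Φ J).obj X) D (colimit.cocone D) := by
  have hc := locColim_colimit D
  constructor
  · intro t
    refine hom_surj hc (𝟙 X) inferInstance hX.1 (fun F g hg => ?_) t
    haveI := hg
    obtain ⟨X', k, hX', hk⟩ := kb_refine hA g hX
    refine ⟨X', k, hk, fun i s hs => ?_⟩
    have hW : KB B ((Arrow.mk ((k ≫ g) ≫ 𝟙 X)).cechNerve.obj (op ⦋1⦌)) :=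
      (cclass_KB hA hB).nerve _ _ _ hX' hX 1
    exact hom_inj_of_qc hc _ hW.1 i s hs
  · intro i s hs
    exact hom_inj_of_qc hc X hX.1 i s hs

/-- cohomology of a coherent object of an algebraic topos commutes with filtered colimits -/
theorem main_coh (hA : Alg S₀) {B : Sheaf J (Type u)} (hqc : IsQcObject B) (hqs : QSc B) (q : ℕ)
    (D : Λ ⥤ Sheaf J AddCommGrpCat.{u}) :
    PreservesColimit D (extFunctorObj ((Φ J).obj B) q) :=
  core (cclass_KB hA hqs) (fun Y hY D' => homCommutes_KB hA hqs Y hY D') B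
    ⟨hqc, eqQ_base hA hqs, ⟨𝟙 B⟩⟩ q D

end Colim

/-- the free abelian sheaf on a representable presheaf is the free abelian sheaf on the associated
sheaf of sets -/
noncomputable def zuIso (W : C) : RpushColim.ZU J W ≅ (Φ J).obj (ToposFin.eps J W) :=
  (Adjunction.leftAdjointUniq (SieveCoh.freeAdj J)
    (((sheafificationAdjunction J (Type u)).comp (adj J) :
      presheafToSheaf J (Type u) ⋙ Φ J ⊣ SieveCoh.forgetSh J))).app (yoneda.obj W)


end Groth.Agent.H67.CohTopos
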