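import Mathlib

/-!
# Helper library (helper67): cokernel of a conjugate natural transformation between equivalences
(squad lemma (C) for helper53 / S11902)
-/

set_option autoImplicit false

open CategoryTheory CategoryTheory.Limits

namespace Groth.Agent.H67.CokConj

theorem nonempty_cokernel_conjugate_iso {𝒜 : Type*} [Category 𝒜] [Abelian 𝒜]
    {L₁ L₂ R₁ R₂ : 𝒜 ⥤ 𝒜}
    (adj₁ : L₁ ⊣ R₁) (adj₂ : L₂ ⊣ R₂) [L₁.IsEquivalence] [L₂.IsEquivalence] (τ : L₂ ⟶ L₁) (ω : 𝒜) :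
    Nonempty (cokernel ((conjugateEquiv adj₁ adj₂ τ).app ω) ≅
      R₂.obj (cokernel (τ.app (R₁.obj ω)))) := by
  haveI : R₁.IsEquivalence := adj₁.isEquivalence_right_of_isEquivalence_left
  haveI : R₂.IsEquivalence := adj₂.isEquivalence_right_of_isEquivalence_left
  haveI : IsIso (adj₂.unit.app (R₁.obj ω)) := inferInstance
  haveI : IsIso (adj₁.counit.app ω) := inferInstance
  have e0 : (conjugateEquiv adj₁ adj₂ τ).app ω =
      adj₂.unit.app (R₁.obj ω) ≫ (R₂.map (τ.app (R₁.obj ω)) ≫ R₂.map (adj₁.counit.app ω)) :=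
    conjugateEquiv_apply_app adj₁ adj₂ τ ω
  have e1 : cokernel ((conjugateEquiv adj₁ adj₂ τ).app ω) ≅
      cokernel (adj₂.unit.app (R₁.obj ω) ≫
        (R₂.map (τ.app (R₁.obj ω)) ≫ R₂.map (adj₁.counit.app ω))) :=
    cokernelIsoOfEq e0
  have e2 := cokernelEpiComp (adj₂.unit.app (R₁.obj ω))
    (R₂.map (τ.app (R₁.obj ω)) ≫ R₂.map (adj₁.counit.app ω))
  have e3 := cokernelCompIsIso (R₂.map (τ.app (R₁.obj ω))) (R₂.map (adj₁.counit.app ω))
  have e4 := PreservesCokernel.iso R₂ (τ.app (R₁.obj ω))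
  exact ⟨e1 ≪≫ e2 ≪≫ e3 ≪≫ e4.symm⟩

end Groth.Agent.H67.CokConj
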