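import Groth.Agent.H67.ColimSec

/-!
# Helper library (helper67): Čech acyclicity passes to filtered colimits; cohomology of objects of
a "coherent" class commutes with filtered colimits
-/

set_option autoImplicit false
universe u

open CategoryTheory CategoryTheory.Limits Opposite Abelian

namespace Groth.Agent.H67.ColimSec

open Groth.Agent.H67.Cech Groth.Agent.H67.SieveCoh

variable {C : Type u} [SmallCategory C] {J : GrothendieckTopology C}
  {Λ : Type u} [SmallCategory Λ] [IsFiltered Λ] (D : Λ ⥤ Sheaf J AddCommGrpCat.{u})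
  [HasPullbacks C]

section CechColim

variable {V : C} {ι₀ : Type u} (Y : ι₀ → Over V)

/-- restriction to `Over V` -/
abbrev Rr (V : C) (G : Sheaf J AddCommGrpCat.{u}) : (Over V)ᵒᵖ ⥤ AddCommGrpCat.{u} :=
  (Over.forget V).op ⋙ G.obj

abbrev ρr (V : C) {G G' : Sheaf J AddCommGrpCat.{u}} (φ : G ⟶ G') : Rr V G ⟶ Rr V G' :=
  Functor.whiskerLeft (Over.forget V).op φ.hom

/-- the induced map on Čech cochains -/
noncomputable abbrev cmapF {G G' : Sheaf J AddCommGrpCat.{u}} (φ : G ⟶ G') (m : ℕ) :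
    (∏ᶜ (term Y (Rr V G) m) : AddCommGrpCat.{u}) ⟶ ∏ᶜ (term Y (Rr V G') m) :=
  Limits.Pi.map (fun a => (ρr V φ).app (op (∏ᶜ (Y ∘ a))))

lemma π_cmapF {G G' : Sheaf J AddCommGrpCat.{u}} (φ : G ⟶ G') (m : ℕ) (a : Fin (m + 1) → ι₀)
    (z : (∏ᶜ (term Y (Rr V G) m) : AddCommGrpCat.{u})) :
    (Limits.Pi.π (term Y (Rr V G') m) a).hom ((cmapF Y φ m).hom z) =
      (φ.hom.app (op (∏ᶜ (Y ∘ a)).left)).hom ((Limits.Pi.π (term Y (Rr V G) m) a).hom z) :=
  congrArg (fun ψ => ψ.hom z)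
    (Limits.Pi.map_π (fun a => (ρr V φ).app (op (∏ᶜ (Y ∘ a)))) a)

lemma cmapF_comp {G G' G'' : Sheaf J AddCommGrpCat.{u}} (φ : G ⟶ G') (ψ : G' ⟶ G'') (m : ℕ)
    (z : (∏ᶜ (term Y (Rr V G) m) : AddCommGrpCat.{u})) :
    (cmapF Y ψ m).hom ((cmapF Y φ m).hom z) = (cmapF Y (φ ≫ ψ) m).hom z := by
  apply pi_ext
  intro a
  rw [π_cmapF, π_cmapF, π_cmapF]
  rfl

lemma cmapF_d {G G' : Sheaf J AddCommGrpCat.{u}} (φ : G ⟶ G') (m : ℕ)
    (z : (∏ᶜ (term Y (Rr V G) m) : AddCommGrpCat.{u})) :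
    ((cx Y (Rr V G')).d m (m + 1)).hom ((cmapF Y φ m).hom z) =
      (cmapF Y φ (m + 1)).hom (((cx Y (Rr V G)).d m (m + 1)).hom z) :=
  congrArg (fun ψ => ψ.hom z) (((cechComplexFunctor Y).map (ρr V φ)).comm m (m + 1))

variable [Finite ι₀]

lemma lift_cochain (c : Cocone D) (m : ℕ)
    (hsec : ∀ a : Fin (m + 1) → ι₀, SecCommutes D c (∏ᶜ (Y ∘ a)).left)
    (z : (∏ᶜ (term Y (Rr V c.pt) m) : AddCommGrpCat.{u})) :
    ∃ (i : Λ) (zi : (∏ᶜ (term Y (Rr V (D.obj i)) m) : AddCommGrpCat.{u})),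
      (cmapF Y (c.ι.app i) m).hom zi = z := by
  choose ia sa hsa using fun a =>
    (hsec a).surj ((Limits.Pi.π (term Y (Rr V c.pt) m) a).hom z)
  obtain ⟨i, hi⟩ := exists_common_obj ia
  refine ⟨i, mkPi (term Y (Rr V (D.obj i)) m)
    (fun a => ((D.map (hi a).some).hom.app (op (∏ᶜ (Y ∘ a)).left)).hom (sa a)), ?_⟩
  apply pi_ext
  intro a
  rw [π_cmapF, π_mkPi]
  exact (cocone_w_apply D c (hi a).some _ (sa a)).trans (hsa a)

lemma kill_cochain (c : Cocone D) (m : ℕ)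
    (hsec : ∀ a : Fin (m + 1) → ι₀, SecCommutes D c (∏ᶜ (Y ∘ a)).left) (i : Λ)
    (zi : (∏ᶜ (term Y (Rr V (D.obj i)) m) : AddCommGrpCat.{u}))
    (h : (cmapF Y (c.ι.app i) m).hom zi = 0) :
    ∃ (j : Λ) (f : i ⟶ j), (cmapF Y (D.map f) m).hom zi = 0 := by
  have hk : ∀ a : Fin (m + 1) → ι₀, ∃ (j : Λ) (f : i ⟶ j),
      ((D.map f).hom.app (op (∏ᶜ (Y ∘ a)).left)).hom
        ((Limits.Pi.π (term Y (Rr V (D.obj i)) m) a).hom zi) = 0 := by
    intro a
    apply (hsec a).inj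
    have h1 := congrArg (fun w => (Limits.Pi.π (term Y (Rr V c.pt) m) a).hom w) h
    have h2 : (Limits.Pi.π (term Y (Rr V c.pt) m) a).hom ((cmapF Y (c.ι.app i) m).hom zi) = 0 :=
      h1.trans (map_zero _)
    rw [π_cmapF] at h2
    exact h2
  obtain ⟨j, f, hf⟩ := exists_common i
    (fun (a : Fin (m + 1) → ι₀) j f => ((D.map f).hom.app (op (∏ᶜ (Y ∘ a)).left)).hom
        ((Limits.Pi.π (term Y (Rr V (D.obj i)) m) a).hom zi) = 0)
    (fun a j j' f g hP => by
      have e := map_comp_apply D f g (op (∏ᶜ (Y ∘ a)).left)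
        ((Limits.Pi.π (term Y (Rr V (D.obj i)) m) a).hom zi)
      refine e.trans ?_
      have hP' : (D.map f).hom.app (op (∏ᶜ (Y ∘ a)).left)
          ((Limits.Pi.π (term Y (Rr V (D.obj i)) m) a).hom zi) = 0 := hP
      rw [hP', map_zero]) hk
  refine ⟨j, f, pi_ext (fun a => ?_)⟩
  rw [π_cmapF, hf a]
  exact (map_zero _).symm

theorem cech_exact_colim (c : Cocone D)
    (hsec : ∀ (m : ℕ) (a : Fin (m + 1) → ι₀), SecCommutes D c (∏ᶜ (Y ∘ a)).left) (n : ℕ)
    (hD : ∀ i, IsZero ((cx Y (Rr V (D.obj i))).homology (n + 1))) :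
    IsZero ((cx Y (Rr V c.pt)).homology (n + 1)) := by
  have hex : ∀ (i : Λ) (z : (∏ᶜ (term Y (Rr V (D.obj i)) (n + 1)) : AddCommGrpCat.{u})),
      ((cx Y (Rr V (D.obj i))).d (n + 1) (n + 2)).hom z = 0 →
      ∃ w : (∏ᶜ (term Y (Rr V (D.obj i)) n) : AddCommGrpCat.{u}),
        ((cx Y (Rr V (D.obj i))).d n (n + 1)).hom w = z := by
    intro i
    have h := hD i
    rw [← HomologicalComplex.exactAt_iff_isZero_homology,
      HomologicalComplex.exactAt_iff' _ n (n + 1) (n + 2) (CochainComplex.prev_nat_succ n)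
        (CochainComplex.next ℕ (n + 1)), ShortComplex.ab_exact_iff] at h
    exact h
  rw [← HomologicalComplex.exactAt_iff_isZero_homology,
    HomologicalComplex.exactAt_iff' _ n (n + 1) (n + 2) (CochainComplex.prev_nat_succ n)
      (CochainComplex.next ℕ (n + 1)), ShortComplex.ab_exact_iff]
  intro z hz
  have hz' : ((cx Y (Rr V c.pt)).d (n + 1) (n + 2)).hom z = 0 := hz
  obtain ⟨i, zi, hzi⟩ := lift_cochain D Y c (n + 1) (hsec (n + 1)) z
  have h1 : (cmapF Y (c.ι.app i) (n + 2)).hom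
      (((cx Y (Rr V (D.obj i))).d (n + 1) (n + 2)).hom zi) = 0 := by
    rw [← cmapF_d, hzi]
    exact hz'
  obtain ⟨j, f, hf⟩ := kill_cochain D Y c (n + 2) (hsec (n + 2)) i _ h1
  have h2 : ((cx Y (Rr V (D.obj j))).d (n + 1) (n + 2)).hom
      ((cmapF Y (D.map f) (n + 1)).hom zi) = 0 := by
    rw [cmapF_d]
    exact hf
  obtain ⟨wj, hwj⟩ := hex j _ h2
  refine ⟨(cmapF Y (c.ι.app j) n).hom wj, ?_⟩
  show ((cx Y (Rr V c.pt)).d n (n + 1)).hom ((cmapF Y (c.ι.app j) n).hom wj) = z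
  rw [cmapF_d, hwj, cmapF_comp, c.w f]
  exact hzi

end CechColim

section Final

variable {B : Set C} {Cov : ∀ (U : C) (ι : Type u), (ι → Over U) → Prop}

theorem commutes_zero (hd : Data J B Cov) (V : C) (hV : V ∈ B) :
    ExtColim.Commutes ((freeSh J).obj (yoneda.obj V)) 0 D (colimit.cocone D) := by
  have hs := secCommutes D hd V hV (colimit.isColimit D)
  constructor
  · intro x
    obtain ⟨φ, rfl⟩ := (Ext.mk₀_bijective _ _).2 x
    obtain ⟨i, s, hs'⟩ := hs.surj (secEquiv J V _ φ)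
    refine ⟨i, Ext.mk₀ ((secEquiv J V (D.obj i)).symm s), ?_⟩
    unfold ExtColim.push
    rw [Ext.mk₀_comp_mk₀]
    congr 1
    apply (secEquiv J V _).injective
    rw [secEquiv_comp, Equiv.apply_symm_apply]
    exact hs'
  · intro i xi hxi
    obtain ⟨φ, rfl⟩ := (Ext.mk₀_bijective _ _).2 xi
    unfold ExtColim.push at hxi
    rw [Ext.mk₀_comp_mk₀, Ext.mk₀_eq_zero_iff] at hxi
    have hxi' : φ ≫ colimit.ι D i = 0 := hxi
    have h1 : (colimit.ι D i).hom.app (op V) (secEquiv J V _ φ) =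
        (colimit.ι D i).hom.app (op V)
          (secEquiv J V _ (0 : (freeSh J).obj (yoneda.obj V) ⟶ D.obj i)) := by
      have e1 := secEquiv_comp J V φ (colimit.ι D i)
      have e2 := secEquiv_comp J V (0 : (freeSh J).obj (yoneda.obj V) ⟶ D.obj i) (colimit.ι D i)
      rw [hxi'] at e1
      rw [zero_comp] at e2
      exact e1.symm.trans e2
    obtain ⟨j, f, hf⟩ := hs.inj_eq i _ _ h1
    refine ⟨j, f, ?_⟩
    unfold ExtColim.push
    rw [Ext.mk₀_comp_mk₀, Ext.mk₀_eq_zero_iff]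
    apply (secEquiv J V _).injective
    have e3 := secEquiv_comp J V (0 : (freeSh J).obj (yoneda.obj V) ⟶ D.obj i) (D.map f)
    rw [zero_comp] at e3
    rw [secEquiv_comp]
    exact hf.trans e3.symm

theorem acyclic_colim (hd : Data J B Cov) (U : C) (hU : U ∈ B)
    (hD : ∀ i, Injective (D.obj i)) (n : ℕ)
    (x : Ext ((freeSh J).obj (yoneda.obj U)) (colimit D) (n + 1)) : x = 0 := by
  have h3 : ∀ (V : C) (ι : Type u) (Y : ι → Over V), Cov V ι Y →
      ∀ p : ℕ, IsZero (CohCx.cechH (colimit D).obj Y (p + 1)) := by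
    intro V ι₀ Y hY p
    obtain ⟨hfin, hVB, hcov, hB⟩ := hd.h1 V ι₀ Y hY
    haveI := hfin
    exact cech_exact_colim D Y (colimit.cocone D)
      (fun m a => secCommutes D hd _ (hB m a) (colimit.isColimit D)) p
      (fun i => Cech.cechH_isZero_of_injective J (D.obj i) Y hcov p)
  have hsub := Cech.cartan J B Cov (fun U ι Y h => (hd.h1 U ι Y h).2) hd.h2 n (colimit D) h3 U hU
  exact Subsingleton.elim _ _

/-- cohomology of an object of the class commutes with filtered colimits -/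
theorem preservesColimit_ext (hd : Data J B Cov) (U : C) (hU : U ∈ B) (p : ℕ) :
    PreservesColimit D (extFunctorObj ((freeSh J).obj (yoneda.obj U)) p) :=
  ExtColim.preservesColimit_of_commutes _ p D
    (ExtColim.commutes_all ((freeSh J).obj (yoneda.obj U))
      (fun D' => commutes_zero D' hd U hU)
      (fun D' hD' n x => acyclic_colim D' hd U hU hD' n x) p D)

end Final

end Groth.Agent.H67.ColimSec
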