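import Mathlib
import Groth.Agent.H67.TorsA

/-!
# Helper library (helper67): global sections and `H¹` of constant sheaves
-/

set_option autoImplicit false
universe u

open CategoryTheory CategoryTheory.Limits Opposite Abelian

namespace Groth.Agent.H67.ConstH1

open Groth.Agent.H67.TorsA Groth.Agent.H67.CechTopos

variable {C : Type u} [SmallCategory C] (J : GrothendieckTopology C)

/-- the constant abelian sheaf functor -/
noncomputable abbrev cs : AddCommGrpCat.{u} ⥤ Sheaf J AddCommGrpCat.{u} :=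
  constantSheaf J AddCommGrpCat.{u}

/-- the constant sheaf of sets functor -/
noncomputable abbrev csT : Type u ⥤ Sheaf J (Type u) := constantSheaf J (Type u)

instance constPreservesFiniteLimits :
    PreservesFiniteLimits (Functor.const Cᵒᵖ : AddCommGrpCat.{u} ⥤ (Cᵒᵖ ⥤ AddCommGrpCat.{u})) := by
  have h : PreservesLimitsOfSize.{0, 0}
      (Functor.const Cᵒᵖ : AddCommGrpCat.{u} ⥤ (Cᵒᵖ ⥤ AddCommGrpCat.{u})) :=
    (colimConstAdj (J := Cᵒᵖ) (C := AddCommGrpCat.{u})).rightAdjoint_preservesLimits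
  exact ⟨fun K _ _ => h.preservesLimitsOfShape⟩

instance constPreservesFiniteColimits :
    PreservesFiniteColimits
      (Functor.const Cᵒᵖ : AddCommGrpCat.{u} ⥤ (Cᵒᵖ ⥤ AddCommGrpCat.{u})) := by
  have h : PreservesColimitsOfSize.{0, 0}
      (Functor.const Cᵒᵖ : AddCommGrpCat.{u} ⥤ (Cᵒᵖ ⥤ AddCommGrpCat.{u})) :=
    (constLimAdj (J := Cᵒᵖ) (C := AddCommGrpCat.{u})).leftAdjoint_preservesColimits
  exact ⟨fun K _ _ => h.preservesColimitsOfShape⟩

instance csPreservesFiniteLimits : PreservesFiniteLimits (cs J) :=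
  inferInstanceAs (PreservesFiniteLimits
    (Functor.const Cᵒᵖ ⋙ presheafToSheaf J AddCommGrpCat.{u}))

instance csPreservesFiniteColimits : PreservesFiniteColimits (cs J) :=
  inferInstanceAs (PreservesFiniteColimits
    (Functor.const Cᵒᵖ ⋙ presheafToSheaf J AddCommGrpCat.{u}))

/-- a set-theoretic section of a surjection of groups induces a section on the underlying
sheaves of sets of the constant sheaves -/
theorem exists_section {B Q : AddCommGrpCat.{u}} (g : B ⟶ Q) (hg : Function.Surjective g) :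
    ∃ s : (UU J).obj ((cs J).obj Q) ⟶ (UU J).obj ((cs J).obj B),
      s ≫ (UU J).map ((cs J).map g) = 𝟙 _ := by
  let e := constantCommuteCompose J (forget AddCommGrpCat.{u})
  let σ : (forget AddCommGrpCat.{u}).obj Q ⟶ (forget AddCommGrpCat.{u}).obj B :=
    TypeCat.ofHom (fun q => Function.surjInv hg q)
  have hσ : σ ≫ (forget AddCommGrpCat.{u}).map g = 𝟙 _ :=
    ConcreteCategory.hom_ext _ _ (fun q => Function.surjInv_eq hg q)
  refine ⟨e.hom.app Q ≫ (csT J).map σ ≫ e.inv.app B, ?_⟩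
  have nat : (csT J).map ((forget AddCommGrpCat.{u}).map g) ≫ e.inv.app Q =
      e.inv.app B ≫ (UU J).map ((cs J).map g) := e.inv.naturality g
  have hm : (csT J).map σ ≫ (csT J).map ((forget AddCommGrpCat.{u}).map g) = 𝟙 _ := by
    rw [← Functor.map_comp, hσ]
    exact (csT J).map_id _
  calc (e.hom.app Q ≫ (csT J).map σ ≫ e.inv.app B) ≫ (UU J).map ((cs J).map g)
      = e.hom.app Q ≫ (csT J).map σ ≫ (e.inv.app B ≫ (UU J).map ((cs J).map g)) := by
        simp only [Category.assoc]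
    _ = e.hom.app Q ≫ ((csT J).map σ ≫ (csT J).map ((forget AddCommGrpCat.{u}).map g)) ≫
          e.inv.app Q := by
        rw [← nat, Category.assoc]
    _ = 𝟙 _ := by
        rw [hm]
        exact (congrArg (fun t => e.hom.app Q ≫ t) (Category.id_comp _)).trans
          (e.hom_inv_id_app Q)

/-- maps from a free abelian sheaf to a constant sheaf lift along surjections of groups -/
theorem lift_free {B Q : AddCommGrpCat.{u}} (g : B ⟶ Q) (hg : Function.Surjective g)
    (L : Sheaf J (Type u)) (ψ : (Φ J).obj L ⟶ (cs J).obj Q) :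
    ∃ ψ' : (Φ J).obj L ⟶ (cs J).obj B, ψ' ≫ (cs J).map g = ψ := by
  obtain ⟨s, hs⟩ := exists_section J g hg
  refine ⟨((adj J).homEquiv _ _).symm ((adj J).homEquiv _ _ ψ ≫ s), ?_⟩
  rw [← Adjunction.homEquiv_naturality_right_symm, Category.assoc, hs, Category.comp_id,
    Equiv.symm_apply_apply]

/-- global sections of constant sheaves lift along surjections of groups -/
theorem lift_Zc {B Q : AddCommGrpCat.{u}} (g : B ⟶ Q) (hg : Function.Surjective g)
    (ψ : Zc J ⟶ (cs J).obj Q) : ∃ ψ' : Zc J ⟶ (cs J).obj B, ψ' ≫ (cs J).map g = ψ := by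
  obtain ⟨ψ₁, hψ₁⟩ := lift_free J g hg (K₁ J) ((isoZ J).hom ≫ ψ)
  refine ⟨(isoZ J).inv ≫ ψ₁, ?_⟩
  rw [Category.assoc, hψ₁, Iso.inv_hom_id_assoc]

/-- `H¹` of constant sheaves is left exact in the group -/
theorem H1_injective (S : ShortComplex AddCommGrpCat.{u}) (hS : S.ShortExact) :
    Function.Injective (Sheaf.H.map ((cs J).map S.f) 1) := by
  have hS' : (S.map (cs J)).ShortExact := hS.map_of_exact (cs J)
  have hg : Function.Surjective S.g := (AddCommGrpCat.epi_iff_surjective _).1 hS.epi_g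
  rw [injective_iff_map_eq_zero]
  intro x hx
  have hx' : x.comp (Ext.mk₀ (S.map (cs J)).f) (add_zero 1) = 0 := hx
  obtain ⟨y, hy⟩ := Ext.covariant_sequence_exact₁ (Zc J) hS' x hx' (rfl : 0 + 1 = 1)
  obtain ⟨ψ, rfl⟩ := (Ext.mk₀_bijective _ _).2 y
  have hex : ∃ ψ' : Zc J ⟶ (S.map (cs J)).X₂, ψ' ≫ (S.map (cs J)).g = ψ := lift_Zc J S.g hg ψ
  obtain ⟨ψ', hψ'⟩ := hex
  have e : (Ext.mk₀ ψ).comp hS'.extClass (rfl : 0 + 1 = 1) =
      (Ext.mk₀ ψ').comp ((Ext.mk₀ (S.map (cs J)).g).comp hS'.extClass (zero_add 1))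
        (zero_add 1) := by
    rw [Ext.mk₀_comp_mk₀_assoc, hψ']
  rw [← hy, e, hS'.comp_extClass, Ext.comp_zero]
  rfl

end Groth.Agent.H67.ConstH1
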