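import Groth.Prelude.Def_CohTop
import Mathlib.Topology.Sheaves.Flasque
import Mathlib.CategoryTheory.Sites.LocallyBijective
import Mathlib.Topology.Irreducible

/-!
# Helper library (helper67): the constant sheaf on an irreducible space is flasque
-/

set_option autoImplicit false
universe u

open CategoryTheory CategoryTheory.Limits Opposite TopologicalSpace

namespace Groth.Agent.H67.ConstIrred

variable (X : TopCat.{u}) (A : Type u) [AddCommGroup A]

/-- The constant presheaf. -/
noncomputable abbrev P : (Opens X)ᵒᵖ ⥤ AddCommGrpCat.{u} :=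
  (Functor.const (Opens X)ᵒᵖ).obj (AddCommGrpCat.of A)

/-- The sheafification map of the constant presheaf. -/
noncomputable abbrev η : P X A ⟶ (CohTop.const X A).obj :=
  CategoryTheory.toSheafify (Opens.grothendieckTopology X) (P X A)

instance : Presheaf.IsLocallyInjective (Opens.grothendieckTopology X) (η X A) :=
  inferInstanceAs (Presheaf.IsLocallyInjective _
    (CategoryTheory.toSheafify (Opens.grothendieckTopology X) (P X A)))

instance : Presheaf.IsLocallySurjective (Opens.grothendieckTopology X) (η X A) :=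
  inferInstanceAs (Presheaf.IsLocallySurjective _
    (CategoryTheory.toSheafify (Opens.grothendieckTopology X) (P X A)))

lemma η_natural {W W' : Opens X} (f : W' ⟶ W) (a : A) :
    (CohTop.const X A).obj.map f.op ((η X A).app (op W) a) = (η X A).app (op W') a :=
  (NatTrans.naturality_apply (η X A) f.op a).symm

lemma η_injective {W : Opens X} {x : X} (hx : x ∈ W) (a b : A)
    (h : (η X A).app (op W) a = (η X A).app (op W) b) : a = b := by
  have hmem := Presheaf.equalizerSieve_mem (Opens.grothendieckTopology X) (η X A)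
    (X := op W) a b h
  obtain ⟨W', f, hf, -⟩ := hmem x hx
  exact hf

lemma isSeparated_const :
    Presieve.IsSeparated (Opens.grothendieckTopology X)
      ((CohTop.const X A).obj ⋙ forget AddCommGrpCat.{u}) :=
  ((isSheaf_iff_isSheaf_of_type _ _).1
    ((sheafCompose (Opens.grothendieckTopology X) (forget AddCommGrpCat.{u})).obj
      (CohTop.const X A)).property).isSeparated

lemma eq_of_locally_eq {V : Opens X} (t₁ t₂ : (CohTop.const X A).obj.obj (op V))
    (h : ∀ x ∈ V, ∃ (W : Opens X) (f : W ⟶ V), x ∈ W ∧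
      (CohTop.const X A).obj.map f.op t₁ = (CohTop.const X A).obj.map f.op t₂) : t₁ = t₂ := by
  have hS : Presheaf.equalizerSieve (F := (CohTop.const X A).obj) (X := op V) t₁ t₂ ∈
      Opens.grothendieckTopology X V := by
    intro x hx
    obtain ⟨W, f, hxW, hf⟩ := h x hx
    exact ⟨W, f, hf, hxW⟩
  exact (isSeparated_const X A _ hS).ext (fun Y f hf => hf)

variable [IrreducibleSpace X]

lemma exists_eq_η {V : Opens X} {x₀ : X} (hx₀ : x₀ ∈ V)
    (t : (CohTop.const X A).obj.obj (op V)) : ∃ a : A, t = (η X A).app (op V) a := by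
  have hS := Presheaf.imageSieve_mem (Opens.grothendieckTopology X) (η X A) (U := op V) t
  obtain ⟨W₀, f₀, ⟨a₀, ha₀⟩, hx₀W⟩ := hS x₀ hx₀
  refine ⟨a₀, eq_of_locally_eq X A _ _ (fun x hx => ?_)⟩
  obtain ⟨W, f, ⟨a, ha⟩, hxW⟩ := hS x hx
  refine ⟨W, f, hxW, ?_⟩
  rw [η_natural, ← ha]
  -- show a = a₀
  obtain ⟨y, hyW, hyW₀⟩ := nonempty_preirreducible_inter W.isOpen W₀.isOpen ⟨x, hxW⟩ ⟨x₀, hx₀W⟩
  have hy : y ∈ W ⊓ W₀ := ⟨hyW, hyW₀⟩
  have key : (η X A).app (op (W ⊓ W₀)) a = (η X A).app (op (W ⊓ W₀)) a₀ := by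
    rw [← η_natural X A (homOfLE inf_le_left : W ⊓ W₀ ⟶ W) a,
      ← η_natural X A (homOfLE inf_le_right : W ⊓ W₀ ⟶ W₀) a₀, ha, ha₀,
      ← ConcreteCategory.comp_apply, ← ConcreteCategory.comp_apply, ← Functor.map_comp,
      ← Functor.map_comp, ← op_comp, ← op_comp]
    congr 3
  rw [η_injective X A hy a a₀ key]

theorem isFlasque_const : TopCat.Sheaf.IsFlasque (CohTop.const X A) := by
  constructor
  intro U V i
  rw [AddCommGrpCat.epi_iff_surjective]
  intro t
  by_cases hV : ∃ x, x ∈ V.unop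
  · obtain ⟨x₀, hx₀⟩ := hV
    obtain ⟨a, rfl⟩ := exists_eq_η X A (V := V.unop) hx₀ t
    exact ⟨(η X A).app U a, (NatTrans.naturality_apply (η X A) i a).symm⟩
  · refine ⟨0, eq_of_locally_eq X A (V := V.unop) _ _ (fun x hx => ?_)⟩
    exact absurd ⟨x, hx⟩ hV

end Groth.Agent.H67.ConstIrred
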