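import Mathlib

/-!
# Sections of constant sheaves of modules: exactness, tensor products, flatness

* `θ G M Q : G(M) ⊗ Q → G(M ⊗ Q)` for a `Λ`-linear additive endofunctor `G` of `ModuleCat Λ`;
  it is bijective for finitely presented `Q` when `G` preserves exact sequences (`θ_bijective`).
* `secFun J Λ U : M ↦ M̲(U)`, sections over `U` of the constant sheaf; it is additive, `Λ`-linear and
  exact (`secFun_map_exact`): surjectivity comes from a set-theoretic section and
  `constantCommuteCompose`.
* `tensor_iso` (S9118) and `flat_sections` (S9119).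
-/

universe u

open CategoryTheory CategoryTheory.Limits Opposite TensorProduct

namespace Groth.Agent.H67.ConstTensor

noncomputable section

section Abstract

variable {Λ : Type u} [CommRing Λ] (G : ModuleCat.{u} Λ ⥤ ModuleCat.{u} Λ)

lemma map_map_apply {A B D : ModuleCat.{u} Λ} (f : A ⟶ B) (g : B ⟶ D) (s : G.obj A) :
    (G.map g).hom ((G.map f).hom s) = (G.map (f ≫ g)).hom s := by
  rw [G.map_comp]
  rfl

lemma ofHom_smul' {A B : Type u} [AddCommGroup A] [Module Λ A] [AddCommGroup B] [Module Λ B]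
    (a : Λ) (f : A →ₗ[Λ] B) : ModuleCat.ofHom (a • f) = a • ModuleCat.ofHom f := rfl

lemma map_equiv_bijective {A B : Type u} [AddCommGroup A] [Module Λ A] [AddCommGroup B]
    [Module Λ B] (e : A ≃ₗ[Λ] B) :
    Function.Bijective (G.map (ModuleCat.ofHom e.toLinearMap)).hom := by
  refine Function.bijective_iff_has_inverse.2
    ⟨(G.map (ModuleCat.ofHom e.symm.toLinearMap)).hom, fun x => ?_, fun y => ?_⟩
  · rw [map_map_apply]
    have h : ModuleCat.ofHom e.toLinearMap ≫ ModuleCat.ofHom e.symm.toLinearMap = 𝟙 _ := by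
      ext a
      simp
    rw [h, G.map_id]
    rfl
  · rw [map_map_apply]
    have h : ModuleCat.ofHom e.symm.toLinearMap ≫ ModuleCat.ofHom e.toLinearMap = 𝟙 _ := by
      ext a
      simp
    rw [h, G.map_id]
    rfl

variable [G.Additive]

lemma map_surjective
    (hE : ∀ S : ShortComplex (ModuleCat.{u} Λ), S.Exact → (S.map G).Exact)
    {A B : Type u} [AddCommGroup A] [Module Λ A] [AddCommGroup B] [Module Λ B]
    (f : A →ₗ[Λ] B) (hf : Function.Surjective f) :
    Function.Surjective (G.map (ModuleCat.ofHom f)).hom := by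
  haveI : G.PreservesEpimorphisms := Functor.preservesEpimorphisms_of_map_exact G hE
  have h1 : Epi (ModuleCat.ofHom f) := (ModuleCat.epi_iff_surjective _).2 hf
  have h2 : Epi (G.map (ModuleCat.ofHom f)) := inferInstance
  exact (ModuleCat.epi_iff_surjective _).1 h2

lemma map_injective
    (hE : ∀ S : ShortComplex (ModuleCat.{u} Λ), S.Exact → (S.map G).Exact)
    {A B : Type u} [AddCommGroup A] [Module Λ A] [AddCommGroup B] [Module Λ B]
    (f : A →ₗ[Λ] B) (hf : Function.Injective f) :
    Function.Injective (G.map (ModuleCat.ofHom f)).hom := by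
  haveI : G.PreservesMonomorphisms := Functor.preservesMonomorphisms_of_map_exact G hE
  have h1 : Mono (ModuleCat.ofHom f) := (ModuleCat.mono_iff_injective _).2 hf
  have h2 : Mono (G.map (ModuleCat.ofHom f)) := inferInstance
  exact (ModuleCat.mono_iff_injective _).1 h2

lemma map_exact
    (hE : ∀ S : ShortComplex (ModuleCat.{u} Λ), S.Exact → (S.map G).Exact)
    {A B D : Type u} [AddCommGroup A] [Module Λ A] [AddCommGroup B] [Module Λ B]
    [AddCommGroup D] [Module Λ D]
    (f : A →ₗ[Λ] B) (g : B →ₗ[Λ] D) (hfg : Function.Exact f g)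
    (y : G.obj (ModuleCat.of Λ B)) (hy : (G.map (ModuleCat.ofHom g)).hom y = 0) :
    ∃ z, (G.map (ModuleCat.ofHom f)).hom z = y := by
  have hz : ModuleCat.ofHom f ≫ ModuleCat.ofHom g = 0 :=
    ModuleCat.hom_ext (LinearMap.ext fun x => hfg.apply_apply_eq_zero x)
  have hS : (ShortComplex.mk (ModuleCat.ofHom f) (ModuleCat.ofHom g) hz).Exact := by
    rw [ShortComplex.moduleCat_exact_iff]
    intro x hx
    exact (hfg x).1 hx
  have h := hE _ hS
  rw [ShortComplex.moduleCat_exact_iff] at h
  exact h y hy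

variable [G.Linear Λ] (M : Type u) [AddCommGroup M] [Module Λ M]

/-- The comparison map `G(M) ⊗ Q → G(M ⊗ Q)`. -/
def θ (Q : Type u) [AddCommGroup Q] [Module Λ Q] :
    TensorProduct Λ (G.obj (ModuleCat.of Λ M)) Q →ₗ[Λ]
      G.obj (ModuleCat.of Λ (TensorProduct Λ M Q)) :=
  TensorProduct.lift (LinearMap.mk₂ Λ
    (fun s q => (G.map (ModuleCat.ofHom ((TensorProduct.mk Λ M Q).flip q))).hom s)
    (fun s s' q => map_add _ s s')
    (fun c s q => map_smul _ c s)
    (fun s q q' => by
      have e : (TensorProduct.mk Λ M Q).flip (q + q') =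
        (TensorProduct.mk Λ M Q).flip q + (TensorProduct.mk Λ M Q).flip q' := map_add _ _ _
      rw [e, ModuleCat.ofHom_add, Functor.map_add, ModuleCat.hom_add, LinearMap.add_apply])
    (fun c s q => by
      have e : (TensorProduct.mk Λ M Q).flip (c • q) = c • (TensorProduct.mk Λ M Q).flip q :=
        map_smul _ _ _
      rw [e, ofHom_smul', Functor.map_smul, ModuleCat.hom_smul, LinearMap.smul_apply]))

lemma θ_tmul (Q : Type u) [AddCommGroup Q] [Module Λ Q] (s : G.obj (ModuleCat.of Λ M)) (q : Q) :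
    θ G M Q (s ⊗ₜ[Λ] q) =
      (G.map (ModuleCat.ofHom ((TensorProduct.mk Λ M Q).flip q))).hom s := by
  rw [θ, TensorProduct.lift.tmul]
  rfl

lemma θ_nat {Q Q' : Type u} [AddCommGroup Q] [Module Λ Q] [AddCommGroup Q'] [Module Λ Q']
    (h : Q →ₗ[Λ] Q') (x : TensorProduct Λ (G.obj (ModuleCat.of Λ M)) Q) :
    (G.map (ModuleCat.ofHom (LinearMap.lTensor M h))).hom (θ G M Q x) =
      θ G M Q' (LinearMap.lTensor _ h x) := by
  induction x using TensorProduct.induction_on with
  | zero => simp only [map_zero]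
  | tmul s q =>
    rw [LinearMap.lTensor_tmul, θ_tmul, θ_tmul, map_map_apply]
    have e : ModuleCat.ofHom ((TensorProduct.mk Λ M Q).flip q) ≫
        ModuleCat.ofHom (LinearMap.lTensor M h) =
        ModuleCat.ofHom ((TensorProduct.mk Λ M Q').flip (h q)) := by
      ext m
      simp
    rw [e]
  | add x y hx hy => simp only [map_add, hx, hy]

lemma θ_self_bijective : Function.Bijective (θ G M Λ) := by
  have key : θ G M Λ =
      (G.map (ModuleCat.ofHom (TensorProduct.rid Λ M).symm.toLinearMap)).hom ∘ₗ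
        (TensorProduct.rid Λ (G.obj (ModuleCat.of Λ M))).toLinearMap := by
    apply TensorProduct.ext'
    intro s a
    rw [θ_tmul, LinearMap.comp_apply, LinearEquiv.coe_coe, TensorProduct.rid_tmul, map_smul]
    have e : (TensorProduct.mk Λ M Λ).flip a =
        a • (TensorProduct.rid Λ M).symm.toLinearMap := by
      refine LinearMap.ext fun m => ?_
      have h1 : (TensorProduct.rid Λ M).symm m = m ⊗ₜ[Λ] (1 : Λ) :=
        TensorProduct.rid_symm_apply m
      rw [LinearMap.smul_apply, LinearEquiv.coe_coe, h1, ← TensorProduct.tmul_smul, smul_eq_mul,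
        mul_one]
      rfl
    rw [e, ofHom_smul', Functor.map_smul, ModuleCat.hom_smul, LinearMap.smul_apply]
  rw [key, LinearMap.coe_comp]
  exact (map_equiv_bijective G _).comp (LinearEquiv.bijective _)

lemma lTensor_sum' (N : Type u) [AddCommGroup N] [Module Λ N] {A B : Type u} [AddCommGroup A]
    [Module Λ A] [AddCommGroup B] [Module Λ B] {ι : Type} (s : Finset ι)
    (f : ι → (A →ₗ[Λ] B)) :
    LinearMap.lTensor N (∑ i ∈ s, f i) = ∑ i ∈ s, LinearMap.lTensor N (f i) :=
  map_sum (LinearMap.lTensorHom N) f s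

lemma θ_bijective_of_sum {n : ℕ} {Q : Type u} [AddCommGroup Q] [Module Λ Q]
    (inc : Fin n → (Λ →ₗ[Λ] Q)) (pr : Fin n → (Q →ₗ[Λ] Λ))
    (hsum : ∑ i, (inc i) ∘ₗ (pr i) = LinearMap.id) : Function.Bijective (θ G M Q) := by
  have hb := θ_self_bijective G M
  constructor
  · refine (injective_iff_map_eq_zero _).2 fun x hx => ?_
    have h1 : ∀ i, LinearMap.lTensor (G.obj (ModuleCat.of Λ M)) (pr i) x = 0 := fun i => by
      apply hb.1
      rw [← θ_nat, hx, map_zero, map_zero]
    have h2 : LinearMap.lTensor (G.obj (ModuleCat.of Λ M)) (∑ i, (inc i) ∘ₗ (pr i)) x = x := by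
      rw [hsum, LinearMap.lTensor_id]
      rfl
    rw [lTensor_sum', LinearMap.sum_apply] at h2
    rw [← h2]
    refine Finset.sum_eq_zero fun i _ => ?_
    rw [LinearMap.lTensor_comp, LinearMap.comp_apply, h1 i, map_zero]
  · intro y
    choose xs hxs using fun i =>
      hb.2 ((G.map (ModuleCat.ofHom (LinearMap.lTensor M (pr i)))).hom y)
    refine ⟨∑ i, LinearMap.lTensor _ (inc i) (xs i), ?_⟩
    rw [map_sum]
    have h3 : ∀ i, θ G M Q (LinearMap.lTensor _ (inc i) (xs i)) =
        (G.map (ModuleCat.ofHom (LinearMap.lTensor M (inc i ∘ₗ pr i)))).hom y := fun i => by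
      rw [← θ_nat, hxs i, map_map_apply, LinearMap.lTensor_comp, ModuleCat.ofHom_comp]
    simp_rw [h3]
    have h4 : ∑ i, G.map (ModuleCat.ofHom (LinearMap.lTensor M (inc i ∘ₗ pr i))) = 𝟙 _ := by
      rw [← Functor.map_sum, ← G.map_id]
      congr 1
      apply ModuleCat.hom_ext
      rw [ModuleCat.hom_sum]
      simp only [ModuleCat.hom_ofHom]
      rw [← lTensor_sum', hsum, LinearMap.lTensor_id]
      rfl
    have h5 := congrArg (fun m => m.hom y) h4
    simpa [ModuleCat.hom_sum, LinearMap.sum_apply] using h5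

theorem θ_bijective
    (hE : ∀ S : ShortComplex (ModuleCat.{u} Λ), S.Exact → (S.map G).Exact)
    (Q : Type u) [AddCommGroup Q] [Module Λ Q] [Module.FinitePresentation Λ Q] :
    Function.Bijective (θ G M Q) := by
  obtain ⟨n, m, p, r, hp, hrp⟩ := Module.FinitePresentation.exists_fin' Λ Q
  have hfree : ∀ k : ℕ, Function.Bijective (θ G M (Fin k → Λ)) := fun k =>
    θ_bijective_of_sum G M (fun i => LinearMap.single Λ (fun _ => Λ) i)
      (fun i => LinearMap.proj i) (by
        refine LinearMap.ext fun x => funext fun j => ?_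
        simp [LinearMap.sum_apply, Finset.sum_apply, Pi.single_apply])
  constructor
  · refine (injective_iff_map_eq_zero _).2 fun x hx => ?_
    obtain ⟨x', rfl⟩ := LinearMap.lTensor_surjective (G.obj (ModuleCat.of Λ M)) hp x
    rw [← θ_nat] at hx
    obtain ⟨z, hz⟩ := map_exact G hE (LinearMap.lTensor M r) (LinearMap.lTensor M p)
      (lTensor_exact M hrp hp) _ hx
    obtain ⟨w, rfl⟩ := (hfree m).2 z
    rw [θ_nat] at hz
    have hw := (hfree n).1 hz
    rw [← hw, ← LinearMap.comp_apply, ← LinearMap.lTensor_comp]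
    have hpr : p ∘ₗ r = 0 := LinearMap.ext fun a => hrp.apply_apply_eq_zero a
    rw [hpr, LinearMap.lTensor_zero, LinearMap.zero_apply]
  · intro y
    obtain ⟨y', rfl⟩ := map_surjective G hE (LinearMap.lTensor M p)
      (LinearMap.lTensor_surjective M hp) y
    obtain ⟨x', rfl⟩ := (hfree n).2 y'
    exact ⟨LinearMap.lTensor _ p x', (θ_nat G M p x').symm⟩

end Abstract

section Concrete

variable {C : Type u} [SmallCategory C] (J : GrothendieckTopology C) (Λ : Type u) [CommRing Λ]

/-- Sections over `U` of the constant sheaf of `Λ`-modules, as a functor of the module. -/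
abbrev secFun (U : C) : ModuleCat.{u} Λ ⥤ ModuleCat.{u} Λ :=
  constantSheaf J (ModuleCat.{u} Λ) ⋙ sheafToPresheaf J (ModuleCat.{u} Λ) ⋙
    (evaluation Cᵒᵖ (ModuleCat.{u} Λ)).obj (op U)

instance : PreservesFiniteLimits (constantSheaf J (ModuleCat.{u} Λ)) :=
  inferInstanceAs (PreservesFiniteLimits
    (Functor.const Cᵒᵖ ⋙ presheafToSheaf J (ModuleCat.{u} Λ)))

instance (U : C) : PreservesFiniteLimits (secFun J Λ U) := by
  unfold secFun
  infer_instance

lemma type_surj_of_split {X Y : Type u} (p : X ⟶ Y) (s : Y ⟶ X) (h : s ≫ p = 𝟙 Y) :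
    Function.Surjective p := fun y => ⟨s y, by
  have h' := congrArg (fun f : Y ⟶ Y => f y) h
  simpa using h'⟩

lemma sec_surjective {X Y : ModuleCat.{u} Λ} (π : X ⟶ Y) (hπ : Function.Surjective π.hom)
    (V : Cᵒᵖ) :
    Function.Surjective (((constantSheaf J (ModuleCat.{u} Λ)).map π).hom.app V).hom := by
  obtain ⟨σ, hσ⟩ := hπ.hasRightInverse
  let Fg := forget (ModuleCat.{u} Λ)
  let e := constantCommuteCompose J Fg
  let σ' : Fg.obj Y ⟶ Fg.obj X := TypeCat.ofHom σ
  have hσ' : σ' ≫ Fg.map π = 𝟙 _ := by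
    ext y
    exact hσ y
  let p := (Fg ⋙ constantSheaf J (Type u)).map π
  let s := (constantSheaf J (Type u)).map σ'
  have hsp : s ≫ p = 𝟙 _ := by
    show (constantSheaf J (Type u)).map σ' ≫ (constantSheaf J (Type u)).map (Fg.map π) = 𝟙 _
    rw [← CategoryTheory.Functor.map_comp, hσ', CategoryTheory.Functor.map_id]
  let q := (constantSheaf J (ModuleCat.{u} Λ) ⋙ sheafCompose J Fg).map π
  have hq : q = e.hom.app X ≫ p ≫ e.inv.app Y := by
    have hn : q ≫ e.hom.app Y = e.hom.app X ≫ p := e.hom.naturality π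
    rw [← Category.assoc, ← hn, Category.assoc, Iso.hom_inv_id_app, Category.comp_id]
  let t := e.hom.app Y ≫ s ≫ e.inv.app X
  have htq : t ≫ q = 𝟙 _ := by
    rw [hq]
    simp only [t, Category.assoc, Iso.inv_hom_id_app_assoc]
    rw [reassoc_of% hsp, Iso.hom_inv_id_app]
  have h2 : t.hom.app V ≫ q.hom.app V = 𝟙 _ := by
    have := congrArg (fun m => m.hom.app V) htq
    simpa using this
  intro y
  obtain ⟨x, hx⟩ := type_surj_of_split _ _ h2 y
  exact ⟨x, hx⟩

lemma secFun_map_exact (U : C) (S : ShortComplex (ModuleCat.{u} Λ)) (hS : S.Exact) :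
    (S.map (secFun J Λ U)).Exact := by
  have h1 : ∀ S : ShortComplex (ModuleCat.{u} Λ), S.ShortExact →
      (S.map (secFun J Λ U)).ShortExact := by
    intro S hS
    have h := (Functor.preservesFiniteLimits_iff_forall_exact_map_and_mono (secFun J Λ U)).1
      inferInstance S hS
    haveI : Mono ((S.map (secFun J Λ U)).f) := h.2
    haveI : Epi ((S.map (secFun J Λ U)).g) := by
      rw [ModuleCat.epi_iff_surjective]
      exact sec_surjective J Λ S.g ((ModuleCat.epi_iff_surjective _).1 hS.epi_g) (op U)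
    exact ShortComplex.ShortExact.mk h.1
  have key : (∀ S : ShortComplex (ModuleCat.{u} Λ), S.ShortExact →
      (S.map (secFun J Λ U)).ShortExact) → ∀ S : ShortComplex (ModuleCat.{u} Λ), S.Exact →
      (S.map (secFun J Λ U)).Exact := ((Functor.exact_tfae (secFun J Λ U)).out 0 1).1
  exact key h1 S hS

lemma smul_id_comp {D : Type*} [Category D] [Preadditive D] [Linear Λ D] {X Y : D} (a : Λ)
    (g : X ⟶ Y) : (a • 𝟙 X) ≫ g = a • g := by
  rw [Linear.smul_comp, Category.id_comp]

lemma comp_smul_id {D : Type*} [Category D] [Preadditive D] [Linear Λ D] {X Y : D} (a : Λ)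
    (g : X ⟶ Y) : g ≫ (a • 𝟙 Y) = a • g := by
  rw [Linear.comp_smul, Category.comp_id]

lemma constantSheaf_map_smul_id (X : ModuleCat.{u} Λ) (a : Λ) (V : Cᵒᵖ) :
    ((constantSheaf J (ModuleCat.{u} Λ)).map (a • 𝟙 X)).hom.app V = a • 𝟙 _ := by
  let F := (constantSheaf J (ModuleCat.{u} Λ)).obj X
  let ν : F.obj ⟶ F.obj :=
    { app := fun W => a • 𝟙 _
      naturality := fun W W' f =>
        (comp_smul_id Λ a _).trans (smul_id_comp Λ a _).symm }
  have h : ((constantSheaf J (ModuleCat.{u} Λ)).map (a • 𝟙 X)).hom = ν := by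
    refine sheafify_hom_ext J _ _ F.property ?_
    have hn := toSheafify_naturality J ((Functor.const Cᵒᵖ).map (a • 𝟙 X))
    refine hn.symm.trans ?_
    ext W : 2
    simp only [NatTrans.comp_app, Functor.const_map_app, ν]
    exact (smul_id_comp Λ a _).trans (comp_smul_id Λ a _).symm
  rw [h]

instance (U : C) : (secFun J Λ U).Linear Λ where
  map_smul {X Y} f a := by
    have h : a • f = (a • 𝟙 X) ≫ f := (smul_id_comp Λ a f).symm
    rw [h, CategoryTheory.Functor.map_comp]
    have h2 : (secFun J Λ U).map (a • 𝟙 X) = a • 𝟙 _ := constantSheaf_map_smul_id J Λ X a (op U)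
    rw [h2]
    exact smul_id_comp Λ a _

/-- S9118: sections of the constant sheaf commute with tensoring by a finitely presented module. -/
theorem tensor_iso (M Q : Type u) [AddCommGroup M] [Module Λ M] [AddCommGroup Q] [Module Λ Q]
    [Module.FinitePresentation Λ Q] (U : C) :
    ∃ e : ModuleCat.of Λ (TensorProduct Λ
        (((constantSheaf J (ModuleCat.{u} Λ)).obj (ModuleCat.of Λ M)).obj.obj (op U)) Q) ≅
        ((constantSheaf J (ModuleCat.{u} Λ)).obj (ModuleCat.of Λ (TensorProduct Λ M Q))).obj.obj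
          (op U),
      ∀ (s : ((constantSheaf J (ModuleCat.{u} Λ)).obj (ModuleCat.of Λ M)).obj.obj (op U)) (q : Q),
        e.hom.hom (TensorProduct.tmul Λ s q) =
          (((constantSheaf J (ModuleCat.{u} Λ)).map
            (ModuleCat.ofHom ((TensorProduct.mk Λ M Q).flip q))).hom.app (op U)).hom s := by
  have hb := θ_bijective (secFun J Λ U) M (secFun_map_exact J Λ U) Q
  exact ⟨(LinearEquiv.ofBijective (θ (secFun J Λ U) M Q) hb).toModuleIso,
    fun s q => θ_tmul (secFun J Λ U) M Q s q⟩

/-- S9119: sections of the constant sheaf on a flat module over a coherent ring are flat. -/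
theorem flat_sections (hΛ : ∀ I : Ideal Λ, I.FG → Module.FinitePresentation Λ I)
    (M : Type u) [AddCommGroup M] [Module Λ M] [Module.Flat Λ M] (U : C) :
    Module.Flat Λ (((constantSheaf J (ModuleCat.{u} Λ)).obj (ModuleCat.of Λ M)).obj.obj (op U)) := by
  rw [Module.Flat.iff_lTensor_injective]
  intro I hI
  have := hΛ I hI
  have hb := θ_bijective (secFun J Λ U) M (secFun_map_exact J Λ U) I
  have hinj : Function.Injective
      ((secFun J Λ U).map (ModuleCat.ofHom (LinearMap.lTensor M I.subtype))).hom :=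
    map_injective (secFun J Λ U) (secFun_map_exact J Λ U) _
      (Module.Flat.lTensor_preserves_injective_linearMap I.subtype Subtype.val_injective)
  have hcomp : Function.Injective
      (fun x => θ (secFun J Λ U) M Λ (LinearMap.lTensor _ I.subtype x)) := by
    have : (fun x => θ (secFun J Λ U) M Λ (LinearMap.lTensor _ I.subtype x)) =
        fun x => ((secFun J Λ U).map (ModuleCat.ofHom (LinearMap.lTensor M I.subtype))).hom
          (θ (secFun J Λ U) M I x) := by
      funext x
      exact (θ_nat (secFun J Λ U) M I.subtype x).symm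
    rw [this]
    exact hinj.comp hb.1
  exact Function.Injective.of_comp hcomp

end Concrete

end

end Groth.Agent.H67.ConstTensor
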