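import Mathlib.CategoryTheory.Sites.ConcreteSheafification
import Mathlib.CategoryTheory.Sites.Continuous
import Mathlib.CategoryTheory.Sites.CoverPreserving

set_option autoImplicit false

universe w v₁ u₁ v₂ u₂

namespace Groth.Agent.H67

open CategoryTheory Opposite

variable {C : Type u₁} [Category.{v₁} C] {D : Type u₂} [Category.{v₂} D]

theorem map_comp_op_apply {P : Dᵒᵖ ⥤ Type w} {X Y Z : D} (f : X ⟶ Y) (g : Y ⟶ Z)
    (t : P.obj (op Z)) : P.map (f ≫ g).op t = P.map f.op (P.map g.op t) := by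
  rw [op_comp, Functor.map_comp_apply]

theorem family_congr {P : Dᵒᵖ ⥤ Type w} {X : D} {R : Presieve X}
    (x : Presieve.FamilyOfElements P R) {Y : D} {f f' : Y ⟶ X} (h : f = f') (hf : R f)
    (hf' : R f') : x f hf = x f' hf' := by
  subst h
  rfl

/-- A presheaf `P` on `D` which is a sheaf for the image of a sieve `R` under `Φ` restricts to a
sheaf for `R`, provided compatible families on `R` are compatible over `D`. -/
theorem isSheafFor_of_compat (Φ : C ⥤ D) (P : Dᵒᵖ ⥤ Type w) {U : C} (R : Sieve U)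
    (hP : Presieve.IsSheafFor P (R.functorPushforward Φ).arrows)
    (hkey : ∀ (x : Presieve.FamilyOfElements (Φ.op ⋙ P) R.arrows), x.Compatible →
      ∀ {Y₁ Y₂ : C} {X : D} (f₁ : X ⟶ Φ.obj Y₁) (f₂ : X ⟶ Φ.obj Y₂) {g₁ : Y₁ ⟶ U} {g₂ : Y₂ ⟶ U}
        (hg₁ : R g₁) (hg₂ : R g₂), f₁ ≫ Φ.map g₁ = f₂ ≫ Φ.map g₂ →
        P.map f₁.op (x g₁ hg₁) = P.map f₂.op (x g₂ hg₂)) :
    Presieve.IsSheafFor (Φ.op ⋙ P) R.arrows := by
  intro x hx
  have hy : (x.functorPushforward Φ).Compatible := by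
    rintro Z₁ Z₂ W g₁ g₂ f₁' f₂' H₁ H₂ eq
    unfold Presieve.FamilyOfElements.functorPushforward
    rcases Presieve.getFunctorPushforwardStructure H₁ with ⟨X₁, f₁, h₁, hf₁, rfl⟩
    rcases Presieve.getFunctorPushforwardStructure H₂ with ⟨X₂, f₂, h₂, hf₂, rfl⟩
    suffices P.map (g₁ ≫ h₁).op (x f₁ hf₁) = P.map (g₂ ≫ h₂).op (x f₂ hf₂) by
      simpa using this
    apply hkey x hx _ _ hf₁ hf₂
    simpa using eq
  have happ : ∀ {Y : C} {f : Y ⟶ U} (hf : R f),
      x.functorPushforward Φ (Φ.map f) (Presieve.image_mem_functorPushforward Φ R.arrows hf) =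
        x f hf := by
    intro Y f hf
    unfold Presieve.FamilyOfElements.functorPushforward
    rcases Presieve.getFunctorPushforwardStructure
      (Presieve.image_mem_functorPushforward Φ R.arrows hf) with ⟨X, g, f', hg, eq⟩
    simpa using hkey x hx f' (𝟙 _) hg hf (by simp [eq])
  apply existsUnique_of_exists_of_unique
  · exact ⟨hP.amalgamate (x.functorPushforward Φ) hy,
      fun V f hf => (hP.isAmalgamation hy (Φ.map f) _).trans (happ hf)⟩
  · intro y₁ y₂ hy₁ hy₂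
    apply hP.isSeparatedFor.ext
    rintro Y _ ⟨Z, g, h, hg, rfl⟩
    have e := congrArg (P.map h.op) ((hy₁ g hg).trans (hy₂ g hg).symm)
    rw [map_comp_op_apply, map_comp_op_apply]
    exact e

/-- Continuous functors and separated presheaves: a compatible family, over a covering sieve,
of a separated presheaf restricted along a continuous functor is compatible over the target. -/
theorem sep_compat (Φ : C ⥤ D) (J : GrothendieckTopology C) (K : GrothendieckTopology D)
    [Φ.IsContinuous J K] (H : Dᵒᵖ ⥤ Type (max w u₂ v₂))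
    (hsep : ∀ (X : D) (S : K.Cover X) (x y : H.obj (op X)),
        (∀ I : S.Arrow, H.map I.f.op x = H.map I.f.op y) → x = y)
    {U : C} (R : Sieve U) (hR : R ∈ J U)
    (z : Presieve.FamilyOfElements (Φ.op ⋙ H) R.arrows) (hz : z.Compatible)
    {V₁ V₂ : C} {X : D} (p₁ : X ⟶ Φ.obj V₁) (p₂ : X ⟶ Φ.obj V₂) {g₁ : V₁ ⟶ U} {g₂ : V₂ ⟶ U}
    (hg₁ : R g₁) (hg₂ : R g₂) (heq : p₁ ≫ Φ.map g₁ = p₂ ≫ Φ.map g₂) :
    H.map p₁.op (z g₁ hg₁) = H.map p₂.op (z g₂ hg₂) := by
  have hsh : Presheaf.IsSheaf K (K.plusObj H) := GrothendieckTopology.Plus.isSheaf_of_sep H hsep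
  have hinj : ∀ X : D, Function.Injective ((K.toPlus H).app (op X)) :=
    GrothendieckTopology.Plus.inj_of_sep H hsep
  have hsh' : Presieve.IsSheaf J (Φ.op ⋙ K.plusObj H) :=
    Φ.op_comp_isSheaf_of_isSheaf_type J ((isSheaf_iff_isSheaf_of_type _ _).1 hsh)
  let z' : Presieve.FamilyOfElements (Φ.op ⋙ K.plusObj H) R.arrows :=
    fun V g hg => (K.toPlus H).app (op (Φ.obj V)) (z g hg)
  have hnat : ∀ {A B : D} (f : A ⟶ B) (t : H.obj (op B)),
      (K.plusObj H).map f.op ((K.toPlus H).app (op B) t) =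
        (K.toPlus H).app (op A) (H.map f.op t) := by
    intro A B f t
    exact (NatTrans.naturality_apply (K.toPlus H) f.op t).symm
  have hz' : z'.Compatible := by
    intro Y₁ Y₂ Z h₁ h₂ f₁ f₂ hf₁ hf₂ e
    change (K.plusObj H).map (Φ.map h₁).op ((K.toPlus H).app _ (z f₁ hf₁)) =
      (K.plusObj H).map (Φ.map h₂).op ((K.toPlus H).app _ (z f₂ hf₂))
    rw [hnat, hnat]
    exact congrArg _ (hz h₁ h₂ hf₁ hf₂ e)
  let t := (hsh' R hR).amalgamate z' hz'
  have ht : ∀ {V : C} (g : V ⟶ U) (hg : R g),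
      (K.plusObj H).map (Φ.map g).op t = (K.toPlus H).app (op (Φ.obj V)) (z g hg) := by
    intro V g hg
    exact (hsh' R hR).valid_glue hz' g hg
  apply hinj
  rw [← hnat, ← hnat, ← ht g₁ hg₁, ← ht g₂ hg₂, ← map_comp_op_apply, ← map_comp_op_apply, heq]

end Groth.Agent.H67
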