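import Mathlib
import Groth.Agent.H67.CohTopos

/-!
# Helper library (helper67): finite coproducts of members of a generating class of quasi-compact
objects closed under fibre products; acyclicity on the class passes to filtered colimits
-/

set_option autoImplicit false
universe u

open CategoryTheory CategoryTheory.Limits Opposite Abelian AlgebraicTopology Simplicial

namespace Groth.Agent.H67.CopClass

open Groth.Agent.H67.SieveCoh Groth.Agent.H67.ResHom Groth.Agent.H30.CechRes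
  Groth.Agent.H67.CechTopos Groth.Agent.H67.TorsA Groth.Agent.H67.TorsB
  Groth.Agent.H67.RelCech Groth.Agent.H67.SecRep Groth.Agent.H67.LClass
  Groth.Agent.H67.CohTopos CohCx

variable {C : Type u} [SmallCategory C] {J : GrothendieckTopology C}

/-! ### Cartan's criterion relative to a class of objects and a class of covers -/

/-- a class of sheaves of sets and a class of epimorphisms between its members, with refinements
and closed under Čech nerves -/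
structure CClassG (𝒦 : Sheaf J (Type u) → Prop)
    (𝒢 : ∀ ⦃X' X : Sheaf J (Type u)⦄, (X' ⟶ X) → Prop) : Prop where
  refine : ∀ (X F : Sheaf J (Type u)) (g : F ⟶ X), 𝒦 X → Epi g →
    ∃ (X' : Sheaf J (Type u)) (k : X' ⟶ F), 𝒦 X' ∧ Epi (k ≫ g) ∧ 𝒢 (k ≫ g)
  nerve : ∀ (X' X : Sheaf J (Type u)) (f : X' ⟶ X), 𝒦 X' → 𝒦 X → 𝒢 f → ∀ n : ℕ,
    𝒦 ((Arrow.mk f).cechNerve.obj (op ⦋n⦌))

/-- `Hom`-exactness of the free Čech complexes of the distinguished epimorphisms -/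
def HEKG (𝒦 : Sheaf J (Type u) → Prop) (𝒢 : ∀ ⦃X' X : Sheaf J (Type u)⦄, (X' ⟶ X) → Prop)
    (F : Sheaf J AddCommGrpCat.{u}) : Prop :=
  ∀ (K' K : Sheaf J (Type u)) (f : K' ⟶ K), 𝒦 K' → 𝒦 K → Epi f → 𝒢 f →
    ∀ (n : ℕ) (φ : (Pc f).X (n + 1) ⟶ F),
      (Pc f).d (n + 2) (n + 1) ≫ φ = 0 → ∃ ψ : (Pc f).X n ⟶ F, (Pc f).d (n + 1) n ≫ ψ = φ

section G

variable {𝒦 : Sheaf J (Type u) → Prop} {𝒢 : ∀ ⦃X' X : Sheaf J (Type u)⦄, (X' ⟶ X) → Prop}

theorem lift_of_hekG (h𝒦 : CClassG 𝒦 𝒢) {S : ShortComplex (Sheaf J AddCommGrpCat.{u})}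
    (hS : S.ShortExact) (hF : HEKG 𝒦 𝒢 S.X₁) (K : Sheaf J (Type u)) (hK : 𝒦 K)
    (s : (Φ J).obj K ⟶ S.X₃) : ∃ r : (Φ J).obj K ⟶ S.X₂, r ≫ S.g = s := by
  obtain ⟨P, f, t, hf, ht⟩ := exists_local_lift hS K s
  obtain ⟨K', k, hK', hk, hg⟩ := h𝒦.refine K P f hK hf
  refine lift_of_cover hS (k ≫ f) hk s ((Φ J).map k ≫ t) ?_
    (fun c hc => hF K' K (k ≫ f) hK' hK hk hg 0 c hc)
  rw [Category.assoc, ht, Functor.map_comp, Category.assoc]

theorem ext_one_vanish_KG (h𝒦 : CClassG 𝒦 𝒢) (F : Sheaf J AddCommGrpCat.{u}) (hF : HEKG 𝒦 𝒢 F)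
    (K : Sheaf J (Type u)) (hK : 𝒦 K) : Subsingleton (Ext ((Φ J).obj K) F 1) :=
  ext_one_of_lift ((Φ J).obj K) (injSC_shortExact J F)
    (fun s => lift_of_hekG h𝒦 (injSC_shortExact J F) hF K hK s)

theorem hek_quotG (h𝒦 : CClassG 𝒦 𝒢) {S : ShortComplex (Sheaf J AddCommGrpCat.{u})}
    (hS : S.ShortExact) [Injective S.X₂] (hF : HEKG 𝒦 𝒢 S.X₁) : HEKG 𝒦 𝒢 S.X₃ := by
  intro K' K f hK' hK hf hg n c hc
  have hmono : Mono S.f := hS.mono_f
  have h1 : Subsingleton (Ext ((Pc f).X (n + 1)) S.X₁ 1) :=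
    ext_one_vanish_KG h𝒦 S.X₁ hF ((Arrow.mk f).cechNerve.obj (op ⦋n + 1⦌))
      (h𝒦.nerve K' K f hK' hK hg (n + 1))
  obtain ⟨c', hc'⟩ := ext_lift ((Pc f).X (n + 1)) hS c
  have h2 : ((Pc f).d (n + 2) (n + 1) ≫ c') ≫ S.g = 0 := by
    rw [Category.assoc, hc', hc]
  let e' : (Pc f).X (n + 2) ⟶ S.X₁ := hS.exact.lift _ h2
  have he' : e' ≫ S.f = (Pc f).d (n + 2) (n + 1) ≫ c' := hS.exact.lift_f _ h2
  have he2 : (Pc f).d (n + 3) (n + 2) ≫ e' = 0 := by
    rw [← cancel_mono S.f, Category.assoc, he', ← Category.assoc, (Pc f).d_comp_d, zero_comp,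
      zero_comp]
  obtain ⟨e, he⟩ := hF _ _ f hK' hK hf hg (n + 1) e' he2
  have h3 : (Pc f).d (n + 2) (n + 1) ≫ (c' - e ≫ S.f) = 0 := by
    rw [Preadditive.comp_sub, ← Category.assoc, he, he', sub_self]
  obtain ⟨b, hb⟩ := he_of_totallyAcyclic S.X₂ (isTotallyAcyclic_of_injective S.X₂) _ _ f hf n
    (c' - e ≫ S.f) h3
  refine ⟨b ≫ S.g, ?_⟩
  rw [← Category.assoc, hb, Preadditive.sub_comp, hc', Category.assoc, S.zero, comp_zero, sub_zero]

theorem ext_vanish_of_hekG (h𝒦 : CClassG 𝒦 𝒢) (p : ℕ) : ∀ (F : Sheaf J AddCommGrpCat.{u}),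
    HEKG 𝒦 𝒢 F → ∀ K : Sheaf J (Type u), 𝒦 K → Subsingleton (Ext ((Φ J).obj K) F (p + 1)) := by
  induction p with
  | zero =>
    intro F h K hK
    exact ext_one_vanish_KG h𝒦 F h K hK
  | succ p ih =>
    intro F h K hK
    have hS := injSC_shortExact J F
    have hQ : HEKG 𝒦 𝒢 (injSC J F).X₃ := hek_quotG h𝒦 hS h
    exact ext_shift_up _ hS p (ih _ hQ K hK)

variable {Λ : Type u} [SmallCategory Λ] [IsFiltered Λ]

theorem hek_colimitG (h𝒦 : CClassG 𝒦 𝒢) (D : Λ ⥤ Sheaf J AddCommGrpCat.{u}) (c : Cocone D)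
    (hA : ∀ X, 𝒦 X → HomCommutes ((Φ J).obj X) D c) (hD : ∀ i, HEKG 𝒦 𝒢 (D.obj i)) :
    HEKG 𝒦 𝒢 c.pt := by
  intro K' K f hK' hK hf hg n φ hφ
  have hA1 : HomCommutes ((Pc f).X (n + 1)) D c :=
    hA _ (h𝒦.nerve K' K f hK' hK hg (n + 1))
  have hA2 : HomCommutes ((Pc f).X (n + 2)) D c :=
    hA _ (h𝒦.nerve K' K f hK' hK hg (n + 2))
  obtain ⟨i, φi, hφi⟩ := hA1.surj φ
  have h0 : ((Pc f).d (n + 2) (n + 1) ≫ φi) ≫ c.ι.app i = 0 := by
    rw [Category.assoc, hφi, hφ]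
  obtain ⟨j, g, hg'⟩ := hA2.inj i _ h0
  have hcoc : (Pc f).d (n + 2) (n + 1) ≫ (φi ≫ D.map g) = 0 := by
    rw [← Category.assoc]
    exact hg'
  obtain ⟨ψj, hψj⟩ := hD j K' K f hK' hK hf hg n (φi ≫ D.map g) hcoc
  refine ⟨ψj ≫ c.ι.app j, ?_⟩
  rw [← Category.assoc, hψj, Category.assoc, c.w g, hφi]

end G

/-! ### Generalities on sections -/

lemma sec_ext_loc (X : Sheaf J (Type u)) {V : C} (x y : X.obj.obj (op V))
    (h : Loc J V (fun W g => X.obj.map g.op x = X.obj.map g.op y)) : x = y := by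
  obtain ⟨R, hR, hxy⟩ := h
  have hsh : Presieve.IsSheaf J X.obj := (isSheaf_iff_isSheaf_of_type J _).1 X.property
  exact (hsh.isSeparated _ hR).ext (fun W g hg => hxy g hg)

lemma mono_of_inj {K X : Sheaf J (Type u)} (m : K ⟶ X)
    (h : ∀ (V : C) (t t' : K.obj.obj (op V)), m.hom.app (op V) t = m.hom.app (op V) t' → t = t') :
    Mono m := by
  constructor
  intro W a b hab
  apply Sheaf.hom_ext
  apply NatTrans.ext
  funext V
  apply ConcreteCategory.hom_ext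
  intro x
  exact h V.unop _ _ (congrArg (fun t' : W ⟶ X => t'.hom.app V x) hab)

lemma hom_inv_apply {X X' : Sheaf J (Type u)} (e : X ≅ X') (V : Cᵒᵖ) (x : X.obj.obj V) :
    e.inv.hom.app V (e.hom.hom.app V x) = x :=
  congrArg (fun m : X ⟶ X => m.hom.app V x) e.hom_inv_id

lemma inv_hom_apply {X X' : Sheaf J (Type u)} (e : X ≅ X') (V : Cᵒᵖ) (x : X'.obj.obj V) :
    e.hom.hom.app V (e.inv.hom.app V x) = x :=
  congrArg (fun m : X' ⟶ X' => m.hom.app V x) e.inv_hom_id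

lemma iso_inj {X X' : Sheaf J (Type u)} (e : X ≅ X') (V : Cᵒᵖ) (x y : X.obj.obj V)
    (h : e.hom.hom.app V x = e.hom.hom.app V y) : x = y := by
  rw [← hom_inv_apply e V x, ← hom_inv_apply e V y, h]

lemma cop_hom_ext {κ : Type u} {T : κ → Sheaf J (Type u)} {Z : Sheaf J (Type u)} (a b : cop T ⟶ Z)
    (h : ∀ k, inj T k ≫ a = inj T k ≫ b) : a = b := by
  apply Sheaf.hom_ext
  refine sheafify_hom_ext (J := J) (P := copP T) a.hom b.hom Z.property ?_
  apply NatTrans.ext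
  funext V
  apply ConcreteCategory.hom_ext
  intro x
  rcases x with ⟨k, t⟩
  exact congrArg (fun m : T k ⟶ Z => m.hom.app V t) (h k)

lemma isPullback_of_comp_mono {𝒞 : Type*} [Category 𝒞] {X Y Z W : 𝒞} (f : X ⟶ Z) (g : Y ⟶ Z)
    (m : Z ⟶ W) [Mono m] [HasPullback (f ≫ m) (g ≫ m)] :
    IsPullback (pullback.fst (f ≫ m) (g ≫ m)) (pullback.snd (f ≫ m) (g ≫ m)) f g := by
  have w : pullback.fst (f ≫ m) (g ≫ m) ≫ f = pullback.snd (f ≫ m) (g ≫ m) ≫ g := by
    rw [← cancel_mono m, Category.assoc, Category.assoc]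
    exact pullback.condition
  refine ⟨⟨w⟩, ⟨PullbackCone.IsLimit.mk _
    (fun s => pullback.lift s.fst s.snd (by
      rw [← Category.assoc, s.condition, Category.assoc])) ?_ ?_ ?_⟩⟩
  · intro s
    exact pullback.lift_fst _ _ _
  · intro s
    exact pullback.lift_snd _ _ _
  · intro s l h1 h2
    apply pullback.hom_ext
    · rw [pullback.lift_fst]
      exact h1
    · rw [pullback.lift_snd]
      exact h2

lemma ext_subsingleton_of_iso {Z Z' F : Sheaf J AddCommGrpCat.{u}} (e : Z ≅ Z') {n : ℕ}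
    (h : Subsingleton (Ext Z' F n)) : Subsingleton (Ext Z F n) := by
  have key : ∀ x : Ext Z F n, x = 0 := fun x => by
    have e1 : x = (Ext.mk₀ e.hom).comp ((Ext.mk₀ e.inv).comp x (zero_add n)) (zero_add n) := by
      rw [Ext.mk₀_comp_mk₀_assoc, e.hom_inv_id, Ext.mk₀_id_comp]
    rw [e1, Subsingleton.elim ((Ext.mk₀ e.inv).comp x (zero_add n)) 0, Ext.comp_zero]
  exact ⟨fun x y => by rw [key x, key y]⟩

/-! ### Coproduct decompositions -/

/-- the maps `j a` exhibit `X` as the coproduct of the `A a` -/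
structure IsCop {κ : Type u} (A : κ → Sheaf J (Type u)) (X : Sheaf J (Type u))
    (j : ∀ a, A a ⟶ X) : Prop where
  surj : ∀ (V : C) (x : X.obj.obj (op V)), Loc J V (fun W g =>
    ∃ (a : κ) (t : (A a).obj.obj (op W)), (j a).hom.app (op W) t = X.obj.map g.op x)
  inj : ∀ (a : κ) (V : C) (t t' : (A a).obj.obj (op V)),
    (j a).hom.app (op V) t = (j a).hom.app (op V) t' → t = t'
  disj : ∀ (a b : κ), a ≠ b → ∀ (V : C) (t : (A a).obj.obj (op V)) (t' : (A b).obj.obj (op V)),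
    (j a).hom.app (op V) t = (j b).hom.app (op V) t' → (⊥ : Sieve V) ∈ J V

lemma isCop_cop {κ : Type u} (T : κ → Sheaf J (Type u)) : IsCop T (cop T) (inj T) where
  surj := fun V x => inj_surj T x
  inj := fun a V t t' h => inj_injective T a t t' h
  disj := fun a b hab V t t' h => inj_disjoint T hab t t' h

lemma isCop_single (K : Sheaf J (Type u)) :
    IsCop (fun _ : PUnit.{u + 1} => K) K (fun _ => 𝟙 K) where
  surj := fun V x => Loc.of_forall (fun W g => ⟨PUnit.unit, K.obj.map g.op x, rfl⟩)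
  inj := fun _ V t t' h => h
  disj := fun a b hab => absurd (Subsingleton.elim a b) hab

namespace IsCop

variable {κ : Type u} {A : κ → Sheaf J (Type u)} {X : Sheaf J (Type u)} {j : ∀ a, A a ⟶ X}

lemma js (h : IsCop A X j) : JointlySurjective j := (js_iff_loc j).2 h.surj

lemma qc [Finite κ] (h : IsCop A X j) (hA : ∀ a, IsQcObject (A a)) : IsQcObject X :=
  qc_of_finite_cover A j h.js hA

lemma isIso_copDesc (h : IsCop A X j) : IsIso (copDesc j) := by
  haveI : Epi (copDesc j) := by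
    apply epi_of_loc
    intro V x
    refine (h.surj V x).mono (fun W g hg => ?_)
    obtain ⟨a, t, ht⟩ := hg
    refine ⟨(CohTopos.inj A a).hom.app (op W) t, ?_⟩
    have e1 : (copDesc j).hom.app (op W) ((CohTopos.inj A a).hom.app (op W) t) = (j a).hom.app (op W) t :=
      congrArg (fun m : A a ⟶ X => m.hom.app (op W) t) (inj_desc j a)
    rw [e1, ht]
  haveI : Mono (copDesc j) := by
    apply mono_of_inj
    intro V σ σ' hσ
    apply sec_ext_loc
    refine (inj_surj A σ).bind (fun W g hg => ?_)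
    obtain ⟨a, t, ht⟩ := hg
    refine (inj_surj A ((cop A).obj.map g.op σ')).mono (fun W' g' hg' => ?_)
    obtain ⟨b, t', ht'⟩ := hg'
    have ea : (copDesc j).hom.app (op W') ((CohTopos.inj A a).hom.app (op W') ((A a).obj.map g'.op t)) =
        (j a).hom.app (op W') ((A a).obj.map g'.op t) :=
      congrArg (fun m : A a ⟶ X => m.hom.app (op W') ((A a).obj.map g'.op t)) (inj_desc j a)
    have eb : (copDesc j).hom.app (op W') ((CohTopos.inj A b).hom.app (op W') t') =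
        (j b).hom.app (op W') t' :=
      congrArg (fun m : A b ⟶ X => m.hom.app (op W') t') (inj_desc j b)
    have hL : (copDesc j).hom.app (op W') ((cop A).obj.map g'.op ((cop A).obj.map g.op σ)) =
        X.obj.map g'.op (X.obj.map g.op ((copDesc j).hom.app (op V) σ)) := by
      rw [map_apply' (copDesc j), map_apply' (copDesc j)]
    have hR : (copDesc j).hom.app (op W') ((cop A).obj.map g'.op ((cop A).obj.map g.op σ')) =
        X.obj.map g'.op (X.obj.map g.op ((copDesc j).hom.app (op V) σ')) := by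
      rw [map_apply' (copDesc j), map_apply' (copDesc j)]
    have e1 : (j a).hom.app (op W') ((A a).obj.map g'.op t) = (j b).hom.app (op W') t' := by
      rw [← ea, ← eb, map_apply' (CohTopos.inj A a), ht, ht', hL, hR, hσ]
    show (cop A).obj.map (g' ≫ g).op σ = (cop A).obj.map (g' ≫ g).op σ'
    rw [map_comp', map_comp', ← ht, ← ht', ← map_apply' (CohTopos.inj A a)]
    by_cases hab : a = b
    · subst hab
      rw [h.inj a W' _ _ e1]
    · exact sec_ext_loc _ _ _ ⟨⊥, h.disj a b hab W' _ _ e1, fun _ _ hh => hh.elim⟩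
  exact isIso_of_mono_of_epi (copDesc j)

lemma hom_ext (h : IsCop A X j) {Z : Sheaf J (Type u)} (f g : X ⟶ Z)
    (hfg : ∀ a, j a ≫ f = j a ≫ g) : f = g := by
  haveI := h.isIso_copDesc
  rw [← cancel_epi (copDesc j)]
  apply cop_hom_ext
  intro a
  rw [← Category.assoc, ← Category.assoc, inj_desc]
  exact hfg a

lemma desc (h : IsCop A X j) {Z : Sheaf J (Type u)} (f : ∀ a, A a ⟶ Z) :
    ∃ g : X ⟶ Z, ∀ a, j a ≫ g = f a := by
  haveI := h.isIso_copDesc
  refine ⟨inv (copDesc j) ≫ copDesc f, fun a => ?_⟩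
  have e1 : j a ≫ inv (copDesc j) = CohTopos.inj A a := by
    have e0 : CohTopos.inj A a ≫ copDesc j = j a := inj_desc j a
    rw [← e0, Category.assoc, IsIso.hom_inv_id, Category.comp_id]
  rw [← Category.assoc, e1, inj_desc]

lemma of_iso (h : IsCop A X j) {X' : Sheaf J (Type u)} (e : X ≅ X') :
    IsCop A X' (fun a => j a ≫ e.hom) where
  surj := fun V x' => by
    refine (h.surj V (e.inv.hom.app (op V) x')).mono (fun W g hg => ?_)
    obtain ⟨a, t, ht⟩ := hg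
    refine ⟨a, t, ?_⟩
    show e.hom.hom.app _ ((j a).hom.app _ t) = _
    rw [ht, map_apply' e.hom, inv_hom_apply]
  inj := fun a V t t' hh => h.inj a V t t' (iso_inj e _ _ _ hh)
  disj := fun a b hab V t t' hh => h.disj a b hab V t t' (iso_inj e _ _ _ hh)

end IsCop

/-- acyclicity on the summands gives acyclicity on the coproduct -/
theorem ext_vanish_of_isCop {κ : Type u} {A : κ → Sheaf J (Type u)} {X : Sheaf J (Type u)}
    {j : ∀ a, A a ⟶ X} (h : IsCop A X j) : ∀ (p : ℕ) (F : Sheaf J AddCommGrpCat.{u}),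
    (∀ a q, Subsingleton (Ext ((Φ J).obj (A a)) F (q + 1))) →
      Subsingleton (Ext ((Φ J).obj X) F (p + 1)) := by
  intro p
  induction p with
  | zero =>
    intro F hF
    refine ext_one_of_lift ((Φ J).obj X) (injSC_shortExact J F) (fun φ => ?_)
    have h1 : ∀ a, ∃ ψ : (Φ J).obj (A a) ⟶ (injSC J F).X₂,
        ψ ≫ (injSC J F).g = (Φ J).map (j a) ≫ φ := fun a => by
      haveI : Subsingleton (Ext ((Φ J).obj (A a)) (injSC J F).X₁ 1) := hF a 0
      exact ext_lift ((Φ J).obj (A a)) (injSC_shortExact J F) _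
    choose ψ hψ using h1
    obtain ⟨g, hg⟩ := h.desc (fun a => (adj J).homEquiv _ _ (ψ a))
    refine ⟨((adj J).homEquiv _ _).symm g, ?_⟩
    apply ((adj J).homEquiv _ _).injective
    rw [Adjunction.homEquiv_naturality_right, Equiv.apply_symm_apply]
    apply h.hom_ext
    intro a
    calc j a ≫ g ≫ (UU J).map (injSC J F).g
        = (j a ≫ g) ≫ (UU J).map (injSC J F).g := (Category.assoc _ _ _).symm
      _ = (adj J).homEquiv _ _ (ψ a) ≫ (UU J).map (injSC J F).g := by rw [hg a]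
      _ = (adj J).homEquiv _ _ (ψ a ≫ (injSC J F).g) :=
          ((adj J).homEquiv_naturality_right _ _).symm
      _ = (adj J).homEquiv _ _ ((Φ J).map (j a) ≫ φ) := by rw [hψ a]
      _ = j a ≫ (adj J).homEquiv _ _ φ := (adj J).homEquiv_naturality_left _ _
  | succ p ih =>
    intro F hF
    exact ext_shift_up _ (injSC_shortExact J F) p
      (ih _ (fun a q => ext_shift_down _ (injSC_shortExact J F) q (hF a (q + 1))))

/-! ### Generating classes closed under fibre products -/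

/-- a generating class of quasi-compact objects closed under fibre products -/
structure Gen (S : Set (Sheaf J (Type u))) : Prop where
  qc : ∀ K ∈ S, IsQcObject K
  gen : ∀ X : Sheaf J (Type u), ∃ (ι : Type u) (F : ι → Sheaf J (Type u)) (π : ∀ i, F i ⟶ X),
    (∀ i, F i ∈ S) ∧ JointlySurjective π
  pb : ∀ {P X Y Z : Sheaf J (Type u)} {fst : P ⟶ X} {snd : P ⟶ Y} {f : X ⟶ Z} {g : Y ⟶ Z},
    IsPullback fst snd f g → X ∈ S → Y ∈ S → Z ∈ S → P ∈ S

variable {S : Set (Sheaf J (Type u))}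

lemma gen_finite_over' (hS : Gen S) {F' X : Sheaf J (Type u)} (g : F' ⟶ X) [Epi g]
    (hX : IsQcObject X) :
    ∃ (κ : Type u) (_ : Finite κ) (F : κ → Sheaf J (Type u)) (π : ∀ k, F k ⟶ F'),
      (∀ k, F k ∈ S) ∧ JointlySurjective (fun k => π k ≫ g) := by
  obtain ⟨ι, F, π, hF, hπ⟩ := hS.gen F'
  have hjs : JointlySurjective (fun i => π i ≫ g) := by
    rw [js_iff_loc]
    intro V x
    refine (loc_of_epi g x).bind (fun W r hr => ?_)
    obtain ⟨y, hy⟩ := hr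
    refine ((js_iff_loc π).1 hπ W y).mono (fun W' r' hr' => ?_)
    obtain ⟨i, z, hz⟩ := hr'
    refine ⟨i, z, ?_⟩
    show g.hom.app _ ((π i).hom.app _ z) = _
    rw [hz, map_apply' g, hy, map_comp']
  obtain ⟨t, ht⟩ := hX ι _ _ hjs
  exact ⟨t, inferInstance, fun k => F k, fun k => π k, fun k => hF k, ht⟩

/-- an object over `X` decomposed compatibly with a decomposition of `X` -/
def GoodOver (S : Set (Sheaf J (Type u))) {κ : Type u} (A : κ → Sheaf J (Type u))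
    {X : Sheaf J (Type u)} (j : ∀ a, A a ⟶ X) (Y : Sheaf J (Type u)) (y : Y ⟶ X) : Prop :=
  ∃ (μ : Type u) (_ : Finite μ) (B : μ → Sheaf J (Type u)) (i : ∀ b, B b ⟶ Y) (β : μ → κ)
    (ψ : ∀ b, B b ⟶ A (β b)), (∀ b, B b ∈ S) ∧ IsCop B Y i ∧ ∀ b, i b ≫ y = ψ b ≫ j (β b)

lemma goodOver_congr {κ : Type u} {A : κ → Sheaf J (Type u)} {X : Sheaf J (Type u)}
    {j : ∀ a, A a ⟶ X} {Y : Sheaf J (Type u)} {y y' : Y ⟶ X} (h : GoodOver S A j Y y)
    (e : y' = y) : GoodOver S A j Y y' := e ▸ h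

lemma goodOver_iso {κ : Type u} {A : κ → Sheaf J (Type u)} {X : Sheaf J (Type u)}
    {j : ∀ a, A a ⟶ X} {Y Y' : Sheaf J (Type u)} {y : Y ⟶ X} (e : Y' ≅ Y)
    (h : GoodOver S A j Y y) : GoodOver S A j Y' (e.hom ≫ y) := by
  obtain ⟨μ, hμ, B, i, β, ψ, hB, hi, hc⟩ := h
  refine ⟨μ, hμ, B, fun b => i b ≫ e.inv, β, ψ, hB, hi.of_iso e.symm, fun b => ?_⟩
  have e1 : (i b ≫ e.inv) ≫ e.hom ≫ y = i b ≫ y := by
    rw [Category.assoc, ← Category.assoc e.inv, e.inv_hom_id, Category.id_comp]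
  rw [e1]
  exact hc b

lemma piece_mem (hS : Gen S) {κ : Type u} {A : κ → Sheaf J (Type u)}
    {X : Sheaf J (Type u)} {j : ∀ a, A a ⟶ X} (hj : IsCop A X j) (hA : ∀ a, A a ∈ S)
    {B B' : Sheaf J (Type u)} (hB : B ∈ S) (hB' : B' ∈ S) (a a' : κ) (haa : a = a')
    (ψ : B ⟶ A a) (ψ' : B' ⟶ A a') (v : B ⟶ X) (v' : B' ⟶ X) (hv : v = ψ ≫ j a)
    (hv' : v' = ψ' ≫ j a') : pullback v v' ∈ S := by
  subst haa
  subst hv
  subst hv'
  haveI : Mono (j a) := mono_of_inj (j a) (hj.inj a)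
  exact hS.pb (isPullback_of_comp_mono ψ ψ' (j a)) hB hB' (hA a)

/-- the index set of the pieces of a fibre product -/
abbrev PbIdx {κ μ μ' : Type u} (β : μ → κ) (β' : μ' → κ) : Type u :=
  {p : μ × μ' // β p.1 = β' p.2}

theorem goodOver_pullback (hS : Gen S) {κ : Type u}
    {A : κ → Sheaf J (Type u)} {X : Sheaf J (Type u)} {j : ∀ a, A a ⟶ X} (hj : IsCop A X j)
    (hA : ∀ a, A a ∈ S) {P Y₁ Y₂ : Sheaf J (Type u)} {fst : P ⟶ Y₁} {snd : P ⟶ Y₂}
    {y₁ : Y₁ ⟶ X} {y₂ : Y₂ ⟶ X} (hP : IsPullback fst snd y₁ y₂)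
    (h₁ : GoodOver S A j Y₁ y₁) (h₂ : GoodOver S A j Y₂ y₂) : GoodOver S A j P (fst ≫ y₁) := by
  classical
  obtain ⟨μ, hμ, B, i, β, ψ, hB, hi, hc⟩ := h₁
  obtain ⟨μ', hμ', B', i', β', ψ', hB', hi', hc'⟩ := h₂
  haveI := hμ
  haveI := hμ'
  have hw : ∀ p : PbIdx β β', (pullback.fst (i p.1.1 ≫ y₁) (i' p.1.2 ≫ y₂) ≫ i p.1.1) ≫ y₁ =
      (pullback.snd (i p.1.1 ≫ y₁) (i' p.1.2 ≫ y₂) ≫ i' p.1.2) ≫ y₂ := fun p => by
    rw [Category.assoc, Category.assoc]
    exact pullback.condition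
  obtain ⟨ιQ, hι1, hι2⟩ : ∃ ιQ : ∀ p : PbIdx β β', pullback (i p.1.1 ≫ y₁) (i' p.1.2 ≫ y₂) ⟶ P,
      (∀ p, ιQ p ≫ fst = pullback.fst (i p.1.1 ≫ y₁) (i' p.1.2 ≫ y₂) ≫ i p.1.1) ∧
      (∀ p, ιQ p ≫ snd = pullback.snd (i p.1.1 ≫ y₁) (i' p.1.2 ≫ y₂) ≫ i' p.1.2) :=
    ⟨fun p => hP.lift _ _ (hw p), fun p => hP.lift_fst _ _ (hw p),
      fun p => hP.lift_snd _ _ (hw p)⟩
  have sι1 : ∀ (p : PbIdx β β') (V : C)
      (q : (pullback (i p.1.1 ≫ y₁) (i' p.1.2 ≫ y₂)).obj.obj (op V)),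
      fst.hom.app (op V) ((ιQ p).hom.app (op V) q) =
        (i p.1.1).hom.app (op V)
          ((pullback.fst (i p.1.1 ≫ y₁) (i' p.1.2 ≫ y₂)).hom.app (op V) q) :=
    fun p V q => congrArg
      (fun m : pullback (i p.1.1 ≫ y₁) (i' p.1.2 ≫ y₂) ⟶ Y₁ => m.hom.app (op V) q) (hι1 p)
  have sι2 : ∀ (p : PbIdx β β') (V : C)
      (q : (pullback (i p.1.1 ≫ y₁) (i' p.1.2 ≫ y₂)).obj.obj (op V)),
      snd.hom.app (op V) ((ιQ p).hom.app (op V) q) =
        (i' p.1.2).hom.app (op V)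
          ((pullback.snd (i p.1.1 ≫ y₁) (i' p.1.2 ≫ y₂)).hom.app (op V) q) :=
    fun p V q => congrArg
      (fun m : pullback (i p.1.1 ≫ y₁) (i' p.1.2 ≫ y₂) ⟶ Y₂ => m.hom.app (op V) q) (hι2 p)
  refine ⟨PbIdx β β', inferInstance,
    fun p => pullback (i p.1.1 ≫ y₁) (i' p.1.2 ≫ y₂), ιQ, fun p => β p.1.1,
    fun p => pullback.fst (i p.1.1 ≫ y₁) (i' p.1.2 ≫ y₂) ≫ ψ p.1.1, fun p => ?_, ⟨?_, ?_, ?_⟩,
    fun p => ?_⟩
  · exact piece_mem hS hj hA (hB p.1.1) (hB' p.1.2) (β p.1.1) (β' p.1.2) p.2 (ψ p.1.1)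
      (ψ' p.1.2) (i p.1.1 ≫ y₁) (i' p.1.2 ≫ y₂) (hc p.1.1) (hc' p.1.2)
  · -- surjectivity
    intro V p
    refine (hi.surj V (fst.hom.app (op V) p)).bind (fun W g hg => ?_)
    obtain ⟨b, t, ht⟩ := hg
    refine (hi'.surj W (snd.hom.app (op W) (P.obj.map g.op p))).bind (fun W' g' hg' => ?_)
    obtain ⟨b', t', ht'⟩ := hg'
    have e1 : (i b).hom.app (op W') ((B b).obj.map g'.op t) =
        fst.hom.app (op W') (P.obj.map (g' ≫ g).op p) := by
      rw [map_apply' (i b), ht, map_apply' fst, map_comp']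
    have e2 : (i' b').hom.app (op W') t' = snd.hom.app (op W') (P.obj.map (g' ≫ g).op p) := by
      rw [ht', map_apply' snd, map_apply' snd, map_comp']
    have hcond : y₁.hom.app (op W') (fst.hom.app (op W') (P.obj.map (g' ≫ g).op p)) =
        y₂.hom.app (op W') (snd.hom.app (op W') (P.obj.map (g' ≫ g).op p)) :=
      congrArg (fun m : P ⟶ X => m.hom.app (op W') (P.obj.map (g' ≫ g).op p)) hP.w
    have e3 : (i b ≫ y₁).hom.app (op W') ((B b).obj.map g'.op t) =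
        (i' b' ≫ y₂).hom.app (op W') t' := by
      show y₁.hom.app _ ((i b).hom.app _ _) = y₂.hom.app _ ((i' b').hom.app _ _)
      rw [e1, e2]
      exact hcond
    by_cases hbb : β b = β' b'
    · obtain ⟨q, hq1, hq2⟩ := sec_pullback (i b ≫ y₁) (i' b' ≫ y₂) _ t' e3
      have hq : (ιQ ⟨(b, b'), hbb⟩).hom.app (op W') q = P.obj.map (g' ≫ g).op p := by
        apply sec_isPullback_ext hP
        · exact (sι1 ⟨(b, b'), hbb⟩ W' q).trans
            ((congrArg (fun z => (i b).hom.app (op W') z) hq1).trans e1)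
        · exact (sι2 ⟨(b, b'), hbb⟩ W' q).trans
            ((congrArg (fun z => (i' b').hom.app (op W') z) hq2).trans e2)
      refine Loc.of_forall (fun W'' g'' => ⟨⟨(b, b'), hbb⟩,
        (pullback (i b ≫ y₁) (i' b' ≫ y₂)).obj.map g''.op q, ?_⟩)
      have e4 := map_apply' (ιQ ⟨(b, b'), hbb⟩) g''.op q
      refine e4.trans ?_
      rw [hq, ← map_comp', Category.assoc]
    · have hX : (j (β b)).hom.app (op W') ((ψ b).hom.app (op W') ((B b).obj.map g'.op t)) =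
          (j (β' b')).hom.app (op W') ((ψ' b').hom.app (op W') t') := by
        have h1 := congrArg (fun m : B b ⟶ X => m.hom.app (op W') ((B b).obj.map g'.op t)) (hc b)
        have h2 := congrArg (fun m : B' b' ⟶ X => m.hom.app (op W') t') (hc' b')
        exact h1.symm.trans (e3.trans h2)
      exact ⟨⊥, hj.disj (β b) (β' b') hbb W' ((ψ b).hom.app (op W') ((B b).obj.map g'.op t))
        ((ψ' b').hom.app (op W') t') hX, fun _ _ hh => hh.elim⟩
  · -- injectivity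
    intro p V q q' hqq
    apply sec_isPullback_ext (IsPullback.of_hasPullback (i p.1.1 ≫ y₁) (i' p.1.2 ≫ y₂))
    · apply hi.inj p.1.1 V
      exact (sι1 p V q).symm.trans
        ((congrArg (fun z => fst.hom.app (op V) z) hqq).trans (sι1 p V q'))
    · apply hi'.inj p.1.2 V
      exact (sι2 p V q).symm.trans
        ((congrArg (fun z => snd.hom.app (op V) z) hqq).trans (sι2 p V q'))
  · -- disjointness
    intro p p' hpp V q q' hqq
    by_cases hb : p.1.1 = p'.1.1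
    · have hb' : p.1.2 ≠ p'.1.2 := fun hcc => hpp (Subtype.ext (Prod.ext hb hcc))
      exact hi'.disj _ _ hb' V _ _ ((sι2 p V q).symm.trans
        ((congrArg (fun z => snd.hom.app (op V) z) hqq).trans (sι2 p' V q')))
    · exact hi.disj _ _ hb V _ _ ((sι1 p V q).symm.trans
        ((congrArg (fun z => fst.hom.app (op V) z) hqq).trans (sι1 p' V q')))
  · -- compatibility
    calc ιQ p ≫ fst ≫ y₁ = (ιQ p ≫ fst) ≫ y₁ := (Category.assoc _ _ _).symm
      _ = (pullback.fst (i p.1.1 ≫ y₁) (i' p.1.2 ≫ y₂) ≫ i p.1.1) ≫ y₁ := by rw [hι1 p]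
      _ = pullback.fst (i p.1.1 ≫ y₁) (i' p.1.2 ≫ y₂) ≫ (i p.1.1 ≫ y₁) := Category.assoc _ _ _
      _ = pullback.fst (i p.1.1 ≫ y₁) (i' p.1.2 ≫ y₂) ≫ (ψ p.1.1 ≫ j (β p.1.1)) :=
          congrArg (fun m => pullback.fst (i p.1.1 ≫ y₁) (i' p.1.2 ≫ y₂) ≫ m) (hc p.1.1)
      _ = (pullback.fst (i p.1.1 ≫ y₁) (i' p.1.2 ≫ y₂) ≫ ψ p.1.1) ≫ j (β p.1.1) :=
          (Category.assoc _ _ _).symm

theorem goodOver_nerve (hS : Gen S) {κ : Type u} {A : κ → Sheaf J (Type u)}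
    {X : Sheaf J (Type u)} {j : ∀ a, A a ⟶ X} (hj : IsCop A X j) (hA : ∀ a, A a ∈ S)
    {X' : Sheaf J (Type u)} (f : X' ⟶ X) (hf : GoodOver S A j X' f) :
    ∀ n : ℕ, GoodOver S A j (Wn f n) (WidePullback.base (fun _ : Fin (n + 1) => f)) := by
  intro n
  induction n with
  | zero =>
    have h0 := goodOver_iso (p0Iso (Arrow.mk f)) hf
    exact goodOver_congr h0 (base_eq (Arrow.mk f))
  | succ n ih =>
    have h1 := goodOver_pullback hS hj hA (nerve_isPullback f n) ih hf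
    refine goodOver_congr h1 ?_
    unfold dropLast
    rw [WidePullback.lift_base]

/-- finite coproducts of members of `S` -/
def KS (S : Set (Sheaf J (Type u))) (X : Sheaf J (Type u)) : Prop :=
  ∃ (κ : Type u) (_ : Finite κ) (A : κ → Sheaf J (Type u)) (j : ∀ a, A a ⟶ X),
    (∀ a, A a ∈ S) ∧ IsCop A X j

/-- morphisms compatible with coproduct decompositions -/
def GS (S : Set (Sheaf J (Type u))) ⦃X' X : Sheaf J (Type u)⦄ (f : X' ⟶ X) : Prop :=
  ∃ (κ : Type u) (_ : Finite κ) (A : κ → Sheaf J (Type u)) (j : ∀ a, A a ⟶ X),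
    (∀ a, A a ∈ S) ∧ IsCop A X j ∧ GoodOver S A j X' f

lemma ks_of_goodOver {κ : Type u} {A : κ → Sheaf J (Type u)} {X : Sheaf J (Type u)}
    {j : ∀ a, A a ⟶ X} {Y : Sheaf J (Type u)} {y : Y ⟶ X} (h : GoodOver S A j Y y) : KS S Y := by
  obtain ⟨μ, hμ, B, i, β, ψ, hB, hi, -⟩ := h
  exact ⟨μ, hμ, B, i, hB, hi⟩

lemma ks_qc (hS : Gen S) {Y : Sheaf J (Type u)} (hY : KS S Y) : IsQcObject Y := by
  obtain ⟨κ, hκ, A, j, hA, hj⟩ := hY
  haveI := hκ
  exact hj.qc (fun a => hS.qc _ (hA a))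

theorem ks_refine (hS : Gen S) (X F : Sheaf J (Type u)) (g : F ⟶ X) (hX : KS S X) (hg : Epi g) :
    ∃ (X' : Sheaf J (Type u)) (k : X' ⟶ F), KS S X' ∧ Epi (k ≫ g) ∧ GS S (k ≫ g) := by
  obtain ⟨κ, hκ, A, j, hA, hj⟩ := hX
  haveI := hκ
  haveI := hg
  have hepi : ∀ a, Epi (pullback.snd g (j a)) := fun a => by
    have hE : EffectiveEpi (pullback.snd g (j a)) :=
      Groth.Agent.S5218.result J g (pullback.fst g (j a)) (j a) (pullback.snd g (j a))
        (IsPullback.of_hasPullback g (j a)).flip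
    infer_instance
  have h1 : ∀ a, ∃ (κ' : Type u) (_ : Finite κ') (G : κ' → Sheaf J (Type u))
      (π : ∀ l, G l ⟶ pullback g (j a)),
      (∀ l, G l ∈ S) ∧ JointlySurjective (fun l => π l ≫ pullback.snd g (j a)) := fun a => by
    haveI := hepi a
    exact gen_finite_over' hS (pullback.snd g (j a)) (hS.qc _ (hA a))
  choose κ' hκ' G π hG hπ using h1
  haveI : ∀ a, Finite (κ' a) := hκ'
  obtain ⟨k, hk⟩ : ∃ k : cop (fun p : Σ a, κ' a => G p.1 p.2) ⟶ F,
      ∀ p : Σ a, κ' a, inj (fun p : Σ a, κ' a => G p.1 p.2) p ≫ k =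
        π p.1 p.2 ≫ pullback.fst g (j p.1) :=
    ⟨copDesc (fun p : Σ a, κ' a => π p.1 p.2 ≫ pullback.fst g (j p.1)), fun p => inj_desc _ p⟩
  have hcompat : ∀ p : Σ a, κ' a, inj (fun p : Σ a, κ' a => G p.1 p.2) p ≫ (k ≫ g) =
      (π p.1 p.2 ≫ pullback.snd g (j p.1)) ≫ j p.1 := fun p => by
    rw [← Category.assoc, hk p, Category.assoc, Category.assoc, pullback.condition]
  have hgood : GoodOver S A j (cop (fun p : Σ a, κ' a => G p.1 p.2)) (k ≫ g) :=
    ⟨Σ a, κ' a, inferInstance, fun p => G p.1 p.2, inj (fun p : Σ a, κ' a => G p.1 p.2),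
      fun p => p.1, fun p => π p.1 p.2 ≫ pullback.snd g (j p.1), fun p => hG p.1 p.2,
      isCop_cop _, hcompat⟩
  refine ⟨cop (fun p : Σ a, κ' a => G p.1 p.2), k, ks_of_goodOver hgood, ?_,
    ⟨κ, hκ, A, j, hA, hj, hgood⟩⟩
  apply epi_of_loc
  intro V x
  refine (hj.surj V x).bind (fun W r hr => ?_)
  obtain ⟨a, t, ht⟩ := hr
  refine ((js_iff_loc _).1 (hπ a) W t).mono (fun W' r' hr' => ?_)
  obtain ⟨l, z, hz⟩ := hr'
  have hz' : (π a l ≫ pullback.snd g (j a)).hom.app (op W') z = (A a).obj.map r'.op t := hz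
  refine ⟨(inj (fun p : Σ a, κ' a => G p.1 p.2) ⟨a, l⟩).hom.app (op W') z, ?_⟩
  have e1 : (k ≫ g).hom.app (op W')
      ((inj (fun p : Σ a, κ' a => G p.1 p.2) ⟨a, l⟩).hom.app (op W') z) =
      (j a).hom.app (op W') ((π a l ≫ pullback.snd g (j a)).hom.app (op W') z) :=
    congrArg (fun m : G a l ⟶ X => m.hom.app (op W') z) (hcompat ⟨a, l⟩)
  rw [e1, hz', map_apply' (j a), ht, ← map_comp']

theorem cclassG_KS (hS : Gen S) : CClassG (KS S) (GS S) where
  refine := fun X F g hX hg => ks_refine hS X F g hX hg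
  nerve := fun X' X f _ _ hf n => by
    obtain ⟨κ, hκ, A, j, hA, hj, hgood⟩ := hf
    exact ks_of_goodOver (goodOver_nerve hS hj hA f hgood n)

section Colim

variable {Λ : Type u} [SmallCategory Λ] [IsFiltered Λ]

theorem homCommutes_KS (hS : Gen S) (X : Sheaf J (Type u)) (hX : KS S X)
    (D : Λ ⥤ Sheaf J AddCommGrpCat.{u}) :
    HomCommutes ((Φ J).obj X) D (colimit.cocone D) := by
  have hc := locColim_colimit D
  constructor
  · intro t
    refine hom_surj hc (𝟙 X) inferInstance (ks_qc hS hX) (fun F g hg => ?_) t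
    obtain ⟨X', k, hX', hk, hgood⟩ := ks_refine hS X F g hX hg
    refine ⟨X', k, hk, fun i s hs => ?_⟩
    have hgood' : GS S ((k ≫ g) ≫ 𝟙 X) := by
      rw [Category.comp_id]
      exact hgood
    have hW : KS S ((Arrow.mk ((k ≫ g) ≫ 𝟙 X)).cechNerve.obj (op ⦋1⦌)) :=
      (cclassG_KS hS).nerve _ _ _ hX' hX hgood' 1
    exact hom_inj_of_qc hc _ (ks_qc hS hW) i s hs
  · intro i s hs
    exact hom_inj_of_qc hc X (ks_qc hS hX) i s hs

/-- acyclicity on the members of `S` passes to filtered colimits -/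
theorem main (hS : Gen S) (D : Λ ⥤ Sheaf J AddCommGrpCat.{u})
    (hD : ∀ (i : Λ) (K : Sheaf J (Type u)), K ∈ S → ∀ q : ℕ,
      Subsingleton (Ext ((Φ J).obj K) (D.obj i) (q + 1)))
    (K : Sheaf J (Type u)) (hK : K ∈ S) (q : ℕ) :
    Subsingleton (Ext ((Φ J).obj K) (colimit D) (q + 1)) := by
  have h𝒦 := cclassG_KS hS
  have acyc : ∀ (i : Λ) (X : Sheaf J (Type u)), KS S X → ∀ p : ℕ,
      Subsingleton (Ext ((Φ J).obj X) (D.obj i) (p + 1)) := by
    intro i X hX p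
    obtain ⟨κ, hκ, A, j, hA, hj⟩ := hX
    exact ext_vanish_of_isCop hj p _ (fun a q' => hD i (A a) (hA a) q')
  have hek : ∀ i, HEKG (KS S) (GS S) (D.obj i) := by
    intro i K' K₀ f hK' hK₀ hf hg n φ hφ
    haveI := hf
    exact Res.hom_exact (D.obj i) n (resOf f) (fun p => acyc i K₀ hK₀ p)
      (fun m p => acyc i _ (h𝒦.nerve K' K₀ f hK' hK₀ hg m) p) φ hφ
  have hekc : HEKG (KS S) (GS S) (colimit D) :=
    hek_colimitG h𝒦 D (colimit.cocone D) (fun X hX => homCommutes_KS hS X hX D) hek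
  have hKS : KS S K :=
    ⟨PUnit.{u + 1}, inferInstance, fun _ => K, fun _ => 𝟙 K, fun _ => hK, isCop_single K⟩
  exact ext_vanish_of_hekG h𝒦 q (colimit D) hekc K hKS

end Colim

/-! ### The closure of a class under isomorphisms -/

/-- the objects isomorphic to a member of `S` -/
def isoClosure (S : Set (Sheaf J (Type u))) : Set (Sheaf J (Type u)) :=
  {Z | ∃ K ∈ S, Nonempty (Z ≅ K)}

lemma mem_isoClosure {K : Sheaf J (Type u)} (hK : K ∈ S) : K ∈ isoClosure S :=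
  ⟨K, hK, ⟨Iso.refl K⟩⟩

theorem gen_isoClosure (hqc : ∀ K ∈ S, ToposFin.IsQC K) (hgen : ToposFin.IsGenerating S)
    (hpb : ToposFin.ClosedUnderPullbacks S) : Gen (isoClosure S) where
  qc := by
    rintro Z ⟨K, hK, ⟨e⟩⟩
    exact qc_of_epi e.inv ((isQC_iff K).1 (hqc K hK))
  gen := fun X => by
    obtain ⟨ι, F, π, hF, hπ⟩ := hgen X
    exact ⟨ι, F, π, fun i => mem_isoClosure (hF i), js_of_cancel π hπ⟩
  pb := by
    rintro P X Y Z fst snd f g hP ⟨K, hK, ⟨eX⟩⟩ ⟨L, hL, ⟨eY⟩⟩ ⟨M, hM, ⟨eZ⟩⟩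
    obtain ⟨P₀, p, q, hP₀, hpb₀⟩ := hpb (eX.inv ≫ f ≫ eZ.hom) (eY.inv ≫ g ≫ eZ.hom) hK hL hM
    have hP' : IsPullback (fst ≫ eX.hom) (snd ≫ eY.hom) (eX.inv ≫ f ≫ eZ.hom)
        (eY.inv ≫ g ≫ eZ.hom) :=
      hP.of_iso (Iso.refl P) eX eY eZ (by simp) (by simp) (by simp) (by simp)
    exact ⟨P₀, hP₀, ⟨hP'.isoIsPullback _ _ hpb₀⟩⟩

end Groth.Agent.H67.CopClass
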