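import Mathlib

/-!
# Helper library (helper67): one step of the coskeleton construction for truncated simplicial objects

The pointwise right Kan extension of an `(n+1)`-truncated simplicial object along the inclusion into
`(n+2)`-truncated simplex categories exists as soon as the simplicial kernel of the top faces exists,
and its new top term is that simplicial kernel.
-/

set_option autoImplicit false
universe v u

open CategoryTheory CategoryTheory.Limits Opposite SimplexCategory

namespace Groth.Agent.H67.CoskStep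

variable {C : Type u} [Category.{v} C] (n : ℕ)

/-- the `(n+1)`-truncated simplex category -/
abbrev Cn := SimplexCategory.Truncated (n + 1)

/-- the `(n+2)`-truncated simplex category -/
abbrev Cm := SimplexCategory.Truncated (n + 2)

/-- the inclusion (opposite) -/
abbrev L : (Cn n)ᵒᵖ ⥤ (Cm n)ᵒᵖ :=
  (SimplexCategory.Truncated.incl (n + 1) (n + 2) (Nat.le_succ _)).op

/-- `[n]` -/
abbrev top0 : Cn n := ⟨SimplexCategory.mk n, (SimplexCategory.len_mk n).trans_le (Nat.le_succ n)⟩

/-- `[n+1]` -/
abbrev top1 : Cn n := ⟨SimplexCategory.mk (n + 1), (SimplexCategory.len_mk (n + 1)).le⟩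

/-- `[n+2]` -/
abbrev top2 : Cm n := ⟨SimplexCategory.mk (n + 2), (SimplexCategory.len_mk (n + 2)).le⟩

/-- faces `[n] ⟶ [n+1]` in the truncated category -/
abbrev d0 (j : Fin (n + 2)) : top0 n ⟶ top1 n := ObjectProperty.homMk (SimplexCategory.δ j)

theorem not_surj (a : Cn n) (φ : a.obj ⟶ SimplexCategory.mk (n + 2)) :
    ¬ Function.Surjective φ.toOrderHom := by
  intro h
  have h1 := Fintype.card_le_of_surjective _ h
  simp only [Fintype.card_fin, SimplexCategory.len_mk] at h1
  have h2 : a.obj.len ≤ n + 1 := a.property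
  omega

/-- the chosen missed vertex -/
noncomputable def kOf (a : Cn n) (φ : a.obj ⟶ SimplexCategory.mk (n + 2)) : Fin (n + 3) :=
  (SimplexCategory.eq_comp_δ_of_not_surjective φ (not_surj n a φ)).choose

/-- the chosen factorization -/
noncomputable def psiOf (a : Cn n) (φ : a.obj ⟶ SimplexCategory.mk (n + 2)) :
    a.obj ⟶ SimplexCategory.mk (n + 1) :=
  (SimplexCategory.eq_comp_δ_of_not_surjective φ (not_surj n a φ)).choose_spec.choose

theorem fac (a : Cn n) (φ : a.obj ⟶ SimplexCategory.mk (n + 2)) :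
    φ = psiOf n a φ ≫ SimplexCategory.δ (kOf n a φ) :=
  (SimplexCategory.eq_comp_δ_of_not_surjective φ (not_surj n a φ)).choose_spec.choose_spec

variable (U : (SimplexCategory.Truncated (n + 1))ᵒᵖ ⥤ C) (T : C)
  (π : Fin (n + 3) → (T ⟶ U.obj (op (top1 n))))

/-- the map induced by a morphism to `[n+1]` -/
abbrev Um (a : Cn n) (ψ : a.obj ⟶ SimplexCategory.mk (n + 1)) :
    U.obj (op (top1 n)) ⟶ U.obj (op a) :=
  U.map (ObjectProperty.homMk ψ : a ⟶ top1 n).op

variable {n} in
theorem Um_comp {a b : Cn n} (γ : b ⟶ a) (ψ : a.obj ⟶ SimplexCategory.mk (n + 1)) :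
    Um n U a ψ ≫ U.map γ.op = Um n U b (γ.hom ≫ ψ) := by
  unfold Um
  rw [← U.map_comp, ← op_comp]
  rfl

variable (hπ : ∀ i j : Fin (n + 2), i ≤ j →
  π (Fin.castSucc i) ≫ U.map (d0 n j).op = π j.succ ≫ U.map (d0 n i).op)

include hπ in
theorem indep_lt (a : Cn n) (k l : Fin (n + 3)) (hkl : k < l)
    (ψ ψ' : a.obj ⟶ SimplexCategory.mk (n + 1))
    (h : ψ ≫ SimplexCategory.δ k = ψ' ≫ SimplexCategory.δ l) :
    π k ≫ Um n U a ψ = π l ≫ Um n U a ψ' := by
  obtain ⟨i, rfl⟩ : ∃ i : Fin (n + 2), k = i.castSucc :=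
    ⟨k.castPred (Fin.ne_last_of_lt hkl), (Fin.castSucc_castPred _ _).symm⟩
  obtain ⟨j, rfl⟩ : ∃ j : Fin (n + 2), l = j.succ :=
    ⟨l.pred (Fin.ne_zero_of_lt hkl), (Fin.succ_pred _ _).symm⟩
  have hij : i ≤ j := Fin.castSucc_lt_succ_iff.1 hkl
  have hmiss : ∀ x, ψ.toOrderHom x ≠ j := by
    intro x hx
    have h1 := congrArg (fun f => f.toOrderHom x) h
    simp only [SimplexCategory.comp_toOrderHom, OrderHom.comp_coe, Function.comp_apply] at h1
    rw [hx] at h1
    have h2 : (SimplexCategory.δ i.castSucc).toOrderHom j = j.succ :=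
      Fin.succAbove_of_le_castSucc _ _ (Fin.castSucc_le_castSucc_iff.2 hij)
    rw [h2] at h1
    exact Fin.succAbove_ne j.succ _ h1.symm
  obtain ⟨χ, rfl⟩ := SimplexCategory.eq_comp_δ_of_not_surjective' ψ j hmiss
  have h' : ψ' = χ ≫ SimplexCategory.δ i := by
    rw [Category.assoc, ← SimplexCategory.δ_comp_δ hij, ← Category.assoc] at h
    exact ((cancel_mono _).1 h).symm
  subst h'
  have e1 : Um n U a (χ ≫ SimplexCategory.δ j) =
      U.map (d0 n j).op ≫ U.map (ObjectProperty.homMk χ : a ⟶ top0 n).op := by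
    rw [← U.map_comp, ← op_comp]
    rfl
  have e2 : Um n U a (χ ≫ SimplexCategory.δ i) =
      U.map (d0 n i).op ≫ U.map (ObjectProperty.homMk χ : a ⟶ top0 n).op := by
    rw [← U.map_comp, ← op_comp]
    rfl
  rw [e1, e2, ← Category.assoc, ← Category.assoc, hπ i j hij]

include hπ in
theorem indep (a : Cn n) (k l : Fin (n + 3)) (ψ ψ' : a.obj ⟶ SimplexCategory.mk (n + 1))
    (h : ψ ≫ SimplexCategory.δ k = ψ' ≫ SimplexCategory.δ l) :
    π k ≫ Um n U a ψ = π l ≫ Um n U a ψ' := by
  rcases lt_trichotomy k l with hkl | hkl | hkl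
  · exact indep_lt n U T π hπ a k l hkl ψ ψ' h
  · subst hkl
    rw [(cancel_mono _).1 h]
  · exact (indep_lt n U T π hπ a l k hkl ψ' ψ h.symm).symm

/-- the leg of the cone -/
noncomputable def leg (a : Cn n) (φ : a.obj ⟶ SimplexCategory.mk (n + 2)) : T ⟶ U.obj (op a) :=
  π (kOf n a φ) ≫ Um n U a (psiOf n a φ)

include hπ in
theorem leg_eq (a : Cn n) (k : Fin (n + 3)) (ψ : a.obj ⟶ SimplexCategory.mk (n + 1)) :
    leg n U T π a (ψ ≫ SimplexCategory.δ k) = π k ≫ Um n U a ψ :=
  indep n U T π hπ a _ _ _ _ (fac n a (ψ ≫ SimplexCategory.δ k)).symm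

include hπ in
theorem leg_comp {a b : Cn n} (γ : b ⟶ a) (φ : a.obj ⟶ SimplexCategory.mk (n + 2)) :
    leg n U T π a φ ≫ U.map γ.op = leg n U T π b (γ.hom ≫ φ) := by
  have e : γ.hom ≫ φ = (γ.hom ≫ psiOf n a φ) ≫ SimplexCategory.δ (kOf n a φ) := by
    rw [Category.assoc, ← fac n a φ]
  rw [e, leg_eq n U T π hπ]
  unfold leg
  rw [Category.assoc, Um_comp]

/-- the cone with apex `T` -/
noncomputable def cone :
    Cone (StructuredArrow.proj (op (top2 n)) (L n) ⋙ U) where
  pt := T
  π :=
    { app := fun j => leg n U T π j.right.unop j.hom.unop.hom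
      naturality := fun j j' f => by
        have hw := StructuredArrow.w f
        have e : j'.hom.unop.hom = f.right.unop.hom ≫ j.hom.unop.hom := by
          rw [← hw]
          rfl
        have h1 := leg_comp n U T π hπ f.right.unop j.hom.unop.hom
        simp only [Functor.const_obj_obj, Functor.const_obj_map, Category.id_comp,
          Functor.comp_obj, Functor.comp_map]
        rw [e]
        exact h1.symm }

/-- the object of the structured arrow category given by a map to `[n+2]` -/
abbrev sobj (a : Cn n) (φ : a.obj ⟶ SimplexCategory.mk (n + 2)) :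
    StructuredArrow (op (top2 n)) (L n) :=
  StructuredArrow.mk (Y := op a)
    (ObjectProperty.homMk φ : (SimplexCategory.Truncated.incl (n + 1) (n + 2)
      (Nat.le_succ _)).obj a ⟶ top2 n).op

theorem cone_app_sobj (a : Cn n) (φ : a.obj ⟶ SimplexCategory.mk (n + 2)) :
    (cone n U T π hπ).π.app (sobj n a φ) = leg n U T π a φ := rfl

variable {n U} in
theorem s_comp (s : Cone (StructuredArrow.proj (op (top2 n)) (L n) ⋙ U)) {a b : Cn n}
    (γ : b ⟶ a) (φ : a.obj ⟶ SimplexCategory.mk (n + 2)) :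
    s.π.app (sobj n a φ) ≫ U.map γ.op = s.π.app (sobj n b (γ.hom ≫ φ)) := by
  let f : sobj n a φ ⟶ sobj n b (γ.hom ≫ φ) := StructuredArrow.homMk γ.op rfl
  exact s.w f

variable {n U} in
theorem s_rel (s : Cone (StructuredArrow.proj (op (top2 n)) (L n) ⋙ U)) (i j : Fin (n + 2))
    (hij : i ≤ j) :
    s.π.app (sobj n (top1 n) (SimplexCategory.δ i.castSucc)) ≫ U.map (d0 n j).op =
      s.π.app (sobj n (top1 n) (SimplexCategory.δ j.succ)) ≫ U.map (d0 n i).op := by
  rw [s_comp s (d0 n j), s_comp s (d0 n i)]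
  show s.π.app (sobj n (top0 n) (SimplexCategory.δ j ≫ SimplexCategory.δ i.castSucc)) =
    s.π.app (sobj n (top0 n) (SimplexCategory.δ i ≫ SimplexCategory.δ j.succ))
  rw [SimplexCategory.δ_comp_δ hij]

variable (huniv : ∀ (S : C) (g : Fin (n + 3) → (S ⟶ U.obj (op (top1 n)))),
  (∀ i j : Fin (n + 2), i ≤ j →
    g (Fin.castSucc i) ≫ U.map (d0 n j).op = g j.succ ≫ U.map (d0 n i).op) →
  ∃! t : S ⟶ T, ∀ k : Fin (n + 3), t ≫ π k = g k)

include hπ in
theorem leg_top1 (k : Fin (n + 3)) : leg n U T π (top1 n) (SimplexCategory.δ k) = π k := by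
  have h := leg_eq n U T π hπ (top1 n) k (𝟙 _)
  rw [Category.id_comp] at h
  rw [h]
  unfold Um
  have : (ObjectProperty.homMk (𝟙 (SimplexCategory.mk (n + 1))) : top1 n ⟶ top1 n) = 𝟙 _ := rfl
  rw [this, op_id, U.map_id, Category.comp_id]

/-- the cone is a limit cone -/
noncomputable def isLimitCone : IsLimit (cone n U T π hπ) where
  lift s := (huniv s.pt (fun k => s.π.app (sobj n (top1 n) (SimplexCategory.δ k)))
    (fun i j hij => s_rel s i j hij)).exists.choose
  fac s j := by
    have hl := (huniv s.pt (fun k => s.π.app (sobj n (top1 n) (SimplexCategory.δ k)))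
      (fun i j hij => s_rel s i j hij)).exists.choose_spec
    show _ ≫ leg n U T π j.right.unop j.hom.unop.hom = s.π.app j
    have e := fac n j.right.unop j.hom.unop.hom
    have h1 : leg n U T π j.right.unop j.hom.unop.hom =
        π (kOf n j.right.unop j.hom.unop.hom) ≫ Um n U j.right.unop
          (psiOf n j.right.unop j.hom.unop.hom) := rfl
    rw [h1, ← Category.assoc, hl]
    have h2 := s_comp s (ObjectProperty.homMk (psiOf n j.right.unop j.hom.unop.hom) :
      j.right.unop ⟶ top1 n) (SimplexCategory.δ (kOf n j.right.unop j.hom.unop.hom))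
    refine h2.trans ?_
    show s.π.app (sobj n j.right.unop (psiOf n j.right.unop j.hom.unop.hom ≫
      SimplexCategory.δ (kOf n j.right.unop j.hom.unop.hom))) = s.π.app j
    rw [← e]
    rfl
  uniq s m hm := by
    have hu := (huniv s.pt (fun k => s.π.app (sobj n (top1 n) (SimplexCategory.δ k)))
      (fun i j hij => s_rel s i j hij))
    refine hu.unique (fun k => ?_) hu.exists.choose_spec
    have h1 := hm (sobj n (top1 n) (SimplexCategory.δ k))
    rw [cone_app_sobj, leg_top1 n U T π hπ] at h1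
    exact h1

include hπ huniv in
theorem hasPointwise : (L n).HasPointwiseRightKanExtension U := by
  intro Y
  obtain ⟨⟨⟨m⟩, hm⟩⟩ := Y
  have hm' : m ≤ n + 2 := hm
  by_cases h : m ≤ n + 1
  · let Y' : (Cn n)ᵒᵖ := op ⟨SimplexCategory.mk m, h⟩
    haveI : HasInitial (StructuredArrow ((L n).obj Y') (L n)) :=
      (StructuredArrow.mkIdInitial (T := L n) (Y := Y')).hasInitial
    show HasLimit (StructuredArrow.proj ((L n).obj Y') (L n) ⋙ U)
    infer_instance
  · obtain rfl : m = n + 2 := by omega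
    exact ⟨⟨⟨cone n U T π hπ, isLimitCone n U T π hπ huniv⟩⟩⟩

include hπ huniv in
theorem isIso_of_compat (V : (SimplexCategory.Truncated (n + 2))ᵒᵖ ⥤ C)
    (α : (L n) ⋙ V ⟶ U) [V.IsRightKanExtension α] (t : V.obj (op (top2 n)) ⟶ T)
    (ht : ∀ k : Fin (n + 3), t ≫ π k =
      V.map (ObjectProperty.homMk (SimplexCategory.δ k) :
        ((SimplexCategory.Truncated.incl (n + 1) (n + 2) (Nat.le_succ _)).obj (top1 n)) ⟶
          top2 n).op ≫ α.app (op (top1 n))) : IsIso t := by
  haveI := hasPointwise n U T π hπ huniv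
  have hP := Functor.isPointwiseRightKanExtensionOfIsRightKanExtension V α
  have hl : IsLimit ((Functor.RightExtension.mk V α).coneAt (op (top2 n))) := hP (op (top2 n))
  have hlim := isLimitCone n U T π hπ huniv
  have key : t = hlim.lift ((Functor.RightExtension.mk V α).coneAt (op (top2 n))) := by
    apply hlim.uniq ((Functor.RightExtension.mk V α).coneAt (op (top2 n))) t
    intro j
    show t ≫ leg n U T π j.right.unop j.hom.unop.hom = V.map j.hom ≫ α.app j.right
    have e := fac n j.right.unop j.hom.unop.hom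
    have h1 : leg n U T π j.right.unop j.hom.unop.hom =
        π (kOf n j.right.unop j.hom.unop.hom) ≫ Um n U j.right.unop
          (psiOf n j.right.unop j.hom.unop.hom) := rfl
    rw [h1, ← Category.assoc, ht, Category.assoc]
    have hnat := α.naturality (ObjectProperty.homMk (psiOf n j.right.unop j.hom.unop.hom) :
      j.right.unop ⟶ top1 n).op
    rw [← hnat, ← Category.assoc]
    congr 1
    show V.map _ ≫ V.map _ = V.map j.hom
    rw [← V.map_comp]
    congr 1
    have e'' := congrArg (fun φ => (ObjectProperty.homMk φ :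
      ((SimplexCategory.Truncated.incl (n + 1) (n + 2) (Nat.le_succ _)).obj j.right.unop) ⟶
        top2 n).op) e.symm
    exact e''
  rw [key]
  exact (IsLimit.conePointUniqueUpToIso hl hlim).isIso_hom

end Groth.Agent.H67.CoskStep
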