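import Mathlib
import Groth.Prelude.Def_Hyper

/-!
# `Ȟ⁰` of a Verdier hypercovering of the final object is the group of global sections

Only the two lowest conditions of `Hyper.IsHypercoveringSite` are used: `F(K₀) → *` and
`F(K₁) → F(K₀) × F(K₀)` are locally surjective.
-/

universe u

open CategoryTheory CategoryTheory.Limits Opposite

namespace Groth.Agent.H67.HyperH0

variable {C : Type u} [SmallCategory C]

section Cx

variable (K : SimplicialObject (FormalCoproduct.{u} C)) (P : Cᵒᵖ ⥤ AddCommGrpCat.{u})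

abbrev K0 := K.obj (op (SimplexCategory.mk 0))
abbrev K1 := K.obj (op (SimplexCategory.mk 1))

lemma d01_eq : (Hyper.cechCxSite K P).d 0 1 =
    AlgebraicTopology.AlternatingCofaceMapComplex.objD
      ((FormalCoproduct.cosimplicialObjectFunctor K).obj P) 0 := by
  show CochainComplex.of.d
    (fun n => ((FormalCoproduct.cosimplicialObjectFunctor K).obj P).obj (SimplexCategory.mk n))
    (AlgebraicTopology.AlternatingCofaceMapComplex.objD
      ((FormalCoproduct.cosimplicialObjectFunctor K).obj P)) 0 (0 + 1) = _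
  exact CochainComplex.of_d _ _ 0

lemma δ_π (i : Fin 2) (j : (K1 K).I) :
    ((FormalCoproduct.cosimplicialObjectFunctor K).obj P).δ i ≫
      Pi.π (fun i : (K1 K).I => P.obj (op ((K1 K).obj i))) j =
      Pi.π (fun i : (K0 K).I => P.obj (op ((K0 K).obj i))) ((K.δ i).f j) ≫
        P.map ((K.δ i).φ j).op :=
  Pi.lift_π (fun j => Pi.π (fun i : (K0 K).I => P.obj (op ((K0 K).obj i))) ((K.δ i).f j) ≫
    P.map ((K.δ i).φ j).op) j

lemma d01_π (j : (K1 K).I) :
    (Hyper.cechCxSite K P).d 0 1 ≫ Pi.π (fun i : (K1 K).I => P.obj (op ((K1 K).obj i))) j =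
      Pi.π (fun i : (K0 K).I => P.obj (op ((K0 K).obj i))) ((K.δ (0 : Fin 2)).f j) ≫
          P.map ((K.δ (0 : Fin 2)).φ j).op -
        Pi.π (fun i : (K0 K).I => P.obj (op ((K0 K).obj i))) ((K.δ (1 : Fin 2)).f j) ≫
          P.map ((K.δ (1 : Fin 2)).φ j).op := by
  rw [d01_eq]
  have h : AlgebraicTopology.AlternatingCofaceMapComplex.objD
      ((FormalCoproduct.cosimplicialObjectFunctor K).obj P) 0 =
      ((FormalCoproduct.cosimplicialObjectFunctor K).obj P).δ (0 : Fin 2) -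
        ((FormalCoproduct.cosimplicialObjectFunctor K).obj P).δ (1 : Fin 2) := by
    simp only [AlgebraicTopology.AlternatingCofaceMapComplex.objD]
    rw [Fin.sum_univ_two]
    simp [sub_eq_add_neg]
  rw [h]
  exact (Preadditive.sub_comp _ _ _).trans (congrArg₂ (· - ·) (δ_π K P 0 j) (δ_π K P 1 j))

/-- Degree-zero cochains, as an explicit product. -/
noncomputable abbrev X0 : AddCommGrpCat.{u} :=
  ∏ᶜ fun i : (K0 K).I => P.obj (op ((K0 K).obj i))

/-- Degree-one cochains, as an explicit product. -/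
noncomputable abbrev X1 : AddCommGrpCat.{u} :=
  ∏ᶜ fun i : (K1 K).I => P.obj (op ((K1 K).obj i))

/-- The first differential, between explicit products. -/
noncomputable def D : X0 K P ⟶ X1 K P := (Hyper.cechCxSite K P).d 0 1

lemma D_π (j : (K1 K).I) :
    D K P ≫ Pi.π (fun i : (K1 K).I => P.obj (op ((K1 K).obj i))) j =
      Pi.π (fun i : (K0 K).I => P.obj (op ((K0 K).obj i))) ((K.δ (0 : Fin 2)).f j) ≫
          P.map ((K.δ (0 : Fin 2)).φ j).op -
        Pi.π (fun i : (K0 K).I => P.obj (op ((K0 K).obj i))) ((K.δ (1 : Fin 2)).f j) ≫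
          P.map ((K.δ (1 : Fin 2)).φ j).op :=
  d01_π K P j

/-- The map from global sections to degree-zero cochains. -/
noncomputable def ι₀ : limit P ⟶ X0 K P :=
  Pi.lift fun i : (K0 K).I => limit.π P (op ((K0 K).obj i))

lemma ι₀_π (i : (K0 K).I) :
    ι₀ K P ≫ Pi.π (fun i : (K0 K).I => P.obj (op ((K0 K).obj i))) i =
      limit.π P (op ((K0 K).obj i)) :=
  Pi.lift_π _ _

lemma ι₀_D : ι₀ K P ≫ D K P = 0 := by
  refine Pi.hom_ext (f := fun i : (K1 K).I => P.obj (op ((K1 K).obj i))) _ _ fun j => ?_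
  rw [Category.assoc, D_π, Preadditive.comp_sub, ← Category.assoc, ← Category.assoc, ι₀_π, ι₀_π,
    limit.w, limit.w, sub_self, zero_comp]

end Cx

section Yoneda

variable (L : FormalCoproduct.{u} C)

/-- The inclusion of a component into the coproduct of representables. -/
noncomputable abbrev inj (i : L.I) : yoneda.obj (L.obj i) ⟶ FormalCoproduct.yoneda.obj L :=
  Sigma.ι (fun i : L.I => yoneda.obj (L.obj i)) i

lemma inj_map {L L' : FormalCoproduct.{u} C} (d : L ⟶ L') (j : L.I) :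
    inj L j ≫ FormalCoproduct.yoneda.map d = yoneda.map (d.φ j) ≫ inj L' (d.f j) :=
  Sigma.ι_desc _ _

lemma inj_map_apply {L L' : FormalCoproduct.{u} C} (d : L ⟶ L') (j : L.I) {W : C}
    (h : W ⟶ L.obj j) :
    (FormalCoproduct.yoneda.map d).app (op W) ((inj L j).app (op W) h) =
      (inj L' (d.f j)).app (op W) (h ≫ d.φ j) :=
  congrArg (fun m => m.app (op W) h) (inj_map d j)

lemma inj_naturality (i : L.I) {V W : C} (f : W ⟶ V) (g : V ⟶ L.obj i) :
    (FormalCoproduct.yoneda.obj L).map f.op ((inj L i).app (op V) g) =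
      (inj L i).app (op W) (f ≫ g) :=
  (NatTrans.naturality_apply (inj L i) f.op g).symm

lemma jointly_surjective (V : C) (x : (FormalCoproduct.yoneda.obj L).obj (op V)) :
    ∃ (i : L.I) (g : V ⟶ L.obj i), (inj L i).app (op V) g = x := by
  let F : Discrete L.I ⥤ (Cᵒᵖ ⥤ Type u) := Discrete.functor fun i : L.I => yoneda.obj (L.obj i)
  have hc : IsColimit (((evaluation Cᵒᵖ (Type u)).obj (op V)).mapCocone (colimit.cocone F)) :=
    isColimitOfPreserves _ (colimit.isColimit F)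
  obtain ⟨⟨i⟩, g, hg⟩ := Types.jointly_surjective_of_isColimit hc x
  exact ⟨i, g, hg⟩

/-- The natural transformation out of the coproduct of representables given by sections. -/
noncomputable def testNT (Q : Cᵒᵖ ⥤ Type u) (t : ∀ i : L.I, Q.obj (op (L.obj i))) :
    FormalCoproduct.yoneda.obj L ⟶ Q :=
  Sigma.desc fun i => yonedaEquiv.symm (t i)

lemma testNT_inj (Q : Cᵒᵖ ⥤ Type u) (t : ∀ i : L.I, Q.obj (op (L.obj i))) (i : L.I) {W : C}
    (g : W ⟶ L.obj i) :
    (testNT L Q t).app (op W) ((inj L i).app (op W) g) = Q.map g.op (t i) :=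
  congrArg (fun m => m.app (op W) g) (Sigma.ι_desc (fun i => yonedaEquiv.symm (t i)) i)

lemma map_comp_op_apply (Q : Cᵒᵖ ⥤ Type u) {X Y Z : C} (f : X ⟶ Y) (g : Y ⟶ Z)
    (x : Q.obj (op Z)) : Q.map (f ≫ g).op x = Q.map f.op (Q.map g.op x) := by
  rw [op_comp, CategoryTheory.Functor.map_comp]
  rfl

lemma map_id_op_apply (Q : Cᵒᵖ ⥤ Type u) {X : C} (x : Q.obj (op X)) :
    Q.map (𝟙 X).op x = x := by
  rw [op_id, CategoryTheory.Functor.map_id]
  rfl

lemma exists_cover_K0 (J : GrothendieckTopology C)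
    (hL : Presheaf.IsLocallySurjective J (terminal.from (FormalCoproduct.yoneda.obj L))) (U : C) :
    ∃ S ∈ J U, ∀ ⦃V : C⦄ (f : V ⟶ U), S f → ∃ i : L.I, Nonempty (V ⟶ L.obj i) := by
  let s₀ : (⊤_ (Cᵒᵖ ⥤ Type u)).obj (op U) := (terminal.from (yoneda.obj U)).app (op U) (𝟙 U)
  refine ⟨Presheaf.imageSieve (terminal.from (FormalCoproduct.yoneda.obj L)) s₀,
    hL.imageSieve_mem s₀, ?_⟩
  rintro V f ⟨x, -⟩
  obtain ⟨i, g, -⟩ := jointly_surjective L V x
  exact ⟨i, ⟨g⟩⟩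

lemma exists_cover_K1 (J : GrothendieckTopology C) {L₁ L₀ : FormalCoproduct.{u} C}
    (d₁ d₀ : L₁ ⟶ L₀)
    (hL : Presheaf.IsLocallySurjective J
      (prod.lift (FormalCoproduct.yoneda.map d₁) (FormalCoproduct.yoneda.map d₀)))
    {V : C} {i i' : L₀.I} (g : V ⟶ L₀.obj i) (g' : V ⟶ L₀.obj i') :
    ∃ S ∈ J V, ∀ ⦃W : C⦄ (f : W ⟶ V), S f → ∃ (j : L₁.I) (h : W ⟶ L₁.obj j),
      (inj L₀ (d₁.f j)).app (op W) (h ≫ d₁.φ j) = (inj L₀ i).app (op W) (f ≫ g) ∧
      (inj L₀ (d₀.f j)).app (op W) (h ≫ d₀.φ j) = (inj L₀ i').app (op W) (f ≫ g') := by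
  let Y₀ := FormalCoproduct.yoneda.obj L₀
  let a := FormalCoproduct.yoneda.map d₁
  let b := FormalCoproduct.yoneda.map d₀
  let x : Y₀.obj (op V) := (inj L₀ i).app (op V) g
  let x' : Y₀.obj (op V) := (inj L₀ i').app (op V) g'
  let m : yoneda.obj V ⟶ Y₀ ⨯ Y₀ := prod.lift (yonedaEquiv.symm x) (yonedaEquiv.symm x')
  let p : (Y₀ ⨯ Y₀).obj (op V) := m.app (op V) (𝟙 V)
  have hp1 : (prod.fst : Y₀ ⨯ Y₀ ⟶ Y₀).app (op V) p = x := by
    have h1 : m ≫ prod.fst = yonedaEquiv.symm x := prod.lift_fst _ _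
    have h2 := congrArg (fun k => k.app (op V) (𝟙 V)) h1
    exact h2.trans (map_id_op_apply Y₀ x)
  have hp2 : (prod.snd : Y₀ ⨯ Y₀ ⟶ Y₀).app (op V) p = x' := by
    have h1 : m ≫ prod.snd = yonedaEquiv.symm x' := prod.lift_snd _ _
    have h2 := congrArg (fun k => k.app (op V) (𝟙 V)) h1
    exact h2.trans (map_id_op_apply Y₀ x')
  refine ⟨Presheaf.imageSieve (prod.lift a b) p, hL.imageSieve_mem p, ?_⟩
  rintro W f ⟨t, ht⟩
  obtain ⟨j, h, rfl⟩ := jointly_surjective L₁ W t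
  refine ⟨j, h, ?_, ?_⟩
  · have e1 := congrArg ((prod.fst : Y₀ ⨯ Y₀ ⟶ Y₀).app (op W)) ht
    have l1 : (prod.fst : Y₀ ⨯ Y₀ ⟶ Y₀).app (op W)
        ((prod.lift a b).app (op W) ((inj L₁ j).app (op W) h)) =
        a.app (op W) ((inj L₁ j).app (op W) h) :=
      congrArg (fun k => k.app (op W) ((inj L₁ j).app (op W) h)) (prod.lift_fst a b)
    have r1 : (prod.fst : Y₀ ⨯ Y₀ ⟶ Y₀).app (op W) ((Y₀ ⨯ Y₀).map f.op p) =
        Y₀.map f.op ((prod.fst : Y₀ ⨯ Y₀ ⟶ Y₀).app (op V) p) :=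
      NatTrans.naturality_apply (prod.fst : Y₀ ⨯ Y₀ ⟶ Y₀) f.op p
    exact (inj_map_apply d₁ j h).symm.trans (l1.symm.trans (e1.trans (r1.trans
      ((congrArg (fun z => Y₀.map f.op z) hp1).trans (inj_naturality L₀ i f g)))))
  · have e1 := congrArg ((prod.snd : Y₀ ⨯ Y₀ ⟶ Y₀).app (op W)) ht
    have l1 : (prod.snd : Y₀ ⨯ Y₀ ⟶ Y₀).app (op W)
        ((prod.lift a b).app (op W) ((inj L₁ j).app (op W) h)) =
        b.app (op W) ((inj L₁ j).app (op W) h) :=
      congrArg (fun k => k.app (op W) ((inj L₁ j).app (op W) h)) (prod.lift_snd a b)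
    have r1 : (prod.snd : Y₀ ⨯ Y₀ ⟶ Y₀).app (op W) ((Y₀ ⨯ Y₀).map f.op p) =
        Y₀.map f.op ((prod.snd : Y₀ ⨯ Y₀ ⟶ Y₀).app (op V) p) :=
      NatTrans.naturality_apply (prod.snd : Y₀ ⨯ Y₀ ⟶ Y₀) f.op p
    exact (inj_map_apply d₀ j h).symm.trans (l1.symm.trans (e1.trans (r1.trans
      ((congrArg (fun z => Y₀.map f.op z) hp2).trans (inj_naturality L₀ i' f g')))))

end Yoneda

section Glue

variable (J : GrothendieckTopology C)

theorem glue (Q : Cᵒᵖ ⥤ Type u) (hQ : Presieve.IsSheaf J Q) (L : FormalCoproduct.{u} C)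
    (hcov : ∀ U : C, ∃ S ∈ J U, ∀ ⦃V : C⦄ (f : V ⟶ U), S f → ∃ i : L.I, Nonempty (V ⟶ L.obj i))
    (t : ∀ i : L.I, Q.obj (op (L.obj i)))
    (hW : ∀ (V : C) (i i' : L.I) (g : V ⟶ L.obj i) (g' : V ⟶ L.obj i'),
      Q.map g.op (t i) = Q.map g'.op (t i'))
    (U : C) :
    ∃ s : Q.obj (op U), (∀ (V : C) (f : V ⟶ U) (i : L.I) (g : V ⟶ L.obj i),
        Q.map f.op s = Q.map g.op (t i)) ∧
      ∀ s' : Q.obj (op U), (∀ (V : C) (f : V ⟶ U) (i : L.I) (g : V ⟶ L.obj i),
        Q.map f.op s' = Q.map g.op (t i)) → s' = s := by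
  classical
  obtain ⟨S, hS, hSc⟩ := hcov U
  let idx : ∀ ⦃V : C⦄ (f : V ⟶ U), S f → L.I := fun V f hf => (hSc f hf).choose
  let gg : ∀ ⦃V : C⦄ (f : V ⟶ U) (hf : S f), V ⟶ L.obj (idx f hf) :=
    fun V f hf => (hSc f hf).choose_spec.some
  let y : Presieve.FamilyOfElements Q S.arrows :=
    fun V f hf => Q.map (gg f hf).op (t (idx f hf))
  have hy : y.Compatible := by
    rw [Presieve.compatible_iff_sieveCompatible]
    intro V W f k hf
    show Q.map (gg (k ≫ f) (S.downward_closed hf k)).op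
        (t (idx (k ≫ f) (S.downward_closed hf k))) =
      Q.map k.op (Q.map (gg f hf).op (t (idx f hf)))
    rw [← map_comp_op_apply]
    exact hW _ _ _ _ _
  let s := (hQ S hS).amalgamate y hy
  have hs : ∀ ⦃V : C⦄ (f : V ⟶ U) (hf : S f), Q.map f.op s = y f hf :=
    fun V f hf => (hQ S hS).valid_glue hy f hf
  have hprop : ∀ (V : C) (f : V ⟶ U) (i : L.I) (g : V ⟶ L.obj i),
      Q.map f.op s = Q.map g.op (t i) := by
    intro V f i g
    refine (hQ _ (J.pullback_stable f hS)).isSeparatedFor.ext fun V' k hk => ?_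
    have hk' : S (k ≫ f) := hk
    rw [← map_comp_op_apply, ← map_comp_op_apply, hs (k ≫ f) hk']
    exact hW _ _ _ _ _
  refine ⟨s, hprop, fun s' hs' => ?_⟩
  refine (hQ S hS).isSeparatedFor.ext fun V f hf => ?_
  rw [hs' V f (idx f hf) (gg f hf), hprop V f (idx f hf) (gg f hf)]

end Glue

section Main

variable (J : GrothendieckTopology C) (K : SimplicialObject (FormalCoproduct.{u} C))
  (P : Cᵒᵖ ⥤ AddCommGrpCat.{u})

lemma ι₀_injective (hQ : Presieve.IsSheaf J (P ⋙ forget AddCommGrpCat.{u}))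
    (hcov : ∀ U : C, ∃ S ∈ J U, ∀ ⦃V : C⦄ (f : V ⟶ U), S f →
      ∃ i : (K0 K).I, Nonempty (V ⟶ (K0 K).obj i)) :
    Function.Injective (ι₀ K P).hom := by
  refine (injective_iff_map_eq_zero _).2 fun s hs => ?_
  have h1 : ∀ i, (limit.π P (op ((K0 K).obj i))).hom s = 0 := fun i => by
    have h := congrArg (fun m => m.hom s) (ι₀_π K P i)
    refine h.symm.trans ?_
    show (Pi.π (fun i : (K0 K).I => P.obj (op ((K0 K).obj i))) i).hom ((ι₀ K P).hom s) = 0
    rw [hs, map_zero]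
  have h2 : ∀ U : C, (limit.π P (op U)).hom s = 0 := fun U => by
    obtain ⟨S, hS, hSc⟩ := hcov U
    refine (hQ S hS).isSeparatedFor.ext fun V f hf => ?_
    obtain ⟨i, ⟨g⟩⟩ := hSc f hf
    show (P.map f.op).hom ((limit.π P (op U)).hom s) = (P.map f.op).hom 0
    rw [map_zero]
    have w1 := congrArg (fun m => m.hom s) (limit.w P f.op)
    have w2 := congrArg (fun m => m.hom s) (limit.w P g.op)
    refine w1.trans (w2.symm.trans ?_)
    show (P.map g.op).hom ((limit.π P (op ((K0 K).obj i))).hom s) = 0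
    rw [h1 i, map_zero]
  apply Concrete.limit_ext
  intro j
  show (limit.π P j).hom s = (limit.π P j).hom 0
  rw [map_zero]
  exact h2 j.unop

lemma exists_preimage (hQ : Presieve.IsSheaf J (P ⋙ forget AddCommGrpCat.{u}))
    (hcov : ∀ U : C, ∃ S ∈ J U, ∀ ⦃V : C⦄ (f : V ⟶ U), S f →
      ∃ i : (K0 K).I, Nonempty (V ⟶ (K0 K).obj i))
    (h1 : Presheaf.IsLocallySurjective J
      (prod.lift (FormalCoproduct.yoneda.map (K.δ (1 : Fin 2)))
        (FormalCoproduct.yoneda.map (K.δ (0 : Fin 2)))))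
    (x : (X0 K P : AddCommGrpCat.{u})) (hx : (D K P).hom x = 0) :
    ∃ s : (limit P : AddCommGrpCat.{u}), (ι₀ K P).hom s = x := by
  classical
  let Q : Cᵒᵖ ⥤ Type u := P ⋙ forget AddCommGrpCat.{u}
  let t : ∀ i : (K0 K).I, Q.obj (op ((K0 K).obj i)) := fun i =>
    (Pi.π (fun i : (K0 K).I => P.obj (op ((K0 K).obj i))) i).hom x
  have cocycle : ∀ j : (K1 K).I,
      (P.map ((K.δ (0 : Fin 2)).φ j).op).hom (t ((K.δ (0 : Fin 2)).f j)) =
        (P.map ((K.δ (1 : Fin 2)).φ j).op).hom (t ((K.δ (1 : Fin 2)).f j)) := by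
    intro j
    have e := congrArg (fun m => m.hom x) (D_π K P j)
    have e0 : (Pi.π (fun i : (K1 K).I => P.obj (op ((K1 K).obj i))) j).hom
        ((D K P).hom x) = 0 := by rw [hx, map_zero]
    have e' := e0.symm.trans e
    exact (sub_eq_zero.1 e'.symm)
  have hW : ∀ (V : C) (i i' : (K0 K).I) (g : V ⟶ (K0 K).obj i) (g' : V ⟶ (K0 K).obj i'),
      Q.map g.op (t i) = Q.map g'.op (t i') := by
    intro V i i' g g'
    obtain ⟨S, hS, hSc⟩ := exists_cover_K1 J (K.δ (1 : Fin 2)) (K.δ (0 : Fin 2)) h1 g g'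
    refine (hQ S hS).isSeparatedFor.ext fun W f hf => ?_
    obtain ⟨j, h, e1, e0⟩ := hSc f hf
    have a1 := congrArg ((testNT (K0 K) Q t).app (op W)) e1
    rw [testNT_inj, testNT_inj] at a1
    have a0 := congrArg ((testNT (K0 K) Q t).app (op W)) e0
    rw [testNT_inj, testNT_inj] at a0
    have c' : Q.map (h ≫ (K.δ (0 : Fin 2)).φ j).op (t ((K.δ (0 : Fin 2)).f j)) =
        Q.map (h ≫ (K.δ (1 : Fin 2)).φ j).op (t ((K.δ (1 : Fin 2)).f j)) := by
      rw [map_comp_op_apply, map_comp_op_apply]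
      exact congrArg (fun z => Q.map h.op z) (cocycle j)
    rw [← map_comp_op_apply, ← map_comp_op_apply]
    exact a1.symm.trans (c'.symm.trans a0)
  have hg := fun U => glue J Q hQ (K0 K) hcov t hW U
  choose sU hsU huniq using hg
  let sec : Q.sections := ⟨fun j => sU j.unop, fun {j j'} k => by
    apply huniq j'.unop
    intro V f i g
    have e := hsU j.unop V (f ≫ k.unop) i g
    rw [map_comp_op_apply] at e
    exact e⟩
  let hlim := isLimitOfPreserves (forget AddCommGrpCat.{u}) (limit.isLimit P)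
  let s : (limit P : AddCommGrpCat.{u}) := (Types.isLimitEquivSections hlim).symm sec
  have hs : ∀ j : Cᵒᵖ, (limit.π P j).hom s = sU j.unop := fun j =>
    Types.isLimitEquivSections_symm_apply hlim sec j
  refine ⟨s, ?_⟩
  apply Concrete.limit_ext (Discrete.functor fun i : (K0 K).I => P.obj (op ((K0 K).obj i)))
  rintro ⟨i⟩
  show (Pi.π (fun i : (K0 K).I => P.obj (op ((K0 K).obj i))) i).hom ((ι₀ K P).hom s) = t i
  have h := congrArg (fun m => m.hom s) (ι₀_π K P i)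
  refine h.trans ?_
  rw [hs]
  have e := hsU ((K0 K).obj i) ((K0 K).obj i) (𝟙 _) i (𝟙 _)
  rw [map_id_op_apply, map_id_op_apply] at e
  exact e

theorem main (h0 : Presheaf.IsLocallySurjective J
      (terminal.from (FormalCoproduct.yoneda.obj (K.obj (op (SimplexCategory.mk 0))))))
    (h1 : Presheaf.IsLocallySurjective J
      (prod.lift (FormalCoproduct.yoneda.map (K.δ (1 : Fin 2)))
        (FormalCoproduct.yoneda.map (K.δ (0 : Fin 2)))))
    (F : Sheaf J AddCommGrpCat.{u}) :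
    Nonempty ((Hyper.cechCxSite K F.obj).homology 0 ≅ limit F.obj) := by
  have hQ : Presieve.IsSheaf J (F.obj ⋙ forget AddCommGrpCat.{u}) :=
    (isSheaf_iff_isSheaf_of_type J _).1
      ((Presheaf.isSheaf_iff_isSheaf_forget J F.obj (forget AddCommGrpCat.{u})).1 F.property)
  have hcov := exists_cover_K0 (K0 K) J h0
  let S : ShortComplex AddCommGrpCat.{u} :=
    ShortComplex.mk (ι₀ K F.obj) (D K F.obj) (ι₀_D K F.obj)
  haveI hmono : Mono S.f :=
    (AddCommGrpCat.mono_iff_injective _).2 (ι₀_injective J K F.obj hQ hcov)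
  have hex : S.Exact := (ShortComplex.ab_exact_iff S).2
    (fun x hx => exists_preimage J K F.obj hQ hcov h1 x hx)
  have hker : IsLimit (KernelFork.ofι S.f S.zero) := hex.fIsKernel
  have hcyc := (Hyper.cechCxSite K F.obj).cyclesIsKernel 0 1 (by simp)
  exact ⟨((IsLimit.conePointUniqueUpToIso hker hcyc) ≪≫
    (Hyper.cechCxSite K F.obj).isoHomologyπ₀).symm⟩

end Main

end Groth.Agent.H67.HyperH0
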