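import Mathlib
import Groth.Prelude.Def_Hyper
import Groth.Agent.H67.HyperH0

/-!
# `A`-points of `(cosk₀ K)₁`, and hypercoverings of an object in Verdier's form

* `key`: for a simplicial object `K` (of a category with the coproducts needed to form `A ⊗ Δ[1]`),
  there are maps `π₁ π₀ : (cosk₀ K)₁ ⟶ K₀` with `η₁ ≫ π_i = d_i` such that every pair of `A`-points
  of `K₀` comes from an `A`-point of `(cosk₀ K)₁`.  (No product is formed.)
* `isHypercoveringSite_over` (S6504), `cech_h0` (S0906).
-/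

universe u

open CategoryTheory CategoryTheory.Limits Opposite

namespace Groth.Agent.H67.CoskZero

section General

variable {D : Type*} [Category D]
  [∀ (F : (SimplexCategory.Truncated 0)ᵒᵖ ⥤ D),
    (SimplexCategory.Truncated.inclusion 0).op.HasRightKanExtension F]
  [∀ a b : SimplexCategoryᵒᵖ, HasCoproductsOfShape (a ⟶ b) D]
  (K : SimplicialObject D)

lemma hom_eq_of_len_zero {a b : SimplexCategory} (hb : b.len ≤ 0) (f f' : a ⟶ b) : f = f' := by
  apply SimplexCategory.Hom.ext
  apply OrderHom.ext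
  funext x
  apply Fin.ext
  have h1 := (f.toOrderHom x).isLt
  have h2 := (f'.toOrderHom x).isLt
  omega

/-- The object `[0]` of the `0`-truncated simplex category (opposite). -/
abbrev o0 : (SimplexCategory.Truncated 0)ᵒᵖ := op ⟨SimplexCategory.mk 0, by simp⟩

/-- `cosk₀ sk₀ K`. -/
noncomputable abbrev cK : SimplicialObject D :=
  (SimplicialObject.Truncated.cosk 0).obj ((SimplicialObject.truncation 0).obj K)

/-- The unit `K ⟶ cosk₀ sk₀ K`. -/
noncomputable abbrev η : K ⟶ cK K := (SimplicialObject.coskAdj 0).unit.app K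

/-- The degree-zero component of the counit. -/
noncomputable def ε₀ :
    (cK K).obj (op (SimplexCategory.mk 0)) ⟶ K.obj (op (SimplexCategory.mk 0)) :=
  ((SimplicialObject.coskAdj 0).counit.app ((SimplicialObject.truncation 0).obj K)).app o0

lemma η_ε₀ : (η K).app (op (SimplexCategory.mk 0)) ≫ ε₀ K = 𝟙 _ := by
  have h := (SimplicialObject.coskAdj (C := D) 0).left_triangle_components K
  exact congrArg (fun m => m.app o0) h

/-- The two projections `(cosk₀ K)₁ ⟶ K₀`. -/
noncomputable def π (i : Fin 2) :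
    (cK K).obj (op (SimplexCategory.mk 1)) ⟶ K.obj (op (SimplexCategory.mk 0)) :=
  (cK K).map (SimplexCategory.δ i).op ≫ ε₀ K

lemma η_π (i : Fin 2) : (η K).app (op (SimplexCategory.mk 1)) ≫ π K i = K.δ i := by
  have hn : K.map (SimplexCategory.δ i).op ≫ (η K).app (op (SimplexCategory.mk 0)) =
      (η K).app (op (SimplexCategory.mk 1)) ≫ (cK K).map (SimplexCategory.δ i).op :=
    (η K).naturality (SimplexCategory.δ i).op
  calc (η K).app (op (SimplexCategory.mk 1)) ≫ π K i
      = ((η K).app (op (SimplexCategory.mk 1)) ≫ (cK K).map (SimplexCategory.δ i).op) ≫ ε₀ K := by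
        simp only [π, Category.assoc]
    _ = (K.map (SimplexCategory.δ i).op ≫ (η K).app (op (SimplexCategory.mk 0))) ≫ ε₀ K := by
        rw [hn]
    _ = K.map (SimplexCategory.δ i).op := by
        rw [Category.assoc, η_ε₀, Category.comp_id]
    _ = K.δ i := rfl

section Points

variable {K} (A : D) (g g' : A ⟶ K.obj (op (SimplexCategory.mk 0)))

/-- `A ⊗ Δ[1]`. -/
noncomputable abbrev LA : SimplicialObject D :=
  (evaluationLeftAdjoint D (op (SimplexCategory.mk 1))).obj A

open Classical in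
/-- The map `(A ⊗ Δ[1])₀ = A ⊔ A ⟶ K₀` given by `g` on the vertex `δ¹` and `g'` on the other. -/
noncomputable def φ : (LA A).obj (op (SimplexCategory.mk 0)) ⟶ K.obj (op (SimplexCategory.mk 0)) :=
  Sigma.desc fun f : (op (SimplexCategory.mk 1) ⟶ op (SimplexCategory.mk 0)) =>
    if f = (SimplexCategory.δ (1 : Fin 2)).op then g else g'

open Classical in
lemma ι_φ (f : op (SimplexCategory.mk 1) ⟶ op (SimplexCategory.mk 0)) :
    Sigma.ι (fun _ : (op (SimplexCategory.mk 1) ⟶ op (SimplexCategory.mk 0)) => A) f ≫ φ A g g' =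
      if f = (SimplexCategory.δ (1 : Fin 2)).op then g else g' := by
  unfold φ
  exact Sigma.ι_desc _ _

/-- The morphism of `0`-truncated objects induced by `φ`. -/
noncomputable def φt :
    (SimplicialObject.truncation 0).obj (LA A) ⟶ (SimplicialObject.truncation 0).obj K where
  app X := (LA A).map (SimplexCategory.const (SimplexCategory.mk 0) X.unop.obj 0).op ≫ φ A g g' ≫
    K.map (SimplexCategory.const X.unop.obj (SimplexCategory.mk 0) 0).op
  naturality X Y f := by
    have hX : X.unop.obj.len ≤ 0 := X.unop.property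
    have e1 : (LA A).map (f.unop.hom).op ≫
        (LA A).map (SimplexCategory.const (SimplexCategory.mk 0) Y.unop.obj 0).op =
        (LA A).map (SimplexCategory.const (SimplexCategory.mk 0) X.unop.obj 0).op := by
      rw [← (LA A).map_comp, ← op_comp,
        hom_eq_of_len_zero hX (SimplexCategory.const (SimplexCategory.mk 0) Y.unop.obj 0 ≫ f.unop.hom)
          (SimplexCategory.const (SimplexCategory.mk 0) X.unop.obj 0)]
    have e2 : K.map (SimplexCategory.const X.unop.obj (SimplexCategory.mk 0) 0).op ≫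
        K.map (f.unop.hom).op =
        K.map (SimplexCategory.const Y.unop.obj (SimplexCategory.mk 0) 0).op := by
      rw [← K.map_comp, ← op_comp,
        hom_eq_of_len_zero (by simp)
          (f.unop.hom ≫ SimplexCategory.const X.unop.obj (SimplexCategory.mk 0) 0)
          (SimplexCategory.const Y.unop.obj (SimplexCategory.mk 0) 0)]
    show (LA A).map (f.unop.hom).op ≫
        ((LA A).map (SimplexCategory.const (SimplexCategory.mk 0) Y.unop.obj 0).op ≫ φ A g g' ≫
          K.map (SimplexCategory.const Y.unop.obj (SimplexCategory.mk 0) 0).op) =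
      ((LA A).map (SimplexCategory.const (SimplexCategory.mk 0) X.unop.obj 0).op ≫ φ A g g' ≫
          K.map (SimplexCategory.const X.unop.obj (SimplexCategory.mk 0) 0).op) ≫
        K.map (f.unop.hom).op
    rw [← Category.assoc, e1, Category.assoc, Category.assoc, e2]

/-- The adjunct `A ⊗ Δ[1] ⟶ cosk₀ sk₀ K`. -/
noncomputable def at' : LA A ⟶ cK K :=
  (SimplicialObject.coskAdj 0).homEquiv (LA A) ((SimplicialObject.truncation 0).obj K) (φt A g g')

lemma at_ε₀ : (at' A g g').app (op (SimplexCategory.mk 0)) ≫ ε₀ K = φ A g g' := by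
  have h : (SimplicialObject.truncation 0).map (at' A g g') ≫
      (SimplicialObject.coskAdj 0).counit.app ((SimplicialObject.truncation 0).obj K) =
      φt A g g' :=
    ((SimplicialObject.coskAdj 0).homEquiv (LA A)
      ((SimplicialObject.truncation 0).obj K)).symm_apply_apply (φt A g g')
  have h0 := congrArg (fun m => m.app o0) h
  refine h0.trans ?_
  show (LA A).map (SimplexCategory.const (SimplexCategory.mk 0) (SimplexCategory.mk 0) 0).op ≫
    φ A g g' ≫ K.map (SimplexCategory.const (SimplexCategory.mk 0) (SimplexCategory.mk 0) 0).op =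
    φ A g g'
  rw [SimplexCategory.const_eq_id, op_id, (LA A).map_id, K.map_id, Category.id_comp,
    Category.comp_id]

/-- The inclusion of the summand of `(A ⊗ Δ[1])_t` indexed by `f`. -/
noncomputable def ιv (t : SimplexCategoryᵒᵖ) (f : op (SimplexCategory.mk 1) ⟶ t) :
    A ⟶ (LA A).obj t :=
  Sigma.ι (fun _ : (op (SimplexCategory.mk 1) ⟶ t) => A) f

lemma ιv_map (t t' : SimplexCategoryᵒᵖ) (f : op (SimplexCategory.mk 1) ⟶ t) (w : t ⟶ t') :
    ιv A t f ≫ (LA A).map w = ιv A t' (f ≫ w) :=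
  Sigma.ι_desc _ _

open Classical in
lemma ιv_φ (f : op (SimplexCategory.mk 1) ⟶ op (SimplexCategory.mk 0)) :
    ιv A _ f ≫ φ A g g' = if f = (SimplexCategory.δ (1 : Fin 2)).op then g else g' :=
  ι_φ A g g' f

/-- The `A`-point of `(cosk₀ K)₁` attached to the pair `(g, g')`. -/
noncomputable def aPt : A ⟶ (cK K).obj (op (SimplexCategory.mk 1)) :=
  ιv A (op (SimplexCategory.mk 1)) (𝟙 _) ≫ (at' A g g').app (op (SimplexCategory.mk 1))

open Classical in
lemma aPt_π (i : Fin 2) : aPt A g g' ≫ π K i =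
    if (SimplexCategory.δ i).op = (SimplexCategory.δ (1 : Fin 2)).op then g else g' := by
  have hn : (LA A).map (SimplexCategory.δ i).op ≫ (at' A g g').app (op (SimplexCategory.mk 0)) =
      (at' A g g').app (op (SimplexCategory.mk 1)) ≫ (cK K).map (SimplexCategory.δ i).op :=
    (at' A g g').naturality (SimplexCategory.δ i).op
  unfold aPt π
  rw [Category.assoc, ← Category.assoc ((at' A g g').app (op (SimplexCategory.mk 1))), ← hn,
    Category.assoc, at_ε₀, ← Category.assoc, ιv_map, Category.id_comp]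
  exact ιv_φ A g g' _

end Points

lemma δ_ne : (SimplexCategory.δ (0 : Fin 2)).op ≠ (SimplexCategory.δ (1 : Fin 2)).op := by
  intro h
  have h' : SimplexCategory.δ (0 : Fin 2) = SimplexCategory.δ (1 : Fin 2) :=
    congrArg Quiver.Hom.unop h
  have h2 := congrArg (fun f => (SimplexCategory.Hom.toOrderHom f) 0) h'
  simp [SimplexCategory.δ] at h2

theorem key :
    ∃ π₁ π₀ : (cK K).obj (op (SimplexCategory.mk 1)) ⟶ K.obj (op (SimplexCategory.mk 0)),
      (η K).app (op (SimplexCategory.mk 1)) ≫ π₁ = K.δ (1 : Fin 2) ∧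
      (η K).app (op (SimplexCategory.mk 1)) ≫ π₀ = K.δ (0 : Fin 2) ∧
      ∀ (A : D) (g g' : A ⟶ K.obj (op (SimplexCategory.mk 0))),
        ∃ a : A ⟶ (cK K).obj (op (SimplexCategory.mk 1)), a ≫ π₁ = g ∧ a ≫ π₀ = g' := by
  classical
  refine ⟨π K 1, π K 0, η_π K 1, η_π K 0, fun A g g' => ⟨aPt A g g', ?_, ?_⟩⟩
  · rw [aPt_π, if_pos rfl]
  · rw [aPt_π, if_neg δ_ne]

end General

section Site

open HyperH0

variable {C' : Type u} [SmallCategory C'] (J' : GrothendieckTopology C')

lemma inj_transport (M : FormalCoproduct.{u} C') {i j : M.I} (h : i = j) {W : C'}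
    (m : W ⟶ M.obj i) :
    (inj M i).app (op W) m = (inj M j).app (op W) (m ≫ eqToHom (congrArg M.obj h)) := by
  subst h
  rw [eqToHom_refl, Category.comp_id]

theorem isLocallySurjective_of_isSRCovering {L M : FormalCoproduct.{u} C'} (f : L ⟶ M)
    (hf : Hyper.IsSRCovering J' f) :
    Presheaf.IsLocallySurjective J' (FormalCoproduct.yoneda.map f) := by
  constructor
  intro V y
  obtain ⟨j, φ, rfl⟩ := jointly_surjective M V y
  refine J'.superset_covering ?_ (J'.pullback_stable φ (hf j))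
  intro W k hk
  obtain ⟨i, b, hb⟩ := (Sieve.mem_ofArrows_iff _ _ _).1 hk
  refine ⟨(inj L i.1).app (op W) b, ?_⟩
  rw [inj_map_apply, inj_naturality, hb, inj_transport M i.2, Category.assoc]

/-- Elements of `(A ⨯ B)(W)` are determined by their two components. -/
lemma prod_ext_elem (A B : C'ᵒᵖ ⥤ Type u) (W : C'ᵒᵖ) (z z' : (A ⨯ B).obj W)
    (h1 : (prod.fst : A ⨯ B ⟶ A).app W z = (prod.fst : A ⨯ B ⟶ A).app W z')
    (h2 : (prod.snd : A ⨯ B ⟶ B).app W z = (prod.snd : A ⨯ B ⟶ B).app W z') : z = z' := by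
  have hc : IsLimit (((evaluation C'ᵒᵖ (Type u)).obj W).mapCone (limit.cone (pair A B))) :=
    isLimitOfPreserves _ (limit.isLimit _)
  refine Concrete.isLimit_ext _ hc z z' ?_
  rintro ⟨⟨⟩⟩
  · exact h1
  · exact h2

lemma terminal_elem_eq (W : C'ᵒᵖ) (z z' : (⊤_ (C'ᵒᵖ ⥤ Type u)).obj W) : z = z' := by
  have hc : IsLimit (((evaluation C'ᵒᵖ (Type u)).obj W).mapCone
      (limit.cone (Functor.empty.{0} (C'ᵒᵖ ⥤ Type u)))) :=
    isLimitOfPreserves _ (limit.isLimit _)
  exact Concrete.isLimit_ext _ hc z z' (fun j => j.as.elim)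

/-- A morphism from a one-term formal coproduct, as a section of the coproduct of
representables. -/
noncomputable def toY (L : FormalCoproduct.{u} C') {W : C'}
    (m : (FormalCoproduct.incl C').obj W ⟶ L) : (FormalCoproduct.yoneda.obj L).obj (op W) :=
  (inj L (m.f PUnit.unit)).app (op W) (m.φ PUnit.unit)

lemma toY_comp {L L' : FormalCoproduct.{u} C'} {W : C'}
    (m : (FormalCoproduct.incl C').obj W ⟶ L) (d : L ⟶ L') :
    toY L' (m ≫ d) = (FormalCoproduct.yoneda.map d).app (op W) (toY L m) :=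
  (inj_map_apply d (m.f PUnit.unit) (m.φ PUnit.unit)).symm

lemma toY_map (L : FormalCoproduct.{u} C') {W W' : C'} (k : W' ⟶ W)
    (m : (FormalCoproduct.incl C').obj W ⟶ L) :
    toY L ((FormalCoproduct.incl C').map k ≫ m) =
      (FormalCoproduct.yoneda.obj L).map k.op (toY L m) :=
  (inj_naturality L (m.f PUnit.unit) k (m.φ PUnit.unit)).symm

lemma toY_fromIncl (L : FormalCoproduct.{u} C') {W : C'} (i : L.I) (g : W ⟶ L.obj i) :
    toY L (FormalCoproduct.Hom.fromIncl i g) = (inj L i).app (op W) g := rfl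

theorem part2 {L M K₀ : FormalCoproduct.{u} C'} (f : L ⟶ M) (hf : Hyper.IsSRCovering J' f)
    (d₁ d₀ : L ⟶ K₀) (π₁ π₀ : M ⟶ K₀) (h1 : f ≫ π₁ = d₁) (h0 : f ≫ π₀ = d₀)
    (hpts : ∀ (A : FormalCoproduct.{u} C') (g g' : A ⟶ K₀),
      ∃ a : A ⟶ M, a ≫ π₁ = g ∧ a ≫ π₀ = g') :
    Presheaf.IsLocallySurjective J'
      (prod.lift (FormalCoproduct.yoneda.map d₁) (FormalCoproduct.yoneda.map d₀)) := by
  constructor
  intro V p
  obtain ⟨i₀, g, hg⟩ := jointly_surjective K₀ V
    ((prod.fst : FormalCoproduct.yoneda.obj K₀ ⨯ FormalCoproduct.yoneda.obj K₀ ⟶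
      FormalCoproduct.yoneda.obj K₀).app (op V) p)
  obtain ⟨i₀', g', hg'⟩ := jointly_surjective K₀ V
    ((prod.snd : FormalCoproduct.yoneda.obj K₀ ⨯ FormalCoproduct.yoneda.obj K₀ ⟶
      FormalCoproduct.yoneda.obj K₀).app (op V) p)
  obtain ⟨a, ha1, ha0⟩ := hpts ((FormalCoproduct.incl C').obj V)
    (FormalCoproduct.Hom.fromIncl i₀ g) (FormalCoproduct.Hom.fromIncl i₀' g')
  refine J'.superset_covering ?_ (J'.pullback_stable (a.φ PUnit.unit) (hf (a.f PUnit.unit)))
  intro W k hk
  obtain ⟨i, b, hb⟩ := (Sieve.mem_ofArrows_iff _ _ _).1 hk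
  have hm : FormalCoproduct.Hom.fromIncl i.1 b ≫ f = (FormalCoproduct.incl C').map k ≫ a := by
    rw [FormalCoproduct.hom_ext_iff']
    rintro ⟨⟩
    refine ⟨i.2, ?_⟩
    show (b ≫ f.φ i.1) ≫ eqToHom _ = k ≫ a.φ PUnit.unit
    exact (Category.assoc _ _ _).trans hb.symm
  refine ⟨toY L (FormalCoproduct.Hom.fromIncl i.1 b), ?_⟩
  apply prod_ext_elem
  · have l1 : (prod.fst : FormalCoproduct.yoneda.obj K₀ ⨯ FormalCoproduct.yoneda.obj K₀ ⟶
        FormalCoproduct.yoneda.obj K₀).app (op W)
        ((prod.lift (FormalCoproduct.yoneda.map d₁) (FormalCoproduct.yoneda.map d₀)).app (op W)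
          (toY L (FormalCoproduct.Hom.fromIncl i.1 b))) =
        (FormalCoproduct.yoneda.map d₁).app (op W) (toY L (FormalCoproduct.Hom.fromIncl i.1 b)) :=
      congrArg (fun z => z.app (op W) (toY L (FormalCoproduct.Hom.fromIncl i.1 b)))
        (prod.lift_fst (FormalCoproduct.yoneda.map d₁) (FormalCoproduct.yoneda.map d₀))
    have r1 := NatTrans.naturality_apply
      (prod.fst : FormalCoproduct.yoneda.obj K₀ ⨯ FormalCoproduct.yoneda.obj K₀ ⟶
        FormalCoproduct.yoneda.obj K₀) k.op p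
    refine l1.trans (Eq.trans ?_ r1.symm)
    rw [← toY_comp, ← h1, ← Category.assoc, hm, Category.assoc, ha1, toY_map, ← hg, toY_fromIncl]
  · have l1 : (prod.snd : FormalCoproduct.yoneda.obj K₀ ⨯ FormalCoproduct.yoneda.obj K₀ ⟶
        FormalCoproduct.yoneda.obj K₀).app (op W)
        ((prod.lift (FormalCoproduct.yoneda.map d₁) (FormalCoproduct.yoneda.map d₀)).app (op W)
          (toY L (FormalCoproduct.Hom.fromIncl i.1 b))) =
        (FormalCoproduct.yoneda.map d₀).app (op W) (toY L (FormalCoproduct.Hom.fromIncl i.1 b)) :=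
      congrArg (fun z => z.app (op W) (toY L (FormalCoproduct.Hom.fromIncl i.1 b)))
        (prod.lift_snd (FormalCoproduct.yoneda.map d₁) (FormalCoproduct.yoneda.map d₀))
    have r1 := NatTrans.naturality_apply
      (prod.snd : FormalCoproduct.yoneda.obj K₀ ⨯ FormalCoproduct.yoneda.obj K₀ ⟶
        FormalCoproduct.yoneda.obj K₀) k.op p
    refine l1.trans (Eq.trans ?_ r1.symm)
    rw [← toY_comp, ← h0, ← Category.assoc, hm, Category.assoc, ha0, toY_map, ← hg', toY_fromIncl]

end Site

section Final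

open HyperH0

variable {C : Type u} [SmallCategory C] (J : GrothendieckTopology C) (X : C)

theorem part1 (L : FormalCoproduct.{u} (Over X))
    (h : Sieve.ofArrows (fun i => (L.obj i).left) (fun i => (L.obj i).hom) ∈ J X) :
    Presheaf.IsLocallySurjective (J.over X) (terminal.from (FormalCoproduct.yoneda.obj L)) := by
  constructor
  intro V s
  rw [GrothendieckTopology.mem_over_iff]
  refine J.superset_covering ?_ (J.pullback_stable V.hom h)
  intro W k hk
  obtain ⟨i, b, hb⟩ := (Sieve.mem_ofArrows_iff _ _ _).1 hk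
  rw [Sieve.overEquiv_iff]
  refine ⟨(inj L i).app (op (Over.mk (k ≫ V.hom))) (Over.homMk b hb.symm), ?_⟩
  exact terminal_elem_eq _ _ _

/-- S6504. -/
theorem isHypercoveringSite_over (K : SimplicialObject (FormalCoproduct.{u} (Over X)))
    [∀ (n : ℕ) (F : (SimplexCategory.Truncated n)ᵒᵖ ⥤ FormalCoproduct.{u} (Over X)),
      (SimplexCategory.Truncated.inclusion n).op.HasRightKanExtension F]
    (hK : Hyper.IsHypercovering J X K) : Hyper.IsHypercoveringSite (J.over X) K := by
  have : ∀ a b : SimplexCategoryᵒᵖ,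
      HasCoproductsOfShape (a ⟶ b) (FormalCoproduct.{u} (Over X)) :=
    fun a b => hasCoproductsOfShape_of_small.{u} _ _
  obtain ⟨π₁, π₀, h1, h0, hpts⟩ := key K
  exact ⟨part1 J X _ hK.1, part2 (J.over X) _ (hK.2 0) _ _ π₁ π₀ h1 h0 hpts,
    fun n _ => isLocallySurjective_of_isSRCovering (J.over X) _ (hK.2 n)⟩

/-- S0906. -/
theorem cech_h0 (K : SimplicialObject (FormalCoproduct.{u} (Over X)))
    [∀ (n : ℕ) (F : (SimplexCategory.Truncated n)ᵒᵖ ⥤ FormalCoproduct.{u} (Over X)),
      (SimplexCategory.Truncated.inclusion n).op.HasRightKanExtension F]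
    (hK : Hyper.IsHypercovering J X K) (F : Sheaf J AddCommGrpCat.{u}) :
    Nonempty (Hyper.cechH X K F.obj 0 ≅ F.obj.obj (op X)) := by
  have hS := isHypercoveringSite_over J X K hK
  obtain ⟨e⟩ := HyperH0.main (J.over X) K hS.1 hS.2.1 ((J.overPullback AddCommGrpCat.{u} X).obj F)
  have hinit : IsInitial (op (Over.mk (𝟙 X))) := initialOpOfTerminal Over.mkIdTerminal
  let e2 := IsLimit.conePointUniqueUpToIso
    (limit.isLimit ((J.overPullback AddCommGrpCat.{u} X).obj F).obj)
    (limitOfDiagramInitial hinit ((J.overPullback AddCommGrpCat.{u} X).obj F).obj)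
  exact ⟨e ≪≫ e2⟩

end Final

end Groth.Agent.H67.CoskZero
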