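import Mathlib

/-!
# Helper library (helper67): `x_i ↦ x_i + h_i` with `h_i ∈ (x)^2` reflects membership in `(x)^t`
(squad lemma (B2) for helper83 / S18238)
-/

set_option autoImplicit false

open MvPolynomial

namespace Groth.Agent.H67.DM

section B2

variable {R : Type*} [CommRing R] {σ : Type*}

theorem X_mem_idealOfVars (i : σ) : (X i : MvPolynomial σ R) ∈ idealOfVars σ R :=
  Ideal.subset_span ⟨i, rfl⟩

/-- the substitution `x_i ↦ x_i + h_i` -/
noncomputable def psi (h : σ → MvPolynomial σ R) : MvPolynomial σ R →ₐ[R] MvPolynomial σ R :=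
  aeval (fun i => X i + h i)

variable (h : σ → MvPolynomial σ R) (hh : ∀ i, h i ∈ idealOfVars σ R ^ 2)

include hh in
theorem psi_sub_mem (f : MvPolynomial σ R) : psi h f - f ∈ idealOfVars σ R := by
  induction f using MvPolynomial.induction_on with
  | C a => simp [psi]
  | add p q hp hq =>
    have e : psi h (p + q) - (p + q) = (psi h p - p) + (psi h q - q) := by
      rw [map_add]
      ring
    rw [e]
    exact Ideal.add_mem _ hp hq
  | mul_X p i hp =>
    have e : psi h (p * X i) - p * X i = (psi h p - p) * X i + psi h p * h i := by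
      rw [map_mul]
      have e1 : psi h (X i) = X i + h i := by simp [psi]
      rw [e1]
      ring
    rw [e]
    exact Ideal.add_mem _ (Ideal.mul_mem_left _ _ (X_mem_idealOfVars i))
      (Ideal.mul_mem_left _ _ (Ideal.pow_le_self two_ne_zero (hh i)))

include hh in
theorem psi_mem {y : MvPolynomial σ R} (hy : y ∈ idealOfVars σ R) : psi h y ∈ idealOfVars σ R := by
  have e : psi h y = (psi h y - y) + y := by ring
  rw [e]
  exact Ideal.add_mem _ (psi_sub_mem h hh y) hy

include hh in
theorem psi_sub_mem_sq_aux (y : MvPolynomial σ R)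
    (hy' : y ∈ Submodule.span (MvPolynomial σ R) (Set.range (X : σ → MvPolynomial σ R))) :
    psi h y - y ∈ idealOfVars σ R ^ 2 := by
  induction hy' using Submodule.span_induction with
  | mem x hx =>
    obtain ⟨i, rfl⟩ := hx
    have e1 : psi h (X i) = X i + h i := by simp [psi]
    rw [e1, add_sub_cancel_left]
    exact hh i
  | zero => simp
  | add x y hx hy ihx ihy =>
    have e : psi h (x + y) - (x + y) = (psi h x - x) + (psi h y - y) := by
      rw [map_add]
      ring
    rw [e]
    exact Ideal.add_mem _ ihx ihy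
  | smul a x hx ih =>
    have e : psi h (a • x) - a • x = (psi h a - a) * psi h x + a * (psi h x - x) := by
      rw [smul_eq_mul, map_mul]
      ring
    rw [e]
    refine Ideal.add_mem _ ?_ (Ideal.mul_mem_left _ _ ih)
    rw [pow_two]
    exact Ideal.mul_mem_mul (psi_sub_mem h hh a) (psi_mem h hh (hx : x ∈ idealOfVars σ R))

include hh in
theorem psi_sub_mem_sq {y : MvPolynomial σ R} (hy : y ∈ idealOfVars σ R) :
    psi h y - y ∈ idealOfVars σ R ^ 2 :=
  psi_sub_mem_sq_aux h hh y hy

include hh in
theorem psi_sub_mem_pow : ∀ (s : ℕ) (f : MvPolynomial σ R), f ∈ idealOfVars σ R ^ s →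
    psi h f - f ∈ idealOfVars σ R ^ (s + 1) := by
  intro s
  induction s with
  | zero =>
    intro f _
    rw [zero_add, pow_one]
    exact psi_sub_mem h hh f
  | succ s ih =>
    intro f hf
    rw [pow_succ] at hf
    refine Submodule.mul_induction_on hf ?_ ?_
    · intro x hx y hy
      have e : psi h (x * y) - x * y = (psi h x - x) * psi h y + x * (psi h y - y) := by
        rw [map_mul]
        ring
      rw [e]
      refine Ideal.add_mem _ ?_ ?_
      · rw [pow_succ (idealOfVars σ R) (s + 1)]
        exact Ideal.mul_mem_mul (ih x hx) (psi_mem h hh hy)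
      · have e2 : idealOfVars σ R ^ (s + 1 + 1) = idealOfVars σ R ^ s * idealOfVars σ R ^ 2 := by
          rw [← pow_add]
        rw [e2]
        exact Ideal.mul_mem_mul hx (psi_sub_mem_sq h hh hy)
    · intro x y hx hy
      have e : psi h (x + y) - (x + y) = (psi h x - x) + (psi h y - y) := by
        rw [map_add]
        ring
      rw [e]
      exact Ideal.add_mem _ hx hy

end B2

/-- (B2) -/
theorem mem_pow_of_aeval_mem_pow {R : Type*} [CommRing R] {σ : Type*} (h : σ → MvPolynomial σ R)
    (hh : ∀ i, h i ∈ idealOfVars σ R ^ 2) (t : ℕ) (f : MvPolynomial σ R)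
    (hf : aeval (fun i => X i + h i) f ∈ idealOfVars σ R ^ t) : f ∈ idealOfVars σ R ^ t := by
  have hf' : psi h f ∈ idealOfVars σ R ^ t := hf
  have key : ∀ s, s ≤ t → f ∈ idealOfVars σ R ^ s := by
    intro s
    induction s with
    | zero =>
      intro _
      simp
    | succ s ih =>
      intro hs
      have h1 := psi_sub_mem_pow h hh s f (ih (Nat.le_of_succ_le hs))
      have h2 : psi h f ∈ idealOfVars σ R ^ (s + 1) := Ideal.pow_le_pow_right hs hf'
      have e : f = psi h f - (psi h f - f) := by ring
      rw [e]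
      exact Ideal.sub_mem _ h2 h1
  exact key t le_rfl

end Groth.Agent.H67.DM
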