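import Mathlib
import Groth.Prelude.Def_PBC
import Groth.Prelude.Def_ProEtS
import Groth.Agent.H23.EpsDefs
import Groth.Agent.H23.EpsIndDefs
import Groth.Agent.H23.EpsPairDefs
import Groth.Agent.H96.Eps_R

/-!
# Piece (LE) of helper23's pro-etale `eps` cluster: ind-etale presentation data for `W ×_U W`
(helper67)

Given ind-etale presentation data `D` of an affine weakly contractible cover `W ⟶ eps U`, the
fibre product `W ×_U W` is the cofiltered limit of the affine etale `U`-schemes `St j ×_U St j`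
(same index category), with the two projections.
-/

set_option autoImplicit false
set_option backward.isDefEq.respectTransparency.types false
universe u
open CategoryTheory CategoryTheory.Limits AlgebraicGeometry Opposite
open Groth.Agent.H23.EpsDefs Groth.Agent.H23.EpsIndDefs Groth.Agent.H23.EpsPairDefs

namespace Groth.Agent.H67.Eps_LE

section Generic

variable {C : Type*} [Category C]

/-- generic: the functor `j ↦ S j ×_U S j`. -/
noncomputable def sqF [HasPullbacks C] {J : Type*} [Category J] (S : J ⥤ C) {U : C}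
    (b : ∀ j, S.obj j ⟶ U) (hb : ∀ {i j : J} (f : i ⟶ j), S.map f ≫ b j = b i) : J ⥤ C where
  obj j := pullback (b j) (b j)
  map {i j} f := pullback.lift (pullback.fst (b i) (b i) ≫ S.map f)
    (pullback.snd (b i) (b i) ≫ S.map f)
    (by rw [Category.assoc, Category.assoc, hb, pullback.condition])
  map_id j := by apply pullback.hom_ext <;> simp
  map_comp {i j k} f g := by
    apply pullback.hom_ext
    · rw [pullback.lift_fst, Category.assoc, pullback.lift_fst, ← Category.assoc,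
        pullback.lift_fst, Category.assoc, S.map_comp]
    · rw [pullback.lift_snd, Category.assoc, pullback.lift_snd, ← Category.assoc,
        pullback.lift_snd, Category.assoc, S.map_comp]

theorem gen1 {A B C' D E : C} (ai : A ⟶ B) (aj : A ⟶ C') (M : B ⟶ C') (q1j : C' ⟶ E)
    (q1i : B ⟶ D) (m : D ⟶ E) (e5 : M ≫ q1j = q1i ≫ m) (ha : ai ≫ M = aj) :
    𝟙 A ≫ (aj ≫ q1j) = (ai ≫ q1i) ≫ m := by
  rw [Category.id_comp, ← ha]
  simp only [Category.assoc, e5]

theorem gen2 {A W S T U' : C} (u₁ u₂ : A ⟶ W) (w : W ⟶ U') (π : W ⟶ S) (b : S ⟶ U')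
    (a : A ⟶ T) (q1 q2 : T ⟶ S) (e3 : π ≫ b = w) (hu₁ : u₁ ≫ π = a ≫ q1)
    (hu₂ : u₂ ≫ π = a ≫ q2) (e4 : q1 ≫ b = q2 ≫ b) : u₁ ≫ w = u₂ ≫ w := by
  rw [← e3, ← Category.assoc, ← Category.assoc, hu₁, hu₂, Category.assoc, Category.assoc, e4]

theorem gen3 {A W₂' W S T : C} (l : A ⟶ W₂') (π2 : W₂' ⟶ T) (q1 : T ⟶ S) (a : A ⟶ T)
    (p1 : W₂' ⟶ W) (π : W ⟶ S) (u₁ : A ⟶ W) (e1 : π2 ≫ q1 = p1 ≫ π) (hl1 : l ≫ p1 = u₁)
    (hu₁ : u₁ ≫ π = a ≫ q1) : (l ≫ π2) ≫ q1 = a ≫ q1 := by
  rw [Category.assoc, e1, ← Category.assoc, hl1, hu₁]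

theorem gen4 {A W₂' W S T : C} (m : A ⟶ W₂') (π2 : W₂' ⟶ T) (q1 : T ⟶ S) (a : A ⟶ T)
    (p1 : W₂' ⟶ W) (π : W ⟶ S) (u₁ : A ⟶ W) (e1 : π2 ≫ q1 = p1 ≫ π) (hm : m ≫ π2 = a)
    (hu₁ : u₁ ≫ π = a ≫ q1) : (m ≫ p1) ≫ π = u₁ ≫ π := by
  rw [Category.assoc, ← e1, ← Category.assoc, hm, hu₁]

end Generic

variable (X : Scheme.{u})

/-- a pullback in `X.Etale` is a pullback of the underlying schemes. -/
noncomputable def isLimitLeftEt {A B C : X.Etale} (f : A ⟶ C) (g : B ⟶ C) :
    IsLimit (PullbackCone.mk (pullback.fst f g).left (pullback.snd f g).left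
      (show (pullback.fst f g).left ≫ f.left = (pullback.snd f g).left ≫ g.left from
        congrArg (fun t => t.left) (pullback.condition (f := f) (g := g)))) :=
  isLimitPullbackConeMapOfIsLimit (Scheme.Etale.forget X ⋙ Over.forget X) pullback.condition
    (pullbackIsPullback f g)

/-- a pullback in `X.ProEt` is a pullback of the underlying schemes. -/
noncomputable def isLimitLeftPro {A B C : X.ProEt} (f : A ⟶ C) (g : B ⟶ C) :
    IsLimit (PullbackCone.mk (pullback.fst f g).left (pullback.snd f g).left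
      (show (pullback.fst f g).left ≫ f.left = (pullback.snd f g).left ≫ g.left from
        congrArg (fun t => t.left) (pullback.condition (f := f) (g := g)))) :=
  isLimitPullbackConeMapOfIsLimit (Scheme.ProEt.forget X ⋙ Over.forget X) pullback.condition
    (pullbackIsPullback f g)

theorem isAffine_pullback_left_et {A B C : X.Etale} (f : A ⟶ C) (g : B ⟶ C)
    [IsAffine A.left] [IsAffine B.left] [IsAffine C.left] : IsAffine (pullback f g).left := by
  have e : (pullback f g).left ≅ pullback f.left g.left :=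
    IsLimit.conePointUniqueUpToIso (isLimitLeftEt X f g) (limit.isLimit (cospan f.left g.left))
  exact IsAffine.of_isIso e.hom

theorem isAffine_pullback_left_pro {A B C : X.ProEt} (f : A ⟶ C) (g : B ⟶ C)
    [IsAffine A.left] [IsAffine B.left] [IsAffine C.left] : IsAffine (pullback f g).left := by
  have e : (pullback f g).left ≅ pullback f.left g.left :=
    IsLimit.conePointUniqueUpToIso (isLimitLeftPro X f g) (limit.isLimit (cospan f.left g.left))
  exact IsAffine.of_isIso e.hom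

section

variable {X}
variable {U : X.Etale} (D : IndData X U)

/-- the stages `St j ×_U St j`. -/
noncomputable def St₂ : D.J ⥤ X.Etale := sqF D.St D.b D.b_nat

/-- first projection of a stage. -/
noncomputable def q₁ (j : D.J) : (St₂ D).obj j ⟶ D.St.obj j := pullback.fst (D.b j) (D.b j)

/-- second projection of a stage. -/
noncomputable def q₂ (j : D.J) : (St₂ D).obj j ⟶ D.St.obj j := pullback.snd (D.b j) (D.b j)

theorem q_cond (j : D.J) : q₁ D j ≫ D.b j = q₂ D j ≫ D.b j := pullback.condition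

theorem St₂_map_q₁ {i j : D.J} (f : i ⟶ j) :
    (St₂ D).map f ≫ q₁ D j = q₁ D i ≫ D.St.map f :=
  pullback.lift_fst _ _ _

theorem St₂_map_q₂ {i j : D.J} (f : i ⟶ j) :
    (St₂ D).map f ≫ q₂ D j = q₂ D i ≫ D.St.map f :=
  pullback.lift_snd _ _ _

/-- the stage as a pullback of schemes. -/
noncomputable def hSt (j : D.J) :
    IsLimit (PullbackCone.mk (q₁ D j).left (q₂ D j).left
      (show (q₁ D j).left ≫ (D.b j).left = (q₂ D j).left ≫ (D.b j).left from
        congrArg (fun t => t.left) (q_cond D j))) :=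
  isLimitLeftEt X (D.b j) (D.b j)

/-- `eps` of a stage is a pullback in `X.ProEt`. -/
noncomputable def hE (j : D.J) :
    IsLimit (PullbackCone.mk ((ProEtS.eps X).map (q₁ D j)) ((ProEtS.eps X).map (q₂ D j))
      (show (ProEtS.eps X).map (q₁ D j) ≫ (ProEtS.eps X).map (D.b j) =
          (ProEtS.eps X).map (q₂ D j) ≫ (ProEtS.eps X).map (D.b j) by
        rw [← Functor.map_comp, ← Functor.map_comp, q_cond])) :=
  isLimitPullbackConeMapOfIsLimit (ProEtS.eps X) pullback.condition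
    (pullbackIsPullback (D.b j) (D.b j))

/-- `W₂ = W ×_U W`. -/
noncomputable def W₂ : X.ProEt := pullback D.w D.w

/-- first projection. -/
noncomputable def p₁ : W₂ D ⟶ D.W := pullback.fst D.w D.w

/-- second projection. -/
noncomputable def p₂ : W₂ D ⟶ D.W := pullback.snd D.w D.w

theorem p_cond : p₁ D ≫ D.w = p₂ D ≫ D.w := pullback.condition

/-- `W₂` as a pullback of schemes. -/
noncomputable def hW :
    IsLimit (PullbackCone.mk (p₁ D).left (p₂ D).left
      (show (p₁ D).left ≫ D.w.left = (p₂ D).left ≫ D.w.left from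
        congrArg (fun t => t.left) (p_cond D))) :=
  isLimitLeftPro X D.w D.w

theorem π₂_aux (j : D.J) :
    (p₁ D ≫ D.π j) ≫ (ProEtS.eps X).map (D.b j) = (p₂ D ≫ D.π j) ≫ (ProEtS.eps X).map (D.b j) := by
  rw [Category.assoc, Category.assoc, D.π_b, p_cond]

/-- the maps to the stages. -/
noncomputable def π₂ (j : D.J) : W₂ D ⟶ (ProEtS.eps X).obj ((St₂ D).obj j) :=
  PullbackCone.IsLimit.lift (hE D j) (p₁ D ≫ D.π j) (p₂ D ≫ D.π j) (π₂_aux D j)

theorem π₂_q₁ (j : D.J) : π₂ D j ≫ (ProEtS.eps X).map (q₁ D j) = p₁ D ≫ D.π j :=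
  PullbackCone.IsLimit.lift_fst (hE D j) (p₁ D ≫ D.π j) (p₂ D ≫ D.π j) (π₂_aux D j)

theorem π₂_q₂ (j : D.J) : π₂ D j ≫ (ProEtS.eps X).map (q₂ D j) = p₂ D ≫ D.π j :=
  PullbackCone.IsLimit.lift_snd (hE D j) (p₁ D ≫ D.π j) (p₂ D ≫ D.π j) (π₂_aux D j)

theorem π₂_nat {i j : D.J} (f : i ⟶ j) :
    π₂ D i ≫ (ProEtS.eps X).map ((St₂ D).map f) = π₂ D j := by
  refine PullbackCone.IsLimit.hom_ext (hE D j) ?_ ?_
  · show (π₂ D i ≫ (ProEtS.eps X).map ((St₂ D).map f)) ≫ (ProEtS.eps X).map (q₁ D j) =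
      π₂ D j ≫ (ProEtS.eps X).map (q₁ D j)
    rw [Category.assoc, ← Functor.map_comp, St₂_map_q₁, Functor.map_comp, ← Category.assoc,
      π₂_q₁, π₂_q₁, Category.assoc, D.π_nat]
  · show (π₂ D i ≫ (ProEtS.eps X).map ((St₂ D).map f)) ≫ (ProEtS.eps X).map (q₂ D j) =
      π₂ D j ≫ (ProEtS.eps X).map (q₂ D j)
    rw [Category.assoc, ← Functor.map_comp, St₂_map_q₂, Functor.map_comp, ← Category.assoc,
      π₂_q₂, π₂_q₂, Category.assoc, D.π_nat]

/-- the presentation of `W₂`. -/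
noncomputable def P₀ : IndPre X U where
  W := W₂ D
  w := p₁ D ≫ D.w
  J := D.J
  St := St₂ D
  b j := q₁ D j ≫ D.b j
  b_nat f := by rw [← Category.assoc, St₂_map_q₁, Category.assoc, D.b_nat]
  π j := π₂ D j
  π_nat f := π₂_nat D f
  π_b j := by rw [Functor.map_comp, ← Category.assoc, π₂_q₁, Category.assoc, D.π_b]

theorem nonempty_isLimit_P₀ : Nonempty (IsLimit (P₀ D).cone) := by
  obtain ⟨j₀⟩ := (IsCofiltered.nonempty : Nonempty D.J)
  have e1 : ∀ j, (π₂ D j).left ≫ (q₁ D j).left = (p₁ D).left ≫ (D.π j).left := fun j =>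
    congrArg (fun t => t.left) (π₂_q₁ D j)
  have e2 : ∀ j, (π₂ D j).left ≫ (q₂ D j).left = (p₂ D).left ≫ (D.π j).left := fun j =>
    congrArg (fun t => t.left) (π₂_q₂ D j)
  have e3 : ∀ j, (D.π j).left ≫ (D.b j).left = D.w.left := fun j =>
    congrArg (fun t => t.left) (D.π_b j)
  have e4 : ∀ j, (q₁ D j).left ≫ (D.b j).left = (q₂ D j).left ≫ (D.b j).left := fun j =>
    congrArg (fun t => t.left) (q_cond D j)
  have e5 : ∀ {i j : D.J} (f : i ⟶ j),
      ((St₂ D).map f).left ≫ (q₁ D j).left = (q₁ D i).left ≫ (D.St.map f).left := fun f =>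
    congrArg (fun t => t.left) (St₂_map_q₁ D f)
  have e6 : ∀ {i j : D.J} (f : i ⟶ j),
      ((St₂ D).map f).left ≫ (q₂ D j).left = (q₂ D i).left ≫ (D.St.map f).left := fun f =>
    congrArg (fun t => t.left) (St₂_map_q₂ D f)
  refine ⟨IsLimit.ofExistsUnique (fun s => ?_)⟩
  let a : ∀ j : D.J, s.pt ⟶ ((St₂ D).obj j).left := fun j => s.π.app j
  have ha : ∀ {i j : D.J} (f : i ⟶ j), a i ≫ ((St₂ D).map f).left = a j := fun f => s.w f
  let c₁ : Cone (D.St ⋙ Scheme.Etale.forget X ⋙ Over.forget X) :=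
    { pt := s.pt
      π :=
        { app := fun j => a j ≫ (q₁ D j).left
          naturality := fun i j f => by
            show 𝟙 s.pt ≫ (a j ≫ (q₁ D j).left) = (a i ≫ (q₁ D i).left) ≫ (D.St.map f).left
            exact gen1 _ _ _ _ _ _ (e5 f) (ha f) } }
  let c₂ : Cone (D.St ⋙ Scheme.Etale.forget X ⋙ Over.forget X) :=
    { pt := s.pt
      π :=
        { app := fun j => a j ≫ (q₂ D j).left
          naturality := fun i j f => by
            show 𝟙 s.pt ≫ (a j ≫ (q₂ D j).left) = (a i ≫ (q₂ D i).left) ≫ (D.St.map f).left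
            exact gen1 _ _ _ _ _ _ (e6 f) (ha f) } }
  let u₁ : s.pt ⟶ D.W.left := D.isLimit.lift c₁
  let u₂ : s.pt ⟶ D.W.left := D.isLimit.lift c₂
  have hu₁ : ∀ j, u₁ ≫ (D.π j).left = a j ≫ (q₁ D j).left := fun j => D.isLimit.fac c₁ j
  have hu₂ : ∀ j, u₂ ≫ (D.π j).left = a j ≫ (q₂ D j).left := fun j => D.isLimit.fac c₂ j
  have huw : u₁ ≫ D.w.left = u₂ ≫ D.w.left :=
    gen2 _ _ _ _ _ _ _ _ (e3 j₀) (hu₁ j₀) (hu₂ j₀) (e4 j₀)
  let l : s.pt ⟶ (W₂ D).left := PullbackCone.IsLimit.lift (hW D) u₁ u₂ huw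
  have hl1 : l ≫ (p₁ D).left = u₁ := PullbackCone.IsLimit.lift_fst (hW D) u₁ u₂ huw
  have hl2 : l ≫ (p₂ D).left = u₂ := PullbackCone.IsLimit.lift_snd (hW D) u₁ u₂ huw
  refine ⟨l, fun j => ?_, fun m hm => ?_⟩
  · show l ≫ (π₂ D j).left = a j
    refine PullbackCone.IsLimit.hom_ext (hSt D j) ?_ ?_
    · show (l ≫ (π₂ D j).left) ≫ (q₁ D j).left = a j ≫ (q₁ D j).left
      exact gen3 _ _ _ _ _ _ _ (e1 j) hl1 (hu₁ j)
    · show (l ≫ (π₂ D j).left) ≫ (q₂ D j).left = a j ≫ (q₂ D j).left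
      exact gen3 _ _ _ _ _ _ _ (e2 j) hl2 (hu₂ j)
  · let m' : s.pt ⟶ (W₂ D).left := m
    have hm' : ∀ j, m' ≫ (π₂ D j).left = a j := fun j => hm j
    show m' = l
    refine PullbackCone.IsLimit.hom_ext (hW D) ?_ ?_
    · show m' ≫ (p₁ D).left = l ≫ (p₁ D).left
      rw [hl1]
      refine D.isLimit.hom_ext (fun j => ?_)
      show (m' ≫ (p₁ D).left) ≫ (D.π j).left = u₁ ≫ (D.π j).left
      exact gen4 _ _ _ _ _ _ _ (e1 j) (hm' j) (hu₁ j)
    · show m' ≫ (p₂ D).left = l ≫ (p₂ D).left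
      rw [hl2]
      refine D.isLimit.hom_ext (fun j => ?_)
      show (m' ≫ (p₂ D).left) ≫ (D.π j).left = u₂ ≫ (D.π j).left
      exact gen4 _ _ _ _ _ _ _ (e2 j) (hm' j) (hu₂ j)

end

/-- **(LE)** ind-etale presentation data for `W ×_U W`. -/
theorem nonempty_pairData {U : X.Etale} (hU : IsAffine U.left) (D : IndData X U) :
    Nonempty (PairData X D) := by
  obtain ⟨hl⟩ := nonempty_isLimit_P₀ D
  have := hU
  have : ∀ j, IsAffine (D.St.obj j).left := D.affSt
  have : IsAffine D.W.left := D.affW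
  have : IsAffine ((ProEtS.eps X).obj U).left := hU
  exact ⟨{ P := P₀ D
           affSt := fun k => isAffine_pullback_left_et X (D.b k) (D.b k)
           affW := isAffine_pullback_left_pro X D.w D.w
           isLimit := hl
           G := 𝟭 D.J
           hG := fun j => ⟨j, ⟨𝟙 j⟩⟩
           p₁ := p₁ D
           p₂ := p₂ D
           comm := p_cond D
           pr₁ := fun k => q₁ D k
           pr₂ := fun k => q₂ D k
           pr₁_nat := fun f => St₂_map_q₁ D f
           pr₂_nat := fun f => St₂_map_q₂ D f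
           π_pr₁ := fun k => π₂_q₁ D k
           π_pr₂ := fun k => π₂_q₂ D k
           lift := fun k T t₁ t₂ h =>
             ⟨pullback.lift t₁ t₂ h, pullback.lift_fst _ _ _, pullback.lift_snd _ _ _⟩ }⟩

end Groth.Agent.H67.Eps_LE
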