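import Mathlib
import Groth.Agent.H67.CohTopos

/-!
# Helper library (helper67): commutation of `Ext` with filtered colimits passes to cokernels of
monomorphisms; the quotient `ℤ[Y]/ℤ[X]` for coherent objects
-/

set_option autoImplicit false
universe u

open CategoryTheory CategoryTheory.Limits Opposite Abelian AlgebraicTopology Simplicial

namespace Groth.Agent.H67.ExtSES

open Groth.Agent.H67.SieveCoh Groth.Agent.H67.ResHom Groth.Agent.H30.CechRes
  Groth.Agent.H67.CechTopos Groth.Agent.H67.TorsA Groth.Agent.H67.TorsB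
  Groth.Agent.H67.RelCech Groth.Agent.H67.SecRep Groth.Agent.H67.LClass
  Groth.Agent.H67.CohTopos CohCx

variable {C : Type u} [SmallCategory C] {J : GrothendieckTopology C}
variable {Λ : Type u} [SmallCategory Λ] [IsFiltered Λ]

theorem homCommutes_X₃ {S : ShortComplex (Sheaf J AddCommGrpCat.{u})} (hS : S.ShortExact)
    (D : Λ ⥤ Sheaf J AddCommGrpCat.{u}) (c : Cocone D)
    (h1 : HomCommutes S.X₁ D c) (h2 : HomCommutes S.X₂ D c) : HomCommutes S.X₃ D c := by
  haveI : Epi S.g := hS.epi_g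
  constructor
  · intro t
    obtain ⟨i, s₂, hs₂⟩ := h2.surj (S.g ≫ t)
    have h0 : (S.f ≫ s₂) ≫ c.ι.app i = 0 := by
      rw [Category.assoc, hs₂, ← Category.assoc, S.zero, zero_comp]
    obtain ⟨j, φ, hφ⟩ := h1.inj i (S.f ≫ s₂) h0
    have h0' : S.f ≫ (s₂ ≫ D.map φ) = 0 := by
      rw [← Category.assoc]
      exact hφ
    refine ⟨j, hS.exact.desc (s₂ ≫ D.map φ) h0', ?_⟩
    rw [← cancel_epi S.g, ← Category.assoc, hS.exact.g_desc, Category.assoc, c.w φ, hs₂]
  · intro i s hs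
    have h0 : (S.g ≫ s) ≫ c.ι.app i = 0 := by rw [Category.assoc, hs, comp_zero]
    obtain ⟨j, φ, hφ⟩ := h2.inj i (S.g ≫ s) h0
    refine ⟨j, φ, ?_⟩
    rw [← cancel_epi S.g, comp_zero, ← Category.assoc]
    exact hφ

theorem vanish_X₃ {S : ShortComplex (Sheaf J AddCommGrpCat.{u})} (hS : S.ShortExact)
    (D : Λ ⥤ Sheaf J AddCommGrpCat.{u}) (hI : ∀ i, Injective (D.obj i))
    (h1 : HomCommutes S.X₁ D (colimit.cocone D))
    (v1 : ∀ n, Subsingleton (Ext S.X₁ (colimit D) (n + 1)))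
    (v2 : ∀ n, Subsingleton (Ext S.X₂ (colimit D) (n + 1))) (n : ℕ)
    (x : Ext S.X₃ (colimit D) (n + 1)) : x = 0 := by
  haveI := v2 n
  have hx₃ : (Ext.mk₀ S.g).comp x (zero_add (n + 1)) = 0 := Subsingleton.elim _ _
  obtain ⟨x₁, hx₁⟩ := Ext.contravariant_sequence_exact₃ hS (colimit D) x hx₃
    (by omega : 1 + n = n + 1)
  cases n with
  | zero =>
    obtain ⟨φ, rfl⟩ := (Ext.mk₀_bijective _ _).2 x₁
    obtain ⟨i, s, hs⟩ := h1.surj φ
    haveI := hI i
    haveI : Mono S.f := hS.mono_f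
    have e1 : φ = S.f ≫ (Injective.factorThru s S.f ≫ colimit.ι D i) := by
      rw [← Category.assoc, Injective.comp_factorThru]
      exact hs.symm
    rw [← hx₁, e1, ← Ext.mk₀_comp_mk₀]
    exact hS.extClass_comp_assoc _
  | succ m =>
    haveI := v1 m
    rw [← hx₁, Subsingleton.elim x₁ 0, Ext.comp_zero]

theorem preservesColimit_X₃ {S : ShortComplex (Sheaf J AddCommGrpCat.{u})} (hS : S.ShortExact)
    (h1 : ∀ D : Λ ⥤ Sheaf J AddCommGrpCat.{u}, HomCommutes S.X₁ D (colimit.cocone D))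
    (h2 : ∀ D : Λ ⥤ Sheaf J AddCommGrpCat.{u}, HomCommutes S.X₂ D (colimit.cocone D))
    (v1 : ∀ D : Λ ⥤ Sheaf J AddCommGrpCat.{u}, (∀ i, Injective (D.obj i)) → ∀ n,
      Subsingleton (Ext S.X₁ (colimit D) (n + 1)))
    (v2 : ∀ D : Λ ⥤ Sheaf J AddCommGrpCat.{u}, (∀ i, Injective (D.obj i)) → ∀ n,
      Subsingleton (Ext S.X₂ (colimit D) (n + 1)))
    (q : ℕ) (D : Λ ⥤ Sheaf J AddCommGrpCat.{u}) :
    PreservesColimit D (extFunctorObj S.X₃ q) :=
  ExtColim.preservesColimit_of_commutes _ q D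
    (ExtColim.commutes_all S.X₃
      (fun D' => commutes_zero_of_homCommutes (homCommutes_X₃ hS D' _ (h1 D') (h2 D')))
      (fun D' hI n x => vanish_X₃ hS D' hI (h1 D') (v1 D' hI) (v2 D' hI) n x) q D)

/-- the free abelian sheaf functor preserves monomorphisms -/
lemma mono_Φ_map {X Y : Sheaf J (Type u)} (m : X ⟶ Y) [Mono m] : Mono ((Φ J).map m) := by
  haveI : (sheafToPresheaf J (Type u)).PreservesMonomorphisms :=
    Functor.preservesMonomorphisms_of_adjunction (sheafificationAdjunction J (Type u))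
  have h1 : Mono m.hom := (sheafToPresheaf J (Type u)).map_mono m
  have h2 : ∀ V, Mono (m.hom.app V) := (NatTrans.mono_iff_mono_app m.hom).1 h1
  haveI : ∀ V, Mono ((Functor.whiskerRight m.hom AddCommGrpCat.free.{u}).app V) := fun V => by
    haveI := h2 V
    exact AddCommGrpCat.free.{u}.map_mono (m.hom.app V)
  haveI : Mono (Functor.whiskerRight m.hom AddCommGrpCat.free.{u}) := NatTrans.mono_of_mono_app _
  exact (presheafToSheaf J AddCommGrpCat.{u}).map_mono
    (Functor.whiskerRight m.hom AddCommGrpCat.free.{u})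

variable {S₀ : Set (Sheaf J (Type u))}

theorem ext_colim_inj_vanish (hA : Alg S₀) {B : Sheaf J (Type u)} (hB : QSc B)
    (X : Sheaf J (Type u)) (hX : KB B X) (D' : Λ ⥤ Sheaf J AddCommGrpCat.{u})
    (hI : ∀ i, Injective (D'.obj i)) (n : ℕ) :
    Subsingleton (Ext ((Φ J).obj X) (colimit D') (n + 1)) := by
  have h1 : HEK (KB B) (colimit D') :=
    hek_colimit (cclass_KB hA hB) D' (colimit.cocone D')
      (fun Y hY => homCommutes_KB hA hB Y hY D')
      (fun i => hek_of_he (KB B) _ (he_of_totallyAcyclic _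
        (haveI := hI i; isTotallyAcyclic_of_injective (D'.obj i))))
  exact ext_vanish_of_hek (cclass_KB hA hB) n (colimit D') h1 X hX

/-- `Ext` out of `ℤ[Y]/ℤ[X]` commutes with filtered colimits, for coherent `X ⊆ Y` -/
theorem preservesColimit_coker (hA : Alg S₀) {B : Sheaf J (Type u)} (hB : QSc B)
    {X Y : Sheaf J (Type u)} (hX : KB B X) (hY : KB B Y) (m : X ⟶ Y) [Mono m] (q : ℕ)
    (D : Λ ⥤ Sheaf J AddCommGrpCat.{u}) :
    PreservesColimit D (extFunctorObj (cokernel ((Φ J).map m)) q) := by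
  haveI := mono_Φ_map m
  have hS : (ShortComplex.mk ((Φ J).map m) (cokernel.π ((Φ J).map m))
      (cokernel.condition _)).ShortExact :=
    ShortComplex.ShortExact.mk' (ShortComplex.exact_cokernel _) (mono_Φ_map m)
      (inferInstance : Epi (cokernel.π ((Φ J).map m)))
  exact preservesColimit_X₃ hS (fun D' => homCommutes_KB hA hB X hX D')
    (fun D' => homCommutes_KB hA hB Y hY D')
    (fun D' hI n => ext_colim_inj_vanish hA hB X hX D' hI n)
    (fun D' hI n => ext_colim_inj_vanish hA hB Y hY D' hI n) q D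

end Groth.Agent.H67.ExtSES
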