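import Groth.Agent.H67.FibSiteLib
import Groth.Agent.H67.ContLemmas
import Mathlib.CategoryTheory.Sites.InducedTopology

set_option autoImplicit false

universe w v₃ u₃ v₂ u₂ v₁ u₁

namespace Groth.Agent.H67

open CategoryTheory Opposite Pseudofunctor Pseudofunctor.CoGrothendieck FibSite Bicategory

variable {𝒮 : Type u₁} [Category.{v₁} 𝒮] (F : Pseudofunctor (LocallyDiscrete 𝒮ᵒᵖ) Cat.{v₂, u₂})

attribute [local simp] PrelaxFunctor.map₂_eqToHom

theorem mkHom_fiber_inj {X Y : ∫ᶜ F} (b : X.base ⟶ Y.base)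
    (φ₁ φ₂ : X.fiber ⟶ (F.map b.op.toLoc).toFunctor.obj Y.fiber)
    (h : mkHom F X Y b φ₁ = mkHom F X Y b φ₂) : φ₁ = φ₂ := by
  have := Hom.congr h
  simpa using this

/-- Composite of a general morphism with a vertical one. -/
theorem mkHom_comp_ι_map {T S : 𝒮} (a : T ⟶ S) {X' : F.obj ⟨op T⟩} {V U : F.obj ⟨op S⟩}
    (φ : X' ⟶ (F.map a.op.toLoc).toFunctor.obj V) (g : V ⟶ U) :
    mkHom F ⟨T, X'⟩ ⟨S, V⟩ a φ ≫ (ι F S).map g =
      mkHom F ⟨T, X'⟩ ⟨S, U⟩ a (φ ≫ (F.map a.op.toLoc).toFunctor.map g) := by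
  have e1 : mkHom F ⟨T, X'⟩ ⟨S, V⟩ a φ ≫ (ι F S).map g =
      ((ι F T).map φ ≫ cartesianLift V a) ≫ (ι F S).map g :=
    congrArg (fun t => t ≫ (ι F S).map g) (hom_eq_ι_map_comp_cartesianLift F a φ)
  have e2 : ((ι F T).map φ ≫ cartesianLift V a) ≫ (ι F S).map g =
      (ι F T).map φ ≫ (cartesianLift V a ≫ (ι F S).map g) := Category.assoc _ _ _
  have e3 : (ι F T).map φ ≫ (cartesianLift V a ≫ (ι F S).map g) =
      (ι F T).map φ ≫ ((ι F T).map ((F.map a.op.toLoc).toFunctor.map g) ≫ cartesianLift U a) :=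
    congrArg (fun t => (ι F T).map φ ≫ t) (ι_map_comp_cartesianLift F a g).symm
  have e4 : (ι F T).map φ ≫ ((ι F T).map ((F.map a.op.toLoc).toFunctor.map g) ≫
        cartesianLift U a) =
      ((ι F T).map φ ≫ (ι F T).map ((F.map a.op.toLoc).toFunctor.map g)) ≫ cartesianLift U a :=
    (Category.assoc _ _ _).symm
  have e5 : ((ι F T).map φ ≫ (ι F T).map ((F.map a.op.toLoc).toFunctor.map g)) ≫
        cartesianLift U a =
      (ι F T).map (φ ≫ (F.map a.op.toLoc).toFunctor.map g) ≫ cartesianLift U a :=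
    congrArg (fun t => t ≫ cartesianLift U a) ((ι F T).map_comp _ _).symm
  have e6 : (ι F T).map (φ ≫ (F.map a.op.toLoc).toFunctor.map g) ≫ cartesianLift U a =
      mkHom F ⟨T, X'⟩ ⟨S, U⟩ a (φ ≫ (F.map a.op.toLoc).toFunctor.map g) :=
    (hom_eq_ι_map_comp_cartesianLift F a _).symm
  exact e1.trans (e2.trans (e3.trans (e4.trans (e5.trans e6))))

theorem key_aux {T S : 𝒮} (a : T ⟶ S) {X' : F.obj ⟨op T⟩} {V₁ V₂ U : F.obj ⟨op S⟩}
    (g₁ : V₁ ⟶ U) (g₂ : V₂ ⟶ U) (φ₁ : X' ⟶ (F.map a.op.toLoc).toFunctor.obj V₁)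
    (φ₂ : X' ⟶ (F.map a.op.toLoc).toFunctor.obj V₂)
    (h : mkHom F ⟨T, X'⟩ ⟨S, V₁⟩ a φ₁ ≫ (ι F S).map g₁ =
      mkHom F ⟨T, X'⟩ ⟨S, V₂⟩ a φ₂ ≫ (ι F S).map g₂) :
    φ₁ ≫ (F.map a.op.toLoc).toFunctor.map g₁ = φ₂ ≫ (F.map a.op.toLoc).toFunctor.map g₂ := by
  rw [mkHom_comp_ι_map, mkHom_comp_ι_map] at h
  exact mkHom_fiber_inj F (X := ⟨T, X'⟩) (Y := ⟨S, U⟩) a _ _ h

set_option backward.isDefEq.respectTransparency false in
theorem ι_map_injective (S : 𝒮) {V W : F.obj ⟨op S⟩} (g g' : V ⟶ W)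
    (h : (ι F S).map g = (ι F S).map g') : g = g' := by
  simpa [cancel_mono, ← Cat.Hom.toNatIso_hom, ← Cat.Hom.toNatIso_inv] using
    ((Hom.ext_iff _ _).mp h).2

set_option backward.isDefEq.respectTransparency false in
theorem exists_eq_ι_map (S : 𝒮) {V W : F.obj ⟨op S⟩} (α : (ι F S).obj V ⟶ (ι F S).obj W)
    (hα : α.base = 𝟙 S) : ∃ α₀ : V ⟶ W, α = (ι F S).map α₀ := by
  obtain ⟨b, α'⟩ := α
  change b = 𝟙 S at hα
  subst hα
  refine ⟨α' ≫ (F.mapId ⟨op S⟩).hom.toNatTrans.app W, ?_⟩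
  refine Hom.ext _ _ rfl ?_
  dsimp
  simp [← Cat.Hom₂.comp_app]
  exact (Category.comp_id _).symm

theorem cart_nat_apply (G : (∫ᶜ F)ᵒᵖ ⥤ Type w) {T S : 𝒮} (a : T ⟶ S) {W Z : F.obj ⟨op S⟩}
    (h : Z ⟶ W) (t : G.obj (op ⟨S, W⟩)) :
    G.map ((ι F T).map ((F.map a.op.toLoc).toFunctor.map h)).op
        (G.map (cartesianLift W a).op t) =
      G.map (cartesianLift Z a).op (G.map ((ι F S).map h).op t) :=
  ((map_comp_op_apply _ _ t).symm.trans
    (congrArg (fun m => G.map (Quiver.Hom.op m) t) (ι_map_comp_cartesianLift F a h))).trans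
    (map_comp_op_apply _ _ t)

variable (J : Topologies F)

theorem mem_totalK_iff (hF : IsPreFibSite F J) (X : ∫ᶜ F) (S : Sieve X) :
    S ∈ totalK F J hF X ↔
      ∃ R ∈ J X.base X.fiber, Sieve.functorPushforward (ι F X.base) R ≤ S := Iff.rfl

/-- Restrictions to the fibres of a sheaf for the total topology are separated. -/
theorem restr_separated (T : 𝒮) (G : (∫ᶜ F)ᵒᵖ ⥤ Type w)
    (hG : Presieve.IsSheaf (totalTopology F J) G) (X' : F.obj ⟨op T⟩) (S' : (J T).Cover X')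
    (x y : ((ι F T).op ⋙ G).obj (op X'))
    (h : ∀ I : S'.Arrow, ((ι F T).op ⋙ G).map I.f.op x = ((ι F T).op ⋙ G).map I.f.op y) :
    x = y := by
  have hcov : Sieve.functorPushforward (ι F T) S'.1 ∈ totalTopology F J ((ι F T).obj X') :=
    functorPushforward_mem_totalTopology S'.2
  apply (hG _ hcov).isSeparatedFor.ext
  rintro Y _ ⟨V, g, α, hg, rfl⟩
  rw [map_comp_op_apply, map_comp_op_apply]
  exact congrArg (G.map α.op) (h ⟨V, g, hg⟩)

/-- The key compatibility: families compatible in a fibre, over a covering sieve, are compatible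
in the total category. -/
theorem ι_key (hF : IsPreFibSite F J) (S : 𝒮) (G : (∫ᶜ F)ᵒᵖ ⥤ Type (max w u₂ v₂))
    (hG : Presieve.IsSheaf (totalTopology F J) G) {U : F.obj ⟨op S⟩} (R : Sieve U)
    (hR : R ∈ J S U) (x : Presieve.FamilyOfElements ((ι F S).op ⋙ G) R.arrows)
    (hx : x.Compatible) {Y₁ Y₂ : F.obj ⟨op S⟩} {X : ∫ᶜ F} (f₁ : X ⟶ (ι F S).obj Y₁)
    (f₂ : X ⟶ (ι F S).obj Y₂) {g₁ : Y₁ ⟶ U} {g₂ : Y₂ ⟶ U} (hg₁ : R g₁) (hg₂ : R g₂)
    (heq : f₁ ≫ (ι F S).map g₁ = f₂ ≫ (ι F S).map g₂) :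
    G.map f₁.op (x g₁ hg₁) = G.map f₂.op (x g₂ hg₂) := by
  obtain ⟨T, X'⟩ := X
  obtain ⟨a₁, φ₁⟩ := f₁
  obtain ⟨a₂, φ₂⟩ := f₂
  have hb : a₁ = a₂ := by
    have := congrArg Hom.base heq
    change a₁ ≫ 𝟙 S = a₂ ≫ 𝟙 S at this
    exact (Category.comp_id a₁).symm.trans (this.trans (Category.comp_id a₂))
  subst hb
  have hφ : φ₁ ≫ (F.map a₁.op.toLoc).toFunctor.map g₁ =
      φ₂ ≫ (F.map a₁.op.toLoc).toFunctor.map g₂ := key_aux F a₁ g₁ g₂ φ₁ φ₂ heq
  haveI : (invImage F a₁).IsContinuous (J S) (J T) := hF a₁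
  let z : Presieve.FamilyOfElements ((invImage F a₁).op ⋙ ((ι F T).op ⋙ G)) R.arrows :=
    fun V g hg => G.map (cartesianLift V a₁).op (x g hg)
  have hz : z.Compatible := by
    intro W₁ W₂ Z h₁ h₂ k₁ k₂ hk₁ hk₂ e
    change G.map ((ι F T).map ((F.map a₁.op.toLoc).toFunctor.map h₁)).op
        (G.map (cartesianLift W₁ a₁).op (x k₁ hk₁)) =
      G.map ((ι F T).map ((F.map a₁.op.toLoc).toFunctor.map h₂)).op
        (G.map (cartesianLift W₂ a₁).op (x k₂ hk₂))
    refine (cart_nat_apply F G a₁ h₁ _).trans (Eq.trans ?_ (cart_nat_apply F G a₁ h₂ _).symm)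
    exact congrArg (G.map (cartesianLift Z a₁).op) (hx h₁ h₂ hk₁ hk₂ e)
  have hmain := sep_compat.{w} (invImage F a₁) (J S) (J T) ((ι F T).op ⋙ G)
    (restr_separated F J T G hG) R hR z hz φ₁ φ₂ hg₁ hg₂ hφ
  have e1 : ∀ {Y : F.obj ⟨op S⟩} (φ : X' ⟶ (F.map a₁.op.toLoc).toFunctor.obj Y)
      (t : G.obj (op ((ι F S).obj Y))),
      G.map (mkHom F ⟨T, X'⟩ ⟨S, Y⟩ a₁ φ).op t =
        G.map ((ι F T).map φ).op (G.map (cartesianLift Y a₁).op t) := by
    intro Y φ t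
    exact (congrArg (fun m => G.map (Quiver.Hom.op m) t)
      (hom_eq_ι_map_comp_cartesianLift F a₁ φ)).trans (map_comp_op_apply _ _ t)
  exact (e1 φ₁ _).trans (hmain.trans (e1 φ₂ _).symm)

/-- The fibre inclusions are continuous for the total topology. -/
theorem isContinuous_ι (hF : IsPreFibSite F J) (S : 𝒮) :
    (ι F S).IsContinuous (J S) (totalTopology F J) where
  op_comp_isSheaf_of_types G := by
    intro U R hR
    have hG := (isSheaf_iff_isSheaf_of_type _ _).1 G.2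
    exact isSheafFor_of_compat (ι F S) G.obj R
      (hG _ (functorPushforward_mem_totalTopology hR))
      (fun x hx => ι_key.{max u₁ v₁} F J hF S G.obj hG R hR x hx)

/-- A presheaf of types on the total category whose restrictions to the fibres are sheaves is a
sheaf for the total topology. -/
theorem isSheaf_total_of_fibres (hF : IsPreFibSite F J) (Q : (∫ᶜ F)ᵒᵖ ⥤ Type w)
    (hfib : ∀ S : 𝒮, Presieve.IsSheaf (J S) ((ι F S).op ⋙ Q)) :
    Presieve.IsSheaf (totalTopology F J) Q := by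
  intro X Sg hSg
  obtain ⟨R, hR, hRSg⟩ := (mem_totalTopology_iff F J hF X Sg).1 hSg
  intro x hx
  have hxs := (Presieve.compatible_iff_sieveCompatible x).1 hx
  have hmem : ∀ {V : F.obj ⟨op X.base⟩} (g : V ⟶ X.fiber), R g → Sg ((ι F X.base).map g) :=
    fun g hg => hRSg _ ⟨_, g, 𝟙 _, hg, (Category.id_comp _).symm⟩
  let x' : Presieve.FamilyOfElements ((ι F X.base).op ⋙ Q) R.arrows :=
    fun V g hg => x ((ι F X.base).map g) (hmem g hg)
  have hx' : x'.Compatible := by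
    intro W₁ W₂ Z h₁ h₂ k₁ k₂ hk₁ hk₂ e
    exact hx ((ι F X.base).map h₁) ((ι F X.base).map h₂) (hmem k₁ hk₁) (hmem k₂ hk₂)
      (((ι F X.base).map_comp h₁ k₁).symm.trans
        ((congrArg (ι F X.base).map e).trans ((ι F X.base).map_comp h₂ k₂)))
  let t : Q.obj (op X) := (hfib X.base R hR).amalgamate x' hx'
  have ht : ∀ {V : F.obj ⟨op X.base⟩} (g : V ⟶ X.fiber) (hg : R g),
      Q.map ((ι F X.base).map g).op t = x ((ι F X.base).map g) (hmem g hg) :=
    fun g hg => (hfib X.base R hR).valid_glue hx' g hg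
  refine ⟨t, ?_, ?_⟩
  · intro Y ψ hψ
    have h0 : Sieve.functorPushforward (ι F X.base) R ∈ totalK F J hF X := ⟨R, hR, le_rfl⟩
    obtain ⟨R', hR', hR'le⟩ := (totalK F J hF).pullback_stable ψ h0
    refine (hfib Y.base R' hR').isSeparatedFor.ext (t₁ := Q.map ψ.op t) (t₂ := x ψ hψ) ?_
    intro V' h hh
    obtain ⟨W, r, γ, hr, hγ⟩ := hR'le _ ⟨V', h, 𝟙 _, hh, (Category.id_comp _).symm⟩
    have s1 : Q.map ((ι F Y.base).map h).op (Q.map ψ.op t) =
        Q.map ((ι F Y.base).map h ≫ ψ).op t := (map_comp_op_apply _ _ t).symm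
    have s2 : Q.map ((ι F Y.base).map h ≫ ψ).op t = Q.map (γ ≫ (ι F X.base).map r).op t :=
      congrArg (fun m => Q.map (Quiver.Hom.op m) t) hγ
    have s3 : Q.map (γ ≫ (ι F X.base).map r).op t =
        Q.map γ.op (Q.map ((ι F X.base).map r).op t) := map_comp_op_apply _ _ t
    have s4 : Q.map γ.op (Q.map ((ι F X.base).map r).op t) =
        Q.map γ.op (x ((ι F X.base).map r) (hmem r hr)) := congrArg (Q.map γ.op) (ht r hr)
    have s5 : Q.map γ.op (x ((ι F X.base).map r) (hmem r hr)) =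
        x (γ ≫ (ι F X.base).map r) (Sg.downward_closed (hmem r hr) γ) :=
      (hxs _ γ (hmem r hr)).symm
    have s6 : x (γ ≫ (ι F X.base).map r) (Sg.downward_closed (hmem r hr) γ) =
        x ((ι F Y.base).map h ≫ ψ) (Sg.downward_closed hψ _) := family_congr x hγ.symm _ _
    have s7 : x ((ι F Y.base).map h ≫ ψ) (Sg.downward_closed hψ _) =
        Q.map ((ι F Y.base).map h).op (x ψ hψ) := hxs ψ _ hψ
    exact s1.trans (s2.trans (s3.trans (s4.trans (s5.trans (s6.trans s7)))))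
  · intro t' ht'
    refine (hfib X.base R hR).isSeparatedFor.ext (t₁ := t') (t₂ := t) ?_
    intro V g hg
    exact (ht' _ (hmem g hg)).trans (ht g hg).symm

/-- The topology induced on a fibre by the total topology is the given one. -/
theorem inducedTopology_ι (hF : IsPreFibSite F J) (S : 𝒮) :
    (ι F S).inducedTopology (totalTopology F J) = J S := by
  apply le_antisymm
  · intro U R hR
    have hcp := (CoverPreserving.of_isContinuous (ι F S)
      ((ι F S).inducedTopology (totalTopology F J)) (totalTopology F J)).cover_preserve hR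
    obtain ⟨R', hR', hle⟩ := (mem_totalTopology_iff F J hF _ _).1 hcp
    refine (J S).superset_covering ?_ hR'
    intro V g hg
    obtain ⟨W, r, α, hr, hα⟩ := hle _ ⟨V, g, 𝟙 _, hg, (Category.id_comp _).symm⟩
    have hbase : α.base = 𝟙 S := by
      have := congrArg Hom.base hα
      change 𝟙 S = α.base ≫ 𝟙 S at this
      exact (Category.comp_id _).symm.trans this.symm
    obtain ⟨α₀, rfl⟩ := exists_eq_ι_map F S α hbase
    have hg' : g = α₀ ≫ r :=
      ι_map_injective F S _ _ (hα.trans ((ι F S).map_comp α₀ r).symm)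
    rw [hg']
    exact R.downward_closed hr α₀
  · rw [Functor.le_inducedTopology_iff]
    exact isContinuous_ι F J hF S

end Groth.Agent.H67
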