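import Groth.Agent.H67.FibSiteRan

set_option autoImplicit false

universe w v₂ u₂ v₁ u₁

namespace Groth.Agent.H67

open CategoryTheory CategoryTheory.Limits Opposite Pseudofunctor Pseudofunctor.CoGrothendieck FibSite
  Bicategory
open scoped CategoryTheory.Pseudofunctor.StrongTrans

variable {𝒮 : Type u₁} [Category.{v₁} 𝒮]
  {F G : Pseudofunctor (LocallyDiscrete 𝒮ᵒᵖ) Cat.{v₂, u₂}} (α : G ⟶ F)

set_option backward.isDefEq.respectTransparency false in
theorem map_ι_map (S : 𝒮) {V V' : G.obj ⟨op S⟩} (h : V ⟶ V') :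
    (Pseudofunctor.CoGrothendieck.map α).map ((ι G S).map h) =
      (ι F S).map ((α.app ⟨op S⟩).toFunctor.map h) := by
  change (Pseudofunctor.CoGrothendieck.map α).map (mkHom G ⟨S, V⟩ ⟨S, V'⟩ (𝟙 S)
      (h ≫ (G.mapId ⟨op S⟩).inv.toNatTrans.app V')) =
    mkHom F ⟨S, (α.app ⟨op S⟩).toFunctor.obj V⟩ ⟨S, (α.app ⟨op S⟩).toFunctor.obj V'⟩ (𝟙 S)
      ((α.app ⟨op S⟩).toFunctor.map h ≫ (F.mapId ⟨op S⟩).inv.toNatTrans.app _)
  refine Hom.ext _ _ rfl ?_
  dsimp
  simp [Cat.Hom.comp_toFunctor, StrongTrans.naturality_id_hom_app, Cat.Hom.id_toFunctor,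
    ← Functor.map_comp_assoc, ← Cat.Hom₂.comp_app]

/-- The fibre inclusions commute with a cartesian functor. -/
def ιCompMapIso (S : 𝒮) :
    ι G S ⋙ Pseudofunctor.CoGrothendieck.map α ≅ (α.app ⟨op S⟩).toFunctor ⋙ ι F S :=
  NatIso.ofComponents (fun _ => Iso.refl _) (fun {V V'} h =>
    ((Category.comp_id _).trans (map_ι_map α S h)).trans (Category.id_comp _).symm)

theorem isIso_map_cartesianLift_fiber {T j : 𝒮} (f : T ⟶ j) (V : G.obj ⟨op j⟩) :
    IsIso ((Pseudofunctor.CoGrothendieck.map α).map (cartesianLift V f)).fiber := by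
  change IsIso ((α.app ⟨op T⟩).toFunctor.map (𝟙 _) ≫
    (α.naturality f.op.toLoc).hom.toNatTrans.app V)
  rw [CategoryTheory.Functor.map_id, Category.id_comp]
  infer_instance

section Compare

variable (T : 𝒮)

theorem compare_bijective {H : (F.obj ⟨op T⟩)ᵒᵖ ⥤ Type w}
    (EF : Functor.RightExtension (ι F T).op H) (hEF : EF.IsPointwiseRightKanExtension)
    (EG : Functor.RightExtension (ι G T).op ((α.app ⟨op T⟩).toFunctor.op ⋙ H))
    (hEG : EG.IsPointwiseRightKanExtension)
    (θ : (Pseudofunctor.CoGrothendieck.map α).op ⋙ EF.left ⟶ EG.left)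
    (hθ : ∀ (W : (G.obj ⟨op T⟩)ᵒᵖ)
      (y : EF.left.obj ((Pseudofunctor.CoGrothendieck.map α).op.obj ((ι G T).op.obj W))),
      EG.hom.app W (θ.app ((ι G T).op.obj W) y) =
        EF.hom.app ((α.app ⟨op T⟩).toFunctor.op.obj W) y)
    (j : 𝒮) (V : G.obj ⟨op j⟩) : Function.Bijective (θ.app (op ⟨j, V⟩)) := by
  let ψ : ∀ f : T ⟶ j,
      (ι F T).obj ((α.app ⟨op T⟩).toFunctor.obj ((invImage G f).obj V)) ⟶
        (⟨j, (α.app ⟨op j⟩).toFunctor.obj V⟩ : ∫ᶜ F) :=
    fun f => (Pseudofunctor.CoGrothendieck.map α).map (cartesianLift V f)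
  have key : ∀ (x : EF.left.obj (op ⟨j, (α.app ⟨op j⟩).toFunctor.obj V⟩)) (f : T ⟶ j),
      ranProjApp EG f V (θ.app (op ⟨j, V⟩) x) =
        H.map (ψ f).fiber.op (ranProjApp EF f ((α.app ⟨op j⟩).toFunctor.obj V) x) := by
    intro x f
    have n1 : θ.app (op ⟨T, (invImage G f).obj V⟩)
        (EF.left.map ((Pseudofunctor.CoGrothendieck.map α).map (cartesianLift V f)).op x) =
        EG.left.map (cartesianLift V f).op (θ.app (op ⟨j, V⟩) x) :=
      NatTrans.naturality_apply θ (cartesianLift V f).op x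
    have n2 := hθ (op ((invImage G f).obj V))
      (EF.left.map ((Pseudofunctor.CoGrothendieck.map α).map (cartesianLift V f)).op x)
    have n3 := hom_app_left_map EF ((α.app ⟨op j⟩).toFunctor.obj V) (ψ f) x
    exact (congrArg (fun y => EG.hom.app (op ((invImage G f).obj V)) y) n1.symm).trans
      (n2.trans n3)
  have hA := ranProjApp_bijective EF hEF ((α.app ⟨op j⟩).toFunctor.obj V)
  have hB := ranProjApp_bijective EG hEG V
  have hcomp : ∀ f : T ⟶ j, Function.Bijective (H.map (ψ f).fiber.op) := by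
    intro f
    haveI h1 : IsIso (ψ f).fiber := isIso_map_cartesianLift_fiber α f V
    have h2 : IsIso (ψ f).fiber.op := @isIso_op _ _ _ _ (ψ f).fiber h1
    rw [← isIso_iff_bijective]
    exact @Functor.map_isIso _ _ _ _ _ _ H (ψ f).fiber.op h2
  have hC : Function.Bijective
      (fun (t : ∀ f : T ⟶ j,
        H.obj (op ((invImage F f).obj ((α.app ⟨op j⟩).toFunctor.obj V)))) (f : T ⟶ j) =>
        H.map (ψ f).fiber.op (t f)) :=
    ⟨fun t t' h => funext fun f => (hcomp f).1 (congrFun h f),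
      fun s => ⟨fun f => ((hcomp f).2 (s f)).choose,
        funext fun f => ((hcomp f).2 (s f)).choose_spec⟩⟩
  have hcompeq : (fun (y : EG.left.obj (op ⟨j, V⟩)) (f : T ⟶ j) => ranProjApp EG f V y) ∘
      ⇑(θ.app (op ⟨j, V⟩)) =
      (fun (t : ∀ f : T ⟶ j,
        H.obj (op ((invImage F f).obj ((α.app ⟨op j⟩).toFunctor.obj V)))) (f : T ⟶ j) =>
        H.map (ψ f).fiber.op (t f)) ∘
      (fun (x : EF.left.obj (op ⟨j, (α.app ⟨op j⟩).toFunctor.obj V⟩)) (f : T ⟶ j) =>
        ranProjApp EF f ((α.app ⟨op j⟩).toFunctor.obj V) x) :=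
    funext fun x => funext fun f => key x f
  have hBθ : Function.Bijective
      ((fun (y : EG.left.obj (op ⟨j, V⟩)) (f : T ⟶ j) => ranProjApp EG f V y) ∘
        ⇑(θ.app (op ⟨j, V⟩))) := by
    rw [hcompeq]
    exact hC.comp hA
  exact (Function.Bijective.of_comp_iff' hB _).1 hBθ

variable [∀ P : (F.obj ⟨op T⟩)ᵒᵖ ⥤ Type w, (ι F T).op.HasPointwiseRightKanExtension P]
  [∀ P : (G.obj ⟨op T⟩)ᵒᵖ ⥤ Type w, (ι G T).op.HasPointwiseRightKanExtension P]

/-- The counit of the right Kan extension along the fibre inclusion of `F`, restricted along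
the fibre inclusion of `G`. -/
noncomputable def ranCompareξ (H : (F.obj ⟨op T⟩)ᵒᵖ ⥤ Type w) :
    (ι G T).op ⋙ (Pseudofunctor.CoGrothendieck.map α).op ⋙ (ι F T).op.ran.obj H ⟶
      (α.app ⟨op T⟩).toFunctor.op ⋙ H where
  app W := ((ι F T).op.ranCounit.app H).app ((α.app ⟨op T⟩).toFunctor.op.obj W)
  naturality W W' r := by
    have h1 : ((ι G T).op ⋙ (Pseudofunctor.CoGrothendieck.map α).op ⋙
          (ι F T).op.ran.obj H).map r =
        ((ι F T).op ⋙ (ι F T).op.ran.obj H).map ((α.app ⟨op T⟩).toFunctor.op.map r) :=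
      congrArg (fun z => ((ι F T).op.ran.obj H).map (Quiver.Hom.op z)) (map_ι_map α T r.unop)
    exact (congrArg (fun t => t ≫ ((ι F T).op.ranCounit.app H).app
      ((α.app ⟨op T⟩).toFunctor.op.obj W')) h1).trans
      (((ι F T).op.ranCounit.app H).naturality ((α.app ⟨op T⟩).toFunctor.op.map r))

/-- The comparison between the two right Kan extensions. -/
noncomputable def ranCompare (H : (F.obj ⟨op T⟩)ᵒᵖ ⥤ Type w) :
    (Pseudofunctor.CoGrothendieck.map α).op ⋙ (ι F T).op.ran.obj H ⟶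
      (ι G T).op.ran.obj ((α.app ⟨op T⟩).toFunctor.op ⋙ H) :=
  ((ι G T).op.ran.obj ((α.app ⟨op T⟩).toFunctor.op ⋙ H)).liftOfIsRightKanExtension
    ((ι G T).op.ranCounit.app ((α.app ⟨op T⟩).toFunctor.op ⋙ H)) _ (ranCompareξ α T H)

theorem ranCompare_fac (H : (F.obj ⟨op T⟩)ᵒᵖ ⥤ Type w) (W : (G.obj ⟨op T⟩)ᵒᵖ)
    (y : ((ι F T).op.ran.obj H).obj
      ((Pseudofunctor.CoGrothendieck.map α).op.obj ((ι G T).op.obj W))) :
    ((ι G T).op.ranCounit.app ((α.app ⟨op T⟩).toFunctor.op ⋙ H)).app W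
        ((ranCompare α T H).app ((ι G T).op.obj W) y) =
      ((ι F T).op.ranCounit.app H).app ((α.app ⟨op T⟩).toFunctor.op.obj W) y :=
  congrArg (fun η => η.app W y)
    (Functor.liftOfIsRightKanExtension_fac
      ((ι G T).op.ran.obj ((α.app ⟨op T⟩).toFunctor.op ⋙ H))
      ((ι G T).op.ranCounit.app ((α.app ⟨op T⟩).toFunctor.op ⋙ H)) _ (ranCompareξ α T H))

theorem ranCompare_bijective (H : (F.obj ⟨op T⟩)ᵒᵖ ⥤ Type w) (X : (∫ᶜ G)ᵒᵖ) :
    Function.Bijective ((ranCompare α T H).app X) :=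
  compare_bijective α T (ranExt T H) ((ι F T).op.isPointwiseRightKanExtensionRanCounit H)
    (ranExt (F := G) T ((α.app ⟨op T⟩).toFunctor.op ⋙ H))
    ((ι G T).op.isPointwiseRightKanExtensionRanCounit _) (ranCompare α T H)
    (fun W y => ranCompare_fac α T H W y) X.unop.base X.unop.fiber

theorem ranCompare_naturality {H H' : (F.obj ⟨op T⟩)ᵒᵖ ⥤ Type w} (g : H ⟶ H') :
    Functor.whiskerLeft (Pseudofunctor.CoGrothendieck.map α).op ((ι F T).op.ran.map g) ≫
        ranCompare α T H' =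
      ranCompare α T H ≫
        (ι G T).op.ran.map (Functor.whiskerLeft (α.app ⟨op T⟩).toFunctor.op g) := by
  apply Functor.hom_ext_of_isRightKanExtension _
    ((ι G T).op.ranCounit.app ((α.app ⟨op T⟩).toFunctor.op ⋙ H'))
  ext W y
  have natF : ((ι F T).op.ranCounit.app H').app ((α.app ⟨op T⟩).toFunctor.op.obj W)
      (((ι F T).op.ran.map g).app _ y) =
      g.app ((α.app ⟨op T⟩).toFunctor.op.obj W)
        (((ι F T).op.ranCounit.app H).app ((α.app ⟨op T⟩).toFunctor.op.obj W) y) :=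
    congrArg (fun η => η.app ((α.app ⟨op T⟩).toFunctor.op.obj W) y)
      ((ι F T).op.ranCounit.naturality g)
  have natG : ((ι G T).op.ranCounit.app ((α.app ⟨op T⟩).toFunctor.op ⋙ H')).app W
      (((ι G T).op.ran.map (Functor.whiskerLeft (α.app ⟨op T⟩).toFunctor.op g)).app _
        ((ranCompare α T H).app ((ι G T).op.obj W) y)) =
      g.app ((α.app ⟨op T⟩).toFunctor.op.obj W)
        (((ι G T).op.ranCounit.app ((α.app ⟨op T⟩).toFunctor.op ⋙ H)).app W
          ((ranCompare α T H).app ((ι G T).op.obj W) y)) :=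
    congrArg (fun η => η.app W ((ranCompare α T H).app ((ι G T).op.obj W) y))
      ((ι G T).op.ranCounit.naturality (Functor.whiskerLeft (α.app ⟨op T⟩).toFunctor.op g))
  have f1 := ranCompare_fac α T H' W (((ι F T).op.ran.map g).app _ y)
  have f2 := ranCompare_fac α T H W y
  exact (f1.trans natF).trans
    ((congrArg (fun z => g.app ((α.app ⟨op T⟩).toFunctor.op.obj W) z) f2).symm.trans natG.symm)

end Compare

section SheafCompare

variable (J : Topologies F) (K : Topologies G) (T : 𝒮)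
  [(ι F T).IsCocontinuous (J T) (totalTopology F J)]
  [∀ P : (F.obj ⟨op T⟩)ᵒᵖ ⥤ Type w, (ι F T).op.HasPointwiseRightKanExtension P]
  [(ι G T).IsCocontinuous (K T) (totalTopology G K)]
  [∀ P : (G.obj ⟨op T⟩)ᵒᵖ ⥤ Type w, (ι G T).op.HasPointwiseRightKanExtension P]
  [(Pseudofunctor.CoGrothendieck.map α).IsContinuous (totalTopology G K) (totalTopology F J)]
  [(α.app ⟨op T⟩).toFunctor.IsContinuous (K T) (J T)]

/-- The comparison, as a natural transformation between functors on sheaves. -/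
noncomputable def ranCompareSheaf :
    coextend F J (Type w) T ⋙
        (Pseudofunctor.CoGrothendieck.map α).sheafPushforwardContinuous (Type w)
          (totalTopology G K) (totalTopology F J) ⟶
      (α.app ⟨op T⟩).toFunctor.sheafPushforwardContinuous (Type w) (K T) (J T) ⋙
        coextend G K (Type w) T where
  app H := ObjectProperty.homMk (ranCompare α T H.obj)
  naturality H H' g := by
    apply Sheaf.hom_ext
    exact ranCompare_naturality α T g.hom

theorem isIso_ranCompareSheaf : IsIso (ranCompareSheaf.{w} α J K T) := by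
  haveI : ∀ H, IsIso ((ranCompareSheaf.{w} α J K T).app H) := by
    intro H
    rw [← isIso_iff_of_reflects_iso _ (sheafToPresheaf (totalTopology G K) (Type w))]
    change IsIso (ranCompare α T H.obj)
    haveI : ∀ X, IsIso ((ranCompare α T H.obj).app X) := by
      intro X
      rw [isIso_iff_bijective]
      exact ranCompare_bijective α T H.obj X
    exact NatIso.isIso_of_isIso_app _
  exact NatIso.isIso_of_isIso_app _

end SheafCompare

end Groth.Agent.H67
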