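import Groth.Agent.H67.FibSiteW
import Groth.Agent.H67.FibSiteMap
import Groth.Agent.H67.FibSiteCont
import Mathlib.CategoryTheory.Adjunction.Unique
import Mathlib.CategoryTheory.Limits.Over
import Mathlib.CategoryTheory.Limits.Constructions.LimitsOfProductsAndEqualizers
import Mathlib.CategoryTheory.Extensive

set_option autoImplicit false

universe u

namespace Groth.Agent.H67

open CategoryTheory CategoryTheory.Limits Opposite Pseudofunctor Pseudofunctor.CoGrothendieck FibSite
  Bicategory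
open scoped CategoryTheory.Pseudofunctor.StrongTrans

/-! ### General category theory -/

section General

/-- A retract of a functor preserving a limit preserves this limit. -/
theorem preservesLimit_of_retract {C D Jd : Type*} [Category C] [Category D] [Category Jd]
    {Φ Ψ : C ⥤ D} (i : Φ ⟶ Ψ) (r : Ψ ⟶ Φ) (h : i ≫ r = 𝟙 Φ) (Kd : Jd ⥤ C)
    [PreservesLimit Kd Ψ] : PreservesLimit Kd Φ := by
  have hir : ∀ X, i.app X ≫ r.app X = 𝟙 _ := fun X => by
    rw [← NatTrans.comp_app, h]; rfl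
  refine ⟨fun {c} hc => ⟨?_⟩⟩
  have hΨ : IsLimit (Ψ.mapCone c) := isLimitOfPreserves Ψ hc
  let t' : Cone (Kd ⋙ Φ) → Cone (Kd ⋙ Ψ) := fun t => ⟨t.pt, t.π ≫ Functor.whiskerLeft Kd i⟩
  refine { lift := fun t => hΨ.lift (t' t) ≫ r.app c.pt, fac := ?_, uniq := ?_ }
  · intro t j
    have h1 : hΨ.lift (t' t) ≫ Ψ.map (c.π.app j) = t.π.app j ≫ i.app (Kd.obj j) :=
      hΨ.fac (t' t) j
    calc (hΨ.lift (t' t) ≫ r.app c.pt) ≫ Φ.map (c.π.app j)
        = hΨ.lift (t' t) ≫ Ψ.map (c.π.app j) ≫ r.app (Kd.obj j) := by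
          rw [Category.assoc, ← r.naturality]
      _ = t.π.app j := by
          rw [← Category.assoc, h1, Category.assoc, hir]
          exact Category.comp_id _
  · intro t l hl
    have h2 : l ≫ i.app c.pt = hΨ.lift (t' t) := hΨ.uniq (t' t) _ (fun j => by
      show (l ≫ i.app c.pt) ≫ Ψ.map (c.π.app j) = t.π.app j ≫ i.app (Kd.obj j)
      rw [Category.assoc, ← i.naturality, ← Category.assoc]
      exact congrArg (fun k => k ≫ i.app (Kd.obj j)) (hl j))
    rw [← h2, Category.assoc, hir]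
    exact (Category.comp_id _).symm

theorem preservesFiniteLimits_of_retract {C D : Type*} [Category C] [Category D]
    {Φ Ψ : C ⥤ D} (i : Φ ⟶ Ψ) (r : Ψ ⟶ Φ) (h : i ≫ r = 𝟙 Φ)
    [PreservesFiniteLimits Ψ] : PreservesFiniteLimits Φ :=
  ⟨fun _ _ _ => ⟨fun {Kd} => preservesLimit_of_retract i r h Kd⟩⟩

/-- Base change of a pullback square along a "cartesian" morphism of cospans. -/
theorem isPullback_cube_iff {C : Type*} [Category C] {A B Cc A' B' C' W W' : C}
    {a : A ⟶ Cc} {b : B ⟶ Cc} {a' : A' ⟶ C'} {b' : B' ⟶ C'}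
    {iA : A ⟶ A'} {iB : B ⟶ B'} {iC : Cc ⟶ C'}
    (hA : IsPullback iA a a' iC) (hB : IsPullback iB b b' iC)
    {p' : W' ⟶ A'} {q' : W' ⟶ B'} (h' : IsPullback p' q' a' b')
    {p : W ⟶ A} {q : W ⟶ B} {j : W ⟶ W'}
    (hp : j ≫ p' = p ≫ iA) (hq : j ≫ q' = q ≫ iB) (hw : p ≫ a = q ≫ b) :
    IsPullback p q a b ↔ IsPullback j (p ≫ a) (p' ≫ a') iC := by
  rw [IsPullback.paste_vert_iff hA hp, ← IsPullback.paste_horiz_iff h'.flip hp, hq, hA.w,
    IsPullback.paste_horiz_iff hB hw.symm]
  exact ⟨fun h => h.flip, fun h => h.flip⟩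

/-- In an extensive category, `A` is the pullback of `A ⨿ E ⟶ C ⨿ E` along `C ⟶ C ⨿ E`. -/
theorem isPullback_inl_coprod_map {𝒞 : Type*} [Category 𝒞] [FinitaryExtensive 𝒞] {A Cc : 𝒞}
    (a : A ⟶ Cc) (E : 𝒞) :
    IsPullback (coprod.inl : A ⟶ A ⨿ E) a (coprod.map a (𝟙 E)) coprod.inl :=
  (((BinaryCofan.isVanKampen_iff _).1 (FinitaryExtensive.vanKampen _ (coprodIsCoprod Cc E))
    (BinaryCofan.mk coprod.inl coprod.inr) a (𝟙 E) (coprod.map a (𝟙 E))
    (coprod.inl_map a (𝟙 E)).symm (coprod.inr_map a (𝟙 E)).symm).1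
      ⟨coprodIsCoprod A E⟩).1

/-- A functor preserving binary coproducts between extensive categories preserves pullbacks
along coproduct inclusions. -/
theorem isPullback_map_of_inl {𝒜 ℬ : Type*} [Category 𝒜] [Category ℬ] [FinitaryExtensive 𝒜]
    [FinitaryExtensive ℬ] (L : 𝒜 ⥤ ℬ) [PreservesColimitsOfShape (Discrete WalkingPair) L]
    {W W' Cc E : 𝒜} {j : W ⟶ W'} {c : W ⟶ Cc} {g : W' ⟶ Cc ⨿ E}
    (h : IsPullback j c g coprod.inl) :
    IsPullback (L.map j) (L.map c) (L.map g) (L.map coprod.inl) := by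
  have h₂ : IsPullback (pullback.fst g (coprod.inr : E ⟶ Cc ⨿ E))
      (pullback.snd g (coprod.inr : E ⟶ Cc ⨿ E)) g coprod.inr := IsPullback.of_hasPullback _ _
  have hvk := (BinaryCofan.isVanKampen_iff _).1
    (FinitaryExtensive.vanKampen _ (coprodIsCoprod Cc E))
    (BinaryCofan.mk j (pullback.fst g (coprod.inr : E ⟶ Cc ⨿ E))) c
    (pullback.snd g (coprod.inr : E ⟶ Cc ⨿ E)) g h.w.symm h₂.w.symm
  obtain ⟨hcol⟩ := hvk.2 ⟨h, h₂⟩
  have hcolL : IsColimit (BinaryCofan.mk (L.map j)
      (L.map (pullback.fst g (coprod.inr : E ⟶ Cc ⨿ E)))) :=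
    mapIsColimitOfPreservesOfIsColimit L _ _ hcol
  have hcL : IsColimit (BinaryCofan.mk (L.map (coprod.inl : Cc ⟶ Cc ⨿ E))
      (L.map (coprod.inr : E ⟶ Cc ⨿ E))) :=
    mapIsColimitOfPreservesOfIsColimit L _ _ (coprodIsCoprod Cc E)
  have hvk' := (BinaryCofan.isVanKampen_iff _).1 (FinitaryExtensive.vanKampen _ hcL)
    (BinaryCofan.mk (L.map j) (L.map (pullback.fst g (coprod.inr : E ⟶ Cc ⨿ E))))
    (L.map c) (L.map (pullback.snd g (coprod.inr : E ⟶ Cc ⨿ E))) (L.map g)
    (by
      show L.map c ≫ L.map coprod.inl = L.map j ≫ L.map g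
      rw [← L.map_comp, ← L.map_comp, h.w])
    (by
      show L.map _ ≫ L.map coprod.inr = L.map _ ≫ L.map g
      rw [← L.map_comp, ← L.map_comp, h₂.w])
  exact (hvk'.1 ⟨hcolL⟩).1

/-- If `L` preserves binary coproducts and the pullbacks of the cospans `a ⨿ E`, `b ⨿ E`, then
it preserves pullbacks. -/
theorem preservesPullbacks_of_plus {𝒜 ℬ : Type*} [Category 𝒜] [Category ℬ] [FinitaryExtensive 𝒜]
    [FinitaryExtensive ℬ] [HasPullbacks 𝒜] (L : 𝒜 ⥤ ℬ)
    [PreservesColimitsOfShape (Discrete WalkingPair) L] (E : 𝒜)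
    (hplus : ∀ {A B Cc : 𝒜} (a : A ⟶ Cc) (b : B ⟶ Cc),
      ∃ (W' : 𝒜) (p' : W' ⟶ A ⨿ E) (q' : W' ⟶ B ⨿ E),
        IsPullback p' q' (coprod.map a (𝟙 E)) (coprod.map b (𝟙 E)) ∧
        IsPullback (L.map p') (L.map q') (L.map (coprod.map a (𝟙 E)))
          (L.map (coprod.map b (𝟙 E)))) :
    PreservesLimitsOfShape WalkingCospan L := by
  suffices hcospan : ∀ {A B Cc : 𝒜} (a : A ⟶ Cc) (b : B ⟶ Cc), PreservesLimit (cospan a b) L from
    ⟨fun {D} => preservesLimit_of_iso_diagram L (diagramIsoCospan D).symm⟩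
  intro A B Cc a b
  obtain ⟨W', p', q', h', hL'⟩ := hplus a b
  have hA := isPullback_inl_coprod_map a E
  have hB := isPullback_inl_coprod_map b E
  have h := IsPullback.of_hasPullback a b
  have hcomm : (pullback.fst a b ≫ coprod.inl) ≫ coprod.map a (𝟙 E) =
      (pullback.snd a b ≫ coprod.inl) ≫ coprod.map b (𝟙 E) := by
    rw [Category.assoc, Category.assoc, coprod.inl_map, coprod.inl_map, ← Category.assoc,
      ← Category.assoc, pullback.condition]
  have hj := (isPullback_cube_iff hA hB h' (h'.lift_fst _ _ hcomm) (h'.lift_snd _ _ hcomm)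
    h.w).1 h
  have hLj := isPullback_map_of_inl L hj
  have hLA := isPullback_map_of_inl L hA
  have hLB := isPullback_map_of_inl L hB
  have hL : IsPullback (L.map (pullback.fst a b)) (L.map (pullback.snd a b)) (L.map a)
      (L.map b) := by
    refine (isPullback_cube_iff hLA hLB hL' (j := L.map (h'.lift _ _ hcomm)) ?_ ?_ ?_).2 ?_
    · rw [← L.map_comp, ← L.map_comp, h'.lift_fst]
    · rw [← L.map_comp, ← L.map_comp, h'.lift_snd]
    · rw [← L.map_comp, ← L.map_comp, h.w]
    · rw [← L.map_comp, ← L.map_comp]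
      exact hLj
  apply preservesLimit_of_preserves_limit_cone (pullbackIsPullback a b)
  apply (isLimitMapConePullbackConeEquiv _ _).symm _
  exact hL.isLimit

/-- Pullbacks of cospans of the form `a ⨿ T₁`, `b ⨿ T₁` are preserved by any functor `L` such
that `Under.forget T₁ ⋙ L` preserves finite limits. -/
theorem exists_isPullback_plus {𝒜 ℬ : Type*} [Category 𝒜] [Category ℬ] [HasPullbacks 𝒜]
    [HasBinaryCoproducts 𝒜] {T₁ : 𝒜} (L : 𝒜 ⥤ ℬ)
    [PreservesFiniteLimits (Under.forget T₁ ⋙ L)] {A B Cc : 𝒜} (a : A ⟶ Cc) (b : B ⟶ Cc) :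
    ∃ (W' : 𝒜) (p' : W' ⟶ A ⨿ T₁) (q' : W' ⟶ B ⨿ T₁),
      IsPullback p' q' (coprod.map a (𝟙 T₁)) (coprod.map b (𝟙 T₁)) ∧
      IsPullback (L.map p') (L.map q') (L.map (coprod.map a (𝟙 T₁)))
        (L.map (coprod.map b (𝟙 T₁))) := by
  let YA : Under T₁ := Under.mk (coprod.inr : T₁ ⟶ A ⨿ T₁)
  let YB : Under T₁ := Under.mk (coprod.inr : T₁ ⟶ B ⨿ T₁)
  let YC : Under T₁ := Under.mk (coprod.inr : T₁ ⟶ Cc ⨿ T₁)
  let a' : YA ⟶ YC := Under.homMk (coprod.map a (𝟙 T₁)) (by simp [YA, YC])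
  let b' : YB ⟶ YC := Under.homMk (coprod.map b (𝟙 T₁)) (by simp [YB, YC])
  have h := IsPullback.of_hasPullback a' b'
  refine ⟨(pullback a' b').right, (pullback.fst a' b').right, (pullback.snd a' b').right, ?_, ?_⟩
  · exact h.map (Under.forget T₁)
  · exact h.map (Under.forget T₁ ⋙ L)

end General

/-! ### Continuity from bicovering morphisms -/

theorem isContinuous_of_W_lan {C D : Type u} [SmallCategory C] [SmallCategory D] (Φ : C ⥤ D)
    (J : GrothendieckTopology C) (K : GrothendieckTopology D)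
    (h : ∀ (X : C) (S : Sieve X), S ∈ J X →
      K.W ((Φ.op.lan (H := Type u)).map S.functorInclusion)) :
    Φ.IsContinuous J K where
  op_comp_isSheaf_of_types G := by
    intro X S hS
    rw [Presieve.isSheafFor_iff_yonedaSheafCondition]
    intro f
    have hb : Function.Bijective
        (fun g : yoneda.obj X ⟶ Φ.op ⋙ G.obj => S.functorInclusion ≫ g) :=
      ((Φ.op.lanAdjunction (Type u)).map_comp_bijective_iff S.functorInclusion G.obj).1
        (h X S hS G.obj G.property)
    exact (Function.bijective_iff_existsUnique _).1 hb f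

section W

variable {𝒮 : Type u} [SmallCategory 𝒮]
  (F : Pseudofunctor (LocallyDiscrete 𝒮ᵒᵖ) Cat.{u, u}) (J : Topologies F)

theorem W_lan_bijective_of_pt (hF : IsPreFibSite F J) (i : 𝒮)
    {R Y : (F.obj ⟨op i⟩)ᵒᵖ ⥤ Type u} (u : R ⟶ Y)
    (hW : (totalTopology F J).W (((ι F i).op.lan (H := Type u)).map u))
    (H : Sheaf (J i) (Type u))
    (hH : ∀ f : i ⟶ i, Nonempty (Y ⟶ (invImage F f).op ⋙ H.obj)) :
    Function.Bijective (fun g : Y ⟶ H.obj => u ≫ g) := by
  haveI := isCocontinuous_ι F J hF i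
  let P := (ι F i).op.ran.obj H.obj
  have hP : Presheaf.IsSheaf (totalTopology F J) P :=
    ran_isSheaf_of_isCocontinuous (ι F i) (totalTopology F J) H
  have h1 : Function.Bijective (fun g : Y ⟶ (ι F i).op ⋙ P => u ≫ g) :=
    (((ι F i).op.lanAdjunction (Type u)).map_comp_bijective_iff u P).1 (hW P hP)
  let E := ranExt i H.obj
  have hE : E.IsPointwiseRightKanExtension :=
    (ι F i).op.isPointwiseRightKanExtensionRanCounit H.obj
  have heQ : ∀ Q : (F.obj ⟨op i⟩)ᵒᵖ ⥤ Type u, Function.Bijective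
      (fun (τ : Q ⟶ (ι F i).op ⋙ P) (f : i ⟶ i) => τ ≫ ranProj E f) := by
    intro Q
    rw [Function.bijective_iff_existsUnique]
    intro σ
    obtain ⟨τ, hτ, huτ⟩ := ranProj_lift E hE Q σ
    exact ⟨τ, funext hτ, fun τ' hτ' => huτ τ' (fun f => congrFun hτ' f)⟩
  have hΨ : Function.Bijective
      (fun (σ : ∀ f : i ⟶ i, Y ⟶ (invImage F f).op ⋙ H.obj) (f : i ⟶ i) =>
        u ≫ σ f) := by
    have hsq : (fun (σ : ∀ f : i ⟶ i, Y ⟶ (invImage F f).op ⋙ H.obj)
          (f : i ⟶ i) => u ≫ σ f) ∘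
        (fun (τ : Y ⟶ (ι F i).op ⋙ P) (f : i ⟶ i) => τ ≫ ranProj E f) =
        (fun (τ : R ⟶ (ι F i).op ⋙ P) (f : i ⟶ i) => τ ≫ ranProj E f) ∘
          (fun g : Y ⟶ (ι F i).op ⋙ P => u ≫ g) :=
      funext fun τ => funext fun f => (Category.assoc _ _ _).symm
    refine (Function.Bijective.of_comp_iff _ (heQ Y)).1 ?_
    rw [hsq]
    exact (heQ R).comp h1
  have hone := bijective_component
    (fun (f : i ⟶ i) (σ : Y ⟶ (invImage F f).op ⋙ H.obj) => u ≫ σ) hΨ hH (𝟙 i)
  let e := Cat.Hom.toNatIso (F.mapId ⟨op i⟩)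
  let θ' := Functor.isoWhiskerRight (NatIso.op e) H.obj
  let θ'' : (Cat.Hom.toFunctor (𝟙 (F.obj ⟨op i⟩))).op ⋙ H.obj ≅ H.obj :=
    NatIso.ofComponents (fun X => Iso.refl _)
      (fun f => (Category.comp_id _).trans (Category.id_comp _).symm)
  let θ : (invImage F (𝟙 i)).op ⋙ H.obj ≅ H.obj := θ'.symm ≪≫ θ''
  have hfac : (fun g : Y ⟶ H.obj => u ≫ g) =
      (fun σ : R ⟶ (invImage F (𝟙 i)).op ⋙ H.obj => σ ≫ θ.hom) ∘
        (fun σ : Y ⟶ (invImage F (𝟙 i)).op ⋙ H.obj => u ≫ σ) ∘
          (fun g : Y ⟶ H.obj => g ≫ θ.inv) := by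
    funext g
    simp
  rw [hfac]
  exact (θ.homToEquiv.bijective.comp hone).comp θ.symm.homToEquiv.bijective

theorem W_of_W_lan' (hF : IsPreFibSite F J) (i : 𝒮)
    {R Y : (F.obj ⟨op i⟩)ᵒᵖ ⥤ Type u} (u : R ⟶ Y)
    (hW : (totalTopology F J).W (((ι F i).op.lan (H := Type u)).map u)) : (J i).W u := by
  rw [GrothendieckTopology.W_iff]
  let T : Sheaf (J i) (Type u) := Sheaf.terminal (J i) Types.isTerminalPUnit
  have hpt : ∀ (Z : Sheaf (J i) (Type u)) (f : i ⟶ i),
      Nonempty (Y ⟶ (invImage F f).op ⋙ (Z ⨿ T).obj) := fun Z f =>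
    ⟨{ app := fun X => ↾(fun _ => (coprod.inr : T ⟶ Z ⨿ T).hom.app _ PUnit.unit)
       naturality := fun X X' g => by
        ext y
        exact (NatTrans.naturality_apply (coprod.inr : T ⟶ Z ⨿ T).hom
          ((invImage F f).op.map g) PUnit.unit) }⟩
  have hbij : ∀ Z : Sheaf (J i) (Type u), Function.Bijective
      (fun g : (presheafToSheaf (J i) (Type u)).obj Y ⟶ Z ⨿ T =>
        (presheafToSheaf (J i) (Type u)).map u ≫ g) :=
    fun Z => ((sheafificationAdjunction (J i) (Type u)).map_comp_bijective_iff u (Z ⨿ T)).2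
      (W_lan_bijective_of_pt F J hF i u hW (Z ⨿ T) (hpt Z))
  haveI : Epi ((presheafToSheaf (J i) (Type u)).map u) := ⟨fun {Z} k₁ k₂ h => by
    have h2 : k₁ ≫ (coprod.inl : Z ⟶ Z ⨿ T) = k₂ ≫ coprod.inl := (hbij Z).1 (by
      show _ ≫ (k₁ ≫ coprod.inl) = _ ≫ (k₂ ≫ coprod.inl)
      rw [← Category.assoc, ← Category.assoc, h])
    exact (cancel_mono (coprod.inl : Z ⟶ Z ⨿ T)).1 h2⟩
  haveI : Mono ((presheafToSheaf (J i) (Type u)).map u) := by
    obtain ⟨g, hg⟩ := (hbij ((presheafToSheaf (J i) (Type u)).obj R)).2 coprod.inl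
    exact mono_of_mono_fac hg
  exact isIso_of_mono_of_epi _

end W

/-! ### Continuity of the fibre functors of a cartesian functor -/

section Fibre

variable {𝒮 : Type u} [SmallCategory 𝒮]
  {F G : Pseudofunctor (LocallyDiscrete 𝒮ᵒᵖ) Cat.{u, u}} (J : Topologies F) (K : Topologies G)

theorem isContinuous_app_of_map (hF : IsPreFibSite F J) (hG : IsPreFibSite G K) (α : G ⟶ F)
    [(Pseudofunctor.CoGrothendieck.map α).IsContinuous (totalTopology G K) (totalTopology F J)]
    (S : 𝒮) : (α.app ⟨op S⟩).toFunctor.IsContinuous (K S) (J S) := by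
  haveI := isContinuous_ι F J hF S
  haveI := isContinuous_ι G K hG S
  haveI : (ι G S ⋙ Pseudofunctor.CoGrothendieck.map α).IsContinuous (K S)
      (totalTopology F J) :=
    Functor.isContinuous_comp _ _ (K S) (totalTopology G K) (totalTopology F J)
  haveI : ((α.app ⟨op S⟩).toFunctor ⋙ ι F S).IsContinuous (K S) (totalTopology F J) :=
    Functor.isContinuous_of_iso (ιCompMapIso α S) (K S) (totalTopology F J)
  apply isContinuous_of_W_lan
  intro V R hR
  apply W_of_W_lan' F J hF S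
  intro Z hZ
  rw [((ι F S).op.lanAdjunction (Type u)).map_comp_bijective_iff,
    ((α.app ⟨op S⟩).toFunctor.op.lanAdjunction (Type u)).map_comp_bijective_iff]
  have hs : Presieve.IsSheaf (K S) (((α.app ⟨op S⟩).toFunctor ⋙ ι F S).op ⋙ Z) :=
    Functor.op_comp_isSheaf_of_types ((α.app ⟨op S⟩).toFunctor ⋙ ι F S) (K S)
      (totalTopology F J) ⟨Z, hZ⟩
  rw [Function.bijective_iff_existsUnique]
  intro f
  exact (Presieve.isSheafFor_iff_yonedaSheafCondition.1 (hs R hR)) f

end Fibre

/-! ### Pointed sheaves on a fibre are retracts of their coextension-restriction -/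

section Section

variable {𝒮 : Type u} [SmallCategory 𝒮] {F : Pseudofunctor (LocallyDiscrete 𝒮ᵒᵖ) Cat.{u, u}}
  (J : Topologies F) (i : 𝒮)
  [(ι F i).IsCocontinuous (J i) (totalTopology F J)]
  [(ι F i).IsContinuous (J i) (totalTopology F J)]
  [∀ f : i ⟶ i, (invImage F f).IsContinuous (J i) (J i)]

/-- Coextension to the total site followed by restriction to the same fibre. -/
noncomputable abbrev coextRestr : Sheaf (J i) (Type u) ⥤ Sheaf (J i) (Type u) :=
  coextend F J (Type u) i ⋙ restr F J (Type u) i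

set_option backward.isDefEq.respectTransparency false in
/-- Pushforward along the inverse image of the identity is the identity. -/
noncomputable def idIso :
    (invImage F (𝟙 i)).sheafPushforwardContinuous (Type u) (J i) (J i) ≅ 𝟭 _ :=
  Functor.sheafPushforwardContinuousId'
    (show invImage F (𝟙 i) ≅ 𝟭 (F.obj ⟨op i⟩) from Cat.Hom.toNatIso (F.mapId ⟨op i⟩))
    (Type u) (J i)

/-- The projection of `coextRestr` to the identity factor. -/
noncomputable def retr : coextRestr J i ⟶ 𝟭 _ :=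
  ranProjSheaf J i i (𝟙 i) ≫ (idIso J i).hom

theorem exists_section {T₁ : Sheaf (J i) (Type u)} (hT : IsTerminal T₁) :
    ∃ s : Under.forget T₁ ⟶ Under.forget T₁ ⋙ coextRestr J i,
      s ≫ Functor.whiskerLeft (Under.forget T₁) (retr J i) = 𝟙 _ := by
  classical
  have hfT : ∀ f : i ⟶ i, IsTerminal
      (((invImage F f).sheafPushforwardContinuous (Type u) (J i) (J i)).obj T₁) :=
    fun f => hT.isTerminalObj _ _
  let σ : ∀ (Y : Under T₁) (f : i ⟶ i), Y.right ⟶
      ((invImage F f).sheafPushforwardContinuous (Type u) (J i) (J i)).obj Y.right :=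
    fun Y => Function.update (fun f => (hfT f).from Y.right ≫
      ((invImage F f).sheafPushforwardContinuous (Type u) (J i) (J i)).map Y.hom) (𝟙 i)
      ((idIso J i).inv.app Y.right)
  have hσ1 : ∀ Y : Under T₁, σ Y (𝟙 i) = (idIso J i).inv.app Y.right :=
    fun Y => Function.update_self _ _ _
  have hσ2 : ∀ (Y : Under T₁) (f : i ⟶ i), f ≠ 𝟙 i → σ Y f = (hfT f).from Y.right ≫
      ((invImage F f).sheafPushforwardContinuous (Type u) (J i) (J i)).map Y.hom :=
    fun Y f hf => Function.update_of_ne hf _ _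
  have hnat : ∀ {Y Y' : Under T₁} (g : Y ⟶ Y') (f : i ⟶ i),
      σ Y f ≫ ((invImage F f).sheafPushforwardContinuous (Type u) (J i) (J i)).map g.right =
        g.right ≫ σ Y' f := by
    intro Y Y' g f
    by_cases hf : f = 𝟙 i
    · subst hf
      rw [hσ1, hσ1]
      exact ((idIso J i).inv.naturality g.right).symm
    · rw [hσ2 Y f hf, hσ2 Y' f hf, Category.assoc, ← Functor.map_comp, Under.w g,
        ← Category.assoc]
      exact congrArg (fun k => k ≫
        ((invImage F f).sheafPushforwardContinuous (Type u) (J i) (J i)).map Y'.hom)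
        ((hfT f).hom_ext _ _)
  choose τ hτ huτ using fun Y : Under T₁ => ranProjSheaf_lift J i i Y.right Y.right (σ Y)
  refine ⟨{ app := τ, naturality := ?_ }, ?_⟩
  · intro Y Y' g
    obtain ⟨τ0, -, hu0⟩ := ranProjSheaf_lift J i i Y'.right Y.right (fun f => g.right ≫ σ Y' f)
    have e1 : g.right ≫ τ Y' = τ0 := hu0 _ (fun f => by rw [Category.assoc, hτ])
    have e2 : τ Y ≫ (coextRestr J i).map g.right = τ0 := hu0 _ (fun f => by
      rw [Category.assoc]
      have hn := (ranProjSheaf J i i f).naturality g.right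
      rw [hn, ← Category.assoc, hτ, hnat])
    exact e1.trans e2.symm
  · apply NatTrans.ext
    funext Y
    show τ Y ≫ ((ranProjSheaf J i i (𝟙 i)).app Y.right ≫ (idIso J i).hom.app Y.right) =
      𝟙 Y.right
    rw [← Category.assoc, hτ, hσ1]
    exact (idIso J i).inv_hom_id_app Y.right

/-- If `coextRestr ⋙ L` preserves finite limits, so does `Under.forget T₁ ⋙ L` for a terminal
object `T₁`. -/
theorem preservesFiniteLimits_forget_comp {ℬ : Type*} [Category ℬ]
    {T₁ : Sheaf (J i) (Type u)} (hT : IsTerminal T₁) (L : Sheaf (J i) (Type u) ⥤ ℬ)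
    [PreservesFiniteLimits (coextRestr J i ⋙ L)] :
    PreservesFiniteLimits (Under.forget T₁ ⋙ L) := by
  obtain ⟨s, hs⟩ := exists_section J i hT
  haveI : PreservesFiniteLimits (Under.forget T₁) := inferInstance
  haveI : PreservesFiniteLimits ((Under.forget T₁ ⋙ coextRestr J i) ⋙ L) := by
    show PreservesFiniteLimits (Under.forget T₁ ⋙ (coextRestr J i ⋙ L))
    exact comp_preservesFiniteLimits _ _
  refine preservesFiniteLimits_of_retract (Functor.whiskerRight s L)
    (Functor.whiskerRight (Functor.whiskerLeft (Under.forget T₁) (retr J i)) L) ?_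
  rw [← Functor.whiskerRight_comp, hs]
  exact Functor.whiskerRight_id' _

end Section

/-! ### Left exactness of the inverse image along the fibre functors -/

section Exact

variable {𝒮 : Type u} [SmallCategory 𝒮]
  {F G : Pseudofunctor (LocallyDiscrete 𝒮ᵒᵖ) Cat.{u, u}} (J : Topologies F) (K : Topologies G)

theorem preservesFiniteLimits_sheafPullback_app (hF : IsPreFibSite F J) (hG : IsPreFibSite G K)
    (α : G ⟶ F)
    [(Pseudofunctor.CoGrothendieck.map α).IsContinuous (totalTopology G K) (totalTopology F J)]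
    [PreservesFiniteLimits ((Pseudofunctor.CoGrothendieck.map α).sheafPullback (Type u)
      (totalTopology G K) (totalTopology F J))]
    (T : 𝒮) [(α.app ⟨op T⟩).toFunctor.IsContinuous (K T) (J T)] :
    PreservesFiniteLimits ((α.app ⟨op T⟩).toFunctor.sheafPullback (Type u) (K T) (J T)) := by
  haveI := isContinuous_ι F J hF T
  haveI := isCocontinuous_ι F J hF T
  haveI := isContinuous_ι G K hG T
  haveI := isCocontinuous_ι G K hG T
  haveI : ∀ f : T ⟶ T, (invImage G f).IsContinuous (K T) (K T) := fun f => hG f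
  haveI := isIso_ranCompareSheaf.{u} α J K T
  let adjM := (Pseudofunctor.CoGrothendieck.map α).sheafAdjunctionContinuous (Type u)
    (totalTopology G K) (totalTopology F J)
  let adjcoF := (ι F T).sheafAdjunctionCocontinuous (Type u) (J T) (totalTopology F J)
  let adjcoG := (ι G T).sheafAdjunctionCocontinuous (Type u) (K T) (totalTopology G K)
  let adjA := (α.app ⟨op T⟩).toFunctor.sheafAdjunctionContinuous (Type u) (K T) (J T)
  let adj1 := (adjM.comp adjcoF).ofNatIsoRight (asIso (ranCompareSheaf.{u} α J K T))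
  let adj2 := adjcoG.comp adjA
  let e := adj1.leftAdjointUniq adj2
  haveI : PreservesFiniteLimits (restr F J (Type u) T) := by
    haveI : (restr F J (Type u) T).IsRightAdjoint := inferInstance
    infer_instance
  haveI : PreservesFiniteLimits (restr G K (Type u) T) := by
    haveI : (restr G K (Type u) T).IsRightAdjoint := inferInstance
    infer_instance
  haveI : PreservesFiniteLimits (coextend G K (Type u) T) := by
    haveI := adjcoG.isRightAdjoint
    infer_instance
  haveI hmr : PreservesFiniteLimits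
      ((Pseudofunctor.CoGrothendieck.map α).sheafPullback (Type u)
        (totalTopology G K) (totalTopology F J) ⋙ restr F J (Type u) T) :=
    comp_preservesFiniteLimits _ _
  haveI hrL : PreservesFiniteLimits (restr G K (Type u) T ⋙
      (α.app ⟨op T⟩).toFunctor.sheafPullback (Type u) (K T) (J T)) :=
    preservesFiniteLimits_of_natIso e
  haveI hML : PreservesFiniteLimits (coextRestr K T ⋙
      (α.app ⟨op T⟩).toFunctor.sheafPullback (Type u) (K T) (J T)) := by
    show PreservesFiniteLimits (coextend G K (Type u) T ⋙ (restr G K (Type u) T ⋙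
      (α.app ⟨op T⟩).toFunctor.sheafPullback (Type u) (K T) (J T)))
    exact comp_preservesFiniteLimits _ _
  -- the terminal object
  have hX₀ : IsTerminal ((restr G K (Type u) T).obj (⊤_ _)) :=
    terminalIsTerminal.isTerminalObj (restr G K (Type u) T) _
  haveI : PreservesLimit (Functor.empty.{0} (TotSh G K (Type u))) (restr G K (Type u) T ⋙
      (α.app ⟨op T⟩).toFunctor.sheafPullback (Type u) (K T) (J T)) :=
    (hrL.preservesFiniteLimits (Discrete PEmpty.{1})).preservesLimit
  have hLX₀ : IsTerminal (((α.app ⟨op T⟩).toFunctor.sheafPullback (Type u) (K T) (J T)).obj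
      ((restr G K (Type u) T).obj (⊤_ _))) :=
    terminalIsTerminal.isTerminalObj (restr G K (Type u) T ⋙
      (α.app ⟨op T⟩).toFunctor.sheafPullback (Type u) (K T) (J T)) _
  haveI : PreservesLimit (Functor.empty.{0} (Sheaf (K T) (Type u)))
      ((α.app ⟨op T⟩).toFunctor.sheafPullback (Type u) (K T) (J T)) := by
    apply preservesLimit_of_preserves_limit_cone hX₀
    exact (isLimitMapConeEmptyConeEquiv _ _).symm hLX₀
  haveI := preservesLimitsOfShape_pempty_of_preservesTerminal
    ((α.app ⟨op T⟩).toFunctor.sheafPullback (Type u) (K T) (J T))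
  -- pullbacks
  haveI : PreservesFiniteLimits (Under.forget ((restr G K (Type u) T).obj (⊤_ _)) ⋙
      (α.app ⟨op T⟩).toFunctor.sheafPullback (Type u) (K T) (J T)) :=
    preservesFiniteLimits_forget_comp K T hX₀ _
  haveI : PreservesColimitsOfShape (Discrete WalkingPair)
      ((α.app ⟨op T⟩).toFunctor.sheafPullback (Type u) (K T) (J T)) := by
    haveI := adjA.isLeftAdjoint
    infer_instance
  haveI : PreservesLimitsOfShape WalkingCospan
      ((α.app ⟨op T⟩).toFunctor.sheafPullback (Type u) (K T) (J T)) :=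
    preservesPullbacks_of_plus _ ((restr G K (Type u) T).obj (⊤_ _))
      (fun a b => exists_isPullback_plus _ a b)
  exact preservesFiniteLimits_of_preservesTerminal_and_pullbacks _

end Exact

end Groth.Agent.H67
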