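import Groth.Prelude.Def_FibSite
import Mathlib.CategoryTheory.Sites.CoverPreserving

set_option autoImplicit false

universe v₂ u₂ v₁ u₁

namespace Groth.Agent.H67

open CategoryTheory Opposite Pseudofunctor Pseudofunctor.CoGrothendieck FibSite Bicategory

variable {𝒮 : Type u₁} [Category.{v₁} 𝒮] (F : Pseudofunctor (LocallyDiscrete 𝒮ᵒᵖ) Cat.{v₂, u₂})

attribute [local simp] PrelaxFunctor.map₂_eqToHom

/-- Constructor of morphisms of `∫ᶜ F`, typed as an arrow. -/
abbrev mkHom (X Y : ∫ᶜ F) (b : X.base ⟶ Y.base)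
    (φ : X.fiber ⟶ (F.map b.op.toLoc).toFunctor.obj Y.fiber) : X ⟶ Y := ⟨b, φ⟩

set_option backward.isDefEq.respectTransparency false in
theorem aux1 {R S : 𝒮} (f : R ⟶ S) {V : F.obj ⟨op R⟩}
    {W : F.obj ⟨op S⟩} (β : V ⟶ (F.map f.op.toLoc).toFunctor.obj W) :
    mkHom F ⟨R, V⟩ ⟨S, W⟩ f β =
      mkHom F ⟨R, V⟩ ⟨R, (F.map f.op.toLoc).toFunctor.obj W⟩ (𝟙 R)
          (β ≫ (F.mapId ⟨op R⟩).inv.toNatTrans.app _) ≫
        mkHom F ⟨R, (F.map f.op.toLoc).toFunctor.obj W⟩ ⟨S, W⟩ f (𝟙 _) := by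
  refine Hom.ext _ _ (Category.id_comp f).symm ?_
  dsimp
  simp [F.mapComp_id_right_inv_app, Strict.rightUnitor_eqToIso, ← NatTrans.naturality_assoc,
      ← Cat.Hom₂.comp_app]

/-- Every morphism of `∫ᶜ F` is a vertical morphism followed by a cartesian lift. -/
theorem hom_eq_ι_map_comp_cartesianLift {R S : 𝒮} (f : R ⟶ S) {V : F.obj ⟨op R⟩}
    {W : F.obj ⟨op S⟩} (β : V ⟶ (F.map f.op.toLoc).toFunctor.obj W) :
    mkHom F ⟨R, V⟩ ⟨S, W⟩ f β = (ι F R).map β ≫ cartesianLift W f :=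
  aux1 F f β

set_option backward.isDefEq.respectTransparency false in
theorem aux2 {R S : 𝒮} (f : R ⟶ S) {W U : F.obj ⟨op S⟩} (r : W ⟶ U) :
    mkHom F ⟨R, (F.map f.op.toLoc).toFunctor.obj W⟩ ⟨R, (F.map f.op.toLoc).toFunctor.obj U⟩ (𝟙 R)
          ((F.map f.op.toLoc).toFunctor.map r ≫ (F.mapId ⟨op R⟩).inv.toNatTrans.app _) ≫
        mkHom F ⟨R, (F.map f.op.toLoc).toFunctor.obj U⟩ ⟨S, U⟩ f (𝟙 _) =
      mkHom F ⟨R, (F.map f.op.toLoc).toFunctor.obj W⟩ ⟨S, W⟩ f (𝟙 _) ≫
        mkHom F ⟨S, W⟩ ⟨S, U⟩ (𝟙 S) (r ≫ (F.mapId ⟨op S⟩).inv.toNatTrans.app _) := by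
  refine Hom.ext _ _ ((Category.id_comp f).trans (Category.comp_id f).symm) ?_
  dsimp
  simp [F.mapComp_id_right_inv_app, F.mapComp_id_left_inv_app, Strict.rightUnitor_eqToIso,
      Strict.leftUnitor_eqToIso, ← NatTrans.naturality_assoc, ← Cat.Hom₂.comp_app]
  simp [← Functor.map_comp_assoc, ← Cat.Hom₂.comp_app]

/-- Naturality of the cartesian lifts. -/
theorem ι_map_comp_cartesianLift {R S : 𝒮} (f : R ⟶ S) {W U : F.obj ⟨op S⟩} (r : W ⟶ U) :
    (ι F R).map ((F.map f.op.toLoc).toFunctor.map r) ≫ cartesianLift U f =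
      cartesianLift W f ≫ (ι F S).map r :=
  aux2 F f r

variable (J : Topologies F)

/-- The explicit description of the total topology, as a topology. -/
def totalK (hF : IsPreFibSite F J) : GrothendieckTopology (∫ᶜ F) where
  sieves X := {S | ∃ R ∈ J X.base X.fiber, Sieve.functorPushforward (ι F X.base) R ≤ S}
  top_mem' X := ⟨⊤, (J X.base).top_mem _, le_top⟩
  pullback_stable' := by
    rintro X Y S φ ⟨R, hR, hRS⟩
    haveI := hF φ.base
    have hcp : R.functorPushforward (invImage F φ.base) ∈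
        J Y.base ((invImage F φ.base).obj X.fiber) :=
      (CoverPreserving.of_isContinuous (invImage F φ.base) (J X.base) (J Y.base)).cover_preserve hR
    refine ⟨(R.functorPushforward (invImage F φ.base)).pullback φ.fiber,
      (J Y.base).pullback_stable φ.fiber hcp, ?_⟩
    rintro Z ψ ⟨V, g, α, hg, rfl⟩
    obtain ⟨W, r, β, hr, hβ⟩ := hg
    have h1 : φ = (ι F Y.base).map φ.fiber ≫ cartesianLift X.fiber φ.base :=
      hom_eq_ι_map_comp_cartesianLift F φ.base φ.fiber
    have h2 : (ι F Y.base).map g ≫ (ι F Y.base).map φ.fiber =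
        (ι F Y.base).map β ≫ (ι F Y.base).map ((F.map φ.base.op.toLoc).toFunctor.map r) := by
      rw [← Functor.map_comp, ← Functor.map_comp]
      exact congrArg (ι F Y.base).map hβ
    have e1 : (ι F Y.base).map g ≫ φ =
        (ι F Y.base).map g ≫ ((ι F Y.base).map φ.fiber ≫ cartesianLift X.fiber φ.base) :=
      congrArg (fun t => (ι F Y.base).map g ≫ t) h1
    have e2 : (ι F Y.base).map g ≫ ((ι F Y.base).map φ.fiber ≫ cartesianLift X.fiber φ.base) =
        ((ι F Y.base).map g ≫ (ι F Y.base).map φ.fiber) ≫ cartesianLift X.fiber φ.base :=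
      (Category.assoc _ _ _).symm
    have e3 : ((ι F Y.base).map g ≫ (ι F Y.base).map φ.fiber) ≫ cartesianLift X.fiber φ.base =
        ((ι F Y.base).map β ≫ (ι F Y.base).map ((F.map φ.base.op.toLoc).toFunctor.map r)) ≫
          cartesianLift X.fiber φ.base :=
      congrArg (fun t => t ≫ cartesianLift X.fiber φ.base) h2
    have e4 : ((ι F Y.base).map β ≫ (ι F Y.base).map ((F.map φ.base.op.toLoc).toFunctor.map r)) ≫
          cartesianLift X.fiber φ.base =
        (ι F Y.base).map β ≫ ((ι F Y.base).map ((F.map φ.base.op.toLoc).toFunctor.map r) ≫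
          cartesianLift X.fiber φ.base) := Category.assoc _ _ _
    have e5 : (ι F Y.base).map β ≫ ((ι F Y.base).map ((F.map φ.base.op.toLoc).toFunctor.map r) ≫
          cartesianLift X.fiber φ.base) =
        (ι F Y.base).map β ≫ (cartesianLift W φ.base ≫ (ι F X.base).map r) :=
      congrArg (fun t => (ι F Y.base).map β ≫ t) (ι_map_comp_cartesianLift F φ.base r)
    have e6 : (ι F Y.base).map β ≫ (cartesianLift W φ.base ≫ (ι F X.base).map r) =
        ((ι F Y.base).map β ≫ cartesianLift W φ.base) ≫ (ι F X.base).map r :=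
      (Category.assoc _ _ _).symm
    have e7 : ((ι F Y.base).map β ≫ cartesianLift W φ.base) ≫ (ι F X.base).map r =
        mkHom F ⟨Y.base, V⟩ ⟨X.base, W⟩ φ.base β ≫ (ι F X.base).map r :=
      congrArg (fun t => t ≫ (ι F X.base).map r)
        (hom_eq_ι_map_comp_cartesianLift F φ.base β).symm
    have key : (ι F Y.base).map g ≫ φ =
        mkHom F ⟨Y.base, V⟩ ⟨X.base, W⟩ φ.base β ≫ (ι F X.base).map r :=
      e1.trans (e2.trans (e3.trans (e4.trans (e5.trans (e6.trans e7)))))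
    change S.arrows ((α ≫ (ι F Y.base).map g) ≫ φ)
    have h3 : (α ≫ (ι F Y.base).map g) ≫ φ =
        (α ≫ mkHom F ⟨Y.base, V⟩ ⟨X.base, W⟩ φ.base β) ≫ (ι F X.base).map r :=
      (Category.assoc α _ φ).trans ((congrArg (fun t => α ≫ t) key).trans
        (Category.assoc α _ _).symm)
    rw [h3]
    apply S.downward_closed
    exact hRS _ ⟨W, r, 𝟙 _, hr, (Category.id_comp _).symm⟩
  transitive' := by
    rintro X S ⟨R, hR, hRS⟩ T hT
    have hT' : ∀ ⦃W : F.obj ⟨op X.base⟩⦄ (r : W ⟶ X.fiber), R r → ∃ R' ∈ J X.base W,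
        Sieve.functorPushforward (ι F X.base) R' ≤ T.pullback ((ι F X.base).map r) := by
      intro W r hr
      exact hT (hRS _ ⟨W, r, 𝟙 _, hr, (Category.id_comp _).symm⟩)
    choose R' hR'J hR'T using hT'
    refine ⟨Sieve.bind R (fun W r hr => R' r hr),
      (J X.base).bind_covering hR (fun W r hr => hR'J r hr), ?_⟩
    rintro Z ψ ⟨V, g, α, hg, rfl⟩
    obtain ⟨W, s, r, hr, hs, rfl⟩ := hg
    have h4 : T.arrows ((ι F X.base).map s ≫ (ι F X.base).map r) :=
      hR'T r hr _ ⟨_, s, 𝟙 _, hs, (Category.id_comp _).symm⟩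
    rw [Functor.map_comp]
    exact T.downward_closed h4 α

/-- Description of the covering sieves of the total topology of a pre-fibred site. -/
theorem mem_totalTopology_iff (hF : IsPreFibSite F J) (X : ∫ᶜ F) (S : Sieve X) :
    S ∈ totalTopology F J X ↔
      ∃ R ∈ J X.base X.fiber, Sieve.functorPushforward (ι F X.base) R ≤ S := by
  constructor
  · intro hS
    have hle : totalTopology F J ≤ totalK F J hF :=
      totalTopology_le (fun S U R hR => ⟨R, hR, le_rfl⟩)
    exact hle X hS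
  · rintro ⟨R, hR, hRS⟩
    exact (totalTopology F J).superset_covering hRS (functorPushforward_mem_totalTopology hR)

/-- The fibre inclusions are cocontinuous for the total topology. -/
theorem isCocontinuous_ι (hF : IsPreFibSite F J) (S : 𝒮) :
    (ι F S).IsCocontinuous (J S) (totalTopology F J) where
  cover_lift {U T} hT := by
    obtain ⟨R, hR, hRT⟩ := (mem_totalTopology_iff F J hF ((ι F S).obj U) T).1 hT
    refine (J S).superset_covering ?_ hR
    intro V g hg
    exact hRT _ ⟨V, g, 𝟙 _, hg, (Category.id_comp _).symm⟩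

end Groth.Agent.H67
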