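import Groth.Agent.H67.FibSiteCont
import Mathlib.CategoryTheory.Functor.KanExtension.Adjunction
import Mathlib.CategoryTheory.Limits.Types.Limits
import Mathlib.CategoryTheory.Sites.Limits
import Mathlib.CategoryTheory.Limits.FunctorCategory.Basic

set_option autoImplicit false

universe w v₂ u₂ v₁ u₁

namespace Groth.Agent.H67

open CategoryTheory CategoryTheory.Limits Opposite Pseudofunctor Pseudofunctor.CoGrothendieck FibSite
  Bicategory

variable {𝒮 : Type u₁} [Category.{v₁} 𝒮] (F : Pseudofunctor (LocallyDiscrete 𝒮ᵒᵖ) Cat.{v₂, u₂})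

theorem ι_map_comp_mkHom {i j : 𝒮} (b : i ⟶ j) {W' W : F.obj ⟨op i⟩} {V : F.obj ⟨op j⟩}
    (h : W' ⟶ W) (φ : W ⟶ (F.map b.op.toLoc).toFunctor.obj V) :
    (ι F i).map h ≫ mkHom F ⟨i, W⟩ ⟨j, V⟩ b φ = mkHom F ⟨i, W'⟩ ⟨j, V⟩ b (h ≫ φ) := by
  have e1 : (ι F i).map h ≫ mkHom F ⟨i, W⟩ ⟨j, V⟩ b φ =
      (ι F i).map h ≫ ((ι F i).map φ ≫ cartesianLift V b) :=
    congrArg (fun t => (ι F i).map h ≫ t) (hom_eq_ι_map_comp_cartesianLift F b φ)
  have e2 : (ι F i).map h ≫ ((ι F i).map φ ≫ cartesianLift V b) =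
      ((ι F i).map h ≫ (ι F i).map φ) ≫ cartesianLift V b := (Category.assoc _ _ _).symm
  have e3 : ((ι F i).map h ≫ (ι F i).map φ) ≫ cartesianLift V b =
      (ι F i).map (h ≫ φ) ≫ cartesianLift V b :=
    congrArg (fun t => t ≫ cartesianLift V b) ((ι F i).map_comp h φ).symm
  exact e1.trans (e2.trans (e3.trans (hom_eq_ι_map_comp_cartesianLift F b (h ≫ φ)).symm))

/-- The cartesian lifts, as a natural transformation. -/
def cartNat {R S : 𝒮} (f : R ⟶ S) : invImage F f ⋙ ι F R ⟶ ι F S where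
  app V := cartesianLift V f
  naturality _ _ r := ι_map_comp_cartesianLift F f r

section Ran

variable {F}
variable {i : 𝒮} {H : (F.obj ⟨op i⟩)ᵒᵖ ⥤ Type w} (E : Functor.RightExtension (ι F i).op H)

/-- The projection of the value of a right extension at an object over `j` to the factor indexed
by `f : i ⟶ j`. -/
def ranProjApp {j : 𝒮} (f : i ⟶ j) (V : F.obj ⟨op j⟩) (x : E.left.obj (op ⟨j, V⟩)) :
    H.obj (op ((invImage F f).obj V)) :=
  E.hom.app (op ((invImage F f).obj V)) (E.left.map (cartesianLift V f).op x)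

theorem hom_app_left_map {j : 𝒮} {W : F.obj ⟨op i⟩} (V : F.obj ⟨op j⟩)
    (ψ : (ι F i).obj W ⟶ (⟨j, V⟩ : ∫ᶜ F)) (x : E.left.obj (op ⟨j, V⟩)) :
    E.hom.app (op W) (E.left.map ψ.op x) = H.map ψ.fiber.op (ranProjApp E ψ.base V x) := by
  obtain ⟨b, φ⟩ := ψ
  have h1 : E.left.map (Quiver.Hom.op (mkHom F ⟨i, W⟩ ⟨j, V⟩ b φ)) x =
      E.left.map ((ι F i).map φ).op (E.left.map (cartesianLift V b).op x) :=
    (congrArg (fun m => E.left.map (Quiver.Hom.op m) x)
      (hom_eq_ι_map_comp_cartesianLift F b φ)).trans (map_comp_op_apply _ _ x)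
  have h2 := NatTrans.naturality_apply E.hom φ.op (E.left.map (cartesianLift V b).op x)
  exact (congrArg (fun y => E.hom.app (op W) y) h1).trans h2

theorem ranProjApp_naturality {j : 𝒮} (f : i ⟶ j) {V V' : F.obj ⟨op j⟩} (r : V' ⟶ V)
    (x : E.left.obj (op ⟨j, V⟩)) :
    ranProjApp E f V' (E.left.map ((ι F j).map r).op x) =
      H.map ((invImage F f).map r).op (ranProjApp E f V x) := by
  have h1 := cart_nat_apply F E.left f r x
  have h2 := NatTrans.naturality_apply E.hom ((invImage F f).map r).op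
    (E.left.map (cartesianLift V f).op x)
  exact (congrArg (fun y => E.hom.app (op ((invImage F f).obj V')) y) h1.symm).trans h2

theorem ranProjApp_map {H' : (F.obj ⟨op i⟩)ᵒᵖ ⥤ Type w}
    (E' : Functor.RightExtension (ι F i).op H') (g : H ⟶ H') (θ : E.left ⟶ E'.left)
    (hθ : ∀ (W : (F.obj ⟨op i⟩)ᵒᵖ) (y : E.left.obj ((ι F i).op.obj W)),
      E'.hom.app W (θ.app ((ι F i).op.obj W) y) = g.app W (E.hom.app W y))
    {j : 𝒮} (f : i ⟶ j) (V : F.obj ⟨op j⟩) (x : E.left.obj (op ⟨j, V⟩)) :
    ranProjApp E' f V (θ.app (op ⟨j, V⟩) x) =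
      g.app (op ((invImage F f).obj V)) (ranProjApp E f V x) := by
  have h1 : θ.app _ (E.left.map (cartesianLift V f).op x) =
      E'.left.map (cartesianLift V f).op (θ.app (op ⟨j, V⟩) x) :=
    NatTrans.naturality_apply θ (cartesianLift V f).op x
  have h2 := hθ (op ((invImage F f).obj V)) (E.left.map (cartesianLift V f).op x)
  exact (congrArg (fun y => E'.hom.app (op ((invImage F f).obj V)) y) h1.symm).trans h2

/-- The projections, as natural transformations. -/
def ranProj {j : 𝒮} (f : i ⟶ j) : (ι F j).op ⋙ E.left ⟶ (invImage F f).op ⋙ H where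
  app V := ↾(ranProjApp E f V.unop)
  naturality V V' r := by
    ext x
    exact ranProjApp_naturality E f r.unop x

theorem ranSec_compat {j : 𝒮} {V : F.obj ⟨op j⟩}
    (t : ∀ f : i ⟶ j, H.obj (op ((invImage F f).obj V)))
    {W W' : F.obj ⟨op i⟩} (ψ : (ι F i).obj W ⟶ (⟨j, V⟩ : ∫ᶜ F))
    (ψ' : (ι F i).obj W' ⟶ (⟨j, V⟩ : ∫ᶜ F)) (h : W' ⟶ W) (hw : (ι F i).map h ≫ ψ = ψ') :
    H.map h.op (H.map ψ.fiber.op (t ψ.base)) = H.map ψ'.fiber.op (t ψ'.base) := by
  subst hw
  obtain ⟨b, φ⟩ := ψ
  have e : (ι F i).map h ≫ mkHom F ⟨i, W⟩ ⟨j, V⟩ b φ = mkHom F ⟨i, W'⟩ ⟨j, V⟩ b (h ≫ φ) :=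
    ι_map_comp_mkHom F b h φ
  have gen : ∀ (χ : (ι F i).obj W' ⟶ (⟨j, V⟩ : ∫ᶜ F)),
      χ = mkHom F ⟨i, W'⟩ ⟨j, V⟩ b (h ≫ φ) →
      H.map χ.fiber.op (t χ.base) = H.map (h ≫ φ).op (t b) := by
    rintro _ rfl
    rfl
  refine Eq.trans ?_ (gen _ e).symm
  rw [op_comp, Functor.map_comp_apply]
  rfl

/-- The value of a pointwise right Kan extension along a fibre inclusion at an object over `j`
is the product of the values at the inverse images. -/
theorem ranProjApp_bijective (hE : E.IsPointwiseRightKanExtension) {j : 𝒮} (V : F.obj ⟨op j⟩) :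
    Function.Bijective
      (fun (x : E.left.obj (op ⟨j, V⟩)) (f : i ⟶ j) => ranProjApp E f V x) := by
  have hlim : Nonempty (IsLimit (E.coneAt (op (⟨j, V⟩ : ∫ᶜ F)))) := ⟨hE _⟩
  rw [Types.isLimit_iff] at hlim
  rw [Function.bijective_iff_existsUnique]
  intro t
  have hsec : (fun g : StructuredArrow (op (⟨j, V⟩ : ∫ᶜ F)) (ι F i).op =>
      (H.map g.hom.unop.fiber.op (t g.hom.unop.base) : H.obj g.right)) ∈
      (StructuredArrow.proj (op (⟨j, V⟩ : ∫ᶜ F)) (ι F i).op ⋙ H).sections := by
    intro g g' m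
    exact ranSec_compat t g.hom.unop g'.hom.unop m.right.unop
      (congrArg Quiver.Hom.unop (StructuredArrow.w m))
  obtain ⟨x, hx, hux⟩ := hlim _ hsec
  refine ⟨x, ?_, ?_⟩
  · funext f
    have h1 := hx (StructuredArrow.mk (Y := op ((invImage F f).obj V)) (cartesianLift V f).op)
    have hid : ∀ z : H.obj (op ((invImage F f).obj V)),
        H.map (𝟙 ((invImage F f).obj V)).op z = z := by
      intro z
      rw [op_id]
      exact Functor.map_id_apply H _ z
    exact (show ranProjApp E f V x = H.map (𝟙 ((invImage F f).obj V)).op (t f) from h1).trans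
      (hid _)
  · intro y hy
    apply hux
    intro g
    subst hy
    exact hom_app_left_map E V g.hom.unop y

theorem ranProjApp_bijective_of_subsingleton (hE : E.IsPointwiseRightKanExtension) {j : 𝒮}
    [Subsingleton (i ⟶ j)] (f : i ⟶ j) (V : F.obj ⟨op j⟩) :
    Function.Bijective (ranProjApp E f V) := by
  have hb := ranProjApp_bijective E hE V
  constructor
  · intro x x' h
    apply hb.1
    funext g
    obtain rfl : g = f := Subsingleton.elim _ _
    exact h
  · intro z
    obtain ⟨x, hx⟩ := hb.2 (fun g =>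
      cast (congrArg (fun g => H.obj (op ((invImage F g).obj V))) (Subsingleton.elim f g)) z)
    exact ⟨x, (congrFun hx f).trans (cast_eq _ _)⟩

/-- Universal property of the projections, for presheaves. -/
theorem ranProj_lift (hE : E.IsPointwiseRightKanExtension) {j : 𝒮}
    (P : (F.obj ⟨op j⟩)ᵒᵖ ⥤ Type w) (σ : ∀ f : i ⟶ j, P ⟶ (invImage F f).op ⋙ H) :
    ∃! τ : P ⟶ (ι F j).op ⋙ E.left, ∀ f, τ ≫ ranProj E f = σ f := by
  have hinj : ∀ (V : F.obj ⟨op j⟩) (x x' : E.left.obj (op ⟨j, V⟩)),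
      (∀ f : i ⟶ j, ranProjApp E f V x = ranProjApp E f V x') → x = x' :=
    fun V x x' h => (ranProjApp_bijective E hE V).1 (funext h)
  have hsurj : ∀ (V : F.obj ⟨op j⟩) (t : ∀ f : i ⟶ j, H.obj (op ((invImage F f).obj V))),
      ∃ x : E.left.obj (op ⟨j, V⟩), ∀ f, ranProjApp E f V x = t f := by
    intro V t
    obtain ⟨x, hx⟩ := (ranProjApp_bijective E hE V).2 t
    exact ⟨x, fun f => congrFun hx f⟩
  choose lift hlift using hsurj
  have hnat : ∀ (V V' : (F.obj ⟨op j⟩)ᵒᵖ) (r : V ⟶ V') (y : P.obj V),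
      lift V'.unop (fun f => (σ f).app V' (P.map r y)) =
        E.left.map ((ι F j).map r.unop).op (lift V.unop (fun f => (σ f).app V y)) := by
    intro V V' r y
    refine hinj V'.unop _ _ (fun f => ?_)
    have l1 := hlift V'.unop (fun f => (σ f).app V' (P.map r y)) f
    have l2 : (σ f).app V' (P.map r y) =
        H.map ((invImage F f).map r.unop).op ((σ f).app V y) :=
      NatTrans.naturality_apply (σ f) r y
    have r1 := ranProjApp_naturality E f r.unop (lift V.unop (fun f => (σ f).app V y))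
    have r2 := hlift V.unop (fun f => (σ f).app V y) f
    exact (l1.trans l2).trans
      ((r1.trans (congrArg (fun z => H.map ((invImage F f).map r.unop).op z) r2)).symm)
  let τ : P ⟶ (ι F j).op ⋙ E.left :=
    { app := fun V => ↾(fun y => lift V.unop (fun f => (σ f).app V y))
      naturality := fun V V' r => ConcreteCategory.hom_ext _ _ (fun y => hnat V V' r y) }
  refine ⟨τ, fun f => ?_, fun τ' hτ' => ?_⟩
  · ext V y
    exact hlift V.unop (fun f => (σ f).app V y) f
  · ext V y
    refine hinj V.unop _ _ (fun f => ?_)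
    have h1 : ranProjApp E f V.unop (τ'.app V y) = (σ f).app V y :=
      congrArg (fun η => η.app V y) (hτ' f)
    exact h1.trans (hlift V.unop (fun f => (σ f).app V y) f).symm

theorem isIso_ranProj_of_subsingleton (hE : E.IsPointwiseRightKanExtension) {j : 𝒮}
    [Subsingleton (i ⟶ j)] (f : i ⟶ j) : IsIso (ranProj E f) := by
  haveI : ∀ V, IsIso ((ranProj E f).app V) := by
    intro V
    rw [isIso_iff_bijective]
    exact ranProjApp_bijective_of_subsingleton E hE f V.unop
  exact NatIso.isIso_of_isIso_app _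

end Ran

section SheafLevel

variable {F}
variable (J : Topologies F) (i j : 𝒮)
  [(ι F i).IsCocontinuous (J i) (totalTopology F J)]
  [∀ (P : (F.obj ⟨op i⟩)ᵒᵖ ⥤ Type w), (ι F i).op.HasPointwiseRightKanExtension P]
  [(ι F j).IsContinuous (J j) (totalTopology F J)]
  [∀ f : i ⟶ j, (invImage F f).IsContinuous (J j) (J i)]

/-- The right extension given by the right Kan extension functor. -/
noncomputable abbrev ranExt (H : (F.obj ⟨op i⟩)ᵒᵖ ⥤ Type w) :
    Functor.RightExtension (ι F i).op H :=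
  Functor.RightExtension.mk _ ((ι F i).op.ranCounit.app H)

/-- The projections of `coextend` restricted to a fibre, as natural transformations of functors
between categories of sheaves. -/
noncomputable def ranProjSheaf (f : i ⟶ j) :
    coextend F J (Type w) i ⋙ restr F J (Type w) j ⟶
      (invImage F f).sheafPushforwardContinuous (Type w) (J j) (J i) where
  app a := ObjectProperty.homMk (ranProj (ranExt i a.obj) f)
  naturality a b g := by
    apply Sheaf.hom_ext
    ext V x
    exact ranProjApp_map (ranExt i a.obj) (ranExt i b.obj) g.hom ((ι F i).op.ran.map g.hom)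
      (fun W y => congrArg (fun η => η.app W y) ((ι F i).op.ranCounit.naturality g.hom))
      f V.unop x

theorem ranProjSheaf_lift (a : Sheaf (J i) (Type w)) (P : Sheaf (J j) (Type w))
    (σ : ∀ f : i ⟶ j,
      P ⟶ ((invImage F f).sheafPushforwardContinuous (Type w) (J j) (J i)).obj a) :
    ∃! τ : P ⟶ (restr F J (Type w) j).obj ((coextend F J (Type w) i).obj a),
      ∀ f, τ ≫ (ranProjSheaf J i j f).app a = σ f := by
  obtain ⟨τ, hτ, huτ⟩ := ranProj_lift (ranExt i a.obj)
    ((ι F i).op.isPointwiseRightKanExtensionRanCounit a.obj) P.obj (fun f => (σ f).hom)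
  exact ⟨ObjectProperty.homMk τ, fun f => Sheaf.hom_ext (hτ f), fun τ' hτ' =>
    Sheaf.hom_ext (huτ τ'.hom (fun f => congrArg (fun k => k.hom) (hτ' f)))⟩

theorem isIso_ranProjSheaf [Subsingleton (i ⟶ j)] (f : i ⟶ j) :
    IsIso (ranProjSheaf.{w} J i j f) := by
  haveI : ∀ a, IsIso ((ranProjSheaf.{w} J i j f).app a) := by
    intro a
    rw [← isIso_iff_of_reflects_iso _ (sheafToPresheaf (J j) (Type w))]
    exact isIso_ranProj_of_subsingleton (ranExt i a.obj)
      ((ι F i).op.isPointwiseRightKanExtensionRanCounit a.obj) f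
  exact NatIso.isIso_of_isIso_app _

end SheafLevel

/-- The restrictions to the fibres jointly reflect preservation of finite limits. -/
theorem preservesFiniteLimits_of_restr (J : Topologies F) {C : Type*} [Category C]
    [∀ T : 𝒮, (ι F T).IsContinuous (J T) (totalTopology F J)]
    (Φ : C ⥤ Sheaf (totalTopology F J) (Type w))
    (h : ∀ T : 𝒮, PreservesFiniteLimits (Φ ⋙ restr F J (Type w) T)) :
    PreservesFiniteLimits Φ := by
  refine ⟨fun K _ _ => ⟨fun {D} => ?_⟩⟩
  have h1 : PreservesLimit D (Φ ⋙ sheafToPresheaf (totalTopology F J) (Type w)) := by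
    apply preservesLimit_of_evaluation
    intro X
    have h2 : PreservesLimit D ((Φ ⋙ restr F J (Type w) X.unop.base) ⋙
        sheafToPresheaf (J X.unop.base) (Type w) ⋙
          (evaluation _ _).obj (op X.unop.fiber)) := by
      haveI := h X.unop.base
      infer_instance
    let e : (Φ ⋙ restr F J (Type w) X.unop.base) ⋙
        sheafToPresheaf (J X.unop.base) (Type w) ⋙ (evaluation _ _).obj (op X.unop.fiber) ≅
        (Φ ⋙ sheafToPresheaf (totalTopology F J) (Type w)) ⋙ (evaluation _ _).obj X :=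
      NatIso.ofComponents (fun _ => Iso.refl _) (fun f => by
        exact (Category.comp_id _).trans (Category.id_comp _).symm)
    exact preservesLimit_of_natIso D e
  exact preservesLimit_of_reflects_of_preserves Φ (sheafToPresheaf (totalTopology F J) (Type w))

end Groth.Agent.H67
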