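import Groth.Agent.H67.FibSiteRan
import Mathlib.CategoryTheory.Sites.Localization
import Mathlib.CategoryTheory.Sites.LeftExact
import Mathlib.CategoryTheory.Limits.MonoCoprod

set_option autoImplicit false

universe u

namespace Groth.Agent.H67

open CategoryTheory CategoryTheory.Limits Opposite Pseudofunctor Pseudofunctor.CoGrothendieck FibSite
  Bicategory

/-- A product of maps which is bijective, with all sources nonempty, has bijective factors. -/
theorem bijective_component {I : Type*} {A B : I → Type*} (φ : ∀ i, A i → B i)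
    (h : Function.Bijective (fun (a : ∀ i, A i) i => φ i (a i))) (hne : ∀ i, Nonempty (A i))
    (i₀ : I) : Function.Bijective (φ i₀) := by
  classical
  let c : ∀ i, A i := fun i => (hne i).some
  constructor
  · intro a a' haa
    have h1 : Function.update c i₀ a = Function.update c i₀ a' := by
      apply h.1
      funext i
      by_cases hi : i = i₀
      · subst hi
        simpa using haa
      · simp [Function.update_of_ne hi]
    have h2 := congrFun h1 i₀
    simpa using h2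
  · intro b
    obtain ⟨a, ha⟩ := h.2 (Function.update (fun i => φ i (c i)) i₀ b)
    exact ⟨a i₀, by simpa using congrFun ha i₀⟩

variable {𝒮 : Type u} [SmallCategory 𝒮]
  (F : Pseudofunctor (LocallyDiscrete 𝒮ᵒᵖ) Cat.{u, u}) (J : Topologies F)

theorem W_lan_bijective_of_nonempty (hF : IsPreFibSite F J) (i : 𝒮)
    {R : (F.obj ⟨op i⟩)ᵒᵖ ⥤ Type u} {U : F.obj ⟨op i⟩} (u : R ⟶ yoneda.obj U)
    (hW : (totalTopology F J).W (((ι F i).op.lan (H := Type u)).map u))
    (H : Sheaf (J i) (Type u)) (hH : ∀ X, Nonempty (H.obj.obj X)) :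
    Function.Bijective (fun g : yoneda.obj U ⟶ H.obj => u ≫ g) := by
  haveI := isCocontinuous_ι F J hF i
  let P := (ι F i).op.ran.obj H.obj
  have hP : Presheaf.IsSheaf (totalTopology F J) P :=
    ran_isSheaf_of_isCocontinuous (ι F i) (totalTopology F J) H
  have h1 : Function.Bijective (fun g : yoneda.obj U ⟶ (ι F i).op ⋙ P => u ≫ g) :=
    (((ι F i).op.lanAdjunction (Type u)).map_comp_bijective_iff u P).1 (hW P hP)
  let E := ranExt i H.obj
  have hE : E.IsPointwiseRightKanExtension :=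
    (ι F i).op.isPointwiseRightKanExtensionRanCounit H.obj
  have heQ : ∀ Q : (F.obj ⟨op i⟩)ᵒᵖ ⥤ Type u, Function.Bijective
      (fun (τ : Q ⟶ (ι F i).op ⋙ P) (f : i ⟶ i) => τ ≫ ranProj E f) := by
    intro Q
    rw [Function.bijective_iff_existsUnique]
    intro σ
    obtain ⟨τ, hτ, huτ⟩ := ranProj_lift E hE Q σ
    exact ⟨τ, funext hτ, fun τ' hτ' => huτ τ' (fun f => congrFun hτ' f)⟩
  have hΨ : Function.Bijective
      (fun (σ : ∀ f : i ⟶ i, yoneda.obj U ⟶ (invImage F f).op ⋙ H.obj) (f : i ⟶ i) =>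
        u ≫ σ f) := by
    have hsq : (fun (σ : ∀ f : i ⟶ i, yoneda.obj U ⟶ (invImage F f).op ⋙ H.obj)
          (f : i ⟶ i) => u ≫ σ f) ∘
        (fun (τ : yoneda.obj U ⟶ (ι F i).op ⋙ P) (f : i ⟶ i) => τ ≫ ranProj E f) =
        (fun (τ : R ⟶ (ι F i).op ⋙ P) (f : i ⟶ i) => τ ≫ ranProj E f) ∘
          (fun g : yoneda.obj U ⟶ (ι F i).op ⋙ P => u ≫ g) :=
      funext fun τ => funext fun f => (Category.assoc _ _ _).symm
    refine (Function.Bijective.of_comp_iff _ (heQ (yoneda.obj U))).1 ?_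
    rw [hsq]
    exact (heQ R).comp h1
  have hone := bijective_component
    (fun (f : i ⟶ i) (σ : yoneda.obj U ⟶ (invImage F f).op ⋙ H.obj) => u ≫ σ) hΨ
    (fun f => ⟨yonedaEquiv.symm (hH (op ((invImage F f).obj U))).some⟩) (𝟙 i)
  let e := Cat.Hom.toNatIso (F.mapId ⟨op i⟩)
  let θ' := Functor.isoWhiskerRight (NatIso.op e) H.obj
  let θ'' : (Cat.Hom.toFunctor (𝟙 (F.obj ⟨op i⟩))).op ⋙ H.obj ≅ H.obj :=
    NatIso.ofComponents (fun X => Iso.refl _)
      (fun f => (Category.comp_id _).trans (Category.id_comp _).symm)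
  let θ : (invImage F (𝟙 i)).op ⋙ H.obj ≅ H.obj := θ'.symm ≪≫ θ''
  have hfac : (fun g : yoneda.obj U ⟶ H.obj => u ≫ g) =
      (fun σ : R ⟶ (invImage F (𝟙 i)).op ⋙ H.obj => σ ≫ θ.hom) ∘
        (fun σ : yoneda.obj U ⟶ (invImage F (𝟙 i)).op ⋙ H.obj => u ≫ σ) ∘
          (fun g : yoneda.obj U ⟶ H.obj => g ≫ θ.inv) := by
    funext g
    simp
  rw [hfac]
  exact (θ.homToEquiv.bijective.comp hone).comp θ.symm.homToEquiv.bijective

theorem W_of_W_lan (hF : IsPreFibSite F J) (i : 𝒮)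
    {R : (F.obj ⟨op i⟩)ᵒᵖ ⥤ Type u} {U : F.obj ⟨op i⟩} (u : R ⟶ yoneda.obj U)
    (hW : (totalTopology F J).W (((ι F i).op.lan (H := Type u)).map u)) : (J i).W u := by
  rw [GrothendieckTopology.W_iff]
  let T : Sheaf (J i) (Type u) := Sheaf.terminal (J i) Types.isTerminalPUnit
  have hpt : ∀ (Z : Sheaf (J i) (Type u)) X, Nonempty ((Z ⨿ T).obj.obj X) := fun Z X =>
    ⟨(coprod.inr : T ⟶ Z ⨿ T).hom.app X PUnit.unit⟩
  have hbij : ∀ Z : Sheaf (J i) (Type u), Function.Bijective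
      (fun g : (presheafToSheaf (J i) (Type u)).obj (yoneda.obj U) ⟶ Z ⨿ T =>
        (presheafToSheaf (J i) (Type u)).map u ≫ g) :=
    fun Z => ((sheafificationAdjunction (J i) (Type u)).map_comp_bijective_iff u (Z ⨿ T)).2
      (W_lan_bijective_of_nonempty F J hF i u hW (Z ⨿ T) (hpt Z))
  haveI : Epi ((presheafToSheaf (J i) (Type u)).map u) := ⟨fun {Z} k₁ k₂ h => by
    have h2 : k₁ ≫ (coprod.inl : Z ⟶ Z ⨿ T) = k₂ ≫ coprod.inl := (hbij Z).1 (by
      show _ ≫ (k₁ ≫ coprod.inl) = _ ≫ (k₂ ≫ coprod.inl)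
      rw [← Category.assoc, ← Category.assoc, h])
    exact (cancel_mono (coprod.inl : Z ⟶ Z ⨿ T)).1 h2⟩
  haveI : Mono ((presheafToSheaf (J i) (Type u)).map u) := by
    obtain ⟨g, hg⟩ := (hbij ((presheafToSheaf (J i) (Type u)).obj R)).2 coprod.inl
    exact mono_of_mono_fac hg
  exact isIso_of_mono_of_epi _

end Groth.Agent.H67
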