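import Mathlib

/-!
# Helper library (helper67): filtered colimits of abelian sheaves are computed objectwise as soon
as filtered colimits of sheaves of sets are
-/

set_option autoImplicit false
universe u

open CategoryTheory CategoryTheory.Limits Opposite

namespace Groth.Agent.H67.FiltColAb

variable {C : Type u} [SmallCategory C] (J : GrothendieckTopology C) {I : Type u} [SmallCategory I]
  [IsFiltered I]

lemma isSheaf_colimit [PreservesColimitsOfShape I (sheafToPresheaf J (Type u))]
    (D : I ⥤ Sheaf J AddCommGrpCat.{u}) :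
    Presheaf.IsSheaf J (colimit (D ⋙ sheafToPresheaf J AddCommGrpCat.{u})) := by
  rw [Presheaf.isSheaf_iff_isSheaf_forget J _ (forget AddCommGrpCat.{u})]
  let Q : Sheaf J (Type u) := colimit (D ⋙ sheafCompose J (forget AddCommGrpCat.{u}))
  let e1 : (sheafToPresheaf J (Type u)).obj Q ≅
      colimit ((D ⋙ sheafCompose J (forget AddCommGrpCat.{u})) ⋙ sheafToPresheaf J (Type u)) :=
    preservesColimitIso (sheafToPresheaf J (Type u)) _
  let W := (Functor.whiskeringRight Cᵒᵖ AddCommGrpCat.{u} (Type u)).obj (forget AddCommGrpCat.{u})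
  let e2 : W.obj (colimit (D ⋙ sheafToPresheaf J AddCommGrpCat.{u})) ≅
      colimit ((D ⋙ sheafToPresheaf J AddCommGrpCat.{u}) ⋙ W) :=
    preservesColimitIso W _
  have e : colimit (D ⋙ sheafToPresheaf J AddCommGrpCat.{u}) ⋙ forget AddCommGrpCat.{u} ≅ Q.obj :=
    e2 ≪≫ (show colimit ((D ⋙ sheafToPresheaf J AddCommGrpCat.{u}) ⋙ W) ≅ Q.obj from e1.symm)
  exact (Presheaf.isSheaf_of_iso_iff e).2 Q.property

/-- the objectwise colimit, as a cocone of sheaves -/
noncomputable def colimCocone [PreservesColimitsOfShape I (sheafToPresheaf J (Type u))]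
    (D : I ⥤ Sheaf J AddCommGrpCat.{u}) : Cocone D where
  pt := ⟨colimit (D ⋙ sheafToPresheaf J AddCommGrpCat.{u}), isSheaf_colimit J D⟩
  ι :=
    { app := fun i => ObjectProperty.homMk (colimit.ι (D ⋙ sheafToPresheaf J AddCommGrpCat.{u}) i)
      naturality := fun i j f => by
        apply Sheaf.hom_ext
        have := colimit.w (D ⋙ sheafToPresheaf J AddCommGrpCat.{u}) f
        simpa using this }

noncomputable def isColimitColimCocone [PreservesColimitsOfShape I (sheafToPresheaf J (Type u))]
    (D : I ⥤ Sheaf J AddCommGrpCat.{u}) : IsColimit (colimCocone J D) :=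
  isColimitOfReflects (sheafToPresheaf J AddCommGrpCat.{u})
    (IsColimit.ofIsoColimit (colimit.isColimit (D ⋙ sheafToPresheaf J AddCommGrpCat.{u}))
      (Cocone.ext (Iso.refl _) (fun i => by simp [colimCocone])))

/-- the underlying presheaf of the colimit sheaf is the objectwise colimit -/
noncomputable def colimitObjIso [PreservesColimitsOfShape I (sheafToPresheaf J (Type u))]
    (D : I ⥤ Sheaf J AddCommGrpCat.{u}) :
    (colimit D).obj ≅ colimit (D ⋙ sheafToPresheaf J AddCommGrpCat.{u}) :=
  (sheafToPresheaf J AddCommGrpCat.{u}).mapIso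
    (colimit.isoColimitCocone ⟨colimCocone J D, isColimitColimCocone J D⟩)

/-- restriction maps of the objectwise colimit of presheaves with epi restriction maps are epi -/
lemma epi_colimit_map (P : I ⥤ (Cᵒᵖ ⥤ AddCommGrpCat.{u})) {U V : Cᵒᵖ} (i : U ⟶ V)
    (h : ∀ k, Epi ((P.obj k).map i)) : Epi ((colimit P).map i) := by
  constructor
  intro Z g g' hgg'
  apply colimit_obj_ext
  intro k
  haveI := h k
  rw [← cancel_epi ((P.obj k).map i)]
  have nat : (P.obj k).map i ≫ (colimit.ι P k).app V = (colimit.ι P k).app U ≫ (colimit P).map i :=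
    (colimit.ι P k).naturality i
  rw [← Category.assoc, ← Category.assoc, nat, Category.assoc, Category.assoc, hgg']

end Groth.Agent.H67.FiltColAb
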