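import Groth.Prelude.Def_W4c1hilbpnTgt
import Mathlib.LinearAlgebra.Dimension.Finite
import Mathlib.LinearAlgebra.Dimension.Finrank
import Mathlib.RingTheory.Finiteness.Defs
import Mathlib.Algebra.MvPolynomial.Rename
import Mathlib.SetTheory.Cardinal.Finite

set_option autoImplicit false

namespace Groth.Agent.H67

open MvPolynomial W4c1hilbpn

section General

variable {σ : Type*} {k : Type*} [Field k]

theorem mem_exps_iff (I : Ideal (MvPolynomial σ k)) (β : σ →₀ ℕ) :
    β ∈ exps I ↔ monomial β (1 : k) ∈ I := Iff.rfl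

theorem exps_add {I : Ideal (MvPolynomial σ k)} {β : σ →₀ ℕ} (hβ : β ∈ exps I) (γ : σ →₀ ℕ) :
    β + γ ∈ exps I := by
  change monomial (β + γ) (1 : k) ∈ I
  have : monomial (β + γ) (1 : k) = monomial β 1 * monomial γ 1 := by
    rw [monomial_mul, one_mul]
  rw [this]
  exact I.mul_mem_right _ hβ

theorem monomial_mem_of_mem_exps {I : Ideal (MvPolynomial σ k)} {β : σ →₀ ℕ} (hβ : β ∈ exps I)
    (c : k) : monomial β c ∈ I := by
  have : monomial β c = C c * monomial β (1 : k) := by
    rw [C_mul_monomial, mul_one]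
  rw [this]
  exact I.mul_mem_left _ hβ

theorem mem_of_support_subset_exps {I : Ideal (MvPolynomial σ k)} (p : MvPolynomial σ k)
    (h : ∀ β ∈ p.support, β ∈ exps I) : p ∈ I := by
  rw [← support_sum_monomial_coeff p]
  exact I.sum_mem (fun β hβ => monomial_mem_of_mem_exps (h β hβ) _)

/-- The monomials outside a monomial ideal are linearly independent modulo the ideal. -/
theorem linearIndependent_compl_exps (I : Ideal (MvPolynomial σ k)) (hI : IsMonomial I) :
    LinearIndependent k (fun β : ((exps I)ᶜ : Set (σ →₀ ℕ)) =>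
      (Ideal.Quotient.mk I (monomial β.1 (1 : k)))) := by
  classical
  rw [linearIndependent_iff']
  intro s g hg β₀ hβ₀
  by_contra hne
  have hp : (∑ β ∈ s, monomial β.1 (g β) : MvPolynomial σ k) ∈ I := by
    rw [← Ideal.Quotient.eq_zero_iff_mem, map_sum, ← hg]
    refine Finset.sum_congr rfl (fun β _ => ?_)
    have : monomial β.1 (g β) = g β • monomial β.1 (1 : k) := by
      rw [smul_monomial, smul_eq_mul, mul_one]
    rw [this]
    exact map_smul (Ideal.Quotient.mkₐ k I) _ _
  have hcoeff : coeff β₀.1 (∑ β ∈ s, monomial β.1 (g β)) = g β₀ := by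
    rw [coeff_sum, Finset.sum_eq_single β₀]
    · rw [coeff_monomial, if_pos rfl]
    · intro b _ hb
      rw [coeff_monomial, if_neg]
      exact fun h => hb (Subtype.ext h)
    · intro h
      exact absurd hβ₀ h
  have hmem : β₀.1 ∈ (∑ β ∈ s, monomial β.1 (g β) : MvPolynomial σ k).support := by
    rw [mem_support_iff, hcoeff]
    exact hne
  exact β₀.2 (hI _ hp _ hmem)

theorem exps_compl_finite (I : Ideal (MvPolynomial σ k)) (hI : IsMonomial I)
    [Module.Finite k (MvPolynomial σ k ⧸ I)] : ((exps I)ᶜ : Set (σ →₀ ℕ)).Finite := by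
  have := (linearIndependent_compl_exps I hI).finite
  exact Set.toFinite _

end General

section Three

variable {k : Type*} [Field k]

theorem e3_apply_zero (a b c : ℕ) : e3 a b c 0 = a := rfl
theorem e3_apply_one (a b c : ℕ) : e3 a b c 1 = b := rfl
theorem e3_apply_two (a b c : ℕ) : e3 a b c 2 = c := rfl

theorem e3_injective_right (a b : ℕ) : Function.Injective (fun c => e3 a b c) := by
  intro c c' h
  have := congrArg (fun f : Fin 3 →₀ ℕ => f 2) h
  exact this

theorem e3_injective_mid (a c : ℕ) : Function.Injective (fun b => e3 a b c) := by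
  intro b b' h
  have := congrArg (fun f : Fin 3 →₀ ℕ => f 1) h
  exact this

theorem e3_ext (β : Fin 3 →₀ ℕ) (a b c : ℕ) (h0 : β 0 = a) (h1 : β 1 = b) (h2 : β 2 = c) :
    β = e3 a b c := by
  ext i
  fin_cases i
  · exact h0
  · exact h1
  · exact h2

/-- Moving one unit from `y` to `x`. -/
theorem e3_move_yx (a b c : ℕ) :
    e3 a (b + 1) c - Finsupp.single 1 1 + Finsupp.single 0 1 = e3 (a + 1) b c := by
  apply e3_ext
  · simp [e3_apply_zero]
  · simp [e3_apply_one]
  · simp [e3_apply_two]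

/-- Moving one unit from `z` to `x`. -/
theorem e3_move_zx (a b c : ℕ) :
    e3 a b (c + 1) - Finsupp.single 2 1 + Finsupp.single 0 1 = e3 (a + 1) b c := by
  apply e3_ext
  · simp [e3_apply_zero]
  · simp [e3_apply_one]
  · simp [e3_apply_two]

/-- Moving one unit from `z` to `y`. -/
theorem e3_move_zy (a b c : ℕ) :
    e3 a b (c + 1) - Finsupp.single 2 1 + Finsupp.single 1 1 = e3 a (b + 1) c := by
  apply e3_ext
  · simp [e3_apply_zero]
  · simp [e3_apply_one]
  · simp [e3_apply_two]

theorem stable_yx {I : Ideal (MvPolynomial (Fin 3) k)} (hI : IsStronglyStable I) {a b c : ℕ}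
    (h : e3 a (b + 1) c ∈ exps I) : e3 (a + 1) b c ∈ exps I := by
  have := hI.2 _ h 0 1 (by decide) (by rw [e3_apply_one]; exact Nat.succ_pos b)
  rwa [e3_move_yx] at this

theorem stable_zx {I : Ideal (MvPolynomial (Fin 3) k)} (hI : IsStronglyStable I) {a b c : ℕ}
    (h : e3 a b (c + 1) ∈ exps I) : e3 (a + 1) b c ∈ exps I := by
  have := hI.2 _ h 0 2 (by decide) (by rw [e3_apply_two]; exact Nat.succ_pos c)
  rwa [e3_move_zx] at this

theorem stable_zy {I : Ideal (MvPolynomial (Fin 3) k)} (hI : IsStronglyStable I) {a b c : ℕ}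
    (h : e3 a b (c + 1) ∈ exps I) : e3 a (b + 1) c ∈ exps I := by
  have := hI.2 _ h 1 2 (by decide) (by rw [e3_apply_two]; exact Nat.succ_pos c)
  rwa [e3_move_zy] at this

theorem stairZ_set_finite (I : Ideal (MvPolynomial (Fin 3) k)) (hI : IsMonomial I)
    [Module.Finite k (MvPolynomial (Fin 3) k ⧸ I)] (a b : ℕ) :
    {c : ℕ | e3 a b c ∉ exps I}.Finite :=
  (exps_compl_finite I hI).preimage ((e3_injective_right a b).injOn)

theorem stairY_set_finite (I : Ideal (MvPolynomial (Fin 3) k)) (hI : IsMonomial I)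
    [Module.Finite k (MvPolynomial (Fin 3) k ⧸ I)] (a c : ℕ) :
    {b : ℕ | e3 a b c ∉ exps I}.Finite :=
  (exps_compl_finite I hI).preimage ((e3_injective_mid a c).injOn)

/-- The embedding of exponents of `k[y,z]` into exponents of `k[x,y,z]` with `x`-exponent `a`. -/
theorem mapDomain_succ_add (β : Fin 2 →₀ ℕ) (a : ℕ) :
    Finsupp.mapDomain Fin.succ β + Finsupp.single 0 a = e3 a (β 0) (β 1) := by
  apply e3_ext
  · have : (Finsupp.mapDomain Fin.succ β) (0 : Fin 3) = 0 :=
      Finsupp.mapDomain_of_notMem_range _ _ (by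
        rintro ⟨i, hi⟩
        exact Fin.succ_ne_zero i hi)
    rw [Finsupp.add_apply, this, Finsupp.single_eq_same, zero_add]
  · have : (Finsupp.mapDomain Fin.succ β) (Fin.succ 0 : Fin 3) = β 0 :=
      Finsupp.mapDomain_apply (Fin.succ_injective _) _ _
    change (Finsupp.mapDomain Fin.succ β) (Fin.succ 0 : Fin 3) + (Finsupp.single (0 : Fin 3) a) 1 = _
    rw [this, Finsupp.single_eq_of_ne (by decide), add_zero]
  · have : (Finsupp.mapDomain Fin.succ β) (Fin.succ 1 : Fin 3) = β 1 :=
      Finsupp.mapDomain_apply (Fin.succ_injective _) _ _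
    change (Finsupp.mapDomain Fin.succ β) (Fin.succ 1 : Fin 3) + (Finsupp.single (0 : Fin 3) a) 2 = _
    rw [this, Finsupp.single_eq_of_ne (by decide), add_zero]

theorem mem_sliceX_iff (I : Ideal (MvPolynomial (Fin 3) k)) (a : ℕ) (f : MvPolynomial (Fin 2) k) :
    f ∈ sliceX I a ↔ rename Fin.succ f * X 0 ^ a ∈ I := by
  unfold sliceX
  rw [Ideal.mem_comap, Submodule.mem_colon_singleton]
  rfl

theorem mem_exps_sliceX (I : Ideal (MvPolynomial (Fin 3) k)) (a : ℕ) (β : Fin 2 →₀ ℕ) :
    β ∈ exps (sliceX I a) ↔ e3 a (β 0) (β 1) ∈ exps I := by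
  rw [mem_exps_iff, mem_sliceX_iff, mem_exps_iff, rename_monomial, X_pow_eq_monomial, monomial_mul,
    one_mul, mapDomain_succ_add]

theorem sliceX_isMonomial (I : Ideal (MvPolynomial (Fin 3) k)) (hI : IsMonomial I) (a : ℕ) :
    IsMonomial (sliceX I a) := by
  intro p hp β hβ
  rw [mem_sliceX_iff] at hp
  change β ∈ exps (sliceX I a)
  rw [mem_exps_sliceX, ← mapDomain_succ_add]
  apply hI _ hp
  rw [mem_support_iff, X_pow_eq_monomial, coeff_mul_monomial, mul_one,
    coeff_rename_mapDomain _ (Fin.succ_injective _)]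
  exact mem_support_iff.1 hβ

end Three

end Groth.Agent.H67
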