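import Mathlib
import Groth.Prelude.Def_LocCohZ

/-!
# Helper library (helper67): Mayer–Vietoris for cohomology with supports `LocCohZ.HZc`

* `quot_shortExact`: in an abelian category, the quotients of an object `M` by four subobjects
  forming a Mayer–Vietoris short exact sequence form a short exact sequence.
* `mv_inj`, `mv_exact₁`, `mv_exact₂`, `mv_exact₃`: the long exact `Ext(-, F)` sequence of a short
  exact sequence of the shape `Q₁ ⟶ Q₂ ⊞ Q₃ ⟶ Q₄`, unpacked into components.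
* `main`: the Mayer–Vietoris sequence for `LocCohZ.HZc`.
-/

set_option autoImplicit false
universe w v₁ u₁ u

open CategoryTheory CategoryTheory.Limits Opposite TopologicalSpace

namespace Groth.Agent.H67.LocMV

section General

variable {𝒜 : Type u₁} [Category.{v₁} 𝒜] [Abelian 𝒜]

lemma comp_desc_eq {T P Q R : 𝒜} (v : T ⟶ P ⊞ Q) (p : P ⟶ R) (q : Q ⟶ R) :
    v ≫ biprod.desc p q = (v ≫ biprod.fst) ≫ p + (v ≫ biprod.snd) ≫ q := by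
  rw [biprod.desc_eq, Preadditive.comp_add]
  simp only [Category.assoc]

lemma zQ_of {M Q₁ Q₂ Q₃ Q₄ : 𝒜} (π₁ : M ⟶ Q₁) [Epi π₁] (π₂ : M ⟶ Q₂) (π₃ : M ⟶ Q₃)
    (π₄ : M ⟶ Q₄) (a : Q₁ ⟶ Q₂) (b : Q₁ ⟶ Q₃) (c : Q₂ ⟶ Q₄) (c' : Q₃ ⟶ Q₄)
    (ha : π₁ ≫ a = π₂) (hb : π₁ ≫ b = π₃) (hc : π₂ ≫ c = π₄) (hc' : π₃ ≫ c' = π₄) :
    biprod.lift a (-b) ≫ biprod.desc c c' = 0 := by
  rw [biprod.lift_desc, Preadditive.neg_comp, ← sub_eq_add_neg, sub_eq_zero, ← cancel_epi π₁,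
    ← Category.assoc, ← Category.assoc, ha, hb, hc, hc']

theorem quot_shortExact {M A₁ A₂ A₃ A₄ Q₁ Q₂ Q₃ Q₄ : 𝒜}
    (j₁ : A₁ ⟶ M) (j₂ : A₂ ⟶ M) (j₃ : A₃ ⟶ M) (j₄ : A₄ ⟶ M)
    (π₁ : M ⟶ Q₁) (π₂ : M ⟶ Q₂) (π₃ : M ⟶ Q₃) (π₄ : M ⟶ Q₄)
    (w₁ : j₁ ≫ π₁ = 0) (w₂ : j₂ ≫ π₂ = 0) (w₃ : j₃ ≫ π₃ = 0) (w₄ : j₄ ≫ π₄ = 0)
    (e₂ : (ShortComplex.mk j₂ π₂ w₂).Exact) (e₃ : (ShortComplex.mk j₃ π₃ w₃).Exact)
    (e₄ : (ShortComplex.mk j₄ π₄ w₄).Exact)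
    [Epi π₁] [Epi π₂] [Epi π₃] [Epi π₄] [Mono j₄]
    (f12 : A₁ ⟶ A₂) (f13 : A₁ ⟶ A₃) (f24 : A₂ ⟶ A₄) (f34 : A₃ ⟶ A₄)
    (h12 : f12 ≫ j₂ = j₁) (h24 : f24 ≫ j₄ = j₂) (h34 : f34 ≫ j₄ = j₃)
    (zA : biprod.lift f12 (-f13) ≫ biprod.desc f24 f34 = 0)
    (hA : (ShortComplex.mk (biprod.lift f12 (-f13)) (biprod.desc f24 f34) zA).ShortExact)
    (a : Q₁ ⟶ Q₂) (b : Q₁ ⟶ Q₃) (c : Q₂ ⟶ Q₄) (c' : Q₃ ⟶ Q₄)
    (ha : π₁ ≫ a = π₂) (hb : π₁ ≫ b = π₃) (hc : π₂ ≫ c = π₄) (hc' : π₃ ≫ c' = π₄)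
    (zQ : biprod.lift a (-b) ≫ biprod.desc c c' = 0) :
    (ShortComplex.mk (biprod.lift a (-b)) (biprod.desc c c') zQ).ShortExact := by
  -- the Mayer–Vietoris sequence, unpacked
  have hAf1 : ∀ {T : 𝒜} (u₂ : T ⟶ A₂) (u₃ : T ⟶ A₃), u₂ ≫ f24 = u₃ ≫ f34 →
      ∃ (T' : 𝒜) (ρ : T' ⟶ T) (_ : Epi ρ) (u₁ : T' ⟶ A₁), ρ ≫ u₂ = u₁ ≫ f12 := by
    intro T u₂ u₃ h
    have hz : biprod.lift u₂ (-u₃) ≫ biprod.desc f24 f34 = 0 := by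
      rw [biprod.lift_desc, Preadditive.neg_comp, h]
      exact add_neg_cancel _
    obtain ⟨T', ρ, hρ, u₁, fac⟩ := hA.exact.exact_up_to_refinements (biprod.lift u₂ (-u₃)) hz
    have fac' : ρ ≫ biprod.lift u₂ (-u₃) = u₁ ≫ biprod.lift f12 (-f13) := fac
    refine ⟨T', ρ, hρ, u₁, ?_⟩
    have h1 := congrArg (fun k => k ≫ biprod.fst) fac'
    simp only [Category.assoc, biprod.lift_fst] at h1
    exact h1
  have hmono : Mono (biprod.lift a (-b)) := by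
    refine Preadditive.mono_of_cancel_zero _ (fun {T} x hx => ?_)
    have hxa : x ≫ a = 0 := by
      have h1 := congrArg (fun k => k ≫ biprod.fst) hx
      simp only [Category.assoc, biprod.lift_fst, zero_comp] at h1
      exact h1
    have hxb : x ≫ b = 0 := by
      have h1 := congrArg (fun k => k ≫ biprod.snd) hx
      simp only [Category.assoc, biprod.lift_snd, zero_comp, Preadditive.comp_neg,
        neg_eq_zero] at h1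
      exact h1
    obtain ⟨T₁, ρ₁, hρ₁, m, hm⟩ := surjective_up_to_refinements_of_epi π₁ x
    have hm2 : m ≫ π₂ = 0 := by
      rw [← ha, ← Category.assoc, ← hm, Category.assoc, hxa, comp_zero]
    have hm3 : m ≫ π₃ = 0 := by
      rw [← hb, ← Category.assoc, ← hm, Category.assoc, hxb, comp_zero]
    obtain ⟨T₂, ρ₂, hρ₂, u₂, hu₂⟩ := e₂.exact_up_to_refinements m hm2
    have hu₂' : ρ₂ ≫ m = u₂ ≫ j₂ := hu₂
    obtain ⟨T₃, ρ₃, hρ₃, u₃, hu₃⟩ := e₃.exact_up_to_refinements (ρ₂ ≫ m)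
      (by rw [Category.assoc]; exact (congrArg (fun k => ρ₂ ≫ k) hm3).trans comp_zero)
    have hu₃' : ρ₃ ≫ ρ₂ ≫ m = u₃ ≫ j₃ := hu₃
    have h4 : (ρ₃ ≫ u₂) ≫ f24 = u₃ ≫ f34 := by
      rw [← cancel_mono j₄]
      simp only [Category.assoc, h24, h34]
      rw [← hu₂', hu₃']
    obtain ⟨T₄, ρ₄, hρ₄, u₁, hu12⟩ := hAf1 (ρ₃ ≫ u₂) u₃ h4
    have k1 : (ρ₄ ≫ ρ₃ ≫ ρ₂) ≫ m = u₁ ≫ j₁ := by
      calc (ρ₄ ≫ ρ₃ ≫ ρ₂) ≫ m = ρ₄ ≫ ρ₃ ≫ (ρ₂ ≫ m) := by simp only [Category.assoc]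
        _ = ρ₄ ≫ ρ₃ ≫ (u₂ ≫ j₂) := by rw [hu₂']
        _ = (ρ₄ ≫ (ρ₃ ≫ u₂)) ≫ j₂ := by simp only [Category.assoc]
        _ = (u₁ ≫ f12) ≫ j₂ := by rw [hu12]
        _ = u₁ ≫ j₁ := by rw [Category.assoc, h12]
    have k2 : ((ρ₄ ≫ ρ₃ ≫ ρ₂) ≫ ρ₁) ≫ x = 0 := by
      calc ((ρ₄ ≫ ρ₃ ≫ ρ₂) ≫ ρ₁) ≫ x = (ρ₄ ≫ ρ₃ ≫ ρ₂) ≫ (ρ₁ ≫ x) := by
            simp only [Category.assoc]
        _ = (ρ₄ ≫ ρ₃ ≫ ρ₂) ≫ (m ≫ π₁) := by rw [hm]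
        _ = ((ρ₄ ≫ ρ₃ ≫ ρ₂) ≫ m) ≫ π₁ := by simp only [Category.assoc]
        _ = (u₁ ≫ j₁) ≫ π₁ := by rw [k1]
        _ = 0 := by rw [Category.assoc, w₁, comp_zero]
    haveI : Epi ((ρ₄ ≫ ρ₃ ≫ ρ₂) ≫ ρ₁) := inferInstance
    exact (cancel_epi ((ρ₄ ≫ ρ₃ ≫ ρ₂) ≫ ρ₁)).1 (k2.trans comp_zero.symm)
  have hepic : Epi c := epi_of_epi_fac hc
  have hepi : Epi (biprod.desc c c') := epi_of_epi_fac (biprod.inl_desc c c')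
  have hexact : (ShortComplex.mk (biprod.lift a (-b)) (biprod.desc c c') zQ).Exact := by
    rw [ShortComplex.exact_iff_exact_up_to_refinements]
    intro T z hz
    have hz0 : z ≫ biprod.desc c c' = 0 := hz
    have hz' : (z ≫ biprod.fst) ≫ c + (z ≫ biprod.snd) ≫ c' = 0 := by
      rw [← comp_desc_eq]
      exact hz0
    obtain ⟨T₁, ρ₁, hρ₁, m, hm⟩ := surjective_up_to_refinements_of_epi π₂ (z ≫ biprod.fst)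
    obtain ⟨T₂, ρ₂, hρ₂, m', hm'⟩ :=
      surjective_up_to_refinements_of_epi π₃ (ρ₁ ≫ z ≫ biprod.snd)
    have h4 : (ρ₂ ≫ m + m') ≫ π₄ = 0 := by
      have t1 : (ρ₂ ≫ m) ≫ π₄ = (ρ₂ ≫ ρ₁) ≫ (z ≫ biprod.fst) ≫ c := by
        calc (ρ₂ ≫ m) ≫ π₄ = ρ₂ ≫ (m ≫ π₂) ≫ c := by
              rw [← hc]
              simp only [Category.assoc]
          _ = ρ₂ ≫ (ρ₁ ≫ z ≫ biprod.fst) ≫ c := by rw [hm]
          _ = (ρ₂ ≫ ρ₁) ≫ (z ≫ biprod.fst) ≫ c := by simp only [Category.assoc]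
      have t2 : m' ≫ π₄ = (ρ₂ ≫ ρ₁) ≫ (z ≫ biprod.snd) ≫ c' := by
        calc m' ≫ π₄ = (m' ≫ π₃) ≫ c' := by
              rw [← hc']
              simp only [Category.assoc]
          _ = (ρ₂ ≫ ρ₁ ≫ z ≫ biprod.snd) ≫ c' := by rw [hm']
          _ = (ρ₂ ≫ ρ₁) ≫ (z ≫ biprod.snd) ≫ c' := by simp only [Category.assoc]
      rw [Preadditive.add_comp, t1, t2, ← Preadditive.comp_add, hz', comp_zero]
    obtain ⟨T₃, ρ₃, hρ₃, u₄, hu₄⟩ := e₄.exact_up_to_refinements (ρ₂ ≫ m + m') h4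
    have hu₄' : ρ₃ ≫ (ρ₂ ≫ m + m') = u₄ ≫ j₄ := hu₄
    have hepiA : Epi (biprod.desc f24 f34) := hA.epi_g
    obtain ⟨T₄, ρ₄, hρ₄, v, hv⟩ :=
      surjective_up_to_refinements_of_epi (biprod.desc f24 f34) u₄
    have key : ρ₄ ≫ ρ₃ ≫ ρ₂ ≫ m + ρ₄ ≫ ρ₃ ≫ m' =
        (v ≫ biprod.fst) ≫ j₂ + (v ≫ biprod.snd) ≫ j₃ := by
      calc ρ₄ ≫ ρ₃ ≫ ρ₂ ≫ m + ρ₄ ≫ ρ₃ ≫ m' = ρ₄ ≫ ρ₃ ≫ (ρ₂ ≫ m + m') := by
            simp only [Preadditive.comp_add]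
        _ = ρ₄ ≫ (u₄ ≫ j₄) := by rw [hu₄']
        _ = (ρ₄ ≫ u₄) ≫ j₄ := by rw [Category.assoc]
        _ = ((v ≫ biprod.fst) ≫ f24 + (v ≫ biprod.snd) ≫ f34) ≫ j₄ := by
            rw [hv, comp_desc_eq]
        _ = (v ≫ biprod.fst) ≫ j₂ + (v ≫ biprod.snd) ≫ j₃ := by
            simp only [Preadditive.add_comp, Category.assoc, h24, h34]
    obtain ⟨n, hn1, hn2⟩ : ∃ n : T₄ ⟶ M, n = ρ₄ ≫ ρ₃ ≫ ρ₂ ≫ m - (v ≫ biprod.fst) ≫ j₂ ∧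
        n = (v ≫ biprod.snd) ≫ j₃ - ρ₄ ≫ ρ₃ ≫ m' := by
      refine ⟨_, rfl, ?_⟩
      rw [sub_eq_sub_iff_add_eq_add]
      exact key.trans (add_comm _ _)
    have hnπ₂ : n ≫ π₂ = (ρ₄ ≫ ρ₃ ≫ ρ₂ ≫ ρ₁) ≫ z ≫ biprod.fst := by
      have t1 : ((v ≫ biprod.fst) ≫ j₂) ≫ π₂ = 0 := by rw [Category.assoc, w₂, comp_zero]
      have t2 : (ρ₄ ≫ ρ₃ ≫ ρ₂ ≫ m) ≫ π₂ = (ρ₄ ≫ ρ₃ ≫ ρ₂ ≫ ρ₁) ≫ z ≫ biprod.fst := by
        calc (ρ₄ ≫ ρ₃ ≫ ρ₂ ≫ m) ≫ π₂ = ρ₄ ≫ ρ₃ ≫ ρ₂ ≫ (m ≫ π₂) := by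
              simp only [Category.assoc]
          _ = ρ₄ ≫ ρ₃ ≫ ρ₂ ≫ (ρ₁ ≫ z ≫ biprod.fst) := by rw [hm]
          _ = (ρ₄ ≫ ρ₃ ≫ ρ₂ ≫ ρ₁) ≫ z ≫ biprod.fst := by simp only [Category.assoc]
      rw [hn1, Preadditive.sub_comp, t1, t2, sub_zero]
    have hnπ₃ : n ≫ π₃ = -((ρ₄ ≫ ρ₃ ≫ ρ₂ ≫ ρ₁) ≫ z ≫ biprod.snd) := by
      have t1 : ((v ≫ biprod.snd) ≫ j₃) ≫ π₃ = 0 := by rw [Category.assoc, w₃, comp_zero]
      have t2 : (ρ₄ ≫ ρ₃ ≫ m') ≫ π₃ = (ρ₄ ≫ ρ₃ ≫ ρ₂ ≫ ρ₁) ≫ z ≫ biprod.snd := by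
        calc (ρ₄ ≫ ρ₃ ≫ m') ≫ π₃ = ρ₄ ≫ ρ₃ ≫ (m' ≫ π₃) := by simp only [Category.assoc]
          _ = ρ₄ ≫ ρ₃ ≫ (ρ₂ ≫ ρ₁ ≫ z ≫ biprod.snd) := by rw [hm']
          _ = (ρ₄ ≫ ρ₃ ≫ ρ₂ ≫ ρ₁) ≫ z ≫ biprod.snd := by simp only [Category.assoc]
      rw [hn2, Preadditive.sub_comp, t1, t2, zero_sub]
    refine ⟨T₄, ρ₄ ≫ ρ₃ ≫ ρ₂ ≫ ρ₁, inferInstance, n ≫ π₁, ?_⟩
    show (ρ₄ ≫ ρ₃ ≫ ρ₂ ≫ ρ₁) ≫ z = (n ≫ π₁) ≫ biprod.lift a (-b)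
    apply biprod.hom_ext
    · have e1 : ((n ≫ π₁) ≫ biprod.lift a (-b)) ≫ biprod.fst = n ≫ π₂ := by
        simp only [Category.assoc, biprod.lift_fst, ha]
      rw [e1, hnπ₂, Category.assoc]
    · have e1 : ((n ≫ π₁) ≫ biprod.lift a (-b)) ≫ biprod.snd = -(n ≫ π₃) := by
        simp only [Category.assoc, biprod.lift_snd, Preadditive.comp_neg, hb]
      rw [e1, hnπ₃, neg_neg, Category.assoc]
  exact { exact := hexact, mono_f := hmono, epi_g := hepi }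

end General

section ExtPart

open Abelian

variable {𝒜 : Type u₁} [Category.{v₁} 𝒜] [Abelian 𝒜] [HasExt.{w} 𝒜]

lemma P1 {Q₁ Q₂ Q₃ : 𝒜} (a : Q₁ ⟶ Q₂) (b : Q₁ ⟶ Q₃) (F : 𝒜) {i : ℕ}
    (z : Ext.{w} (Q₂ ⊞ Q₃) F i) :
    (Ext.mk₀ (biprod.lift a (-b))).comp z (zero_add i) =
      (Ext.mk₀ a).comp ((Ext.mk₀ biprod.inl).comp z (zero_add i)) (zero_add i) -
        (Ext.mk₀ b).comp ((Ext.mk₀ biprod.inr).comp z (zero_add i)) (zero_add i) := by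
  rw [biprod.lift_eq, Ext.mk₀_add, Ext.add_comp, Ext.mk₀_comp_mk₀_assoc,
    Ext.mk₀_comp_mk₀_assoc, Preadditive.neg_comp, Ext.mk₀_neg, Ext.neg_comp, sub_eq_add_neg]

lemma P2l {Q₂ Q₃ Q₄ : 𝒜} (c : Q₂ ⟶ Q₄) (c' : Q₃ ⟶ Q₄) (F : 𝒜) {i : ℕ} (x : Ext.{w} Q₄ F i) :
    (Ext.mk₀ biprod.inl).comp ((Ext.mk₀ (biprod.desc c c')).comp x (zero_add i)) (zero_add i) =
      (Ext.mk₀ c).comp x (zero_add i) := by
  rw [Ext.mk₀_comp_mk₀_assoc, biprod.inl_desc]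

lemma P2r {Q₂ Q₃ Q₄ : 𝒜} (c : Q₂ ⟶ Q₄) (c' : Q₃ ⟶ Q₄) (F : 𝒜) {i : ℕ} (x : Ext.{w} Q₄ F i) :
    (Ext.mk₀ biprod.inr).comp ((Ext.mk₀ (biprod.desc c c')).comp x (zero_add i)) (zero_add i) =
      (Ext.mk₀ c').comp x (zero_add i) := by
  rw [Ext.mk₀_comp_mk₀_assoc, biprod.inr_desc]

/-- the class on the biproduct with given components -/
noncomputable def zOf {Q₂ Q₃ F : 𝒜} {i : ℕ} (y : Ext.{w} Q₂ F i) (y' : Ext.{w} Q₃ F i) :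
    Ext.{w} (Q₂ ⊞ Q₃) F i :=
  (Ext.mk₀ biprod.fst).comp y (zero_add i) + (Ext.mk₀ biprod.snd).comp y' (zero_add i)

lemma inl_zOf {Q₂ Q₃ F : 𝒜} {i : ℕ} (y : Ext.{w} Q₂ F i) (y' : Ext.{w} Q₃ F i) :
    (Ext.mk₀ biprod.inl).comp (zOf y y') (zero_add i) = y := by
  rw [zOf, Ext.comp_add, Ext.mk₀_comp_mk₀_assoc, Ext.mk₀_comp_mk₀_assoc, biprod.inl_fst,
    biprod.inl_snd, Ext.mk₀_zero, Ext.zero_comp, add_zero, Ext.mk₀_id_comp]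

lemma inr_zOf {Q₂ Q₃ F : 𝒜} {i : ℕ} (y : Ext.{w} Q₂ F i) (y' : Ext.{w} Q₃ F i) :
    (Ext.mk₀ biprod.inr).comp (zOf y y') (zero_add i) = y' := by
  rw [zOf, Ext.comp_add, Ext.mk₀_comp_mk₀_assoc, Ext.mk₀_comp_mk₀_assoc, biprod.inr_fst,
    biprod.inr_snd, Ext.mk₀_zero, Ext.zero_comp, zero_add, Ext.mk₀_id_comp]

theorem mv_inj {Q₁ Q₂ Q₃ Q₄ : 𝒜} (a : Q₁ ⟶ Q₂) (b : Q₁ ⟶ Q₃) (c : Q₂ ⟶ Q₄) (c' : Q₃ ⟶ Q₄)
    (zQ : biprod.lift a (-b) ≫ biprod.desc c c' = 0)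
    (hQ : (ShortComplex.mk (biprod.lift a (-b)) (biprod.desc c c') zQ).ShortExact) (F : 𝒜)
    (x x' : Ext.{w} Q₄ F 0)
    (h1 : (Ext.mk₀ c).comp x (zero_add 0) = (Ext.mk₀ c).comp x' (zero_add 0))
    (h2 : (Ext.mk₀ c').comp x (zero_add 0) = (Ext.mk₀ c').comp x' (zero_add 0)) : x = x' := by
  haveI : Epi (biprod.desc c c') := hQ.epi_g
  apply Ext.precomp_mk₀_injective_of_epi F (biprod.desc c c')
  show (Ext.mk₀ (biprod.desc c c')).comp x (zero_add 0) =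
    (Ext.mk₀ (biprod.desc c c')).comp x' (zero_add 0)
  apply Ext.biprod_ext
  · rw [P2l, P2l]
    exact h1
  · rw [P2r, P2r]
    exact h2

theorem mv_exact₂ {Q₁ Q₂ Q₃ Q₄ : 𝒜} (a : Q₁ ⟶ Q₂) (b : Q₁ ⟶ Q₃) (c : Q₂ ⟶ Q₄) (c' : Q₃ ⟶ Q₄)
    (zQ : biprod.lift a (-b) ≫ biprod.desc c c' = 0)
    (hQ : (ShortComplex.mk (biprod.lift a (-b)) (biprod.desc c c') zQ).ShortExact) (F : 𝒜)
    (i : ℕ) (y : Ext.{w} Q₂ F i) (y' : Ext.{w} Q₃ F i) :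
    (Ext.mk₀ a).comp y (zero_add i) - (Ext.mk₀ b).comp y' (zero_add i) = 0 ↔
      ∃ x : Ext.{w} Q₄ F i, (Ext.mk₀ c).comp x (zero_add i) = y ∧
        (Ext.mk₀ c').comp x (zero_add i) = y' := by
  constructor
  · intro h
    have hz : (Ext.mk₀ (biprod.lift a (-b))).comp (zOf y y') (zero_add i) = 0 := by
      rw [P1, inl_zOf, inr_zOf]
      exact h
    obtain ⟨x, hx⟩ := Ext.contravariant_sequence_exact₂ hQ F (zOf y y') hz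
    have hx' : (Ext.mk₀ (biprod.desc c c')).comp x (zero_add i) = zOf y y' := hx
    refine ⟨x, ?_, ?_⟩
    · rw [← P2l c c', hx', inl_zOf]
    · rw [← P2r c c', hx', inr_zOf]
  · rintro ⟨x, rfl, rfl⟩
    have hac : a ≫ c = b ≫ c' := by
      have h0 := zQ
      rw [biprod.lift_desc, Preadditive.neg_comp, ← sub_eq_add_neg, sub_eq_zero] at h0
      exact h0
    rw [Ext.mk₀_comp_mk₀_assoc, Ext.mk₀_comp_mk₀_assoc, hac, sub_self]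

theorem mv_exact₁ {Q₁ Q₂ Q₃ Q₄ : 𝒜} (a : Q₁ ⟶ Q₂) (b : Q₁ ⟶ Q₃) (c : Q₂ ⟶ Q₄) (c' : Q₃ ⟶ Q₄)
    (zQ : biprod.lift a (-b) ≫ biprod.desc c c' = 0)
    (hQ : (ShortComplex.mk (biprod.lift a (-b)) (biprod.desc c c') zQ).ShortExact) (F : 𝒜)
    (i : ℕ) (h1 : 1 + i = i + 1) (w' : Ext.{w} Q₁ F i) :
    hQ.extClass.comp w' h1 = 0 ↔ ∃ y : Ext.{w} Q₂ F i × Ext.{w} Q₃ F i,
      (Ext.mk₀ a).comp y.1 (zero_add i) - (Ext.mk₀ b).comp y.2 (zero_add i) = w' := by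
  constructor
  · intro h
    obtain ⟨z, hz⟩ := Ext.contravariant_sequence_exact₁ hQ F w' h1 h
    have hz' : (Ext.mk₀ (biprod.lift a (-b))).comp z (zero_add i) = w' := hz
    exact ⟨((Ext.mk₀ biprod.inl).comp z (zero_add i), (Ext.mk₀ biprod.inr).comp z (zero_add i)),
      (P1 a b F z).symm.trans hz'⟩
  · rintro ⟨y, rfl⟩
    have e : (Ext.mk₀ a).comp y.1 (zero_add i) - (Ext.mk₀ b).comp y.2 (zero_add i) =
        (Ext.mk₀ (biprod.lift a (-b))).comp (zOf y.1 y.2) (zero_add i) := by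
      rw [P1, inl_zOf, inr_zOf]
    rw [e]
    exact hQ.extClass_comp_assoc (zOf y.1 y.2)

theorem mv_exact₃ {Q₁ Q₂ Q₃ Q₄ : 𝒜} (a : Q₁ ⟶ Q₂) (b : Q₁ ⟶ Q₃) (c : Q₂ ⟶ Q₄) (c' : Q₃ ⟶ Q₄)
    (zQ : biprod.lift a (-b) ≫ biprod.desc c c' = 0)
    (hQ : (ShortComplex.mk (biprod.lift a (-b)) (biprod.desc c c') zQ).ShortExact) (F : 𝒜)
    (i : ℕ) (h1 : 1 + i = i + 1) (x : Ext.{w} Q₄ F (i + 1)) :
    ((Ext.mk₀ c).comp x (zero_add (i + 1)) = 0 ∧ (Ext.mk₀ c').comp x (zero_add (i + 1)) = 0) ↔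
      ∃ w' : Ext.{w} Q₁ F i, hQ.extClass.comp w' h1 = x := by
  constructor
  · rintro ⟨h2, h3⟩
    have hg : (Ext.mk₀ (biprod.desc c c')).comp x (zero_add (i + 1)) = 0 := by
      apply Ext.biprod_ext
      · rw [P2l, Ext.comp_zero]
        exact h2
      · rw [P2r, Ext.comp_zero]
        exact h3
    exact Ext.contravariant_sequence_exact₃ hQ F x hg h1
  · rintro ⟨w', rfl⟩
    have hg : (Ext.mk₀ (biprod.desc c c')).comp (hQ.extClass.comp w' h1) (zero_add (i + 1)) = 0 :=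
      hQ.comp_extClass_assoc w' h1
    constructor
    · rw [← P2l c c', hg, Ext.comp_zero]
    · rw [← P2r c c', hg, Ext.comp_zero]

end ExtPart

section Space

open Abelian

variable {X : TopCat.{u}}

/-- the inclusion `ℤ_W ⟶ ℤ_X` -/
noncomputable abbrev jW (W : Opens X) :
    CohCx.freeSheaf (Opens.grothendieckTopology X) W ⟶
      CohCx.freeSheaf (Opens.grothendieckTopology X) (⊤ : Opens X) :=
  CohCx.freeSheafMap (Opens.grothendieckTopology X) (homOfLE (le_top : W ≤ ⊤))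

/-- `ℤ_X/ℤ_W` -/
noncomputable abbrev qW (W : Opens X) : CohTop.Ab X := LocCohZ.zq (le_top : W ≤ ⊤)

/-- the projection `ℤ_X ⟶ ℤ_X/ℤ_W` -/
noncomputable abbrev πW (W : Opens X) :
    CohCx.freeSheaf (Opens.grothendieckTopology X) (⊤ : Opens X) ⟶ qW W :=
  cokernel.π (jW W)

/-- the projection `ℤ_X/ℤ_W' ⟶ ℤ_X/ℤ_W` for `W' ≤ W` -/
noncomputable abbrev qMap {W W' : Opens X} (h : W' ≤ W) : qW W' ⟶ qW W :=
  LocCohZ.zqMap (le_top : W ≤ ⊤) (le_top : W' ≤ ⊤) h le_rfl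

lemma π_qMap {W W' : Opens X} (h : W' ≤ W) : πW W' ≫ qMap h = πW W := by
  have h1 : CohCx.freeSheafMap (Opens.grothendieckTopology X)
      (homOfLE (le_rfl : (⊤ : Opens X) ≤ ⊤)) = 𝟙 _ := by
    rw [show homOfLE (le_rfl : (⊤ : Opens X) ≤ ⊤) = 𝟙 _ from Subsingleton.elim _ _]
    exact CohFree.freeSheafMap_id _ _
  unfold qMap LocCohZ.zqMap
  rw [cokernel.π_desc, h1, Category.id_comp]

lemma fj {W W' : Opens X} (h : W' ≤ W) :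
    CohCx.freeSheafMap (Opens.grothendieckTopology X) (homOfLE h) ≫ jW W = jW W' :=
  (CohFree.freeSheafMap_comp _ _ _).symm.trans
    (congrArg (CohCx.freeSheafMap (Opens.grothendieckTopology X)) (Subsingleton.elim _ _))

lemma zQ (U U' : Opens X) :
    biprod.lift (qMap (inf_le_left : U ⊓ U' ≤ U)) (-(qMap (inf_le_right : U ⊓ U' ≤ U'))) ≫
      biprod.desc (qMap (le_sup_left : U ≤ U ⊔ U')) (qMap (le_sup_right : U' ≤ U ⊔ U')) = 0 :=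
  zQ_of (πW (U ⊓ U')) (πW U) (πW U') (πW (U ⊔ U')) _ _ _ _ (π_qMap _) (π_qMap _) (π_qMap _)
    (π_qMap _)

theorem quotSES (U U' : Opens X) :
    (ShortComplex.mk _ _ (zQ U U')).ShortExact := by
  haveI : Mono (jW (U ⊔ U')) := (LocCohZ.zqSeq_shortExact (le_top : U ⊔ U' ≤ ⊤)).mono_f
  exact quot_shortExact (jW (U ⊓ U')) (jW U) (jW U') (jW (U ⊔ U'))
    (πW (U ⊓ U')) (πW U) (πW U') (πW (U ⊔ U'))
    (cokernel.condition _) (cokernel.condition _) (cokernel.condition _) (cokernel.condition _)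
    (LocCohZ.zqSeq_shortExact (le_top : U ≤ ⊤)).exact
    (LocCohZ.zqSeq_shortExact (le_top : U' ≤ ⊤)).exact
    (LocCohZ.zqSeq_shortExact (le_top : U ⊔ U' ≤ ⊤)).exact
    (CohCx.freeSheafMap (Opens.grothendieckTopology X) (homOfLE (inf_le_left : U ⊓ U' ≤ U)))
    (CohCx.freeSheafMap (Opens.grothendieckTopology X) (homOfLE (inf_le_right : U ⊓ U' ≤ U')))
    (CohCx.freeSheafMap (Opens.grothendieckTopology X) (homOfLE (le_sup_left : U ≤ U ⊔ U')))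
    (CohCx.freeSheafMap (Opens.grothendieckTopology X) (homOfLE (le_sup_right : U' ≤ U ⊔ U')))
    (fj _) (fj _) (fj _)
    (Opens.mayerVietorisSquare U U').shortComplex.zero
    (Opens.mayerVietorisSquare U U').shortComplex_shortExact
    _ _ _ _ (π_qMap _) (π_qMap _) (π_qMap _) (π_qMap _) (zQ U U')

/-- Mayer–Vietoris for cohomology with supports in closed subsets. -/
theorem main (F : CohTop.Ab X) (U U' : Opens X) :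
    Function.Injective (fun x : LocCohZ.HZc F 0 (U ⊔ U') =>
      (LocCohZ.resZ F 0 (le_top : U ⊔ U' ≤ ⊤) (le_top : U ≤ ⊤) le_sup_left le_rfl x,
       LocCohZ.resZ F 0 (le_top : U ⊔ U' ≤ ⊤) (le_top : U' ≤ ⊤) le_sup_right le_rfl x)) ∧
    ∃ δ : ∀ i : ℕ, LocCohZ.HZc F i (U ⊓ U') →+ LocCohZ.HZc F (i + 1) (U ⊔ U'),
      ∀ i : ℕ,
        (∀ y : LocCohZ.HZc F i U × LocCohZ.HZc F i U',
          LocCohZ.resZ F i (le_top : U ≤ ⊤) (le_top : U ⊓ U' ≤ ⊤) inf_le_left le_rfl y.1 -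
              LocCohZ.resZ F i (le_top : U' ≤ ⊤) (le_top : U ⊓ U' ≤ ⊤) inf_le_right le_rfl y.2 = 0 ↔
            ∃ x : LocCohZ.HZc F i (U ⊔ U'),
              LocCohZ.resZ F i (le_top : U ⊔ U' ≤ ⊤) (le_top : U ≤ ⊤) le_sup_left le_rfl x = y.1 ∧
              LocCohZ.resZ F i (le_top : U ⊔ U' ≤ ⊤) (le_top : U' ≤ ⊤) le_sup_right le_rfl x = y.2) ∧
        (∀ w : LocCohZ.HZc F i (U ⊓ U'),
          δ i w = 0 ↔ ∃ y : LocCohZ.HZc F i U × LocCohZ.HZc F i U',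
            LocCohZ.resZ F i (le_top : U ≤ ⊤) (le_top : U ⊓ U' ≤ ⊤) inf_le_left le_rfl y.1 -
              LocCohZ.resZ F i (le_top : U' ≤ ⊤) (le_top : U ⊓ U' ≤ ⊤) inf_le_right le_rfl y.2 = w) ∧
        (∀ x : LocCohZ.HZc F (i + 1) (U ⊔ U'),
          (LocCohZ.resZ F (i + 1) (le_top : U ⊔ U' ≤ ⊤) (le_top : U ≤ ⊤) le_sup_left le_rfl x = 0 ∧
            LocCohZ.resZ F (i + 1) (le_top : U ⊔ U' ≤ ⊤) (le_top : U' ≤ ⊤) le_sup_right le_rfl x = 0) ↔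
            ∃ w : LocCohZ.HZc F i (U ⊓ U'), δ i w = x) := by
  have hQ := quotSES U U'
  refine ⟨?_, fun i => hQ.extClass.precomp F (show 1 + i = i + 1 by omega),
    fun i => ⟨fun y => ?_, fun w' => ?_, fun x => ?_⟩⟩
  · intro x x' hxx
    exact mv_inj _ _ _ _ (zQ U U') hQ F x x' (congrArg Prod.fst hxx) (congrArg Prod.snd hxx)
  · exact mv_exact₂ _ _ _ _ (zQ U U') hQ F i y.1 y.2
  · exact mv_exact₁ _ _ _ _ (zQ U U') hQ F i (by omega) w'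
  · exact mv_exact₃ _ _ _ _ (zQ U U') hQ F i (by omega) x

end Space

end Groth.Agent.H67.LocMV
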