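import Mathlib
import Groth.Agent.H67.ConstH1
import Groth.Agent.H67.TorsB

/-!
# Helper library (helper67): decomposition of the terminal sheaf along a locally nonzero section
of the constant sheaf `ℤ`, and torsion-freeness of `H¹` of torsion-free constant sheaves
-/

set_option autoImplicit false
universe u w

open CategoryTheory CategoryTheory.Limits Opposite Abelian

namespace Groth.Agent.H67.LocN

open Groth.Agent.H67.TorsA Groth.Agent.H67.TorsB Groth.Agent.H67.CechTopos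
  Groth.Agent.H67.ConstH1 Groth.Agent.H67.SieveCoh

section extlemmas

variable {𝒜 : Type*} [Category 𝒜] [Abelian 𝒜] [HasExt.{w} 𝒜]

lemma zsmul_comp' {X Y Z : 𝒜} {a b c : ℕ} (k : ℤ) (α : Ext X Y a) (β : Ext Y Z b)
    (h : a + b = c) : (k • α).comp β h = k • α.comp β h :=
  map_zsmul ((Ext.bilinearComp X Y Z a b c h).flip β) k α

lemma comp_zsmul' {X Y Z : 𝒜} {a b c : ℕ} (k : ℤ) (α : Ext X Y a) (β : Ext Y Z b)
    (h : a + b = c) : α.comp (k • β) h = k • α.comp β h :=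
  map_zsmul (Ext.bilinearComp X Y Z a b c h α) k β

lemma mk₀_zsmul' {X Y : 𝒜} (k : ℤ) (f : X ⟶ Y) : Ext.mk₀ (k • f) = k • Ext.mk₀ f :=
  map_zsmul (Ext.addEquiv₀ (X := X) (Y := Y)).symm k f

end extlemmas

variable {C : Type u} [SmallCategory C] (J : GrothendieckTopology C)

/-! ### `Ext¹` from free sheaves into constant sheaves -/

theorem H1_injective_free (L : Sheaf J (Type u)) (S : ShortComplex AddCommGrpCat.{u})
    (hS : S.ShortExact) (x : Ext ((Φ J).obj L) ((cs J).obj S.X₁) 1)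
    (hx : x.comp (Ext.mk₀ ((cs J).map S.f)) (add_zero 1) = 0) : x = 0 := by
  have hS' : (S.map (cs J)).ShortExact := hS.map_of_exact (cs J)
  have hg : Function.Surjective S.g := (AddCommGrpCat.epi_iff_surjective _).1 hS.epi_g
  have hx' : Ext.comp (Z := (S.map (cs J)).X₂) x (Ext.mk₀ (S.map (cs J)).f) (add_zero 1) = 0 := hx
  obtain ⟨y, hy⟩ := Ext.covariant_sequence_exact₁ ((Φ J).obj L) hS' x hx' (rfl : 0 + 1 = 1)
  obtain ⟨ψ, rfl⟩ := (Ext.mk₀_bijective _ _).2 y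
  have hex : ∃ ψ' : (Φ J).obj L ⟶ (S.map (cs J)).X₂, ψ' ≫ (S.map (cs J)).g = ψ :=
    lift_free J S.g hg L ψ
  obtain ⟨ψ', hψ'⟩ := hex
  have e : (Ext.mk₀ ψ).comp hS'.extClass (rfl : 0 + 1 = 1) =
      (Ext.mk₀ ψ').comp ((Ext.mk₀ (S.map (cs J)).g).comp hS'.extClass (zero_add 1))
        (zero_add 1) := by
    rw [Ext.mk₀_comp_mk₀_assoc, hψ']
  have h0 : (Ext.mk₀ ψ').comp ((Ext.mk₀ (S.map (cs J)).g).comp hS'.extClass (zero_add 1))
      (zero_add 1) = 0 := by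
    rw [hS'.comp_extClass, Ext.comp_zero]
  exact hy.symm.trans (e.trans h0)

theorem ext_injective_of_injective (L : Sheaf J (Type u)) {A B : Type u} [AddCommGroup A]
    [AddCommGroup B] (f : A →+ B) (hf : Function.Injective f)
    (x : Ext ((Φ J).obj L) ((cs J).obj (AddCommGrpCat.of A)) 1)
    (hx : x.comp (Ext.mk₀ ((cs J).map (AddCommGrpCat.ofHom f))) (add_zero 1) = 0) : x = 0 := by
  classical
  have hw : AddCommGrpCat.ofHom f ≫ AddCommGrpCat.ofHom (QuotientAddGroup.mk' f.range) = 0 := by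
    ext a
    exact (QuotientAddGroup.eq_zero_iff _).2 ⟨a, rfl⟩
  let S₀ : ShortComplex AddCommGrpCat.{u} :=
    ShortComplex.mk (AddCommGrpCat.ofHom f)
      (AddCommGrpCat.ofHom (QuotientAddGroup.mk' f.range)) hw
  have hS₀ : S₀.ShortExact := by
    have h1 : Mono S₀.f := (AddCommGrpCat.mono_iff_injective _).2 hf
    have h2 : Epi S₀.g :=
      (AddCommGrpCat.epi_iff_surjective _).2 (QuotientAddGroup.mk'_surjective _)
    have h3 : S₀.Exact := by
      rw [ShortComplex.ab_exact_iff]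
      intro b hb
      have hb' : (QuotientAddGroup.mk' f.range) b = 0 := hb
      exact (QuotientAddGroup.eq_zero_iff _).1 hb'
    exact ShortComplex.ShortExact.mk' h3 h1 h2
  exact H1_injective_free J L S₀ hS₀ x hx

theorem torsion_free (L : Sheaf J (Type u)) {A : Type u} [AddCommGroup A]
    (hA : ∀ (m : ℤ) (a : A), m ≠ 0 → m • a = 0 → a = 0) (k : ℤ) (hk : k ≠ 0)
    (y : Ext ((Φ J).obj L) ((cs J).obj (AddCommGrpCat.of A)) 1) (hy : k • y = 0) : y = 0 := by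
  have hf : Function.Injective (zsmulAddGroupHom k : A →+ A) := by
    rw [injective_iff_map_eq_zero]
    intro a ha
    exact hA k a hk ha
  have h2 : AddCommGrpCat.ofHom (zsmulAddGroupHom k : A →+ A) =
      k • 𝟙 (AddCommGrpCat.of A) := by
    ext a
    rfl
  have hcs : (cs J).map (AddCommGrpCat.ofHom (zsmulAddGroupHom k : A →+ A)) =
      k • 𝟙 ((cs J).obj (AddCommGrpCat.of A)) := by
    rw [h2, Functor.map_zsmul, CategoryTheory.Functor.map_id]
  refine ext_injective_of_injective J L _ hf y ?_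
  rw [hcs, mk₀_zsmul', comp_zsmul', Ext.comp_mk₀_id, hy]

/-! ### The decomposition presheaves -/

variable (φ : Zc J ⟶ Zc J)

/-- `φ` acts by `n` on every object over `V` -/
def IsN (n : ℤ) (V : C) : Prop :=
  ∀ ⦃W : C⦄ (_ : W ⟶ V), φ.hom.app (op W) = n • 𝟙 _

variable {J φ} in
lemma IsN.comp {n : ℤ} {V V' : C} (h : IsN J φ n V) (f : V' ⟶ V) : IsN J φ n V' :=
  fun _ g => h (g ≫ f)

/-- the presheaf of the values in `T` of `φ` -/
def PT (T : Set ℤ) : Cᵒᵖ ⥤ Type u where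
  obj V := {n : ULift.{u} ℤ // n.down ∈ T ∧ IsN J φ n.down V.unop}
  map f := TypeCat.ofHom (fun x => ⟨x.1, x.2.1, x.2.2.comp f.unop⟩)
  map_id _ := ConcreteCategory.hom_ext _ _ (fun _ => rfl)
  map_comp _ _ := ConcreteCategory.hom_ext _ _ (fun _ => rfl)

/-- its sheafification -/
noncomputable def LT (T : Set ℤ) : Sheaf J (Type u) :=
  (presheafToSheaf J (Type u)).obj (PT J φ T)

/-- the generating sections -/
noncomputable def gen (T : Set ℤ) (V : Cᵒᵖ) (p : (PT J φ T).obj V) : (LT J φ T).obj.obj V :=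
  (toSheafify J (PT J φ T)).app V p

lemma gen_map (T : Set ℤ) {V V' : Cᵒᵖ} (f : V ⟶ V') (p : (PT J φ T).obj V) :
    gen J φ T V' ((PT J φ T).map f p) = (LT J φ T).obj.map f (gen J φ T V p) :=
  NatTrans.naturality_apply (toSheafify J (PT J φ T)) f p

/-- inclusions -/
def incl {T T' : Set ℤ} (h : T ⊆ T') : PT J φ T ⟶ PT J φ T' where
  app _ := TypeCat.ofHom (fun x => ⟨x.1, h x.2.1, x.2.2⟩)
  naturality _ _ _ := ConcreteCategory.hom_ext _ _ (fun _ => rfl)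

noncomputable def ι {T T' : Set ℤ} (h : T ⊆ T') : LT J φ T ⟶ LT J φ T' :=
  (presheafToSheaf J (Type u)).map (incl J φ h)

lemma ι_gen {T T' : Set ℤ} (h : T ⊆ T') (V : Cᵒᵖ) (p : (PT J φ T).obj V) :
    (ι J φ h).hom.app V (gen J φ T V p) = gen J φ T' V ((incl J φ h).app V p) := by
  have h1 := congrArg (fun (m : PT J φ T ⟶ (LT J φ T').obj) => m.app V p)
    (toSheafify_naturality J (incl J φ h))
  exact h1.symm

/-- maps out of the free sheaf on `LT` are natural families indexed by `PT` -/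
noncomputable def θ (T : Set ℤ) (A : Sheaf J AddCommGrpCat.{u}) :
    ((Φ J).obj (LT J φ T) ⟶ A) ≃ (PT J φ T ⟶ ((UU J).obj A).obj) :=
  ((adj J).homEquiv (LT J φ T) A).trans
    ((sheafificationAdjunction J (Type u)).homEquiv (PT J φ T) ((UU J).obj A))

lemma θ_app (T : Set ℤ) (A : Sheaf J AddCommGrpCat.{u}) (ψ : (Φ J).obj (LT J φ T) ⟶ A)
    (V : Cᵒᵖ) (p : (PT J φ T).obj V) :
    (θ J φ T A ψ).app V p = ev ψ V (gen J φ T V p) := by
  have h : θ J φ T A ψ = toSheafify J (PT J φ T) ≫ ((adj J).homEquiv (LT J φ T) A ψ).hom :=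
    (sheafificationAdjunction J (Type u)).homEquiv_unit _ _ _
  rw [h, ev_eq]
  rfl

lemma ext_gen {T : Set ℤ} {A : Sheaf J AddCommGrpCat.{u}} {ψ ψ' : (Φ J).obj (LT J φ T) ⟶ A}
    (h : ∀ (V : Cᵒᵖ) (p : (PT J φ T).obj V),
      ev ψ V (gen J φ T V p) = ev ψ' V (gen J φ T V p)) : ψ = ψ' := by
  apply (θ J φ T A).injective
  refine NatTrans.ext (funext fun V => ConcreteCategory.hom_ext _ _ (fun p => ?_))
  rw [θ_app, θ_app]
  exact h V p

/-- gluing lifts along the decomposition -/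
theorem glue {T : Set ℤ} {I Q : Sheaf J AddCommGrpCat.{u}} (g : I ⟶ Q)
    (ψ : (Φ J).obj (LT J φ T) ⟶ Q)
    (h : ∀ (k : ℤ) (hk : k ∈ T), ∃ χ : (Φ J).obj (LT J φ {k}) ⟶ I,
      χ ≫ g = (Φ J).map (ι J φ (Set.singleton_subset_iff.2 hk)) ≫ ψ) :
    ∃ χ : (Φ J).obj (LT J φ T) ⟶ I, χ ≫ g = ψ := by
  choose χ hχ using h
  let sing : ∀ (V : Cᵒᵖ) (p : (PT J φ T).obj V), (PT J φ {p.1.down}).obj V :=
    fun V p => ⟨p.1, Set.mem_singleton _, p.2.2⟩
  let c : PT J φ T ⟶ ((UU J).obj I).obj :=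
    { app := fun V => TypeCat.ofHom
        (fun p => ev (χ p.1.down p.2.1) V (gen J φ _ V (sing V p)))
      naturality := fun V V' f => ConcreteCategory.hom_ext _ _ (fun p => by
        have h1 := ev_natural (χ p.1.down p.2.1) f (gen J φ _ V (sing V p))
        have h2 := gen_map J φ {p.1.down} f (sing V p)
        exact (congrArg (ev (χ p.1.down p.2.1) V') h2).trans h1.symm) }
  let χg : (Φ J).obj (LT J φ T) ⟶ I := (θ J φ T I).symm c
  have hχg : ∀ (V : Cᵒᵖ) (p : (PT J φ T).obj V), ev χg V (gen J φ T V p) = c.app V p := by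
    intro V p
    rw [← θ_app, Equiv.apply_symm_apply]
  refine ⟨χg, ext_gen J φ (fun V p => ?_)⟩
  rw [ev_comp, hχg V p]
  show (g.hom.app V).hom (ev (χ p.1.down p.2.1) V (gen J φ _ V (sing V p))) = _
  rw [← ev_comp, hχ, ev_map_comp, ι_gen]
  rfl

/-- on the `k`-part, `φ` is multiplication by `k` -/
theorem comp_phi (k : ℤ) (m : (Φ J).obj (LT J φ {k}) ⟶ Zc J) : m ≫ φ = k • m := by
  refine ext_gen J φ (fun V p => ?_)
  have hp : φ.hom.app V = k • 𝟙 _ := by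
    have h1 := p.2.2 (𝟙 V.unop)
    have h2 : p.1.down = k := p.2.1
    rw [h2] at h1
    exact h1
  have h3 : ev (k • m) V (gen J φ _ V p) = k • ev m V (gen J φ _ V p) :=
    map_zsmul (evHom (Zc J) V (gen J φ _ V p)) k m
  rw [ev_comp, hp, h3]
  rfl

/-! ### The terminal sheaf is the sheafification of the presheaf of nonzero values -/

lemma bot_mem_of_ne {n m : ℤ} (hnm : n ≠ m) (V : C)
    (h1 : φ.hom.app (op V) = n • 𝟙 _) (h2 : φ.hom.app (op V) = m • 𝟙 _) :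
    (⊥ : Sieve V) ∈ J V := by
  let P0 : Cᵒᵖ ⥤ AddCommGrpCat.{u} :=
    (Functor.const Cᵒᵖ).obj (AddCommGrpCat.of (ULift.{u} ℤ))
  let uV : ULift.{u} ℤ →+ (Zc J).obj.obj (op V) := ((toSheafify J P0).app (op V)).hom
  have key : ∀ k : ℤ, uV (ULift.up k) = k • uV (ULift.up 1) := fun k => by
    rw [← map_zsmul]
    congr 1
    ext
    simp
  have hn' : (φ.hom.app (op V)).hom (uV (ULift.up 1)) = n • uV (ULift.up 1) := by
    rw [h1]
    rfl
  have hm' : (φ.hom.app (op V)).hom (uV (ULift.up 1)) = m • uV (ULift.up 1) := by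
    rw [h2]
    rfl
  have h3 : uV (ULift.up n) = uV (ULift.up m) := by
    rw [key n, key m, ← hn', ← hm']
  have h4 : Presheaf.equalizerSieve (F := P0) (X := op V) (ULift.up n : ULift.{u} ℤ)
      (ULift.up m : ULift.{u} ℤ) ∈ J V :=
    Presheaf.equalizerSieve_mem J (toSheafify J P0) _ _ h3
  refine J.superset_covering ?_ h4
  intro W f hf
  exact absurd (congrArg ULift.down hf) hnm

/-- the nonzero integers -/
def T₀ : Set ℤ := {k | k ≠ 0}

/-- the map to the terminal presheaf -/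
def t₀ : PT J φ T₀ ⟶ (K₁ J).obj where
  app _ := TypeCat.ofHom (fun _ => PUnit.unit)
  naturality _ _ _ := ConcreteCategory.hom_ext _ _ (fun _ => rfl)

section cover

variable {ι' : Type u} (U : ι' → C) (n : ι' → ℤ) (hn : ∀ i, n i ≠ 0)
  (hφ : ∀ (i : ι') (V : C) (_ : V ⟶ U i), φ.hom.app (op V) = n i • 𝟙 _)
  (hcov : ∀ V : C, ∃ R ∈ J V, ∀ ⦃W : C⦄ (g : W ⟶ V), R g → ∃ i, Nonempty (W ⟶ U i))

include hn hφ hcov in
lemma t₀_locSurj : Presheaf.IsLocallySurjective J (t₀ J φ) where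
  imageSieve_mem := fun {V} s => by
    obtain ⟨R, hR, h⟩ := hcov V
    refine J.superset_covering ?_ hR
    intro W g hg
    obtain ⟨i, ⟨a⟩⟩ := h g hg
    exact ⟨⟨ULift.up (n i), hn i, fun W' b => hφ i W' (b ≫ a)⟩, rfl⟩

lemma t₀_locInj : Presheaf.IsLocallyInjective J (t₀ J φ) where
  equalizerSieve_mem := fun {X} x y _ => by
    by_cases hxy : x = y
    · subst hxy
      rw [Presheaf.equalizerSieve_self_eq_top]
      exact J.top_mem _
    · have hne : x.1.down ≠ y.1.down := fun h => hxy (Subtype.ext (ULift.ext _ _ h))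
      exact J.superset_covering bot_le
        (bot_mem_of_ne J φ hne X.unop (x.2.2 (𝟙 _)) (y.2.2 (𝟙 _)))

include hn hφ hcov in
theorem exists_iso : Nonempty ((Φ J).obj (LT J φ T₀) ≅ Zc J) := by
  have hs := t₀_locSurj J φ U n hn hφ hcov
  have hi := t₀_locInj J φ
  have hiso : IsIso ((presheafToSheaf J (Type u)).map (t₀ J φ)) :=
    (J.W_iff (t₀ J φ)).1 (J.W_of_isLocallyBijective (t₀ J φ))
  let κ : LT J φ T₀ ≅ K₁ J :=
    @asIso _ _ _ _ ((presheafToSheaf J (Type u)).map (t₀ J φ)) hiso ≪≫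
      asIso ((sheafificationAdjunction J (Type u)).counit.app (K₁ J))
  exact ⟨(Φ J).mapIso κ ≪≫ isoZ J⟩

end cover

/-! ### The main theorem -/

theorem main_aux (S : ShortComplex (Sheaf J AddCommGrpCat.{u})) (hS : S.ShortExact)
    [Injective S.X₂]
    (tors : ∀ (k : ℤ), k ≠ 0 → ∀ y : Ext ((Φ J).obj (LT J φ {k})) S.X₁ 1, k • y = 0 → y = 0)
    (e : (Φ J).obj (LT J φ T₀) ≅ Zc J)
    (x : Ext (Zc J) S.X₁ 1) (hx : (Ext.mk₀ φ).comp x (zero_add 1) = 0) : x = 0 := by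
  have hx0 : x.comp (Ext.mk₀ S.f) (add_zero 1) = 0 := Ext.eq_zero_of_injective _
  obtain ⟨y, hy⟩ := Ext.covariant_sequence_exact₁ (Zc J) hS x hx0 (rfl : 0 + 1 = 1)
  obtain ⟨ψ, rfl⟩ := (Ext.mk₀_bijective _ _).2 y
  have hlift : ∃ χ : (Φ J).obj (LT J φ T₀) ⟶ S.X₂, χ ≫ S.g = e.hom ≫ ψ := by
    refine glue J φ S.g (e.hom ≫ ψ) (fun k hk => ?_)
    let m : (Φ J).obj (LT J φ {k}) ⟶ Zc J :=
      (Φ J).map (ι J φ (Set.singleton_subset_iff.2 hk)) ≫ e.hom
    have h1 : k • (Ext.mk₀ m).comp x (zero_add 1) = 0 := by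
      rw [← zsmul_comp', ← mk₀_zsmul', ← comp_phi J φ k m, ← Ext.mk₀_comp_mk₀_assoc, hx,
        Ext.comp_zero]
    have h2 : (Ext.mk₀ m).comp x (zero_add 1) = 0 := tors k hk _ h1
    have h3 : (Ext.mk₀ (m ≫ ψ)).comp hS.extClass (zero_add 1) = 0 := by
      rw [← Ext.mk₀_comp_mk₀_assoc, hy]
      exact h2
    obtain ⟨z, hz⟩ := Ext.covariant_sequence_exact₃ _ hS (Ext.mk₀ (m ≫ ψ)) (zero_add 1) h3
    obtain ⟨χ, rfl⟩ := (Ext.mk₀_bijective _ _).2 z
    refine ⟨χ, ?_⟩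
    apply (Ext.mk₀_bijective _ _).1
    rw [← Ext.mk₀_comp_mk₀, hz, Category.assoc]
  obtain ⟨χ, hχ⟩ := hlift
  have hψ : (e.inv ≫ χ) ≫ S.g = ψ := by
    rw [Category.assoc, hχ, Iso.inv_hom_id_assoc]
  have e1 : (Ext.mk₀ ψ).comp hS.extClass (rfl : 0 + 1 = 1) =
      (Ext.mk₀ (e.inv ≫ χ)).comp ((Ext.mk₀ S.g).comp hS.extClass (zero_add 1))
        (zero_add 1) := by
    rw [Ext.mk₀_comp_mk₀_assoc, hψ]
  have h0 : (Ext.mk₀ (e.inv ≫ χ)).comp ((Ext.mk₀ S.g).comp hS.extClass (zero_add 1))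
      (zero_add 1) = 0 := by
    rw [hS.comp_extClass, Ext.comp_zero]
  exact hy.symm.trans (e1.trans h0)

theorem main {A : Type u} [AddCommGroup A]
    (hA : ∀ (m : ℤ) (a : A), m ≠ 0 → m • a = 0 → a = 0)
    {ι' : Type u} (U : ι' → C) (n : ι' → ℤ) (hn : ∀ i, n i ≠ 0)
    (hφ : ∀ (i : ι') (V : C) (_ : V ⟶ U i), φ.hom.app (op V) = n i • 𝟙 _)
    (hcov : ∀ V : C, ∃ R ∈ J V, ∀ ⦃W : C⦄ (g : W ⟶ V), R g → ∃ i, Nonempty (W ⟶ U i))
    (x : Ext (Zc J) ((cs J).obj (AddCommGrpCat.of A)) 1)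
    (hx : (Ext.mk₀ φ).comp x (zero_add 1) = 0) : x = 0 := by
  obtain ⟨e⟩ := exists_iso J φ U n hn hφ hcov
  exact main_aux J φ (injSC J ((cs J).obj (AddCommGrpCat.of A)))
    (injSC_shortExact J _) (fun k hk y hy => torsion_free J _ hA k hk y hy) e x hx

end Groth.Agent.H67.LocN
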