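import Mathlib.AlgebraicGeometry.Morphisms.Smooth
import Mathlib.AlgebraicGeometry.Morphisms.Etale
import Mathlib.CategoryTheory.Comma.Over.Pullback
import Mathlib.AlgebraicGeometry.Pullbacks
import Mathlib.CategoryTheory.Adjunction.FullyFaithful

set_option autoImplicit false

namespace Groth.Agent.H67

open CategoryTheory CategoryTheory.Limits

section Cat

universe v₁ u₁ v₂ u₂

variable {A : Type u₁} [Category.{v₁} A] {B : Type u₂} [Category.{v₂} B]

theorem bij_of_natIso {F F' : A ⥤ B} (α : F ≅ F') (Z N : A) :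
    Function.Bijective (fun g : Z ⟶ N => F.map g) ↔
      Function.Bijective (fun g : Z ⟶ N => F'.map g) := by
  have key : (fun g : Z ⟶ N => F'.map g) =
      (fun k => α.inv.app Z ≫ k ≫ α.hom.app N) ∘ (fun g : Z ⟶ N => F.map g) := by
    funext g
    simp
  have hb : Function.Bijective (fun k : F.obj Z ⟶ F.obj N => α.inv.app Z ≫ k ≫ α.hom.app N) := by
    constructor
    · intro k₁ k₂ h
      dsimp only at h
      rwa [cancel_epi, cancel_mono] at h
    · intro k
      exact ⟨α.hom.app Z ≫ k ≫ α.inv.app N, by simp⟩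
  rw [key]
  exact (Function.Bijective.of_comp_iff' hb _).symm

end Cat

section Over

universe v₁ u₁

variable {C : Type u₁} [Category.{v₁} C] [HasPullbacks C]

theorem pullback_iso_map_bijective {S S' : C} (j : S' ⟶ S) [IsIso j] (Z N : Over S) :
    Function.Bijective (fun g : Z ⟶ N => (Over.pullback j).map g) := by
  haveI : (Over.pullback j).IsEquivalence :=
    (Over.mapPullbackAdj j).isEquivalence_right_of_isEquivalence_left
  exact (Functor.FullyFaithful.ofFullyFaithful (Over.pullback j)).map_bijective Z N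

theorem bij_pullback_comp {S S' S'' : C} (ψ : S'' ⟶ S') (φ : S' ⟶ S) (Z N : Over S) :
    Function.Bijective (fun g : Z ⟶ N => (Over.pullback (ψ ≫ φ)).map g) ↔
      Function.Bijective (fun g : Z ⟶ N => (Over.pullback ψ).map ((Over.pullback φ).map g)) :=
  bij_of_natIso (Over.pullbackComp ψ φ) Z N

/-- Restriction to `S₀` is bijective iff the two-step restriction is. -/
theorem bij_two_step {S S₁ S₁₀ S₀ : C} (φ₁ : S₁ ⟶ S) (φ₁₀ : S₁₀ ⟶ S₁) (φ₀ : S₀ ⟶ S)
    (j : S₁₀ ⟶ S₀) [IsIso j] (hj : j ≫ φ₀ = φ₁₀ ≫ φ₁) (Z N : Over S) :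
    Function.Bijective (fun g : Z ⟶ N => (Over.pullback φ₀).map g) ↔
      Function.Bijective (fun g : Z ⟶ N =>
        (Over.pullback φ₁₀).map ((Over.pullback φ₁).map g)) := by
  have hcongr : ∀ (a b : S₁₀ ⟶ S), a = b →
      (Function.Bijective (fun g : Z ⟶ N => (Over.pullback a).map g) ↔
        Function.Bijective (fun g : Z ⟶ N => (Over.pullback b).map g)) := by
    intro a b h
    subst h
    rfl
  rw [← bij_pullback_comp, ← hcongr _ _ hj, bij_pullback_comp]
  have hb := pullback_iso_map_bijective j ((Over.pullback φ₀).obj Z) ((Over.pullback φ₀).obj N)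
  exact (Function.Bijective.of_comp_iff' hb _).symm

end Over

section Sch

open AlgebraicGeometry

universe u

/-- For opens `S₀ ≤ S₁` of `S`, the open `S₁.ι ⁻¹ᵁ S₀` of `S₁` is `S₀`. -/
theorem exists_iso_preimage {S : Scheme.{u}} (S₀ S₁ : S.Opens) (h01 : S₀ ≤ S₁) :
    ∃ (j : ((S₁.ι ⁻¹ᵁ S₀ : (S₁ : Scheme.{u}).Opens) : Scheme.{u}) ⟶ (S₀ : Scheme.{u})) (_ : IsIso j),
      j ≫ S₀.ι = (S₁.ι ⁻¹ᵁ S₀).ι ≫ S₁.ι := by
  have hr : Set.range ((S₁.ι ⁻¹ᵁ S₀).ι ≫ S₁.ι).base = Set.range S₀.ι.base := by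
    rw [Scheme.Hom.comp_base, TopCat.coe_comp, Set.range_comp, Scheme.Opens.range_ι,
      Scheme.Opens.range_ι]
    change S₁.ι.base '' (S₁.ι.base ⁻¹' (S₀ : Set S)) = S₀
    rw [Set.image_preimage_eq_inter_range, Scheme.Opens.range_ι]
    exact Set.inter_eq_left.2 h01
  refine ⟨(IsOpenImmersion.isoOfRangeEq ((S₁.ι ⁻¹ᵁ S₀).ι ≫ S₁.ι) S₀.ι hr).hom, inferInstance, ?_⟩
  exact IsOpenImmersion.isoOfRangeEq_hom_fac _ _ _

end Sch

end Groth.Agent.H67
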