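import Groth.Agent.H67.NMP
import Mathlib.AlgebraicGeometry.Restrict

set_option autoImplicit false

namespace Groth.Agent.H67

open CategoryTheory CategoryTheory.Limits

section Over

universe v₁ u₁

variable {C : Type u₁} [Category.{v₁} C] [HasPullbacks C]

/-- Elementwise reformulation of the Néron mapping property: restriction along `φ` is bijective
on `Z ⟶ N` iff every morphism from the restriction of `Z` to `N` over the base extends uniquely. -/
theorem nmp_iff {T T₀ : C} (φ : T₀ ⟶ T) (Z N : Over T) :
    Function.Bijective (fun g : Z ⟶ N => (Over.pullback φ).map g) ↔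
      ∀ k : pullback Z.hom φ ⟶ N.left, k ≫ N.hom = pullback.fst Z.hom φ ≫ Z.hom →
        ∃! g : Z.left ⟶ N.left, g ≫ N.hom = Z.hom ∧ pullback.fst Z.hom φ ≫ g = k := by
  have hfst : ∀ g : Z ⟶ N, ((Over.pullback φ).map g).left ≫ pullback.fst N.hom φ =
      pullback.fst Z.hom φ ≫ g.left := by
    intro g
    exact pullback.lift_fst _ _ _
  have hsnd : ∀ g : Z ⟶ N, ((Over.pullback φ).map g).left ≫ pullback.snd N.hom φ =
      pullback.snd Z.hom φ := by
    intro g
    exact pullback.lift_snd _ _ _
  constructor
  · rintro ⟨hinj, hsurj⟩ k hk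
    have hk' : k ≫ N.hom = pullback.snd Z.hom φ ≫ φ := by rw [hk, pullback.condition]
    let k' : (Over.pullback φ).obj Z ⟶ (Over.pullback φ).obj N :=
      Over.homMk (pullback.lift k (pullback.snd Z.hom φ) hk') (pullback.lift_snd _ _ _)
    have hk'l : k'.left ≫ pullback.fst N.hom φ = k := pullback.lift_fst _ _ _
    have hk'r : k'.left ≫ pullback.snd N.hom φ = pullback.snd Z.hom φ := pullback.lift_snd _ _ _
    obtain ⟨g, hg⟩ := hsurj k'
    have hg' : (Over.pullback φ).map g = k' := hg
    refine ⟨g.left, ⟨Over.w g, ?_⟩, ?_⟩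
    · rw [← hfst g, hg', hk'l]
    · rintro g' ⟨hg'1, hg'2⟩
      have : Over.homMk g' hg'1 = g := by
        apply hinj
        change (Over.pullback φ).map _ = (Over.pullback φ).map g
        rw [hg']
        apply Over.OverMorphism.ext
        apply pullback.hom_ext
        · rw [hfst, hk'l]
          exact hg'2
        · rw [hsnd, hk'r]
      rw [← this]
      rfl
  · intro h
    constructor
    · intro g₁ g₂ hg
      have hg' : (Over.pullback φ).map g₁ = (Over.pullback φ).map g₂ := hg
      have h1 : pullback.fst Z.hom φ ≫ g₁.left = pullback.fst Z.hom φ ≫ g₂.left := by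
        rw [← hfst g₁, ← hfst g₂, hg']
      obtain ⟨g, _, huniq⟩ := h (pullback.fst Z.hom φ ≫ g₁.left)
        (by rw [Category.assoc, Over.w g₁])
      apply Over.OverMorphism.ext
      rw [huniq g₁.left ⟨Over.w g₁, rfl⟩, huniq g₂.left ⟨Over.w g₂, h1.symm⟩]
    · intro k'
      have hw : k'.left ≫ pullback.snd N.hom φ = pullback.snd Z.hom φ := Over.w k'
      obtain ⟨g, ⟨hg1, hg2⟩, _⟩ := h (k'.left ≫ pullback.fst N.hom φ) (by
        rw [Category.assoc, pullback.condition, ← Category.assoc, hw, pullback.condition])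
      refine ⟨Over.homMk g hg1, ?_⟩
      change (Over.pullback φ).map _ = k'
      apply Over.OverMorphism.ext
      apply pullback.hom_ext
      · rw [hfst]
        exact hg2
      · rw [hsnd]
        exact hw.symm

end Over

section Sch

open AlgebraicGeometry

universe u

instance smooth_isMultiplicative : MorphismProperty.IsMultiplicative @Smooth where
  id_mem _ := inferInstance
  comp_mem _ _ _ _ := inferInstance

instance smooth_hasOfPostcompProperty_etale :
    MorphismProperty.HasOfPostcompProperty @Smooth @Etale := by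
  rw [MorphismProperty.hasOfPostcompProperty_iff_le_diagonal]
  intro X Y f hf
  have : Etale f := hf
  exact inferInstanceAs <| Smooth (pullback.diagonal f)

/-- If `c ≫ f` is smooth and `f` is étale then `c` is smooth. -/
theorem smooth_of_comp_etale {X Y Z : Scheme.{u}} (c : X ⟶ Y) (f : Y ⟶ Z) [Etale f]
    (h : Smooth (c ≫ f)) : Smooth c :=
  MorphismProperty.of_postcomp (W := @Smooth) (W' := @Etale) c f ‹Etale f› h

/-- Base change of an open along `c`, compared with the base change along `c ≫ f` of an open
downstairs. -/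
theorem exists_iso_pullback_preimage {X Y Z : Scheme.{u}} (c : X ⟶ Y) (f : Y ⟶ Z) (z : X ⟶ Z)
    (hc : c ≫ f = z) (U : Z.Opens) :
    ∃ θ : pullback c (f ⁻¹ᵁ U).ι ≅ pullback z U.ι,
      θ.hom ≫ pullback.fst z U.ι = pullback.fst c (f ⁻¹ᵁ U).ι := by
  have hpb : IsPullback (pullback.fst c (f ⁻¹ᵁ U).ι) (pullback.snd c (f ⁻¹ᵁ U).ι ≫ f ∣_ U)
      z U.ι := by
    have := (IsPullback.of_hasPullback c (f ⁻¹ᵁ U).ι).paste_vert
      (isPullback_morphismRestrict f U).flip
    rwa [hc] at this
  exact ⟨hpb.isoPullback, hpb.isoPullback_hom_fst⟩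

end Sch

end Groth.Agent.H67
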