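import Mathlib
import Groth.Agent.H42.CohTopLib

/-!
# Helper library (helper67): abelian sheaves on profinite spaces have exact global sections
-/

set_option autoImplicit false
universe u

open CategoryTheory CategoryTheory.Limits Opposite TopologicalSpace TopCat

namespace Groth.Agent.H67.Profinite

variable {X : TopCat.{u}}

lemma eq_of_le_bot (F : CohTop.Ab X) {V : Opens X} (hV : V ≤ ⊥)
    (s t : F.obj.obj (op V)) : s = t :=
  TopCat.Sheaf.eq_of_locally_eq' F (fun i : PEmpty.{1} => i.elim) V (fun i => i.elim)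
    (hV.trans bot_le) s t (fun i => i.elim)

open TopCat.Presheaf in
theorem surjective_top_of_epi [CompactSpace X] [T2Space X] [TotallyDisconnectedSpace X]
    {F G : CohTop.Ab X} (g : F ⟶ G) [Epi g] :
    Function.Surjective (g.hom.app (op (⊤ : Opens X))).hom := by
  classical
  intro s
  have hls : TopCat.Presheaf.IsLocallySurjective g.hom :=
    (TopCat.Sheaf.isLocallySurjective_iff_epi g).mpr ‹Epi g›
  have h := (TopCat.Presheaf.isLocallySurjective_iff g.hom).mp hls ⊤ s
  choose V hVle ht hxV using fun x : X => h x (show x ∈ (⊤ : Opens X) from trivial)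
  choose t ht using ht
  have hcov : IsOpenCover V := by
    refine IsOpenCover.mk (top_le_iff.1 ?_)
    intro x _
    exact Opens.mem_iSup.2 ⟨x, hxV x⟩
  obtain ⟨n, W, hW, hWcov, hWdisj⟩ := hcov.exists_finite_nonempty_disjoint_clopen_cover
  choose _ i hi using hW
  let Wo : Fin n → Opens X := fun j => (W j).toOpens
  have hle : ∀ j, Wo j ≤ V (i j) := fun j => hi j
  let sf : ∀ j, F.obj.obj (op (Wo j)) := fun j => restrictOpen (t (i j)) (Wo j) (hle j)
  have hcomp : TopCat.Presheaf.IsCompatible F.obj Wo sf := by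
    intro j k
    by_cases hjk : j = k
    · subst hjk
      exact congrArg (fun m : Wo j ⊓ Wo j ⟶ Wo j => F.obj.map m.op (sf j)) (Subsingleton.elim _ _)
    · apply eq_of_le_bot F
      have hd : Disjoint (W j) (W k) := hWdisj hjk
      intro x hx
      have hbot : x ∈ ((⊥ : Clopens X) : Set X) := hd.le_bot ⟨hx.1, hx.2⟩
      simp at hbot
  have hcover : (⊤ : Opens X) ≤ iSup Wo := by
    intro x _
    obtain ⟨j, hj⟩ := Set.mem_iUnion.1 (hWcov (Set.mem_univ x))
    exact Opens.mem_iSup.2 ⟨j, hj⟩
  obtain ⟨tg, htg, -⟩ := TopCat.Sheaf.existsUnique_gluing' F Wo ⊤ (fun j => homOfLE le_top)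
    hcover sf hcomp
  refine ⟨tg, ?_⟩
  refine TopCat.Sheaf.eq_of_locally_eq' G Wo ⊤ (fun j => homOfLE le_top) hcover _ _ (fun j => ?_)
  have e1 : restrictOpen ((g.hom.app (op ⊤)) tg) (Wo j) le_top =
      (g.hom.app (op (Wo j))) (restrictOpen tg (Wo j) le_top) :=
    (map_restrict g.hom le_top tg).symm
  have e2 : restrictOpen tg (Wo j) le_top = sf j := htg j
  have e3 : (g.hom.app (op (Wo j))) (restrictOpen (t (i j)) (Wo j) (hle j)) =
      restrictOpen ((g.hom.app (op (V (i j)))) (t (i j))) (Wo j) (hle j) :=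
    map_restrict g.hom (hle j) (t (i j))
  have e4 : restrictOpen (restrictOpen s (V (i j)) (hVle (i j))) (Wo j) (hle j) =
      restrictOpen s (Wo j) le_top :=
    restrict_restrict (hle j) (hVle (i j)) s
  show restrictOpen ((g.hom.app (op ⊤)) tg) (Wo j) le_top = restrictOpen s (Wo j) le_top
  rw [e1, e2, e3, ht (i j), e4]

theorem H_succ_subsingleton [CompactSpace X] [T2Space X] [TotallyDisconnectedSpace X]
    (F : CohTop.Ab X) (p : ℕ) : Subsingleton (CohTop.H F (p + 1)) := by
  have h : ∀ x : Abelian.Ext (Groth.Agent.H42.CohTopLib.constZ X) F (p + 1), x = 0 := fun x =>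
    Groth.Agent.H42.CohTopLib.ext_succ_eq_zero (Groth.Agent.H42.CohTopLib.constZ X)
      (fun _ => True) (fun S hS _ _ => ⟨trivial, fun g => by
        have := hS.epi_g
        let r := Groth.Agent.H42.CohTopLib.secRepConst X
        obtain ⟨b, hb⟩ := surjective_top_of_epi S.g (r.e S.X₃ g)
        refine ⟨(r.e S.X₂).symm b, (r.e S.X₃).injective ?_⟩
        rw [r.nat, Equiv.apply_symm_apply]
        exact hb⟩) p F trivial x
  exact ⟨fun a b => (h a).trans (h b).symm⟩

end Groth.Agent.H67.Profinite
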