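import Mathlib
import Groth.Agent.H67.LClass
import Groth.Agent.H30.ModCech3
import Groth.Prelude.Def_CohSite
import Groth.Prelude.Def_ModSite

/-!
# Helper library (helper67): inverse images along a continuous functor whose sheaf pullback on
sheaves of sets preserves fibre products send `Hom`-exact (Čech-acyclic) abelian sheaves to
`Hom`-exact abelian sheaves
-/

set_option autoImplicit false
universe u

open CategoryTheory CategoryTheory.Limits Opposite Abelian AlgebraicTopology Simplicial

namespace Groth.Agent.H67.PullAcyc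

open Groth.Agent.H67.CechTopos Groth.Agent.H67.TorsA Groth.Agent.H67.LClass
  Groth.Agent.H30.CechRes

variable {C D : Type u} [SmallCategory C] [SmallCategory D] {J : GrothendieckTopology C}
  {K : GrothendieckTopology D}

section Cmp

variable (L : Sheaf J (Type u) ⥤ Sheaf K (Type u)) {X' X : Sheaf J (Type u)} (f : X' ⟶ X)

/-- the comparison map of fibre powers -/
noncomputable def cmp (n : ℕ) : L.obj (Wn f n) ⟶ Wn (L.map f) n :=
  WidePullback.lift (L.map (WidePullback.base (fun _ : Fin (n + 1) => f)))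
    (fun k => L.map (WidePullback.π (fun _ : Fin (n + 1) => f) k))
    (fun k => by rw [← L.map_comp, WidePullback.π_arrow])

lemma cmp_π (n : ℕ) (k : Fin (n + 1)) :
    cmp L f n ≫ WidePullback.π (fun _ : Fin (n + 1) => L.map f) k =
      L.map (WidePullback.π (fun _ : Fin (n + 1) => f) k) := by
  unfold cmp
  rw [WidePullback.lift_π]

lemma cmp_base (n : ℕ) :
    cmp L f n ≫ WidePullback.base (fun _ : Fin (n + 1) => L.map f) =
      L.map (WidePullback.base (fun _ : Fin (n + 1) => f)) := by
  unfold cmp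
  rw [WidePullback.lift_base]

lemma dropLast_π {Y' Y : Sheaf J (Type u)} (g : Y' ⟶ Y) (n : ℕ) (k : Fin (n + 1)) :
    dropLast g n ≫ WidePullback.π (fun _ : Fin (n + 1) => g) k =
      WidePullback.π (fun _ : Fin (n + 1 + 1) => g) k.castSucc := by
  unfold dropLast
  rw [WidePullback.lift_π]

lemma dropLast_base {Y' Y : Sheaf J (Type u)} (g : Y' ⟶ Y) (n : ℕ) :
    dropLast g n ≫ WidePullback.base (fun _ : Fin (n + 1) => g) =
      WidePullback.base (fun _ : Fin (n + 1 + 1) => g) := by
  unfold dropLast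
  rw [WidePullback.lift_base]

lemma dropLast_π' {Y' Y : Sheaf K (Type u)} (g : Y' ⟶ Y) (n : ℕ) (k : Fin (n + 1)) :
    dropLast g n ≫ WidePullback.π (fun _ : Fin (n + 1) => g) k =
      WidePullback.π (fun _ : Fin (n + 1 + 1) => g) k.castSucc := by
  unfold dropLast
  rw [WidePullback.lift_π]

lemma dropLast_base' {Y' Y : Sheaf K (Type u)} (g : Y' ⟶ Y) (n : ℕ) :
    dropLast g n ≫ WidePullback.base (fun _ : Fin (n + 1) => g) =
      WidePullback.base (fun _ : Fin (n + 1 + 1) => g) := by
  unfold dropLast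
  rw [WidePullback.lift_base]

lemma cmp_dropLast (n : ℕ) :
    cmp L f (n + 1) ≫ dropLast (L.map f) n = L.map (dropLast f n) ≫ cmp L f n := by
  apply WidePullback.hom_ext
  · intro k
    rw [Category.assoc, dropLast_π', cmp_π, Category.assoc, cmp_π, ← L.map_comp, dropLast_π]
  · rw [Category.assoc, dropLast_base', cmp_base, Category.assoc, cmp_base, ← L.map_comp,
      dropLast_base]

theorem isIso_cmp [PreservesLimitsOfShape WalkingCospan L] : ∀ n : ℕ, IsIso (cmp L f n) := by
  intro n
  induction n with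
  | zero =>
    haveI h1 : IsIso (WidePullback.π (fun _ : Fin (0 + 1) => f) 0) :=
      inferInstanceAs (IsIso (p0Iso (Arrow.mk f)).hom)
    haveI h2 : IsIso (WidePullback.π (fun _ : Fin (0 + 1) => L.map f) 0) :=
      inferInstanceAs (IsIso (p0Iso (Arrow.mk (L.map f))).hom)
    haveI h3 : IsIso (cmp L f 0 ≫ WidePullback.π (fun _ : Fin (0 + 1) => L.map f) 0) := by
      rw [cmp_π]
      infer_instance
    exact IsIso.of_isIso_comp_right (cmp L f 0)
      (WidePullback.π (fun _ : Fin (0 + 1) => L.map f) 0)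
  | succ n ih =>
    haveI := ih
    have hP := (nerve_isPullback f n).map L
    have hP' := nerve_isPullback (L.map f) n
    have hP2 : IsPullback (L.map (dropLast f n) ≫ cmp L f n)
        (L.map (WidePullback.π (fun _ : Fin (n + 1 + 1) => f) (Fin.last (n + 1))))
        (WidePullback.base (fun _ : Fin (n + 1) => L.map f)) (L.map f) :=
      hP.of_iso (Iso.refl _) (asIso (cmp L f n)) (Iso.refl _) (Iso.refl _)
        (by simp) (by simp) (by simp [cmp_base]) (by simp)
    have e : cmp L f (n + 1) = (hP2.isoIsPullback _ _ hP').hom := by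
      apply hP'.hom_ext
      · rw [IsPullback.isoIsPullback_hom_fst, cmp_dropLast]
      · rw [IsPullback.isoIsPullback_hom_snd, cmp_π]
    rw [e]
    infer_instance

lemma cmp_map {m m' : ℕ} (g : (op ⦋m⦌ : SimplexCategoryᵒᵖ) ⟶ op ⦋m'⦌) :
    L.map ((Arrow.mk f).cechNerve.map g) ≫ cmp L f m' =
      cmp L f m ≫ (Arrow.mk (L.map f)).cechNerve.map g := by
  have h1 : ∀ k : Fin (m' + 1), (Arrow.mk f).cechNerve.map g ≫
      WidePullback.π (fun _ : Fin (m' + 1) => f) k =
      WidePullback.π (fun _ : Fin (m + 1) => f) (g.unop.toOrderHom k) :=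
    fun k => WidePullback.lift_π _ _ _ _ _
  have h1' : ∀ k : Fin (m' + 1), (Arrow.mk (L.map f)).cechNerve.map g ≫
      WidePullback.π (fun _ : Fin (m' + 1) => L.map f) k =
      WidePullback.π (fun _ : Fin (m + 1) => L.map f) (g.unop.toOrderHom k) :=
    fun k => WidePullback.lift_π _ _ _ _ _
  have h2 : (Arrow.mk f).cechNerve.map g ≫ WidePullback.base (fun _ : Fin (m' + 1) => f) =
      WidePullback.base (fun _ : Fin (m + 1) => f) := WidePullback.lift_base _ _ _ _
  have h2' : (Arrow.mk (L.map f)).cechNerve.map g ≫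
      WidePullback.base (fun _ : Fin (m' + 1) => L.map f) =
      WidePullback.base (fun _ : Fin (m + 1) => L.map f) := WidePullback.lift_base _ _ _ _
  apply WidePullback.hom_ext
  · intro k
    rw [Category.assoc, cmp_π, ← L.map_comp, h1, Category.assoc, h1', cmp_π]
  · rw [Category.assoc, cmp_base, ← L.map_comp, h2, Category.assoc, h2', cmp_base]

end Cmp

section Main

variable (J K) (u : C ⥤ D) [u.IsContinuous J K]

/-- inverse image of sheaves of sets -/
noncomputable abbrev Ls : Sheaf J (Type u) ⥤ Sheaf K (Type u) := u.sheafPullback (Type u) J K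

/-- inverse image of abelian sheaves -/
noncomputable abbrev La : Sheaf J AddCommGrpCat.{u} ⥤ Sheaf K AddCommGrpCat.{u} :=
  u.sheafPullback AddCommGrpCat.{u} J K

/-- direct image of abelian sheaves -/
noncomputable abbrev Ra : Sheaf K AddCommGrpCat.{u} ⥤ Sheaf J AddCommGrpCat.{u} :=
  u.sheafPushforwardContinuous AddCommGrpCat.{u} J K

noncomputable abbrev adjA : La J K u ⊣ Ra J K u :=
  u.sheafAdjunctionContinuous AddCommGrpCat.{u} J K

noncomputable abbrev adjL : Ls J K u ⊣ u.sheafPushforwardContinuous (Type u) J K :=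
  u.sheafAdjunctionContinuous (Type u) J K

/-- free abelian sheaves commute with inverse images -/
noncomputable def eIso : Φ J ⋙ La J K u ≅ Ls J K u ⋙ Φ K :=
  Adjunction.leftAdjointUniq ((adj J).comp (adjA J K u))
    (((adjL J K u).comp (adj K)) : Ls J K u ⋙ Φ K ⊣ Ra J K u ⋙ UU J)

variable [PreservesLimitsOfShape WalkingCospan (Ls J K u)]

/-- the comparison of the terms of the Čech complexes -/
noncomputable def E {K' K₀ : Sheaf J (Type u)} (f : K' ⟶ K₀) (m : ℕ) :
    (La J K u).obj ((Pc f).X m) ≅ (Pc ((Ls J K u).map f)).X m :=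
  haveI := isIso_cmp (Ls J K u) f m
  (eIso J K u).app (Wn f m) ≪≫ (Φ K).mapIso (asIso (cmp (Ls J K u) f m))

lemma E_hom {K' K₀ : Sheaf J (Type u)} (f : K' ⟶ K₀) (m : ℕ) :
    (E J K u f m).hom =
      (eIso J K u).hom.app (Wn f m) ≫ (Φ K).map (cmp (Ls J K u) f m) := rfl

lemma E_face {K' K₀ : Sheaf J (Type u)} (f : K' ⟶ K₀) (m : ℕ) (i : Fin (m + 2)) :
    (La J K u).map ((Φ J).map ((Arrow.mk f).cechNerve.map (SimplexCategory.δ i).op)) ≫
        (E J K u f m).hom =
      (E J K u f (m + 1)).hom ≫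
        (Φ K).map ((Arrow.mk ((Ls J K u).map f)).cechNerve.map (SimplexCategory.δ i).op) := by
  rw [E_hom, E_hom]
  have h1 := (eIso J K u).hom.naturality ((Arrow.mk f).cechNerve.map (SimplexCategory.δ i).op)
  have h2 := cmp_map (Ls J K u) f (SimplexCategory.δ i).op
  calc (La J K u).map ((Φ J).map ((Arrow.mk f).cechNerve.map (SimplexCategory.δ i).op)) ≫
        (eIso J K u).hom.app (Wn f m) ≫ (Φ K).map (cmp (Ls J K u) f m)
      = ((La J K u).map ((Φ J).map ((Arrow.mk f).cechNerve.map (SimplexCategory.δ i).op)) ≫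
        (eIso J K u).hom.app (Wn f m)) ≫ (Φ K).map (cmp (Ls J K u) f m) :=
        (Category.assoc _ _ _).symm
    _ = ((eIso J K u).hom.app (Wn f (m + 1)) ≫
        (Φ K).map ((Ls J K u).map ((Arrow.mk f).cechNerve.map (SimplexCategory.δ i).op))) ≫
          (Φ K).map (cmp (Ls J K u) f m) :=
        congrArg (fun t => t ≫ (Φ K).map (cmp (Ls J K u) f m)) h1
    _ = (eIso J K u).hom.app (Wn f (m + 1)) ≫
        (Φ K).map ((Ls J K u).map ((Arrow.mk f).cechNerve.map (SimplexCategory.δ i).op) ≫
          cmp (Ls J K u) f m) := by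
        rw [Category.assoc, ← Functor.map_comp]
    _ = (eIso J K u).hom.app (Wn f (m + 1)) ≫
        (Φ K).map (cmp (Ls J K u) f (m + 1) ≫
          (Arrow.mk ((Ls J K u).map f)).cechNerve.map (SimplexCategory.δ i).op) := by
        rw [h2]
    _ = ((eIso J K u).hom.app (Wn f (m + 1)) ≫ (Φ K).map (cmp (Ls J K u) f (m + 1))) ≫
        (Φ K).map ((Arrow.mk ((Ls J K u).map f)).cechNerve.map (SimplexCategory.δ i).op) := by
        rw [Functor.map_comp, Category.assoc]

lemma E_d {K' K₀ : Sheaf J (Type u)} (f : K' ⟶ K₀) (m : ℕ) :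
    (La J K u).map ((Pc f).d (m + 1) m) ≫ (E J K u f m).hom =
      (E J K u f (m + 1)).hom ≫ (Pc ((Ls J K u).map f)).d (m + 1) m := by
  haveI : (Ra J K u).Additive := inferInstanceAs ((CohSite.push K J u).Additive)
  haveI : (La J K u).Additive := (adjA J K u).left_adjoint_additive
  rw [AlternatingFaceMapComplex.obj_d_eq, AlternatingFaceMapComplex.obj_d_eq, Functor.map_sum,
    Preadditive.sum_comp, Preadditive.comp_sum]
  refine Finset.sum_congr rfl (fun i _ => ?_)
  rw [Functor.map_zsmul, Preadditive.zsmul_comp, Preadditive.comp_zsmul]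
  exact congrArg (fun t => ((-1 : ℤ) ^ (i : ℕ)) • t) (E_face J K u f m i)

/-- `Hom`-exactness passes to the inverse image -/
theorem he_push (I' : Sheaf K AddCommGrpCat.{u}) (hI : HE I') : HE ((Ra J K u).obj I') := by
  intro K' K₀ f hf n φ hφ
  haveI : (Ra J K u).Additive := inferInstanceAs ((CohSite.push K J u).Additive)
  haveI : (La J K u).Additive := (adjA J K u).left_adjoint_additive
  haveI : (Ls J K u).PreservesEpimorphisms :=
    Functor.preservesEpimorphisms_of_adjunction (adjL J K u)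
  haveI := hf
  have hLf : Epi ((Ls J K u).map f) := (Ls J K u).map_epi f
  obtain ⟨φb, hφb_def⟩ : ∃ φb : (La J K u).obj ((Pc f).X (n + 1)) ⟶ I',
      φb = ((adjA J K u).homEquiv _ _).symm φ := ⟨_, rfl⟩
  have hφb : (La J K u).map ((Pc f).d (n + 2) (n + 1)) ≫ φb = 0 := by
    rw [hφb_def, ← Adjunction.homEquiv_naturality_left_symm, hφ]
    exact (adjA J K u).homAddEquiv_symm_zero _ _
  have h1 : (La J K u).map ((Pc f).d (n + 2) (n + 1)) ≫ (E J K u f (n + 1)).hom =
      (E J K u f (n + 2)).hom ≫ (Pc ((Ls J K u).map f)).d (n + 2) (n + 1) := E_d J K u f (n + 1)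
  have h2 : (Pc ((Ls J K u).map f)).d (n + 2) (n + 1) ≫ (E J K u f (n + 1)).inv =
      (E J K u f (n + 2)).inv ≫ (La J K u).map ((Pc f).d (n + 2) (n + 1)) := by
    rw [Iso.comp_inv_eq, Category.assoc, h1, Iso.inv_hom_id_assoc]
  have hφ' : (Pc ((Ls J K u).map f)).d (n + 2) (n + 1) ≫ ((E J K u f (n + 1)).inv ≫ φb) = 0 := by
    rw [← Category.assoc, h2, Category.assoc, hφb, comp_zero]
  obtain ⟨ψ', hψ'⟩ := hI _ _ ((Ls J K u).map f) hLf n ((E J K u f (n + 1)).inv ≫ φb) hφ'
  refine ⟨(adjA J K u).homEquiv _ _ ((E J K u f n).hom ≫ ψ'), ?_⟩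
  apply ((adjA J K u).homEquiv _ _).symm.injective
  rw [Adjunction.homEquiv_naturality_left_symm, Equiv.symm_apply_apply, ← Category.assoc,
    E_d J K u f n, Category.assoc, hψ', Iso.hom_inv_id_assoc, hφb_def]

end Main

end Groth.Agent.H67.PullAcyc
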