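import Groth.Agent.H67.SpecClosedAb
import Mathlib.CategoryTheory.Sites.Equivalence
import Mathlib.CategoryTheory.Adjunction.FullyFaithful

/-!
# Quasi-homeomorphisms and equivalences of sheaf categories (helper67)
-/

set_option autoImplicit false
universe u
open CategoryTheory TopologicalSpace Opposite TopCat

namespace Groth.Agent.H67.QuasiHomeo

variable {X₀ X : TopCat.{u}} (f : X₀ ⟶ X)

section AtoB

variable (hbij : Function.Bijective (fun U : Opens X => (Opens.map f).obj U))

include hbij in
theorem le_of_map_le {U V : Opens X} (h : (Opens.map f).obj U ≤ (Opens.map f).obj V) :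
    U ≤ V := by
  have h1 : (Opens.map f).obj (U ⊓ V) = (Opens.map f).obj U := by
    apply le_antisymm
    · intro x hx; exact hx.1
    · intro x hx; exact ⟨hx, h hx⟩
  have h2 : U ⊓ V = U := hbij.1 h1
  exact h2 ▸ inf_le_right

/-- the order isomorphism `U ↦ f⁻¹ U` -/
noncomputable def orderIso : Opens X ≃o Opens X₀ where
  toEquiv := Equiv.ofBijective _ hbij
  map_rel_iff' := by
    intro U V
    constructor
    · exact le_of_map_le f hbij
    · intro h x hx; exact h hx

theorem orderIso_apply (U : Opens X) : orderIso f hbij U = (Opens.map f).obj U := rfl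

/-- the equivalence of categories of opens, with inverse `U ↦ f⁻¹ U` -/
noncomputable def equiv : Opens X₀ ≌ Opens X := (orderIso f hbij).equivalence.symm

theorem map_functor_obj (U₀ : Opens X₀) :
    (Opens.map f).obj ((equiv f hbij).functor.obj U₀) = U₀ :=
  (orderIso f hbij).apply_symm_apply U₀

theorem functor_obj_map (V : Opens X) :
    (equiv f hbij).functor.obj ((Opens.map f).obj V) = V :=
  (orderIso f hbij).symm_apply_apply V

theorem cocont_functor : (equiv f hbij).functor.IsCocontinuous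
    (Opens.grothendieckTopology X₀) (Opens.grothendieckTopology X) where
  cover_lift := by
    intro U₀ S hS x₀ hx₀
    have hU₀ := map_functor_obj f hbij U₀
    have hfx : f x₀ ∈ (equiv f hbij).functor.obj U₀ := by
      have : x₀ ∈ (Opens.map f).obj ((equiv f hbij).functor.obj U₀) := by rw [hU₀]; exact hx₀
      exact this
    obtain ⟨V, g, hSg, hxV⟩ := hS (f x₀) hfx
    have hWU : (Opens.map f).obj V ≤ U₀ := by
      rw [← hU₀]; exact fun y hy => g.le hy
    refine ⟨(Opens.map f).obj V, homOfLE hWU, ?_, hxV⟩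
    have hV := functor_obj_map f hbij V
    have h3 := S.downward_closed hSg (homOfLE (le_of_eq hV))
    have h4 : homOfLE (le_of_eq hV) ≫ g = (equiv f hbij).functor.map (homOfLE hWU) :=
      Subsingleton.elim _ _
    rw [h4] at h3
    exact h3

theorem cocont_inverse : (equiv f hbij).inverse.IsCocontinuous
    (Opens.grothendieckTopology X) (Opens.grothendieckTopology X₀) where
  cover_lift := by
    intro U S hS x hxU
    let 𝒱 : Set (Opens X) := {V | ∃ (hVU : V ≤ U), S ((equiv f hbij).inverse.map (homOfLE hVU))}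
    have hU : U ≤ sSup 𝒱 := by
      apply le_of_map_le f hbij
      intro x₀ hx₀
      obtain ⟨W, g, hSg, hxW⟩ := hS x₀ hx₀
      have hW : (Opens.map f).obj ((equiv f hbij).functor.obj W) = W := map_functor_obj f hbij W
      have hVU : (equiv f hbij).functor.obj W ≤ U := by
        apply le_of_map_le f hbij
        rw [hW]; exact g.le
      have hmem : (equiv f hbij).functor.obj W ∈ 𝒱 := by
        refine ⟨hVU, ?_⟩
        have h3 := S.downward_closed hSg (homOfLE (le_of_eq hW))
        have h4 : homOfLE (le_of_eq hW) ≫ g = (equiv f hbij).inverse.map (homOfLE hVU) :=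
          Subsingleton.elim _ _
        rw [h4] at h3
        exact h3
      have hfx : f x₀ ∈ (equiv f hbij).functor.obj W := by
        have : x₀ ∈ (Opens.map f).obj ((equiv f hbij).functor.obj W) := by rw [hW]; exact hxW
        exact this
      exact Opens.mem_sSup.mpr ⟨_, hmem, hfx⟩
    obtain ⟨V, ⟨hVU, hSV⟩, hxV⟩ := Opens.mem_sSup.mp (hU hxU)
    exact ⟨V, homOfLE hVU, hSV, hxV⟩

include hbij in
theorem pushforward_isEquivalence (A : Type*) [Category A] :
    (TopCat.Sheaf.pushforward A f).IsEquivalence := by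
  have := cocont_functor f hbij
  have := cocont_inverse f hbij
  have : (equiv f hbij).inverse.IsDenseSubsite (Opens.grothendieckTopology X)
      (Opens.grothendieckTopology X₀) :=
    Equivalence.isDenseSubsite_inverse_of_isCocontinuous (Opens.grothendieckTopology X₀)
      (Opens.grothendieckTopology X) (equiv f hbij)
  have h := (Equivalence.sheafCongr (Opens.grothendieckTopology X₀)
    (Opens.grothendieckTopology X) (equiv f hbij) A).isEquivalence_functor
  exact h

end AtoB

/-! ## `f^*` an equivalence on sheaves of sets implies `U ↦ f⁻¹ U` bijective -/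

section BtoA

open Groth.Agent.H67

variable {L : TopCat.Sheaf (Type u) X ⥤ TopCat.Sheaf (Type u) X₀}
  (adj : L ⊣ TopCat.Sheaf.pushforward (Type u) f) [L.IsEquivalence]

theorem sec_inj_of_isIso {Y : TopCat.{u}} {G G' : TopCat.Sheaf (Type u) Y} (φ : G ⟶ G') [IsIso φ]
    (U : Opens Y) : Function.Injective (φ.hom.app (op U)) := by
  intro a b hab
  have h1 := congr_arg (fun m : G ⟶ G => m.hom.app (op U) a) (IsIso.hom_inv_id φ)
  have h2 := congr_arg (fun m : G ⟶ G => m.hom.app (op U) b) (IsIso.hom_inv_id φ)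
  have h3 := congr_arg (fun t => (inv φ).hom.app (op U) t) hab
  exact h1.symm.trans (h3.trans h2)

theorem res_inj_of_le {Y : TopCat.{u}} (H : TopCat.Sheaf (Type u) Y) {A B : Opens Y}
    (hAB : A ≤ B) (hBA : B ≤ A) : Function.Injective (H.1.map (homOfLE hAB).op) := by
  intro a b hab
  have h := congr_arg (fun t => H.1.map (homOfLE hBA).op t) hab
  simp only [] at h
  rw [SpecClosed.map_map_eq _ _ _ (𝟙 _), SpecClosed.map_map_eq _ _ _ (𝟙 _),
    Functor.map_id_apply, Functor.map_id_apply] at h
  exact h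

include adj in
theorem le_of_map_le' {U V : Opens X} (hVU : V ≤ U)
    (h : (Opens.map f).obj U ≤ (Opens.map f).obj V) : U ≤ V := by
  intro x hxU
  by_contra hxV
  let G : TopCat.Sheaf (Type u) X := TopCat.sheafToTypes X (fun _ => ULift.{u} Prop)
  let s : G.1.obj (op U) := fun y => ULift.up (y.1 = x)
  let s' : G.1.obj (op U) := fun _ => ULift.up False
  have hres : G.1.map (homOfLE hVU).op s = G.1.map (homOfLE hVU).op s' := by
    funext y
    show ULift.up _ = ULift.up _
    congr 1
    exact propext ⟨fun hy => hxV (hy ▸ y.2), False.elim⟩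
  have n1 := NatTrans.naturality_apply (adj.unit.app G).hom (homOfLE hVU).op s
  have n2 := NatTrans.naturality_apply (adj.unit.app G).hom (homOfLE hVU).op s'
  have e1 := n1.symm.trans
    ((congr_arg (fun t => (adj.unit.app G).hom.app (op V) t) hres).trans n2)
  have hVU' : (Opens.map f).obj V ≤ (Opens.map f).obj U := fun y hy => hVU hy
  have e2 : (adj.unit.app G).hom.app (op U) s = (adj.unit.app G).hom.app (op U) s' :=
    res_inj_of_le (L.obj G) hVU' h e1
  have : IsIso (adj.unit.app G) := inferInstance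
  have e3 := sec_inj_of_isIso (adj.unit.app G) U e2
  have e4 := congr_fun e3 ⟨x, hxU⟩
  exact (ULift.up.inj e4).mp rfl

include adj in
theorem exists_nhd_preimage_le {W : Opens X₀} {x₀ : X₀} (hx₀ : x₀ ∈ W) :
    ∃ V : Opens X, f x₀ ∈ V ∧ (Opens.map f).obj V ≤ W := by
  let G₀ : TopCat.Sheaf (Type u) X₀ := TopCat.sheafToTypes X₀ (fun _ => ULift.{u} Prop)
  let RG := (TopCat.Sheaf.pushforward (Type u) f).obj G₀
  let s : RG.1.obj (op ⊤) := fun y => ULift.up (y.1 ∈ W)
  let s' : RG.1.obj (op ⊤) := fun _ => ULift.up True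
  have hW : W ≤ (Opens.map f).obj ⊤ := fun _ _ => True.intro
  have hres : G₀.1.map (homOfLE hW).op s = G₀.1.map (homOfLE hW).op s' := by
    funext y
    show ULift.up _ = ULift.up _
    congr 1
    exact propext ⟨fun _ => True.intro, fun _ => y.2⟩
  have tri : ∀ t : RG.1.obj (op ⊤),
      (adj.counit.app G₀).hom.app (op ((Opens.map f).obj ⊤))
        ((adj.unit.app RG).hom.app (op ⊤) t) = t := by
    intro t
    exact congr_arg (fun m : RG ⟶ RG => m.hom.app (op ⊤) t) (adj.right_triangle_components G₀)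
  have : (TopCat.Sheaf.pushforward (Type u) f).IsEquivalence :=
    adj.isEquivalence_right_of_isEquivalence_left
  have : IsIso (adj.counit.app G₀) := inferInstance
  have n1 := NatTrans.naturality_apply (adj.counit.app G₀).hom (homOfLE hW).op
    ((adj.unit.app RG).hom.app (op ⊤) s)
  have n2 := NatTrans.naturality_apply (adj.counit.app G₀).hom (homOfLE hW).op
    ((adj.unit.app RG).hom.app (op ⊤) s')
  have ha : (L.obj RG).1.map (homOfLE hW).op ((adj.unit.app RG).hom.app (op ⊤) s) =
      (L.obj RG).1.map (homOfLE hW).op ((adj.unit.app RG).hom.app (op ⊤) s') := by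
    apply sec_inj_of_isIso (adj.counit.app G₀) W
    refine n1.trans (((congr_arg (fun t => G₀.1.map (homOfLE hW).op t) (tri s)).trans
      (hres.trans (congr_arg (fun t => G₀.1.map (homOfLE hW).op t) (tri s')).symm)).trans n2.symm)
  have hgerm := SpecClosed.unit_germ_inj f adj RG x₀ (U := ⊤) (U' := ⊤) True.intro True.intro s s' W
    hx₀ hW hW ha
  obtain ⟨V, hxV, iU, iV, e⟩ := RG.presheaf.germ_eq (U := ⊤) (V := ⊤) (f x₀) True.intro True.intro s s' hgerm
  refine ⟨V, hxV, ?_⟩
  intro y hy
  have e4 := congr_fun e ⟨y, hy⟩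
  exact (ULift.up.inj e4).mpr True.intro

include adj in
theorem bijective_of_isEquivalence :
    Function.Bijective (fun U : Opens X => (Opens.map f).obj U) := by
  constructor
  · intro U U' h
    have h' : (Opens.map f).obj U = (Opens.map f).obj U' := h
    have h1 : U ≤ U ⊓ U' := le_of_map_le' f adj inf_le_left (fun x hx => ⟨hx, h'.le hx⟩)
    have h2 : U' ≤ U ⊓ U' := le_of_map_le' f adj inf_le_right (fun x hx => ⟨h'.ge hx, hx⟩)
    exact le_antisymm (h1.trans inf_le_right) (h2.trans inf_le_left)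
  · intro U₀
    refine ⟨sSup {V : Opens X | (Opens.map f).obj V ≤ U₀}, ?_⟩
    apply le_antisymm
    · intro x₀ hx₀
      obtain ⟨V, hV, hxV⟩ := Opens.mem_sSup.mp hx₀
      exact hV hxV
    · intro x₀ hx₀
      obtain ⟨V, hxV, hV⟩ := exists_nhd_preimage_le f adj hx₀
      exact Opens.mem_sSup.mpr ⟨V, hV, hxV⟩

end BtoA

/-! ## `f^*` an equivalence on abelian sheaves implies `U ↦ f⁻¹ U` bijective -/

section CtoA

open Groth.Agent.H67

variable {L : TopCat.Sheaf AddCommGrpCat.{u} X ⥤ TopCat.Sheaf AddCommGrpCat.{u} X₀}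
  (adj : L ⊣ TopCat.Sheaf.pushforward AddCommGrpCat.{u} f) [L.IsEquivalence]

theorem sec_inj_of_isIso_ab {Y : TopCat.{u}} {G G' : TopCat.Sheaf AddCommGrpCat.{u} Y}
    (φ : G ⟶ G') [IsIso φ] (U : Opens Y) : Function.Injective (φ.hom.app (op U)) := by
  intro a b hab
  have h1 := congr_arg (fun m : G ⟶ G => m.hom.app (op U) a) (IsIso.hom_inv_id φ)
  have h2 := congr_arg (fun m : G ⟶ G => m.hom.app (op U) b) (IsIso.hom_inv_id φ)
  have h3 := congr_arg (fun t => (inv φ).hom.app (op U) t) hab
  exact h1.symm.trans (h3.trans h2)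

theorem res_inj_of_le_ab {Y : TopCat.{u}} (H : TopCat.Sheaf AddCommGrpCat.{u} Y) {A B : Opens Y}
    (hAB : A ≤ B) (hBA : B ≤ A) : Function.Injective (H.1.map (homOfLE hAB).op) := by
  intro a b hab
  have h := congr_arg (fun t => H.1.map (homOfLE hBA).op t) hab
  simp only [] at h
  rw [SpecClosedAb.map_map_eq _ _ _ (𝟙 _), SpecClosedAb.map_map_eq _ _ _ (𝟙 _),
    CategoryTheory.Functor.map_id] at h
  exact h

include adj in
theorem le_of_map_le_ab {U V : Opens X} (hVU : V ≤ U)
    (h : (Opens.map f).obj U ≤ (Opens.map f).obj V) : U ≤ V := by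
  classical
  intro x hxU
  by_contra hxV
  let G : TopCat.Sheaf AddCommGrpCat.{u} X := SpecClosedAb.piSheaf (fun _ : X => ULift.{u} ℤ)
  let s : G.1.obj (op U) := fun y => ULift.up (if y.1 = x then (1 : ℤ) else 0)
  let s' : G.1.obj (op U) := fun _ => ULift.up (0 : ℤ)
  have hres : G.1.map (homOfLE hVU).op s = G.1.map (homOfLE hVU).op s' := by
    funext y
    show (ULift.up (if y.1 = x then (1 : ℤ) else 0) : ULift.{u} ℤ) = ULift.up 0
    rw [if_neg (fun hy : y.1 = x => hxV (hy ▸ y.2))]
  have n1 := NatTrans.naturality_apply (adj.unit.app G).hom (homOfLE hVU).op s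
  have n2 := NatTrans.naturality_apply (adj.unit.app G).hom (homOfLE hVU).op s'
  have e1 := n1.symm.trans
    ((congr_arg (fun t => (adj.unit.app G).hom.app (op V) t) hres).trans n2)
  have hVU' : (Opens.map f).obj V ≤ (Opens.map f).obj U := fun y hy => hVU hy
  have e2 : (adj.unit.app G).hom.app (op U) s = (adj.unit.app G).hom.app (op U) s' :=
    res_inj_of_le_ab (L.obj G) hVU' h e1
  have : IsIso (adj.unit.app G) := inferInstance
  have e3 := sec_inj_of_isIso_ab (adj.unit.app G) U e2
  have e4 := congr_fun e3 ⟨x, hxU⟩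
  have e5 : (ULift.up (if x = x then (1 : ℤ) else 0) : ULift.{u} ℤ) = ULift.up 0 := e4
  rw [if_pos rfl] at e5
  exact absurd (ULift.up.inj e5) one_ne_zero

include adj in
theorem exists_nhd_preimage_le_ab {W : Opens X₀} {x₀ : X₀} (hx₀ : x₀ ∈ W) :
    ∃ V : Opens X, f x₀ ∈ V ∧ (Opens.map f).obj V ≤ W := by
  classical
  let G₀ : TopCat.Sheaf AddCommGrpCat.{u} X₀ :=
    SpecClosedAb.piSheaf (fun _ : X₀ => ULift.{u} ℤ)
  let RG := (TopCat.Sheaf.pushforward AddCommGrpCat.{u} f).obj G₀
  let s : RG.1.obj (op ⊤) := fun y => ULift.up (if y.1 ∈ W then (1 : ℤ) else 0)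
  let s' : RG.1.obj (op ⊤) := fun _ => ULift.up (1 : ℤ)
  have hW : W ≤ (Opens.map f).obj ⊤ := fun _ _ => True.intro
  have hres : G₀.1.map (homOfLE hW).op s = G₀.1.map (homOfLE hW).op s' := by
    funext y
    show (ULift.up (if y.1 ∈ W then (1 : ℤ) else 0) : ULift.{u} ℤ) = ULift.up 1
    rw [if_pos y.2]
  have tri : ∀ t : RG.1.obj (op ⊤),
      (adj.counit.app G₀).hom.app (op ((Opens.map f).obj ⊤))
        ((adj.unit.app RG).hom.app (op ⊤) t) = t := by
    intro t
    exact congr_arg (fun m : RG ⟶ RG => m.hom.app (op ⊤) t) (adj.right_triangle_components G₀)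
  have : (TopCat.Sheaf.pushforward AddCommGrpCat.{u} f).IsEquivalence :=
    adj.isEquivalence_right_of_isEquivalence_left
  have : IsIso (adj.counit.app G₀) := inferInstance
  have n1 := NatTrans.naturality_apply (adj.counit.app G₀).hom (homOfLE hW).op
    ((adj.unit.app RG).hom.app (op ⊤) s)
  have n2 := NatTrans.naturality_apply (adj.counit.app G₀).hom (homOfLE hW).op
    ((adj.unit.app RG).hom.app (op ⊤) s')
  have ha : (L.obj RG).1.map (homOfLE hW).op ((adj.unit.app RG).hom.app (op ⊤) s) =
      (L.obj RG).1.map (homOfLE hW).op ((adj.unit.app RG).hom.app (op ⊤) s') := by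
    apply sec_inj_of_isIso_ab (adj.counit.app G₀) W
    refine n1.trans (((congr_arg (fun t => G₀.1.map (homOfLE hW).op t) (tri s)).trans
      (hres.trans (congr_arg (fun t => G₀.1.map (homOfLE hW).op t) (tri s')).symm)).trans n2.symm)
  have hgerm := SpecClosedAb.unit_germ_inj f adj RG x₀ (U := ⊤) (U' := ⊤) True.intro True.intro
    s s' W hx₀ hW hW ha
  obtain ⟨V, hxV, iU, iV, e⟩ :=
    RG.presheaf.germ_eq (U := ⊤) (V := ⊤) (f x₀) True.intro True.intro s s' hgerm
  refine ⟨V, hxV, ?_⟩
  intro y hy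
  have e4 := congr_fun e ⟨y, hy⟩
  have e5 : (ULift.up (if y ∈ W then (1 : ℤ) else 0) : ULift.{u} ℤ) = ULift.up 1 := e4
  by_contra hyW
  rw [if_neg hyW] at e5
  exact absurd (ULift.up.inj e5) zero_ne_one

include adj in
theorem bijective_of_isEquivalence_ab :
    Function.Bijective (fun U : Opens X => (Opens.map f).obj U) := by
  constructor
  · intro U U' h
    have h' : (Opens.map f).obj U = (Opens.map f).obj U' := h
    have h1 : U ≤ U ⊓ U' := le_of_map_le_ab f adj inf_le_left (fun x hx => ⟨hx, h'.le hx⟩)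
    have h2 : U' ≤ U ⊓ U' := le_of_map_le_ab f adj inf_le_right (fun x hx => ⟨h'.ge hx, hx⟩)
    exact le_antisymm (h1.trans inf_le_right) (h2.trans inf_le_left)
  · intro U₀
    refine ⟨sSup {V : Opens X | (Opens.map f).obj V ≤ U₀}, ?_⟩
    apply le_antisymm
    · intro x₀ hx₀
      obtain ⟨V, hV, hxV⟩ := Opens.mem_sSup.mp hx₀
      exact hV hxV
    · intro x₀ hx₀
      obtain ⟨V, hxV, hV⟩ := exists_nhd_preimage_le_ab f adj hx₀
      exact Opens.mem_sSup.mpr ⟨V, hV, hxV⟩

end CtoA

end Groth.Agent.H67.QuasiHomeo
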