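import Mathlib.Algebra.Module.CharacterModule
import Mathlib.GroupTheory.Index
import Mathlib.Topology.Instances.AddCircle.Defs
import Mathlib.GroupTheory.QuotientGroup.Basic
import Mathlib.GroupTheory.OrderOfElement

set_option autoImplicit false

namespace Groth.Agent.H67

/-- In an abelian group of exponent dividing `k > 0`, every non-trivial element is avoided by a
finite-index subgroup. -/
theorem exists_finiteIndex_not_mem {B : Type*} [CommGroup B] (k : ℕ) (hk : 0 < k)
    (hB : ∀ b : B, b ^ k = 1) {f : B} (hf : f ≠ 1) :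
    ∃ K : Subgroup B, K.FiniteIndex ∧ f ∉ K := by
  have hf' : Additive.ofMul f ≠ 0 := fun h => hf (by simpa using h)
  obtain ⟨c, hc⟩ := CharacterModule.exists_character_apply_ne_zero_of_ne_zero (A := Additive B) hf'
  let χ : B →* Multiplicative (AddCircle (1 : ℚ)) := AddMonoidHom.toMultiplicativeRight c
  have hfin : Finite χ.range := by
    have hsub : (χ.range : Set (Multiplicative (AddCircle (1 : ℚ)))) ⊆
        Multiplicative.toAdd ⁻¹' {u : AddCircle (1 : ℚ) | k • u = 0} := by
      rintro _ ⟨b, rfl⟩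
      change k • c (Additive.ofMul b) = 0
      rw [← map_nsmul, ← ofMul_pow, hB, ofMul_one, map_zero]
    have hfin' : (Multiplicative.toAdd ⁻¹' {u : AddCircle (1 : ℚ) | k • u = 0}).Finite :=
      (AddCircle.finite_torsion (p := (1 : ℚ)) hk).preimage
        (Multiplicative.toAdd.injective.injOn)
    exact (hfin'.subset hsub).to_subtype
  refine ⟨χ.ker, Subgroup.finiteIndex_ker χ, ?_⟩
  intro hmem
  apply hc
  have h1 : χ f = 1 := hmem
  exact Multiplicative.ofAdd.injective h1

/-- A finite-index subgroup of a subgroup `A'` of an abelian group `A` contains the trace of a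
finite-index subgroup of `A`, provided the torsion of `A ⧸ A'` is bounded. -/
theorem exists_finiteIndex_inter_le {A : Type*} [CommGroup A] (A' : Subgroup A) (N : ℕ)
    (hN : 0 < N) (htors : ∀ x : A ⧸ A', IsOfFinOrder x → x ^ N = 1) (H' : Subgroup A')
    [H'.FiniteIndex] :
    ∃ H : Subgroup A, H.FiniteIndex ∧ ∀ x : A', (x : A) ∈ H → x ∈ H' := by
  classical
  have hm0 : 0 < H'.index := Nat.pos_of_ne_zero Subgroup.FiniteIndex.index_ne_zero
  have hk0 : 0 < N * H'.index := Nat.mul_pos hN hm0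
  let H₀ : Subgroup A := H'.map A'.subtype ⊔ (powMonoidHom (N * H'.index) : A →* A).range
  have hH₀ : ∀ x : A', (x : A) ∈ H₀ → x ∈ H' := by
    intro x hx
    obtain ⟨h, hh, z, hz, hxz⟩ := Subgroup.mem_sup.1 hx
    obtain ⟨h', hh', rfl⟩ := Subgroup.mem_map.1 hh
    obtain ⟨a, rfl⟩ := hz
    have hxz' : (h' : A) * a ^ (N * H'.index) = (x : A) := hxz
    have hak : a ^ (N * H'.index) ∈ A' := by
      have : a ^ (N * H'.index) = ((h'⁻¹ * x : A') : A) := by
        rw [Subgroup.coe_mul, Subgroup.coe_inv, ← hxz', inv_mul_cancel_left]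
      rw [this]
      exact (h'⁻¹ * x).2
    have hfin : IsOfFinOrder (QuotientGroup.mk a : A ⧸ A') := by
      rw [isOfFinOrder_iff_pow_eq_one]
      exact ⟨N * H'.index, hk0, by
        rw [← QuotientGroup.mk_pow]
        exact (QuotientGroup.eq_one_iff _).2 hak⟩
    have haN : a ^ N ∈ A' := by
      have := htors _ hfin
      rw [← QuotientGroup.mk_pow] at this
      exact (QuotientGroup.eq_one_iff _).1 this
    have hw : (⟨a ^ N, haN⟩ : A') ^ H'.index ∈ H' := Subgroup.pow_index_mem H' _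
    have hx' : x = h' * (⟨a ^ N, haN⟩ : A') ^ H'.index := by
      apply Subtype.ext
      rw [Subgroup.coe_mul, Subgroup.coe_pow, ← hxz', pow_mul]
    rw [hx']
    exact H'.mul_mem hh' hw
  have hB : ∀ b : A ⧸ H₀, b ^ (N * H'.index) = 1 := by
    intro b
    obtain ⟨a, rfl⟩ := QuotientGroup.mk_surjective b
    rw [← QuotientGroup.mk_pow]
    exact (QuotientGroup.eq_one_iff _).2 (Subgroup.mem_sup_right ⟨a, rfl⟩)
  have hK : ∀ q : A' ⧸ H', q ≠ 1 → ∃ K : Subgroup (A ⧸ H₀), K.FiniteIndex ∧
      (QuotientGroup.mk ((Quotient.out q : A') : A) : A ⧸ H₀) ∉ K := by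
    intro q hq
    apply exists_finiteIndex_not_mem (N * H'.index) hk0 hB
    intro h1
    apply hq
    have := hH₀ _ ((QuotientGroup.eq_one_iff _).1 h1)
    rw [← QuotientGroup.out_eq' q]
    exact (QuotientGroup.eq_one_iff _).2 this
  choose K hKfi hKnot using hK
  let Kall : Subgroup (A ⧸ H₀) := ⨅ q : {q : A' ⧸ H' // q ≠ 1}, K q.1 q.2
  have hKall : Kall.FiniteIndex := Subgroup.finiteIndex_iInf (fun q => hKfi q.1 q.2)
  refine ⟨Kall.comap (QuotientGroup.mk' H₀), ?_, ?_⟩
  · rw [Subgroup.finiteIndex_iff,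
      Subgroup.index_comap_of_surjective _ (QuotientGroup.mk'_surjective H₀)]
    exact hKall.index_ne_zero
  · intro x hx
    by_contra hxH'
    have hq : (QuotientGroup.mk x : A' ⧸ H') ≠ 1 :=
      fun h => hxH' ((QuotientGroup.eq_one_iff _).1 h)
    have hmem : (QuotientGroup.mk (x : A) : A ⧸ H₀) ∈ K _ hq :=
      (Subgroup.mem_iInf.1 hx) ⟨_, hq⟩
    have hout : x⁻¹ * Quotient.out (QuotientGroup.mk x : A' ⧸ H') ∈ H' :=
      QuotientGroup.eq.1 (QuotientGroup.out_eq' _).symm
    apply hKnot _ hq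
    have e1 : ((Quotient.out (QuotientGroup.mk x : A' ⧸ H') : A') : A) =
        (x : A) * ((x⁻¹ * Quotient.out (QuotientGroup.mk x : A' ⧸ H') : A') : A) := by
      rw [Subgroup.coe_mul, Subgroup.coe_inv, mul_inv_cancel_left]
    rw [e1, QuotientGroup.mk_mul]
    refine (K _ hq).mul_mem hmem ?_
    have e2 : (QuotientGroup.mk
        (((x⁻¹ * Quotient.out (QuotientGroup.mk x : A' ⧸ H') : A') : A)) : A ⧸ H₀) = 1 :=
      (QuotientGroup.eq_one_iff _).2
        (Subgroup.mem_sup_left (Subgroup.mem_map_of_mem _ hout))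
    rw [e2]
    exact (K _ hq).one_mem

end Groth.Agent.H67
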