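import Mathlib

/-!
# Homotopy equivalences of simplicial abelian groups induce quasi-isomorphisms

For a morphism `f : X ⟶ Y` of simplicial abelian groups whose underlying map of simplicial sets
has a homotopy inverse `g` (a mere map of simplicial sets), the map of alternating face map
complexes is a quasi-isomorphism (`quasiIso_of_homotopyEquiv`).

Method: homology classes are represented by normalized elements (all faces zero), using the
Dold-Kan projector `PInfty`; for such an element `x` the chain `[x] - [0]` of the free chain complex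
`ℤ[X]` is a cycle, non additive maps of simplicial sets act on `ℤ[X]`, homotopies of simplicial sets
give chain homotopies on `ℤ[X]` (Mathlib), and the evaluation `ℤ[X] ⟶ X` is a chain map.
-/

universe u

open CategoryTheory CategoryTheory.Limits Opposite Simplicial AlgebraicTopology
  AlgebraicTopology.DoldKan

namespace Groth.Agent.H67.SSetQis

/-! ## An elementwise criterion for quasi-isomorphisms of complexes of abelian groups -/

theorem ab_quasiIso {S₁ S₂ : ShortComplex AddCommGrpCat.{u}} (φ : S₁ ⟶ S₂)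
    (hinj : ∀ x₂ : S₁.X₂, S₁.g x₂ = 0 → (∃ y₁ : S₂.X₁, S₂.f y₁ = φ.τ₂ x₂) →
      ∃ x₁ : S₁.X₁, S₁.f x₁ = x₂)
    (hsurj : ∀ y₂ : S₂.X₂, S₂.g y₂ = 0 →
      ∃ x₂ : S₁.X₂, S₁.g x₂ = 0 ∧ ∃ y₁ : S₂.X₁, S₂.f y₁ = φ.τ₂ x₂ - y₂) :
    ShortComplex.QuasiIso φ := by
  rw [ShortComplex.quasiIso_iff_isIso_leftHomologyMap' φ S₁.abLeftHomologyData
    S₂.abLeftHomologyData]
  have hκ : ∀ z : AddMonoidHom.ker S₁.g.hom,
      S₂.abLeftHomologyData.i
        (ShortComplex.cyclesMap' φ S₁.abLeftHomologyData S₂.abLeftHomologyData z) =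
        φ.τ₂ z.1 := fun z =>
    ConcreteCategory.congr_hom
      (ShortComplex.cyclesMap'_i φ S₁.abLeftHomologyData S₂.abLeftHomologyData) z
  have hψ : ∀ z : AddMonoidHom.ker S₁.g.hom,
      ShortComplex.leftHomologyMap' φ S₁.abLeftHomologyData S₂.abLeftHomologyData
        (QuotientAddGroup.mk z) =
      QuotientAddGroup.mk
        (ShortComplex.cyclesMap' φ S₁.abLeftHomologyData S₂.abLeftHomologyData z) := fun z =>
    ConcreteCategory.congr_hom
      (ShortComplex.leftHomologyπ_naturality' φ S₁.abLeftHomologyData S₂.abLeftHomologyData) z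
  rw [ConcreteCategory.isIso_iff_bijective]
  constructor
  · refine (injective_iff_map_eq_zero
      (ShortComplex.leftHomologyMap' φ S₁.abLeftHomologyData S₂.abLeftHomologyData).hom).2 ?_
    intro a ha
    obtain ⟨z, rfl⟩ := QuotientAddGroup.mk_surjective a
    have ha' : (QuotientAddGroup.mk
        (ShortComplex.cyclesMap' φ S₁.abLeftHomologyData S₂.abLeftHomologyData z :
          AddMonoidHom.ker S₂.g.hom) :
        AddMonoidHom.ker S₂.g.hom ⧸ AddMonoidHom.range S₂.abToCycles) = 0 :=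
      (hψ z).symm.trans ha
    obtain ⟨y₁, hy₁⟩ := (QuotientAddGroup.eq_zero_iff _).1 ha'
    obtain ⟨x₁, hx₁⟩ := hinj z.1 z.2 ⟨y₁, by rw [← hκ z, ← hy₁]; rfl⟩
    exact (QuotientAddGroup.eq_zero_iff z).2 ⟨x₁, Subtype.ext hx₁⟩
  · intro b
    obtain ⟨y, rfl⟩ := QuotientAddGroup.mk_surjective b
    obtain ⟨x₂, hx₂, y₁, hy₁⟩ := hsurj y.1 y.2
    refine ⟨QuotientAddGroup.mk ⟨x₂, hx₂⟩, ?_⟩
    refine (hψ ⟨x₂, hx₂⟩).trans ?_
    have key : (QuotientAddGroup.mk
        (ShortComplex.cyclesMap' φ S₁.abLeftHomologyData S₂.abLeftHomologyData ⟨x₂, hx₂⟩ :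
          AddMonoidHom.ker S₂.g.hom) :
        AddMonoidHom.ker S₂.g.hom ⧸ AddMonoidHom.range S₂.abToCycles) =
        QuotientAddGroup.mk y := by
      rw [QuotientAddGroup.eq]
      refine ⟨-y₁, Subtype.ext ?_⟩
      show S₂.f (-y₁) = -(S₂.abLeftHomologyData.i
        (ShortComplex.cyclesMap' φ S₁.abLeftHomologyData S₂.abLeftHomologyData ⟨x₂, hx₂⟩)) + y.1
      rw [hκ, map_neg, hy₁]
      abel
    exact key

theorem quasiIsoAt_of_elem {K L : ChainComplex AddCommGrpCat.{u} ℕ} (φ : K ⟶ L) (n : ℕ)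
    (hinj : ∀ x : K.X n, K.d n ((ComplexShape.down ℕ).next n) x = 0 →
      (∃ y : L.X (n + 1), L.d (n + 1) n y = φ.f n x) → ∃ w : K.X (n + 1), K.d (n + 1) n w = x)
    (hsurj : ∀ y : L.X n, L.d n ((ComplexShape.down ℕ).next n) y = 0 →
      ∃ x : K.X n, K.d n ((ComplexShape.down ℕ).next n) x = 0 ∧
        ∃ w : L.X (n + 1), L.d (n + 1) n w = φ.f n x - y) :
    QuasiIsoAt φ n := by
  rw [quasiIsoAt_iff' φ (n + 1) n ((ComplexShape.down ℕ).next n) (by simp) rfl]
  exact ab_quasiIso _ hinj hsurj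

/-! ## Generalized elements: morphisms from `ℤ` -/

/-- The test object `ℤ`. -/
abbrev R : AddCommGrpCat.{u} := AddCommGrpCat.of (ULift.{u} ℤ)

theorem R_hom_ext {A : AddCommGrpCat.{u}} {p q : R.{u} ⟶ A}
    (h : p (ULift.up 1) = q (ULift.up 1)) : p = q := by
  ext ⟨k⟩
  have hk : (ULift.up k : ULift.{u} ℤ) = k • ULift.up 1 := by
    apply ULift.ext
    simp
  rw [hk, map_zsmul, map_zsmul, h]

/-- The morphism `ℤ ⟶ A`, `1 ↦ a`. -/
noncomputable def e {A : AddCommGrpCat.{u}} (a : A) : R.{u} ⟶ A :=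
  AddCommGrpCat.ofHom ((zmultiplesHom A a).comp (AddEquiv.ulift : ULift.{u} ℤ ≃+ ℤ).toAddMonoidHom)

@[simp] theorem e_one {A : AddCommGrpCat.{u}} (a : A) : e a (ULift.up 1) = a := by
  show ((AddEquiv.ulift : ULift.{u} ℤ ≃+ ℤ) (ULift.up 1)) • a = a
  rw [show (AddEquiv.ulift : ULift.{u} ℤ ≃+ ℤ) (ULift.up 1) = 1 from rfl, one_zsmul]

/-- Evaluation at `1`. -/
def ev1 {A : AddCommGrpCat.{u}} : (R.{u} ⟶ A) →+ A where
  toFun p := p (ULift.up 1)
  map_zero' := rfl
  map_add' _ _ := rfl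

@[simp] theorem ev1_e {A : AddCommGrpCat.{u}} (a : A) : ev1 (e a) = a := e_one a

theorem ev1_comp {A B : AddCommGrpCat.{u}} (p : R.{u} ⟶ A) (φ : A ⟶ B) :
    ev1 (p ≫ φ) = φ (ev1 p) := rfl

theorem e_comp {A B : AddCommGrpCat.{u}} (a : A) (φ : A ⟶ B) : e a ≫ φ = e (φ a) :=
  R_hom_ext (by
    show φ (e a (ULift.up 1)) = e (φ a) (ULift.up 1)
    rw [e_one, e_one])

theorem e_sub {A : AddCommGrpCat.{u}} (a b : A) : e (a - b) = e a - e b :=
  R_hom_ext (by
    show e (a - b) (ULift.up 1) = e a (ULift.up 1) - e b (ULift.up 1)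
    rw [e_one, e_one, e_one])

theorem e_zero {A : AddCommGrpCat.{u}} : e (0 : A) = 0 :=
  R_hom_ext (by
    show e (0 : A) (ULift.up 1) = 0
    rw [e_one])

theorem e_injective {A : AddCommGrpCat.{u}} {a b : A} (h : e a = e b) : a = b := by
  have := congrArg ev1 h
  simpa using this

/-! ## Homotopies and cycles -/

theorem htpy_cycle {A B : ChainComplex AddCommGrpCat.{u} ℕ} {p q : A ⟶ B} (h : Homotopy p q)
    (n : ℕ) {T : AddCommGrpCat.{u}} (c : T ⟶ A.X n)
    (hc : c ≫ A.d n ((ComplexShape.down ℕ).next n) = 0) :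
    c ≫ p.f n - c ≫ q.f n = (c ≫ h.hom n (n + 1)) ≫ B.d (n + 1) n := by
  have h1 := h.comm n
  rw [Homotopy.prevD_chainComplex] at h1
  have h2 : c ≫ dNext n h.hom = 0 := by
    show c ≫ (A.d n ((ComplexShape.down ℕ).next n) ≫ h.hom ((ComplexShape.down ℕ).next n) n) = 0
    rw [← Category.assoc, hc, zero_comp]
  rw [h1, Preadditive.comp_add, Preadditive.comp_add, h2, zero_add, add_sub_cancel_right,
    Category.assoc]

/-! ## Simplicial abelian groups -/

section

variable (X Y : SimplicialObject AddCommGrpCat.{u})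

/-- The underlying simplicial set. -/
abbrev U : SSet.{u} := X ⋙ forget AddCommGrpCat.{u}

/-- The alternating face map complex. -/
abbrev K : ChainComplex AddCommGrpCat.{u} ℕ :=
  (alternatingFaceMapComplex AddCommGrpCat.{u}).obj X

/-- The free chain complex on the underlying simplicial set. -/
noncomputable abbrev S : ChainComplex AddCommGrpCat.{u} ℕ := (U X).chainComplex (R.{u})

/-- The generator `[x]`. -/
noncomputable abbrev iota {n : ℕ} (x : X _⦋n⦌) : R.{u} ⟶ (S X).X n := (U X).ιChainComplex x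

/-- The evaluation `ℤ[X_n] ⟶ X_n`. -/
noncomputable def epsF (n : ℕ) : (S X).X n ⟶ X _⦋n⦌ :=
  Cofan.IsColimit.desc ((U X).isColimitChainComplexXCofan (R.{u}) n)
    (fun x => e (A := X _⦋n⦌) x)

@[reassoc]
theorem iota_epsF {n : ℕ} (x : X _⦋n⦌) : iota X x ≫ epsF X n = e x :=
  Cofan.IsColimit.fac ((U X).isColimitChainComplexXCofan (R.{u}) n) _ x

theorem gamma_d (m : ℕ) (a b : X _⦋m + 1⦌) :
    (iota X a - iota X b) ≫ (S X).d (m + 1) m =
      ∑ i : Fin (m + 2), (-1 : ℤ) ^ (i : ℕ) • (iota X (X.δ i a) - iota X (X.δ i b)) := by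
  rw [Preadditive.sub_comp, SSet.ιChainComplex_d, SSet.ιChainComplex_d, ← Finset.sum_sub_distrib]
  refine Finset.sum_congr rfl (fun i _ => ?_)
  rw [smul_sub]
  rfl

/-- The evaluation `ℤ[X] ⟶ X` as a chain map. -/
noncomputable def eps : S X ⟶ K X where
  f n := epsF X n
  comm' := by
    rintro i j (rfl : j + 1 = i)
    apply SSet.chainComplex_hom_ext
    intro x
    rw [← Category.assoc, iota_epsF X x, SSet.ιChainComplex_d_assoc, Preadditive.sum_comp,
      alternatingFaceMapComplex_obj_d, AlternatingFaceMapComplex.objD, Preadditive.comp_sum]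
    refine Finset.sum_congr rfl (fun i _ => ?_)
    rw [Preadditive.comp_zsmul, Preadditive.zsmul_comp, e_comp]
    congr 1
    exact (iota_epsF X _).symm

theorem eps_comm (n k : ℕ) : epsF X n ≫ (K X).d n k = (S X).d n k ≫ epsF X k :=
  (eps X).comm n k

variable {X Y}

theorem eps_naturality (f : X ⟶ Y) (n : ℕ) :
    (SSet.chainComplexMap (Functor.whiskerRight f (forget AddCommGrpCat.{u})) (R.{u})).f n ≫
      epsF Y n = epsF X n ≫ f.app (op ⦋n⦌) := by
  apply SSet.chainComplex_hom_ext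
  intro x
  rw [SSet.ι_chainComplexMap_f_assoc, ← Category.assoc, iota_epsF X x, e_comp]
  exact iota_epsF Y _

/-- The action of a map of simplicial sets on elements. -/
def appE (u : U X ⟶ U Y) (n : ℕ) (a : X _⦋n⦌) : Y _⦋n⦌ := u.app (op ⦋n⦌) a

theorem gamma_map (u : U X ⟶ U Y) (n : ℕ) (a b : X _⦋n⦌) :
    (iota X a - iota X b) ≫ (SSet.chainComplexMap u (R.{u})).f n =
      iota Y (appE u n a) - iota Y (appE u n b) := by
  rw [Preadditive.sub_comp, SSet.ι_chainComplexMap_f, SSet.ι_chainComplexMap_f]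
  rfl

theorem key_g (g : U Y ⟶ U X) (n : ℕ) (a b : Y _⦋n⦌) :
    e (appE g n a - appE g n b) =
      (iota Y a - iota Y b) ≫ (SSet.chainComplexMap g (R.{u})).f n ≫ epsF X n := by
  rw [← Category.assoc, gamma_map, Preadditive.sub_comp, iota_epsF, iota_epsF, e_sub]

theorem d_key (g : U Y ⟶ U X) (n k : ℕ) (c : R.{u} ⟶ (S Y).X n) :
    (c ≫ (SSet.chainComplexMap g (R.{u})).f n ≫ epsF X n) ≫ (K X).d n k =
      (c ≫ (S Y).d n k) ≫ (SSet.chainComplexMap g (R.{u})).f k ≫ epsF X k := by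
  calc (c ≫ (SSet.chainComplexMap g (R.{u})).f n ≫ epsF X n) ≫ (K X).d n k
      = c ≫ (SSet.chainComplexMap g (R.{u})).f n ≫ (epsF X n ≫ (K X).d n k) := by
        simp only [Category.assoc]
    _ = c ≫ ((SSet.chainComplexMap g (R.{u})).f n ≫ (S X).d n k) ≫ epsF X k := by
        rw [eps_comm]; simp only [Category.assoc]
    _ = c ≫ ((S Y).d n k ≫ (SSet.chainComplexMap g (R.{u})).f k) ≫ epsF X k := by
        rw [(SSet.chainComplexMap g (R.{u})).comm n k]
    _ = _ := by simp only [Category.assoc]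

/-- The prism argument: a homotopy between maps of simplicial sets `u`, `v`, evaluated on a cycle of
the form `[a] - [b]`. -/
theorem prism {u v : U X ⟶ U Y} (H : SSet.Homotopy u v) (n : ℕ) (a b : X _⦋n⦌)
    (hc : (iota X a - iota X b) ≫ (S X).d n ((ComplexShape.down ℕ).next n) = 0) :
    ∃ t : Y _⦋n + 1⦌, (K Y).d (n + 1) n t =
      (appE u n a - appE u n b) - (appE v n a - appE v n b) := by
  have h1 := htpy_cycle (H.chainComplexMap (R.{u})) n _ hc
  rw [gamma_map, gamma_map] at h1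
  refine ⟨ev1 (((iota X a - iota X b) ≫ (H.chainComplexMap (R.{u})).hom n (n + 1)) ≫
    epsF Y (n + 1)), ?_⟩
  have h2 : (e (appE u n a) - e (appE u n b)) - (e (appE v n a) - e (appE v n b)) =
      (((iota X a - iota X b) ≫ (H.chainComplexMap (R.{u})).hom n (n + 1)) ≫
        epsF Y (n + 1)) ≫ (K Y).d (n + 1) n := by
    rw [Category.assoc, eps_comm, ← Category.assoc, ← h1, Preadditive.sub_comp,
      Preadditive.sub_comp, Preadditive.sub_comp, iota_epsF, iota_epsF, iota_epsF, iota_epsF]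
  have h3 := congrArg ev1 h2
  rw [map_sub, map_sub, map_sub, ev1_e, ev1_e, ev1_e, ev1_e, ev1_comp] at h3
  exact h3.symm

theorem prism_or {u v : U X ⟶ U Y}
    (H : Nonempty (SSet.Homotopy u v) ∨ Nonempty (SSet.Homotopy v u)) (n : ℕ) (a b : X _⦋n⦌)
    (hc : (iota X a - iota X b) ≫ (S X).d n ((ComplexShape.down ℕ).next n) = 0) :
    ∃ t : Y _⦋n + 1⦌, (K Y).d (n + 1) n t =
      (appE u n a - appE u n b) - (appE v n a - appE v n b) := by
  rcases H with ⟨⟨H⟩⟩ | ⟨⟨H⟩⟩
  · exact prism H n a b hc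
  · obtain ⟨t, ht⟩ := prism H n a b hc
    refine ⟨-t, ?_⟩
    rw [map_neg, ht]
    abel

variable (X)

/-! ## Normalization -/

/-- The Dold-Kan projector on elements. -/
noncomputable abbrev PE (n : ℕ) (x : X _⦋n⦌) : X _⦋n⦌ := (PInfty (X := X)).f n x

theorem PInfty_comp_δ_succ (m : ℕ) (j : Fin (m + 1)) :
    (PInfty (X := X)).f (m + 1) ≫ X.δ j.succ = 0 := by
  rw [PInfty_f]
  exact HigherFacesVanish.of_P (m + 1) m j (by omega)

theorem PInfty_comp_d (m : ℕ) :
    (PInfty (X := X)).f (m + 1) ≫ (K X).d (m + 1) m = (PInfty (X := X)).f (m + 1) ≫ X.δ 0 := by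
  rw [alternatingFaceMapComplex_obj_d, AlternatingFaceMapComplex.objD, Preadditive.comp_sum,
    Fin.sum_univ_succ, Finset.sum_eq_zero, add_zero]
  · simp
  · intro j _
    rw [Preadditive.comp_zsmul, PInfty_comp_δ_succ, smul_zero]

theorem δ_succ_P (m : ℕ) (j : Fin (m + 1)) (w : X _⦋m + 1⦌) :
    X.δ j.succ (PE X (m + 1) w) = 0 :=
  ConcreteCategory.congr_hom (PInfty_comp_δ_succ X m j) w

theorem d_P (m : ℕ) (w : X _⦋m + 1⦌) :
    (K X).d (m + 1) m (PE X (m + 1) w) = X.δ 0 (PE X (m + 1) w) :=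
  ConcreteCategory.congr_hom (PInfty_comp_d X m) w

theorem P_sub (n : ℕ) (x : X _⦋n⦌) (hx : (K X).d n ((ComplexShape.down ℕ).next n) x = 0) :
    ∃ w : X _⦋n + 1⦌, (K X).d (n + 1) n w = PE X n x - x := by
  have hc : e x ≫ (K X).d n ((ComplexShape.down ℕ).next n) = 0 := by rw [e_comp, hx, e_zero]
  have h1 := htpy_cycle (homotopyPInftyToId X) n (e x) hc
  refine ⟨ev1 (e x ≫ (homotopyPInftyToId X).hom n (n + 1)), ?_⟩
  have h2 := congrArg ev1 h1
  rw [map_sub, ev1_comp, ev1_comp, ev1_e] at h2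
  rw [ev1_comp] at h2
  exact h2.symm

theorem gamma_P_d (m : ℕ) (w : X _⦋m + 1⦌) :
    (iota X (PE X (m + 1) w) - iota X (0 : X _⦋m + 1⦌)) ≫ (S X).d (m + 1) m =
      iota X ((K X).d (m + 1) m (PE X (m + 1) w)) - iota X (0 : X _⦋m⦌) := by
  rw [gamma_d, Fin.sum_univ_succ, Finset.sum_eq_zero, add_zero]
  · rw [d_P, map_zero]
    simp
  · intro j _
    rw [δ_succ_P, map_zero, sub_self, smul_zero]

theorem gamma_P_cycle (n : ℕ) (x : X _⦋n⦌)
    (hx : (K X).d n ((ComplexShape.down ℕ).next n) x = 0) :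
    (iota X (PE X n x) - iota X (0 : X _⦋n⦌)) ≫
      (S X).d n ((ComplexShape.down ℕ).next n) = 0 := by
  cases n with
  | zero => rw [HomologicalComplex.shape _ _ _ (by simp), comp_zero]
  | succ m =>
    have key : ∀ k, m = k → (K X).d (m + 1) k x = 0 →
        (iota X (PE X (m + 1) x) - iota X (0 : X _⦋m + 1⦌)) ≫
          (S X).d (m + 1) k = 0 := by
      rintro k rfl hx
      rw [gamma_P_d]
      have h1 : (K X).d (m + 1) m (PE X (m + 1) x) = 0 := by
        have := ConcreteCategory.congr_hom ((PInfty (X := X)).comm (m + 1) m) x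
        refine this.trans ?_
        show (PInfty (X := X)).f m ((K X).d (m + 1) m x) = 0
        rw [hx, map_zero]
      rw [h1, sub_self]
    exact key _ (ChainComplex.next_nat_succ m).symm hx

end

/-! ## The theorem -/

theorem quasiIso_of_homotopyEquiv {X Y : SimplicialObject AddCommGrpCat.{u}} (f : X ⟶ Y)
    (g : U Y ⟶ U X)
    (hX : Nonempty (SSet.Homotopy (Functor.whiskerRight f (forget AddCommGrpCat.{u}) ≫ g) (𝟙 _)) ∨
      Nonempty (SSet.Homotopy (𝟙 _) (Functor.whiskerRight f (forget AddCommGrpCat.{u}) ≫ g)))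
    (hY : Nonempty (SSet.Homotopy (g ≫ Functor.whiskerRight f (forget AddCommGrpCat.{u})) (𝟙 _)) ∨
      Nonempty (SSet.Homotopy (𝟙 _) (g ≫ Functor.whiskerRight f (forget AddCommGrpCat.{u})))) :
    QuasiIso ((alternatingFaceMapComplex AddCommGrpCat.{u}).map f) := by
  rw [quasiIso_iff]
  intro n
  apply quasiIsoAt_of_elem
  · -- injectivity
    rintro (x : X _⦋n⦌) hx ⟨w, hw⟩
    obtain ⟨w₁, hw₁⟩ := P_sub X n x hx
    have hc := gamma_P_cycle X n x hx
    -- `z` normalizes `w`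
    have hz : (K Y).d (n + 1) n (PE Y (n + 1) w) =
        f.app (op ⦋n⦌) (PE X n x) := by
      have h1 := ConcreteCategory.congr_hom ((PInfty (X := Y)).comm (n + 1) n) w
      have h2 := ConcreteCategory.congr_hom (PInfty_f_naturality n f) x
      refine h1.trans ?_
      show (PInfty (X := Y)).f n ((K Y).d (n + 1) n w) = _
      rw [hw]
      exact h2
    have ht : (K X).d (n + 1) n (appE g (n + 1) (PE Y (n + 1) w) -
        appE g (n + 1) (0 : Y _⦋n + 1⦌)) =
        appE g n (f.app (op ⦋n⦌) (PE X n x)) - appE g n (0 : Y _⦋n⦌) := by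
      apply e_injective
      rw [← e_comp, key_g, d_key, gamma_P_d, hz, key_g]
    obtain ⟨t₂, ht₂⟩ := prism_or hX n (PE X n x) 0 hc
    refine ⟨appE g (n + 1) (PE Y (n + 1) w) - appE g (n + 1) (0 : Y _⦋n + 1⦌)
      - t₂ - w₁, ?_⟩
    rw [map_sub, map_sub, ht, ht₂, hw₁]
    show appE g n (f.app (op ⦋n⦌) (PE X n x)) - appE g n (0 : Y _⦋n⦌) -
      ((appE g n (f.app (op ⦋n⦌) (PE X n x)) -
        appE g n (f.app (op ⦋n⦌) (0 : X _⦋n⦌))) - (PE X n x - 0)) -
      (PE X n x - x) = x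
    rw [map_zero]
    abel
  · -- surjectivity
    intro (y : Y _⦋n⦌) hy
    obtain ⟨w₁, hw₁⟩ := P_sub Y n y hy
    have hc := gamma_P_cycle Y n y hy
    have hx : (K X).d n ((ComplexShape.down ℕ).next n)
        (appE g n (PE Y n y) - appE g n (0 : Y _⦋n⦌)) = 0 := by
      apply e_injective
      rw [← e_comp, key_g, d_key, hc, zero_comp, e_zero]
    refine ⟨_, hx, ?_⟩
    obtain ⟨t, ht⟩ := prism_or hY n (PE Y n y) 0 hc
    refine ⟨t + w₁, ?_⟩
    rw [map_add, ht, hw₁]
    show (f.app (op ⦋n⦌) (appE g n (PE Y n y)) -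
        f.app (op ⦋n⦌) (appE g n (0 : Y _⦋n⦌))) - (PE Y n y - 0) +
      (PE Y n y - y) =
      f.app (op ⦋n⦌) (appE g n (PE Y n y) - appE g n (0 : Y _⦋n⦌)) - y
    rw [map_sub]
    abel

end Groth.Agent.H67.SSetQis
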