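import Mathlib
import Groth.Prelude.Def_SiteCmp
import Groth.Prelude.Def_FreeSh
import Groth.Agent.H67.SiteCmpB
import Groth.Agent.H67.SieveCoh
import Groth.Agent.H67.CechH
import Groth.Agent.H92.RIncl
import Groth.Agent.H45.ExtAdj

/-!
# Helper library (helper67): comparing two topologies, part C (class level arguments)

Setting: a small category `D` with two topologies `K' ≤ K`, a functor `v : D ⥤ D` continuous for
both, and `π : v ⟶ 𝟭 D`.  `T = (v)_*` on `K`-sheaves, `u : 𝟭 ⟶ T` the restriction along `π`.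
Cohomology classes are elements of `Ext (ℤ_U) F q`.

* `lemI` : a class `ζ ∈ H^{k+1}(U, M)` dying on `v U` has `u_* ζ` locally zero for `K'` (under `HypB`);
* `lemA` : a class whose restriction to `v U₀` is `K'`-locally zero dies on `v V` for `V` running
  through a `K'`-covering of `U₀` (under `HypA`);
* `mainC` : such a class is `K'`-locally zero.
-/

set_option autoImplicit false
universe u
open CategoryTheory CategoryTheory.Limits Opposite Abelian

namespace Groth.Agent.H67.SiteCmpC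

open Groth.Agent.H67.SieveCoh (injSC injSC_shortExact image_shortExact)

variable {D : Type u} [SmallCategory D]

/-! ### sections of abelian sheaves -/

section Sections

variable {J : GrothendieckTopology D}

lemma comp_app_apply {F G H : Sheaf J AddCommGrpCat.{u}} (f : F ⟶ G) (g : G ⟶ H) (W : Dᵒᵖ)
    (t : F.obj.obj W) :
    ((f ≫ g).hom.app W).hom t = (g.hom.app W).hom ((f.hom.app W).hom t) := rfl

lemma res_res (P : Dᵒᵖ ⥤ AddCommGrpCat.{u}) {X Y Z : D} (f : X ⟶ Y) (g : Y ⟶ Z)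
    (x : P.obj (op Z)) :
    (P.map f.op).hom ((P.map g.op).hom x) = (P.map (f ≫ g).op).hom x := by
  rw [op_comp, P.map_comp]
  rfl

lemma nat_apply {P Q : Dᵒᵖ ⥤ AddCommGrpCat.{u}} (φ : P ⟶ Q) {X Y : D} (f : X ⟶ Y)
    (x : P.obj (op Y)) :
    (φ.app (op X)).hom ((P.map f.op).hom x) = (Q.map f.op).hom ((φ.app (op Y)).hom x) :=
  congrArg (fun m => m.hom x) (φ.naturality f.op)

lemma ofSect_zero (U : D) (F : Sheaf J AddCommGrpCat.{u}) :
    CohFree.ofSect J U F 0 = 0 :=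
  (CohFree.homEquivSect J U F).symm.map_zero

lemma sec_inj_of_mono {F G : Sheaf J AddCommGrpCat.{u}} (j : F ⟶ G) [Mono j] (U : D) :
    Function.Injective (j.hom.app (op U)).hom := by
  rw [injective_iff_map_eq_zero]
  intro x hx
  have h1 : CohFree.ofSect J U F x ≫ j = 0 := by
    rw [Groth.Agent.H67.Cech.ofSect_comp, hx]
    exact ofSect_zero U G
  have h2 : CohFree.ofSect J U F x = 0 := by
    rw [← cancel_mono j, h1, zero_comp]
  have h3 := CohFree.evalGen_ofSect J U F x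
  rw [h2] at h3
  exact h3.symm.trans (map_zero (CohFree.evalGen J U F))

lemma sec_lift_kernel {F G : Sheaf J AddCommGrpCat.{u}} (ψ : F ⟶ G) (U : D)
    (x : F.obj.obj (op U)) (hx : (ψ.hom.app (op U)).hom x = 0) :
    ∃ c : (kernel ψ).obj.obj (op U), ((kernel.ι ψ).hom.app (op U)).hom c = x := by
  have h1 : CohFree.ofSect J U F x ≫ ψ = 0 := by
    rw [Groth.Agent.H67.Cech.ofSect_comp, hx]
    exact ofSect_zero U G
  refine ⟨CohFree.evalGen J U _ (kernel.lift ψ (CohFree.ofSect J U F x) h1), ?_⟩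
  have h2 : ((kernel.ι ψ).hom.app (op U)).hom
      (CohFree.evalGen J U _ (kernel.lift ψ (CohFree.ofSect J U F x) h1)) =
      CohFree.evalGen J U F (kernel.lift ψ (CohFree.ofSect J U F x) h1 ≫ kernel.ι ψ) := rfl
  rw [h2, kernel.lift_ι, CohFree.evalGen_ofSect]

/-- a section which is locally in the image of `φ` lies in the image sheaf -/
lemma sec_mem_image {F₁ F₂ : Sheaf J AddCommGrpCat.{u}} (φ : F₁ ⟶ F₂) (U : D)
    (x : F₂.obj.obj (op U)) (R : Sieve U) (hR : R ∈ J U)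
    (h : ∀ ⦃V : D⦄ (g : V ⟶ U), R g →
      ∃ t : F₁.obj.obj (op V), (φ.hom.app (op V)).hom t = (F₂.obj.map g.op).hom x) :
    ∃ c : (Abelian.image φ).obj.obj (op U), ((Abelian.image.ι φ).hom.app (op U)).hom c = x := by
  refine sec_lift_kernel (cokernel.π φ) U x ?_
  refine Groth.Agent.H67.SiteCmpA.eq_zero_of_locally J (cokernel φ).obj (cokernel φ).property R hR _
    (fun V g hg => ?_)
  obtain ⟨t, ht⟩ := h g hg
  show ((cokernel φ).obj.map g.op).hom (((cokernel.π φ).hom.app (op U)).hom x) = 0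
  rw [← nat_apply (cokernel.π φ).hom g x, ← ht, ← comp_app_apply, cokernel.condition]
  rfl

/-- a section dying in the cokernel lifts locally -/
lemma locLift_of_cokernel_zero {F₁ F₂ : Sheaf J AddCommGrpCat.{u}} (φ : F₁ ⟶ F₂) (U : D)
    (c : F₂.obj.obj (op U)) (hc : ((cokernel.π φ).hom.app (op U)).hom c = 0) :
    ∃ S : Sieve U, S ∈ J U ∧ ∀ ⦃V : D⦄ (g : V ⟶ U), S g →
      ∃ t : F₁.obj.obj (op V), (φ.hom.app (op V)).hom t = (F₂.obj.map g.op).hom c := by
  obtain ⟨c₀, hc₀⟩ : ∃ c₀ : (Abelian.image φ).obj.obj (op U),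
      ((Abelian.image.ι φ).hom.app (op U)).hom c₀ = c := sec_lift_kernel (cokernel.π φ) U c hc
  haveI : Sheaf.IsLocallySurjective (Abelian.factorThruImage φ) :=
    (Sheaf.isLocallySurjective_iff_epi' _ (Abelian.factorThruImage φ)).2 inferInstance
  refine ⟨Presheaf.imageSieve (Abelian.factorThruImage φ).hom c₀,
    Presheaf.imageSieve_mem J (Abelian.factorThruImage φ).hom c₀, fun V g hg => ?_⟩
  obtain ⟨t, ht⟩ := hg
  refine ⟨t, ?_⟩
  have h1 := congrArg (fun m : F₁ ⟶ F₂ => (m.hom.app (op V)).hom t) (Abelian.image.fac φ)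
  rw [← hc₀, ← nat_apply (Abelian.image.ι φ).hom g c₀]
  exact h1.symm.trans (congrArg (fun y => ((Abelian.image.ι φ).hom.app (op V)).hom y) ht)

lemma iso_sec_inj {F G : Sheaf J AddCommGrpCat.{u}} (θ : F ≅ G) (W : Dᵒᵖ) (x : F.obj.obj W)
    (hx : (θ.hom.hom.app W).hom x = 0) : x = 0 := by
  have h1 : (θ.inv.hom.app W).hom ((θ.hom.hom.app W).hom x) = x := by
    rw [← comp_app_apply, θ.hom_inv_id]
    rfl
  rw [hx, map_zero] at h1
  exact h1.symm

lemma res_iso_inj (P : Dᵒᵖ ⥤ AddCommGrpCat.{u}) {X Y : D} (i : X ≅ Y) (x : P.obj (op Y))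
    (hx : (P.map i.hom.op).hom x = 0) : x = 0 := by
  have h1 : (P.map i.inv.op).hom ((P.map i.hom.op).hom x) = x := by
    rw [res_res, i.inv_hom_id, op_id, P.map_id]
    rfl
  rw [hx, map_zero] at h1
  exact h1.symm

lemma sec_eq_zero_of_isZero (F : Sheaf J AddCommGrpCat.{u}) (hz : IsZero F) (W : Dᵒᵖ)
    (y : F.obj.obj W) : y = 0 := by
  have h1 : 𝟙 F = 0 := hz.eq_of_src _ _
  exact congrArg (fun f : F ⟶ F => (f.hom.app W).hom y) h1

end Sections

/-! ### calculus of classes -/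

section Classes

variable {K : GrothendieckTopology D}

/-- restriction of a class along `g : V ⟶ U` -/
noncomputable def rs {F : Sheaf K AddCommGrpCat.{u}} {q : ℕ} {U V : D} (g : V ⟶ U)
    (x : Ext.{u} (CohCx.freeSheaf K U) F q) : Ext.{u} (CohCx.freeSheaf K V) F q :=
  (Ext.mk₀ (CohCx.freeSheafMap K g)).comp x (zero_add q)

lemma rs_rs {F : Sheaf K AddCommGrpCat.{u}} {q : ℕ} {U V W : D} (g₁ : W ⟶ V) (g₂ : V ⟶ U)
    (x : Ext.{u} (CohCx.freeSheaf K U) F q) : rs g₁ (rs g₂ x) = rs (g₁ ≫ g₂) x := by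
  unfold rs
  rw [Ext.mk₀_comp_mk₀_assoc, ← CohFree.freeSheafMap_comp]

lemma rs_zero {F : Sheaf K AddCommGrpCat.{u}} {q : ℕ} {U V : D} (g : V ⟶ U) :
    rs g (0 : Ext.{u} (CohCx.freeSheaf K U) F q) = 0 := by
  unfold rs
  rw [Ext.comp_zero]

/-- push a class forward along a morphism of coefficients -/
noncomputable def pc {Z F F' : Sheaf K AddCommGrpCat.{u}} {q : ℕ} (x : Ext.{u} Z F q)
    (φ : F ⟶ F') : Ext.{u} Z F' q :=
  x.comp (Ext.mk₀ φ) (add_zero q)

lemma pc_pc {Z F F' F'' : Sheaf K AddCommGrpCat.{u}} {q : ℕ} (x : Ext.{u} Z F q) (φ : F ⟶ F')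
    (ψ : F' ⟶ F'') : pc (pc x φ) ψ = pc x (φ ≫ ψ) := by
  unfold pc
  rw [Ext.comp_assoc_of_third_deg_zero, Ext.mk₀_comp_mk₀]

lemma pc_zero_left {Z F F' : Sheaf K AddCommGrpCat.{u}} {q : ℕ} (φ : F ⟶ F') :
    pc (0 : Ext.{u} Z F q) φ = 0 := by
  unfold pc
  rw [Ext.zero_comp]

lemma rs_pc {F F' : Sheaf K AddCommGrpCat.{u}} {q : ℕ} {U V : D} (g : V ⟶ U)
    (x : Ext.{u} (CohCx.freeSheaf K U) F q) (φ : F ⟶ F') : rs g (pc x φ) = pc (rs g x) φ := by
  unfold rs pc
  exact (Ext.comp_assoc _ _ _ (zero_add q) (add_zero q) (by omega)).symm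

/-- the connecting map of a short exact sequence -/
noncomputable def dl {S : ShortComplex (Sheaf K AddCommGrpCat.{u})} (hS : S.ShortExact)
    {Z : Sheaf K AddCommGrpCat.{u}} {q : ℕ} (x : Ext.{u} Z S.X₃ q) : Ext.{u} Z S.X₁ (q + 1) :=
  x.comp hS.extClass rfl

lemma rs_dl {S : ShortComplex (Sheaf K AddCommGrpCat.{u})} (hS : S.ShortExact) {q : ℕ} {U V : D}
    (g : V ⟶ U) (x : Ext.{u} (CohCx.freeSheaf K U) S.X₃ q) :
    rs g (dl hS x) = dl hS (rs g x) := by
  unfold rs dl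
  exact (Ext.comp_assoc _ _ _ (zero_add q) rfl (by omega)).symm

lemma dl_zero {S : ShortComplex (Sheaf K AddCommGrpCat.{u})} (hS : S.ShortExact)
    {Z : Sheaf K AddCommGrpCat.{u}} {q : ℕ} : dl hS (0 : Ext.{u} Z S.X₃ q) = 0 := by
  unfold dl
  rw [Ext.zero_comp]

lemma dl_nat {S₁ S₂ : ShortComplex (Sheaf K AddCommGrpCat.{u})} (h₁ : S₁.ShortExact)
    (h₂ : S₂.ShortExact) (Φ : S₁ ⟶ S₂) {Z : Sheaf K AddCommGrpCat.{u}} {q : ℕ}
    (x : Ext.{u} Z S₁.X₃ q) : pc (dl h₁ x) Φ.τ₁ = dl h₂ (pc x Φ.τ₃) := by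
  unfold pc dl
  have A := Ext.comp_assoc x h₁.extClass (Ext.mk₀ Φ.τ₁) (rfl : q + 1 = q + 1) (add_zero 1)
    (by omega : q + 1 + 0 = q + 1)
  have B := Ext.comp_assoc x (Ext.mk₀ Φ.τ₃) h₂.extClass (add_zero q) (zero_add 1)
    (by omega : q + 0 + 1 = q + 1)
  have N := ShortComplex.ShortExact.extClass_naturality h₁ h₂ Φ
  rw [N] at A
  exact A.trans B.symm

lemma dl_surj {S : ShortComplex (Sheaf K AddCommGrpCat.{u})} (hS : S.ShortExact) [Injective S.X₂]
    (Z : Sheaf K AddCommGrpCat.{u}) (q : ℕ) (ζ : Ext.{u} Z S.X₁ (q + 1)) :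
    ∃ x : Ext.{u} Z S.X₃ q, dl hS x = ζ :=
  Groth.Agent.H45.ExtAdj.δ_surjective hS Z q ζ

lemma dl_inj {S : ShortComplex (Sheaf K AddCommGrpCat.{u})} (hS : S.ShortExact) [Injective S.X₂]
    (Z : Sheaf K AddCommGrpCat.{u}) (q : ℕ) (x : Ext.{u} Z S.X₃ (q + 1)) (h : dl hS x = 0) :
    x = 0 :=
  Groth.Agent.H45.ExtAdj.δ_injective hS Z q
    (h.trans (map_zero (Groth.Agent.H45.ExtAdj.δ hS Z (q + 1))).symm)

lemma dl_exact₁ {S : ShortComplex (Sheaf K AddCommGrpCat.{u})} (hS : S.ShortExact)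
    (Z : Sheaf K AddCommGrpCat.{u}) (q : ℕ) (y : Ext.{u} Z S.X₁ (q + 1)) (hy : pc y S.f = 0) :
    ∃ r : Ext.{u} Z S.X₃ q, dl hS r = y :=
  Ext.covariant_sequence_exact₁ Z hS y hy rfl

/-- the class of a section -/
noncomputable def cls (F : Sheaf K AddCommGrpCat.{u}) {U : D} (s : F.obj.obj (op U)) :
    Ext.{u} (CohCx.freeSheaf K U) F 0 :=
  Ext.mk₀ (CohFree.ofSect K U F s)

lemma cls_surj (F : Sheaf K AddCommGrpCat.{u}) {U : D} (r : Ext.{u} (CohCx.freeSheaf K U) F 0) :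
    ∃ s : F.obj.obj (op U), cls F s = r := by
  obtain ⟨φ, rfl⟩ := (Ext.mk₀_bijective _ _).2 r
  refine ⟨CohFree.evalGen K U F φ, ?_⟩
  unfold cls
  rw [CohFree.ofSect_evalGen]

lemma rs_cls (F : Sheaf K AddCommGrpCat.{u}) {U V : D} (g : V ⟶ U) (s : F.obj.obj (op U)) :
    rs g (cls F s) = cls F ((F.obj.map g.op).hom s) := by
  unfold rs cls
  rw [Ext.mk₀_comp_mk₀]
  congr 1
  exact (Groth.Agent.H92.RIncl.ofSect_map K F g.op s).symm

lemma pc_cls {F F' : Sheaf K AddCommGrpCat.{u}} (φ : F ⟶ F') {U : D} (s : F.obj.obj (op U)) :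
    pc (cls F s) φ = cls F' ((φ.hom.app (op U)).hom s) := by
  unfold pc cls
  rw [Ext.mk₀_comp_mk₀, Groth.Agent.H67.Cech.ofSect_comp]

lemma dl_cls_eq_zero_iff {S : ShortComplex (Sheaf K AddCommGrpCat.{u})} (hS : S.ShortExact) {U : D}
    (s : S.X₃.obj.obj (op U)) :
    dl hS (cls S.X₃ s) = 0 ↔
      ∃ t : S.X₂.obj.obj (op U), (S.g.hom.app (op U)).hom t = s :=
  Groth.Agent.H92.RIncl.d0_eq_zero_iff hS (op U) s

lemma dl_cls_surj {S : ShortComplex (Sheaf K AddCommGrpCat.{u})} (hS : S.ShortExact)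
    [Injective S.X₂] {U : D} (ζ : Ext.{u} (CohCx.freeSheaf K U) S.X₁ (0 + 1)) :
    ∃ s : S.X₃.obj.obj (op U), dl hS (cls S.X₃ s) = ζ := by
  obtain ⟨x, rfl⟩ := dl_surj hS _ 0 ζ
  obtain ⟨s, rfl⟩ := cls_surj _ x
  exact ⟨s, rfl⟩

/-- the sieve of arrows along which a class dies -/
def killSieve {F : Sheaf K AddCommGrpCat.{u}} {q : ℕ} {U : D}
    (x : Ext.{u} (CohCx.freeSheaf K U) F q) : Sieve U where
  arrows V g := rs g x = 0
  downward_closed := by
    intro V W g hg h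
    show rs (h ≫ g) x = 0
    have hg' : rs g x = 0 := hg
    rw [← rs_rs, hg', rs_zero]

lemma killSieve_rs {F : Sheaf K AddCommGrpCat.{u}} {q : ℕ} {U V : D} (g : V ⟶ U)
    (x : Ext.{u} (CohCx.freeSheaf K U) F q) :
    killSieve (rs g x) = (killSieve x).pullback g := by
  ext W h
  show rs h (rs g x) = 0 ↔ rs (h ≫ g) x = 0
  rw [rs_rs]

variable (K' : GrothendieckTopology D)

/-- a class is locally zero for the topology `K'` -/
def LZ {F : Sheaf K AddCommGrpCat.{u}} {q : ℕ} {U : D}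
    (x : Ext.{u} (CohCx.freeSheaf K U) F q) : Prop :=
  killSieve x ∈ K' U

lemma LZ_intro {F : Sheaf K AddCommGrpCat.{u}} {q : ℕ} {U : D}
    {x : Ext.{u} (CohCx.freeSheaf K U) F q} (S : Sieve U) (hS : S ∈ K' U)
    (h : ∀ ⦃V : D⦄ (g : V ⟶ U), S g → rs g x = 0) : LZ K' x :=
  K'.superset_covering (fun _ g hg => h g hg) hS

lemma LZ_of_eq_zero {F : Sheaf K AddCommGrpCat.{u}} {q : ℕ} {U : D}
    {x : Ext.{u} (CohCx.freeSheaf K U) F q} (h : x = 0) : LZ K' x := by
  refine LZ_intro K' ⊤ (K'.top_mem U) (fun V g _ => ?_)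
  rw [h, rs_zero]

lemma LZ_bind {F : Sheaf K AddCommGrpCat.{u}} {q : ℕ} {U : D}
    {x : Ext.{u} (CohCx.freeSheaf K U) F q} (S : Sieve U) (hS : S ∈ K' U)
    (h : ∀ ⦃V : D⦄ (g : V ⟶ U), S g → LZ K' (rs g x)) : LZ K' x := by
  refine K'.transitive hS (killSieve x) (fun V g hg => ?_)
  rw [← killSieve_rs]
  exact h g hg

lemma LZ_pc {F F' : Sheaf K AddCommGrpCat.{u}} {q : ℕ} {U : D}
    {x : Ext.{u} (CohCx.freeSheaf K U) F q} (h : LZ K' x) (φ : F ⟶ F') : LZ K' (pc x φ) := by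
  refine K'.superset_covering (fun V g hg => ?_) h
  have hg' : rs g x = 0 := hg
  show rs g (pc x φ) = 0
  rw [rs_pc, hg', pc_zero_left]

lemma LZ_dl {S : ShortComplex (Sheaf K AddCommGrpCat.{u})} (hS : S.ShortExact) {q : ℕ} {U : D}
    {x : Ext.{u} (CohCx.freeSheaf K U) S.X₃ q} (h : LZ K' x) : LZ K' (dl hS x) := by
  refine K'.superset_covering (fun V g hg => ?_) h
  have hg' : rs g x = 0 := hg
  show rs g (dl hS x) = 0
  rw [rs_dl, hg', dl_zero]

/-- `ψ` is locally surjective for the topology `K'` -/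
def LocSurj {F₁ F₂ : Sheaf K AddCommGrpCat.{u}} (ψ : F₁ ⟶ F₂) : Prop :=
  ∀ (U : D) (r : F₂.obj.obj (op U)), ∃ S : Sieve U, S ∈ K' U ∧ ∀ ⦃V : D⦄ (g : V ⟶ U), S g →
    ∃ t : F₁.obj.obj (op V), (ψ.hom.app (op V)).hom t = (F₂.obj.map g.op).hom r

lemma LZ_dl_of_locSurj {S : ShortComplex (Sheaf K AddCommGrpCat.{u})} (hS : S.ShortExact)
    (h : LocSurj K' S.g) {U : D} (r : Ext.{u} (CohCx.freeSheaf K U) S.X₃ 0) :
    LZ K' (dl hS r) := by
  obtain ⟨s, rfl⟩ := cls_surj _ r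
  obtain ⟨R, hR, hR'⟩ := h U s
  refine LZ_intro K' R hR (fun V g hg => ?_)
  obtain ⟨t, ht⟩ := hR' g hg
  rw [rs_dl, rs_cls]
  exact (dl_cls_eq_zero_iff hS _).2 ⟨t, ht⟩

end Classes

/-! ### auxiliary short exact sequences -/

section SES

variable {A : Type*} [Category A] [Abelian A]

/-- `X₁ ⟶ X₂ ⟶ im g` -/
noncomputable def imSC (S : ShortComplex A) : ShortComplex A :=
  ShortComplex.mk S.f (Abelian.factorThruImage S.g) (by
    rw [← cancel_mono (Abelian.image.ι S.g), Category.assoc, Abelian.image.fac, zero_comp, S.zero])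

lemma imSC_shortExact {S : ShortComplex A} (hex : S.Exact) (hf : Mono S.f) :
    (imSC S).ShortExact :=
  image_shortExact hex hf _

/-- `im f ⟶ Y ⟶ coker f` -/
noncomputable def cokSC {X Y : A} (f : X ⟶ Y) : ShortComplex A :=
  ShortComplex.mk (Abelian.image.ι f) (cokernel.π f) (kernel.condition _)

lemma cokSC_shortExact {X Y : A} (f : X ⟶ Y) : (cokSC f).ShortExact :=
  ShortComplex.ShortExact.mk'
    (ShortComplex.exact_of_f_is_kernel _ (kernelIsKernel (cokernel.π f)))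
    (by dsimp [cokSC]; infer_instance) (by dsimp [cokSC]; infer_instance)

/-- `X ⟶ Y ⟶ coker f` for a monomorphism `f` -/
noncomputable def monoSC {X Y : A} (f : X ⟶ Y) : ShortComplex A :=
  ShortComplex.mk f (cokernel.π f) (cokernel.condition f)

lemma monoSC_shortExact {X Y : A} (f : X ⟶ Y) [Mono f] : (monoSC f).ShortExact :=
  ShortComplex.ShortExact.mk' (ShortComplex.exact_cokernel f)
    (by dsimp [monoSC]; infer_instance) (by dsimp [monoSC]; infer_instance)

end SES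

/-! ### the setting -/

section Setting

variable (K K' : GrothendieckTopology D) (v : D ⥤ D) [v.IsContinuous K K] (π : v ⟶ 𝟭 D)

/-- the direct image along `v` -/
noncomputable abbrev TT : Sheaf K AddCommGrpCat.{u} ⥤ Sheaf K AddCommGrpCat.{u} :=
  CohSite.push K K v

/-- the projection `v U ⟶ U` -/
abbrev pp (U : D) : v.obj U ⟶ U := π.app U

omit [v.IsContinuous K K] in
lemma pp_nat {U V : D} (g : V ⟶ U) : v.map g ≫ pp v π U = pp v π V ≫ g := π.naturality g

/-- the restriction `F ⟶ T F` -/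
noncomputable def uu : 𝟭 (Sheaf K AddCommGrpCat.{u}) ⟶ TT K v where
  app F := ObjectProperty.homMk
    { app := fun X => F.obj.map (π.app X.unop).op
      naturality := by
        intro X Y f
        show F.obj.map f ≫ F.obj.map (π.app Y.unop).op =
          F.obj.map (π.app X.unop).op ≫ F.obj.map (v.map f.unop).op
        rw [← F.obj.map_comp, ← F.obj.map_comp]
        congr 1
        exact Quiver.Hom.unop_inj (π.naturality f.unop).symm }
  naturality := by
    intro F G φ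
    apply Sheaf.hom_ext
    apply NatTrans.ext
    funext X
    exact (φ.hom.naturality (π.app X.unop).op).symm

lemma uu_app_apply (F : Sheaf K AddCommGrpCat.{u}) (U : D) (s : F.obj.obj (op U)) :
    (((uu K v π).app F).hom.app (op U)).hom s = (F.obj.map (pp v π U).op).hom s := rfl

variable (M : Sheaf K AddCommGrpCat.{u})

/-- `0 → T M → T I → B → 0` -/
noncomputable def scT : ShortComplex (Sheaf K AddCommGrpCat.{u}) :=
  imSC ((injSC K M).map (TT K v))

lemma scT_shortExact : (scT K v M).ShortExact := by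
  haveI := Groth.Agent.H67.SiteCmpA.preservesFiniteLimits_push K K v
  obtain ⟨hex, hmono⟩ :=
    (Functor.preservesFiniteLimits_iff_forall_exact_map_and_mono (TT K v)).1 inferInstance
      (injSC K M) (injSC_shortExact K M)
  exact imSC_shortExact hex hmono

/-- `ū : Σ M ⟶ B` -/
noncomputable def ubar :
    (injSC K M).X₃ ⟶ Abelian.image ((TT K v).map (injSC K M).g) :=
  kernel.lift (cokernel.π ((TT K v).map (injSC K M).g)) ((uu K v π).app (injSC K M).X₃) (by
    haveI := (injSC_shortExact K M).epi_g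
    rw [← cancel_epi (injSC K M).g, ← Category.assoc, comp_zero,
      show (injSC K M).g ≫ (uu K v π).app (injSC K M).X₃ =
        (uu K v π).app (injSC K M).X₂ ≫ (TT K v).map (injSC K M).g from
        (uu K v π).naturality (injSC K M).g,
      Category.assoc, cokernel.condition, comp_zero])

lemma ubar_ι : ubar K v π M ≫ Abelian.image.ι ((TT K v).map (injSC K M).g) =
    (uu K v π).app (injSC K M).X₃ :=
  kernel.lift_ι _ _ _

/-- the morphism of short exact sequences `(M → I → ΣM) ⟶ (TM → TI → B)` -/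
noncomputable def Phi : injSC K M ⟶ scT K v M where
  τ₁ := (uu K v π).app M
  τ₂ := (uu K v π).app (injSC K M).X₂
  τ₃ := ubar K v π M
  comm₁₂ := ((uu K v π).naturality (injSC K M).f).symm
  comm₂₃ := by
    show (uu K v π).app (injSC K M).X₂ ≫ Abelian.factorThruImage ((TT K v).map (injSC K M).g) =
      (injSC K M).g ≫ ubar K v π M
    rw [← cancel_mono (Abelian.image.ι ((TT K v).map (injSC K M).g)), Category.assoc,
      Abelian.image.fac, Category.assoc, ubar_ι]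
    exact ((uu K v π).naturality (injSC K M).g).symm

/-- hypothesis for `lemI` -/
def HypB : ℕ → Sheaf K AddCommGrpCat.{u} → Prop
  | 0, _ => True
  | k + 1, M => (k = 0 → LocSurj K' (cokernel.π ((TT K v).map (injSC K M).g))) ∧
      (1 ≤ k → ∀ (U : D)
        (r : Ext.{u} (CohCx.freeSheaf K U) (cokernel ((TT K v).map (injSC K M).g)) k), LZ K' r) ∧
      HypB k (injSC K M).X₃

theorem lemI0 (U : D) (ζ : Ext.{u} (CohCx.freeSheaf K U) M (0 + 1))
    (hζ : rs (pp v π U) ζ = 0) : pc ζ ((uu K v π).app M) = 0 := by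
  have hS := injSC_shortExact K M
  have hST := scT_shortExact K v M
  have key : ∀ ζ : Ext.{u} (CohCx.freeSheaf K U) (injSC K M).X₁ (0 + 1),
      rs (pp v π U) ζ = 0 → pc ζ (Phi K v π M).τ₁ = 0 := by
    intro ζ hζ
    obtain ⟨s, rfl⟩ := dl_cls_surj hS ζ
    rw [rs_dl, rs_cls] at hζ
    obtain ⟨t, ht⟩ := (dl_cls_eq_zero_iff hS _).1 hζ
    rw [dl_nat hS hST (Phi K v π M) (cls (injSC K M).X₃ s), pc_cls]
    refine (dl_cls_eq_zero_iff hST _).2 ⟨t, ?_⟩
    refine sec_inj_of_mono (Abelian.image.ι ((TT K v).map (injSC K M).g)) U ?_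
    have hL : ((Abelian.image.ι ((TT K v).map (injSC K M).g)).hom.app (op U)).hom
        (((Abelian.factorThruImage ((TT K v).map (injSC K M).g)).hom.app (op U)).hom t) =
        ((injSC K M).g.hom.app (op (v.obj U))).hom t :=
      congrArg (fun m : (TT K v).obj (injSC K M).X₂ ⟶ (TT K v).obj (injSC K M).X₃ =>
        (m.hom.app (op U)).hom t) (Abelian.image.fac ((TT K v).map (injSC K M).g))
    have hR : ((Abelian.image.ι ((TT K v).map (injSC K M).g)).hom.app (op U)).hom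
        (((ubar K v π M).hom.app (op U)).hom s) =
        ((injSC K M).X₃.obj.map (pp v π U).op).hom s :=
      congrArg (fun m : (injSC K M).X₃ ⟶ (TT K v).obj (injSC K M).X₃ =>
        (m.hom.app (op U)).hom s) (ubar_ι K v π M)
    exact hL.trans (ht.trans hR.symm)
  exact key ζ hζ

theorem lemI : ∀ (k : ℕ) (M : Sheaf K AddCommGrpCat.{u}), HypB K K' v k M →
    ∀ (U : D) (ζ : Ext.{u} (CohCx.freeSheaf K U) M (k + 1)),
      rs (pp v π U) ζ = 0 → LZ K' (pc ζ ((uu K v π).app M))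
  | 0, M, _, U, ζ, hζ => LZ_of_eq_zero K' (lemI0 K v π M U ζ hζ)
  | k + 1, M, hB, U, ζ, hζ => by
    obtain ⟨hB0, hB1, hB2⟩ := hB
    have hS := injSC_shortExact K M
    have hST := scT_shortExact K v M
    have hSR := cokSC_shortExact ((TT K v).map (injSC K M).g)
    have key : ∀ ζ : Ext.{u} (CohCx.freeSheaf K U) (injSC K M).X₁ (k + 1 + 1),
        rs (pp v π U) ζ = 0 → LZ K' (pc ζ (Phi K v π M).τ₁) := by
      intro ζ hζ
      obtain ⟨ζ₁, rfl⟩ := dl_surj hS (CohCx.freeSheaf K U) (k + 1) ζ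
      have hζ₁ : rs (pp v π U) ζ₁ = 0 := by
        apply dl_inj hS _ k
        rw [← rs_dl]
        exact hζ
      have ih := lemI k (injSC K M).X₃ hB2 U ζ₁ hζ₁
      have hfac : pc (pc ζ₁ (ubar K v π M)) (Abelian.image.ι ((TT K v).map (injSC K M).g)) =
          pc ζ₁ ((uu K v π).app (injSC K M).X₃) := by
        rw [pc_pc, ubar_ι]
      have hLZ : LZ K' (pc ζ₁ (ubar K v π M)) := by
        refine LZ_bind K' _ ih (fun V g hg => ?_)
        have hg' : rs g (pc ζ₁ ((uu K v π).app (injSC K M).X₃)) = 0 := hg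
        rw [← hfac, rs_pc] at hg'
        obtain ⟨r, hr⟩ := dl_exact₁ hSR (CohCx.freeSheaf K V) k
          (rs g (pc ζ₁ (ubar K v π M))) hg'
        have hr' : rs g (pc ζ₁ (ubar K v π M)) = dl hSR r := hr.symm
        rw [hr']
        rcases Nat.eq_zero_or_pos k with hk | hk
        · subst hk
          exact LZ_dl_of_locSurj K' hSR (hB0 rfl) r
        · exact LZ_dl K' hSR (hB1 hk V r)
      rw [dl_nat hS hST (Phi K v π M) ζ₁]
      exact LZ_dl K' hST hLZ
    exact key ζ hζ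

/-- the unit `G ⟶ T G` is a monomorphism when the `π` are coverings -/
lemma mono_uu
    (hcov : ∀ U : D, Sieve.ofArrows (fun _ : PUnit.{u + 1} => v.obj U) (fun _ => pp v π U) ∈ K U)
    (G : Sheaf K AddCommGrpCat.{u}) : Mono ((uu K v π).app G) := by
  haveI : ∀ X : Dᵒᵖ, Mono (((uu K v π).app G).hom.app X) := by
    intro X
    rw [AddCommGrpCat.mono_iff_injective]
    show Function.Injective (G.obj.map (π.app X.unop).op).hom
    rw [injective_iff_map_eq_zero]
    intro s hs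
    refine Groth.Agent.H67.SiteCmpA.eq_zero_of_locally K G.obj G.property _ (hcov X.unop) s
      (fun W f hf => ?_)
    obtain ⟨_, a, rfl⟩ := (Sieve.mem_ofArrows_iff _ _ _).1 hf
    show (G.obj.map (a ≫ pp v π X.unop).op).hom s = 0
    rw [← res_res G.obj a (pp v π X.unop) s]
    have hs' : (G.obj.map (pp v π X.unop).op).hom s = 0 := hs
    rw [hs', map_zero]
  haveI : Mono ((uu K v π).app G).hom := NatTrans.mono_of_mono_app _
  exact Sheaf.Hom.mono_of_presheaf_mono K AddCommGrpCat.{u} _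

theorem lemB (n : ℕ) (G : Sheaf K AddCommGrpCat.{u}) [Mono ((uu K v π).app G)]
    (hB : HypB K K' v n G)
    (hQ0 : n = 0 → LocSurj K' (cokernel.π ((uu K v π).app G)))
    (hQ : 1 ≤ n → ∀ (U : D)
      (r : Ext.{u} (CohCx.freeSheaf K U) (cokernel ((uu K v π).app G)) n), LZ K' r)
    (U : D) (ζ : Ext.{u} (CohCx.freeSheaf K U) G (n + 1)) (hζ : rs (pp v π U) ζ = 0) :
    LZ K' ζ := by
  have hI := lemI K K' v π n G hB U ζ hζ
  have hSQ := monoSC_shortExact ((uu K v π).app G)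
  refine LZ_bind K' _ hI (fun V g hg => ?_)
  have hg' : rs g (pc ζ ((uu K v π).app G)) = 0 := hg
  rw [rs_pc] at hg'
  obtain ⟨r, hr⟩ := dl_exact₁ hSQ (CohCx.freeSheaf K V) n (rs g ζ) hg'
  have hr' : rs g ζ = dl hSQ r := hr.symm
  rw [hr']
  rcases Nat.eq_zero_or_pos n with hn | hn
  · subst hn
    exact LZ_dl_of_locSurj K' hSQ (hQ0 rfl) r
  · exact LZ_dl K' hSQ (hQ hn V r)

end Setting

/-! ### the second topology -/

section Two

variable {K K' : GrothendieckTopology D} (hle : K' ≤ K) (v : D ⥤ D) [v.IsContinuous K K]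
  [v.IsContinuous K' K'] (π : v ⟶ 𝟭 D)

/-- `ε_*` -/
noncomputable abbrev eps : Sheaf K AddCommGrpCat.{u} ⥤ Sheaf K' AddCommGrpCat.{u} :=
  SiteCmp.epsSh hle AddCommGrpCat.{u}

variable (M : Sheaf K AddCommGrpCat.{u})

/-- the image of `ε I ⟶ ε ΣM` -/
noncomputable abbrev Cp : Sheaf K' AddCommGrpCat.{u} :=
  Abelian.image ((eps hle).map (injSC K M).g)

noncomputable abbrev qp : (eps hle).obj (injSC K M).X₂ ⟶ Cp hle M :=
  Abelian.factorThruImage ((eps hle).map (injSC K M).g)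

noncomputable abbrev kp : Cp hle M ⟶ (eps hle).obj (injSC K M).X₃ :=
  Abelian.image.ι ((eps hle).map (injSC K M).g)

/-- `R¹ T' (ε M)` as a cokernel -/
noncomputable abbrev Sc : Sheaf K' AddCommGrpCat.{u} :=
  cokernel ((TT K' v).map (qp hle M))

/-- hypothesis for `lemA` -/
def HypA : ℕ → Sheaf K AddCommGrpCat.{u} → Prop
  | 0, M => Presheaf.IsSheaf K (Sc hle v M).obj
  | k + 1, M => HypA k (injSC K M).X₃

theorem lemA0 (hA : Presheaf.IsSheaf K (Sc hle v M).obj) (U₀ : D)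
    (hcov : Sieve.ofArrows (fun _ : PUnit.{u + 1} => v.obj U₀) (fun _ => pp v π U₀) ∈ K U₀)
    (ζ : Ext.{u} (CohCx.freeSheaf K U₀) M (0 + 1)) (hζ : LZ K' (rs (pp v π U₀) ζ)) :
    ∃ S : Sieve U₀, S ∈ K' U₀ ∧ ∀ ⦃V : D⦄ (g : V ⟶ U₀), S g → rs (pp v π V ≫ g) ζ = 0 := by
  have hS := injSC_shortExact K M
  have key : ∀ ζ : Ext.{u} (CohCx.freeSheaf K U₀) (injSC K M).X₁ (0 + 1),
      LZ K' (rs (pp v π U₀) ζ) → ∃ S : Sieve U₀, S ∈ K' U₀ ∧
        ∀ ⦃V : D⦄ (g : V ⟶ U₀), S g → rs (pp v π V ≫ g) ζ = 0 := by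
    intro ζ hζ
    obtain ⟨s, rfl⟩ := dl_cls_surj hS ζ
    rw [rs_dl, rs_cls] at hζ
    -- local lifts of the restriction of `s`
    have h2 : ∀ ⦃V : D⦄ (g : V ⟶ v.obj U₀),
        (killSieve (dl hS (cls (injSC K M).X₃
          (((injSC K M).X₃.obj.map (pp v π U₀).op).hom s)))).arrows g →
        ∃ t : (injSC K M).X₂.obj.obj (op V), ((injSC K M).g.hom.app (op V)).hom t =
          ((injSC K M).X₃.obj.map g.op).hom (((injSC K M).X₃.obj.map (pp v π U₀).op).hom s) := by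
      intro V g hg
      have h3 : rs g (dl hS (cls (injSC K M).X₃
          (((injSC K M).X₃.obj.map (pp v π U₀).op).hom s))) = 0 := hg
      rw [rs_dl, rs_cls] at h3
      exact (dl_cls_eq_zero_iff hS _).1 h3
    obtain ⟨c, hc⟩ : ∃ c : (Cp hle M).obj.obj (op (v.obj U₀)),
        ((kp hle M).hom.app (op (v.obj U₀))).hom c =
          ((injSC K M).X₃.obj.map (pp v π U₀).op).hom s :=
      sec_mem_image (J := K') ((eps hle).map (injSC K M).g) (v.obj U₀)
        (((injSC K M).X₃.obj.map (pp v π U₀).op).hom s) _ hζ h2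
    -- facts about `kp` and `qp`
    have hkq : ∀ (X : D) (t : (injSC K M).X₂.obj.obj (op X)),
        ((kp hle M).hom.app (op X)).hom (((qp hle M).hom.app (op X)).hom t) =
          ((injSC K M).g.hom.app (op X)).hom t := fun X t =>
      congrArg (fun m : (eps hle).obj (injSC K M).X₂ ⟶ (eps hle).obj (injSC K M).X₃ =>
        (m.hom.app (op X)).hom t) (Abelian.image.fac ((eps hle).map (injSC K M).g))
    have hkn : ∀ {X Y : D} (f : X ⟶ Y) (y : (Cp hle M).obj.obj (op Y)),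
        ((kp hle M).hom.app (op X)).hom (((Cp hle M).obj.map f.op).hom y) =
          ((injSC K M).X₃.obj.map f.op).hom (((kp hle M).hom.app (op Y)).hom y) := fun f y =>
      nat_apply (kp hle M).hom f y
    -- the class of `c` in `Sc` vanishes
    have hσ : ((cokernel.π ((TT K' v).map (qp hle M))).hom.app (op U₀)).hom c = 0 := by
      refine Groth.Agent.H67.SiteCmpA.eq_zero_of_locally K (Sc hle v M).obj hA _ hcov _
        (fun W f hf => ?_)
      obtain ⟨_, a, rfl⟩ := (Sieve.mem_ofArrows_iff _ _ _).1 hf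
      show ((Sc hle v M).obj.map (a ≫ pp v π U₀).op).hom
        (((cokernel.π ((TT K' v).map (qp hle M))).hom.app (op U₀)).hom c) = 0
      rw [← res_res (Sc hle v M).obj a (pp v π U₀)]
      have h3 : ((Sc hle v M).obj.map (pp v π U₀).op).hom
          (((cokernel.π ((TT K' v).map (qp hle M))).hom.app (op U₀)).hom c) = 0 := by
        refine Groth.Agent.H67.SiteCmpA.eq_zero_of_locally K' (Sc hle v M).obj
          (Sc hle v M).property _ hζ _ (fun V g hg => ?_)
        obtain ⟨t, ht⟩ := h2 g hg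
        show ((Sc hle v M).obj.map g.op).hom (((Sc hle v M).obj.map (pp v π U₀).op).hom
          (((cokernel.π ((TT K' v).map (qp hle M))).hom.app (op U₀)).hom c)) = 0
        rw [res_res, ← nat_apply (cokernel.π ((TT K' v).map (qp hle M))).hom (g ≫ pp v π U₀) c]
        have h4 : (((TT K' v).obj (Cp hle M)).obj.map (g ≫ pp v π U₀).op).hom c =
            (((TT K' v).map (qp hle M)).hom.app (op V)).hom
              (((injSC K M).X₂.obj.map (pp v π V).op).hom t) := by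
          refine sec_inj_of_mono (kp hle M) (v.obj V) ?_
          have e1 : ((kp hle M).hom.app (op (v.obj V))).hom
              (((Cp hle M).obj.map (v.map (g ≫ pp v π U₀)).op).hom c) =
              ((injSC K M).X₃.obj.map (pp v π V ≫ g ≫ pp v π U₀).op).hom s := by
            rw [hkn, hc, res_res, pp_nat]
          have e2 : ((kp hle M).hom.app (op (v.obj V))).hom
              (((qp hle M).hom.app (op (v.obj V))).hom
                (((injSC K M).X₂.obj.map (pp v π V).op).hom t)) =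
              ((injSC K M).X₃.obj.map (pp v π V ≫ g ≫ pp v π U₀).op).hom s := by
            rw [hkq, nat_apply (injSC K M).g.hom (pp v π V) t, ht, res_res, res_res, Category.assoc]
          exact e1.trans e2.symm
        rw [h4, ← comp_app_apply, cokernel.condition]
        rfl
      rw [h3, map_zero]
    obtain ⟨S, hS1, hS2⟩ := locLift_of_cokernel_zero (J := K') ((TT K' v).map (qp hle M)) U₀ c hσ
    refine ⟨S, hS1, fun V g hg => ?_⟩
    obtain ⟨t, ht⟩ := hS2 g hg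
    rw [rs_dl, rs_cls]
    refine (dl_cls_eq_zero_iff hS _).2 ⟨t, ?_⟩
    have ht' : ((qp hle M).hom.app (op (v.obj V))).hom t =
        ((Cp hle M).obj.map (v.map g).op).hom c := ht
    have e3 : ((injSC K M).g.hom.app (op (v.obj V))).hom t =
        ((kp hle M).hom.app (op (v.obj V))).hom (((Cp hle M).obj.map (v.map g).op).hom c) := by
      rw [← ht', hkq]
    rw [e3, hkn, hc, res_res, pp_nat]
  exact key ζ hζ

theorem lemA : ∀ (k : ℕ) (M : Sheaf K AddCommGrpCat.{u}), HypA hle v k M → ∀ (U₀ : D),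
    Sieve.ofArrows (fun _ : PUnit.{u + 1} => v.obj U₀) (fun _ => pp v π U₀) ∈ K U₀ →
    ∀ (ζ : Ext.{u} (CohCx.freeSheaf K U₀) M (k + 1)), LZ K' (rs (pp v π U₀) ζ) →
      ∃ S : Sieve U₀, S ∈ K' U₀ ∧ ∀ ⦃V : D⦄ (g : V ⟶ U₀), S g → rs (pp v π V ≫ g) ζ = 0
  | 0, M, hA, U₀, hcov, ζ, hζ => lemA0 hle v π M hA U₀ hcov ζ hζ
  | k + 1, M, hA, U₀, hcov, ζ, hζ => by
    have hS := injSC_shortExact K M
    have key : ∀ ζ : Ext.{u} (CohCx.freeSheaf K U₀) (injSC K M).X₁ (k + 1 + 1),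
        LZ K' (rs (pp v π U₀) ζ) → ∃ S : Sieve U₀, S ∈ K' U₀ ∧
          ∀ ⦃V : D⦄ (g : V ⟶ U₀), S g → rs (pp v π V ≫ g) ζ = 0 := by
      intro ζ hζ
      obtain ⟨ζ₁, rfl⟩ := dl_surj hS (CohCx.freeSheaf K U₀) (k + 1) ζ
      have h1 : LZ K' (rs (pp v π U₀) ζ₁) := by
        refine K'.superset_covering (fun W g hg => ?_) hζ
        have hg' : rs g (rs (pp v π U₀) (dl hS ζ₁)) = 0 := hg
        show rs g (rs (pp v π U₀) ζ₁) = 0
        apply dl_inj hS _ k
        rw [← rs_dl, ← rs_dl]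
        exact hg'
      obtain ⟨S, hS1, hS2⟩ := lemA k (injSC K M).X₃ hA U₀ hcov ζ₁ h1
      refine ⟨S, hS1, fun V g hg => ?_⟩
      rw [rs_dl, hS2 g hg, dl_zero]
    exact key ζ hζ

/-- **Main class-level statement.** -/
theorem mainC
    (hcov : ∀ U : D, Sieve.ofArrows (fun _ : PUnit.{u + 1} => v.obj U) (fun _ => pp v π U) ∈ K U)
    (n : ℕ) (G : Sheaf K AddCommGrpCat.{u}) (hA : HypA hle v n G) (hB : HypB K K' v n G)
    (hQ0 : n = 0 → LocSurj K' (cokernel.π ((uu K v π).app G)))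
    (hQ : 1 ≤ n → ∀ (U : D)
      (r : Ext.{u} (CohCx.freeSheaf K U) (cokernel ((uu K v π).app G)) n), LZ K' r)
    (U : D) (ζ : Ext.{u} (CohCx.freeSheaf K U) G (n + 1)) (hζ : LZ K' (rs (pp v π U) ζ)) :
    LZ K' ζ := by
  haveI := mono_uu K v π hcov G
  obtain ⟨S, hS1, hS2⟩ := lemA hle v π n G hA U (hcov U) ζ hζ
  refine LZ_bind K' S hS1 (fun V g hg => ?_)
  refine lemB K K' v π n G hB hQ0 hQ V (rs g ζ) ?_
  rw [rs_rs]
  exact hS2 g hg

end Two

end Groth.Agent.H67.SiteCmpC
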