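import Mathlib
import Groth.Agent.H67.SiteCmpC
import Groth.Agent.H30.CompDer
import Groth.Agent.S0487

/-!
# Helper library (helper67): comparing two topologies, part D

Verification of the hypotheses `HypA`, `HypB` of part C in terms of derived functors, and the
sheaf level consequence `sections_inj`: sections of `R^{n+1} ε_* G` which die on `v U` are zero.
-/

set_option autoImplicit false
universe u
open CategoryTheory CategoryTheory.Limits Opposite Abelian

namespace Groth.Agent.H67.SiteCmpD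

open Groth.Agent.H67.SiteCmpC
open Groth.Agent.H67.SieveCoh (injSC injSC_shortExact image_shortExact)
open Groth.Agent.H45.RDP

section Derived

universe v₁ v₂ u₁ u₂

variable {A : Type u₁} [Category.{v₁} A] [Abelian A] [HasInjectiveResolutions A]
  {B : Type u₂} [Category.{v₂} B] [Abelian B]
  (F : A ⥤ B) [F.Additive]

theorem rd_one [PreservesFiniteLimits F] {S : ShortComplex A} (hS : S.ShortExact)
    [Injective S.X₂] :
    Nonempty ((F.rightDerived 1).obj S.X₁ ≅ cokernel (F.map S.g)) := by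
  let _ := HasDerivedCategory.standard A
  let _ := HasDerivedCategory.standard B
  have := Groth.Agent.H5.GSS.enoughInjectives_of_hasInjectiveResolutions A
  obtain ⟨a⟩ := Groth.Agent.H92.DimShift.r1 F hS
  obtain ⟨b⟩ := Groth.Agent.H5.GSS.nonempty_rnf_iso F S.X₁ 1
  exact ⟨b.symm ≪≫ a⟩

theorem rd_shift {S : ShortComplex A} (hS : S.ShortExact) [Injective S.X₂] (p : ℕ) :
    Nonempty ((F.rightDerived (p + 2)).obj S.X₁ ≅ (F.rightDerived (p + 1)).obj S.X₃) := by
  let _ := HasDerivedCategory.standard A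
  let _ := HasDerivedCategory.standard B
  have := Groth.Agent.H5.GSS.enoughInjectives_of_hasInjectiveResolutions A
  obtain ⟨a⟩ := Groth.Agent.H92.DimShift.rs F hS p
  obtain ⟨b⟩ := Groth.Agent.H5.GSS.nonempty_rnf_iso F S.X₁ (p + 2)
  obtain ⟨c⟩ := Groth.Agent.H5.GSS.nonempty_rnf_iso F S.X₃ (p + 1)
  exact ⟨b.symm ≪≫ a ≪≫ c⟩

theorem map_shortExact_of_isZero [PreservesFiniteLimits F] {S : ShortComplex A}
    (hS : S.ShortExact) (hz : IsZero ((F.rightDerived 1).obj S.X₁)) : (S.map F).ShortExact := by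
  let _ := HasDerivedCategory.standard A
  let _ := HasDerivedCategory.standard B
  have := Groth.Agent.H5.GSS.enoughInjectives_of_hasInjectiveResolutions A
  obtain ⟨hex, hmono⟩ :=
    (Functor.preservesFiniteLimits_iff_forall_exact_map_and_mono F).1 inferInstance S hS
  obtain ⟨δ, w₁, w₂, e₁, e₂⟩ := RnF_exists_δ F hS ((0 : ℕ) : ℤ) ((1 : ℕ) : ℤ) (by norm_num)
  have hz' : IsZero ((RnF F ((1 : ℕ) : ℤ)).obj S.X₁) := by
    obtain ⟨c⟩ := Groth.Agent.H5.GSS.nonempty_rnf_iso F S.X₁ 1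
    exact IsZero.of_iso hz c
  have hepi : Epi ((RnF F ((0 : ℕ) : ℤ)).map S.g) := e₁.epi_f (hz'.eq_of_tgt _ _)
  have hepi' : Epi (F.map S.g) := by
    have hnat := (Groth.Agent.H92.DimShift.r0Iso F).hom.naturality S.g
    have h2 : F.map S.g = (Groth.Agent.H92.DimShift.r0Iso F).inv.app S.X₂ ≫
        (RnF F ((0 : ℕ) : ℤ)).map S.g ≫ (Groth.Agent.H92.DimShift.r0Iso F).hom.app S.X₃ := by
      rw [show (RnF F ((0 : ℕ) : ℤ)).map S.g ≫
          (Groth.Agent.H92.DimShift.r0Iso F).hom.app S.X₃ =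
        (Groth.Agent.H92.DimShift.r0Iso F).hom.app S.X₂ ≫ F.map S.g from hnat,
        Iso.inv_hom_id_app_assoc]
    rw [h2]
    infer_instance
  haveI : Mono (S.map F).f := hmono
  haveI : Epi (S.map F).g := hepi'
  exact { exact := hex }

end Derived

section FF

variable {𝒜 𝒜' : Type*} [Category 𝒜] [Category 𝒜'] [Abelian 𝒜] [Abelian 𝒜']
  (E : 𝒜 ⥤ 𝒜') [E.Additive]

/-- for a fully faithful functor, a cokernel of `E φ` lying in the image of `E` is `E (coker φ)` -/
theorem ff_cokernel (FF : E.FullyFaithful) {F₁ F₂ : 𝒜} (φ : F₁ ⟶ F₂) (C : 𝒜)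
    (e : E.obj C ≅ cokernel (E.map φ)) :
    Epi (E.map (cokernel.π φ)) ∧ Nonempty (E.obj (cokernel φ) ≅ cokernel (E.map φ)) := by
  obtain ⟨ψ, hψ⟩ : ∃ ψ : F₂ ⟶ C, E.map ψ = cokernel.π (E.map φ) ≫ e.inv :=
    ⟨FF.preimage _, FF.map_preimage _⟩
  have w : φ ≫ ψ = 0 := by
    apply FF.map_injective
    rw [Functor.map_comp, hψ, ← Category.assoc, cokernel.condition, zero_comp, Functor.map_zero]
  have hcolim : IsColimit (CokernelCofork.ofπ ψ w) :=
    CokernelCofork.IsColimit.ofπ _ w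
      (fun {X} g hg => FF.preimage (e.hom ≫ cokernel.desc (E.map φ) (E.map g)
        (by rw [← Functor.map_comp, hg, Functor.map_zero])))
      (fun {X} g hg => by
        apply FF.map_injective
        rw [Functor.map_comp, hψ, FF.map_preimage, Category.assoc, e.inv_hom_id_assoc,
          cokernel.π_desc])
      (fun {X} g hg m hm => by
        apply FF.map_injective
        rw [FF.map_preimage, ← Iso.inv_comp_eq]
        apply (cancel_epi (cokernel.π (E.map φ))).1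
        rw [cokernel.π_desc, ← Category.assoc, ← hψ, ← Functor.map_comp, hm])
  obtain ⟨i, hi⟩ : ∃ i : cokernel φ ≅ C, cokernel.π φ ≫ i.hom = ψ :=
    ⟨IsColimit.coconePointUniqueUpToIso (cokernelIsCokernel φ) hcolim,
      IsColimit.comp_coconePointUniqueUpToIso_hom (cokernelIsCokernel φ) hcolim
        WalkingParallelPair.one⟩
  refine ⟨?_, ⟨E.mapIso i ≪≫ e⟩⟩
  have h3 : E.map (cokernel.π φ) = cokernel.π (E.map φ) ≫ e.inv ≫ E.map i.inv := by
    rw [← Category.assoc, ← hψ, ← hi, Functor.map_comp, Category.assoc, ← Functor.map_comp,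
      Iso.hom_inv_id, E.map_id, Category.comp_id]
  rw [h3]
  infer_instance

end FF

variable {D : Type u} [SmallCategory D]

/-- an abstract form of "sections of a sheafification are controlled by the presheaf" -/
theorem inj_of_presheaf_key {K' : GrothendieckTopology D} (v : D ⥤ D) (π : v ⟶ 𝟭 D)
    (H : Dᵒᵖ ⥤ AddCommGrpCat.{u}) (Sh : Sheaf K' AddCommGrpCat.{u}) (τ : H ⟶ Sh.obj)
    (hsurj : ∀ (U : D) (t : Sh.obj.obj (op U)), ∃ S : Sieve U, S ∈ K' U ∧
      ∀ ⦃V : D⦄ (g : V ⟶ U), S g →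
        ∃ ζ : H.obj (op V), (τ.app (op V)).hom ζ = (Sh.obj.map g.op).hom t)
    (hinj : ∀ (V : D) (x : H.obj (op V)), (τ.app (op V)).hom x = 0 →
      ∃ S : Sieve V, S ∈ K' V ∧ ∀ ⦃W : D⦄ (f : W ⟶ V), S f → (H.map f.op).hom x = 0)
    (hzero : ∀ (V : D) (x : H.obj (op V)) (S : Sieve V), S ∈ K' V →
      (∀ ⦃W : D⦄ (f : W ⟶ V), S f → (H.map f.op).hom x = 0) → (τ.app (op V)).hom x = 0)
    (key : ∀ (V : D) (ζ : H.obj (op V)),
      (∃ S : Sieve (v.obj V), S ∈ K' (v.obj V) ∧ ∀ ⦃W : D⦄ (f : W ⟶ v.obj V), S f →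
        (H.map f.op).hom ((H.map (pp v π V).op).hom ζ) = 0) →
      ∃ S : Sieve V, S ∈ K' V ∧ ∀ ⦃W : D⦄ (f : W ⟶ V), S f → (H.map f.op).hom ζ = 0)
    (U : D) (t : Sh.obj.obj (op U)) (ht : (Sh.obj.map (pp v π U).op).hom t = 0) : t = 0 := by
  obtain ⟨S, hS, hS'⟩ := hsurj U t
  refine Groth.Agent.H67.SiteCmpA.eq_zero_of_locally K' Sh.obj Sh.property S hS t
    (fun V g hg => ?_)
  obtain ⟨ζ, hζ⟩ := hS' g hg
  show (Sh.obj.map g.op).hom t = 0
  rw [← hζ]
  have h0 : (τ.app (op (v.obj V))).hom ((H.map (pp v π V).op).hom ζ) = 0 := by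
    rw [nat_apply τ (pp v π V) ζ, hζ, res_res, ← pp_nat v π g, ← res_res, ht, map_zero]
  obtain ⟨S₁, hS₁, h₁⟩ := hinj (v.obj V) _ h0
  obtain ⟨S₂, hS₂, h₂⟩ := key V ζ ⟨S₁, hS₁, h₁⟩
  exact hzero V ζ S₂ hS₂ h₂

section Eps

variable {K K' : GrothendieckTopology D} (hle : K' ≤ K)

/-- `ε_*` is fully faithful -/
noncomputable def epsFF : (eps hle).FullyFaithful :=
  Functor.FullyFaithful.ofCompFaithful (G := sheafToPresheaf K' AddCommGrpCat.{u})
    ((fullyFaithfulSheafToPresheaf K AddCommGrpCat.{u}).ofIso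
      (Groth.Agent.H67.SiteCmpB.epsForget hle).symm)

/-- a `K'`-sheaf which happens to be a `K`-sheaf -/
def liftK (F' : Sheaf K' AddCommGrpCat.{u}) (h : Presheaf.IsSheaf K F'.obj) :
    Sheaf K AddCommGrpCat.{u} := ⟨F'.obj, h⟩

noncomputable def liftKIso (F' : Sheaf K' AddCommGrpCat.{u}) (h : Presheaf.IsSheaf K F'.obj) :
    (eps hle).obj (liftK F' h) ≅ F' :=
  (fullyFaithfulSheafToPresheaf K' AddCommGrpCat.{u}).preimageIso
    (NatIso.ofComponents (fun U => Iso.refl _)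
      (fun {U V} g => (Category.comp_id _).trans (Category.id_comp _).symm))

theorem eps_cokernel {F₁ F₂ : Sheaf K AddCommGrpCat.{u}} (φ : F₁ ⟶ F₂)
    (hsh : Presheaf.IsSheaf K (cokernel ((eps hle).map φ)).obj) :
    Epi ((eps hle).map (cokernel.π φ)) ∧
      Nonempty ((eps hle).obj (cokernel φ) ≅ cokernel ((eps hle).map φ)) :=
  ff_cokernel (eps hle) (epsFF hle) φ (liftK _ hsh) (liftKIso hle _ hsh)

lemma locSurj_of_epi {F₁ F₂ : Sheaf K AddCommGrpCat.{u}} (ψ : F₁ ⟶ F₂)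
    (h : Epi ((eps hle).map ψ)) : LocSurj K' ψ := by
  intro U r
  haveI : Sheaf.IsLocallySurjective ((eps hle).map ψ) :=
    (Sheaf.isLocallySurjective_iff_epi' _ ((eps hle).map ψ)).2 h
  refine ⟨Presheaf.imageSieve ((eps hle).map ψ).hom (U := U) r,
    Presheaf.imageSieve_mem K' ((eps hle).map ψ).hom (U := op U) r, fun V g hg => ?_⟩
  obtain ⟨t, ht⟩ := hg
  exact ⟨t, ht⟩

theorem LZ_of_isZero (F : Sheaf K AddCommGrpCat.{u}) (i : ℕ)
    (hz : IsZero (((eps hle).rightDerived i).obj F)) {U : D}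
    (x : Ext.{u} (CohCx.freeSheaf K U) F i) : LZ K' x := by
  haveI := SiteCmp.idContinuous hle
  obtain ⟨θ⟩ := Groth.Agent.S0487.result K K' (𝟭 D) F i
  have hz' : IsZero ((presheafToSheaf K' AddCommGrpCat.{u}).obj
      ((𝟭 D).op ⋙ Sheaf.cohomologyPresheaf.{u} F i)) := hz.of_iso θ.symm
  have h0 : (toSheafify K' ((𝟭 D).op ⋙ Sheaf.cohomologyPresheaf.{u} F i)).app (op U) x =
      0 := sec_eq_zero_of_isZero _ hz' (op U) _
  obtain ⟨S, hS, hS'⟩ := Groth.Agent.H67.SiteCmpA.locally_zero_of_toSheafify_eq_zero K'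
    ((𝟭 D).op ⋙ Sheaf.cohomologyPresheaf.{u} F i) x h0
  exact LZ_intro K' S hS (fun V g hg => hS' g hg)

variable (v : D ⥤ D) [v.IsContinuous K K] [v.IsContinuous K' K']

theorem hypB_of : ∀ (n : ℕ) (G : Sheaf K AddCommGrpCat.{u}),
    (∀ j k : ℕ, j + k = n → 1 ≤ j → 1 ≤ k →
      IsZero (((eps hle).rightDerived k).obj (((TT K v).rightDerived j).obj G))) →
    (1 ≤ n → Presheaf.IsSheaf K (((TT K v ⋙ eps hle).rightDerived n).obj G).obj) →
    HypB K K' v n G
  | 0, _, _, _ => trivial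
  | k + 1, G, h1, h2 => by
    haveI := Groth.Agent.H67.SiteCmpA.preservesFiniteLimits_push K K v
    haveI := Groth.Agent.H67.SiteCmpB.preservesFiniteLimits_eps hle
    have hS := injSC_shortExact K G
    refine ⟨fun hk => ?_, fun hk U r => ?_, ?_⟩
    · subst hk
      obtain ⟨a⟩ := rd_one (TT K v ⋙ eps hle) hS
      have hsh : Presheaf.IsSheaf K
          (cokernel ((eps hle).map ((TT K v).map (injSC K G).g))).obj :=
        (Presheaf.isSheaf_of_iso_iff
          ((sheafToPresheaf K' AddCommGrpCat.{u}).mapIso a)).1 (h2 le_rfl)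
      exact locSurj_of_epi hle _ (eps_cokernel hle _ hsh).1
    · obtain ⟨a⟩ := rd_one (TT K v) hS
      exact LZ_of_isZero hle _ k (IsZero.of_iso (h1 1 k (by omega) le_rfl hk)
        (((eps hle).rightDerived k).mapIso a.symm)) r
    · refine hypB_of k (injSC K G).X₃ (fun j' k' hjk hj' hk' => ?_) (fun hk => ?_)
      · obtain ⟨p, rfl⟩ : ∃ p, j' = p + 1 := ⟨j' - 1, by omega⟩
        obtain ⟨a⟩ := rd_shift (TT K v) hS p
        exact IsZero.of_iso (h1 (p + 2) k' (by omega) (by omega) hk')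
          (((eps hle).rightDerived k').mapIso a.symm)
      · obtain ⟨p, rfl⟩ : ∃ p, k = p + 1 := ⟨k - 1, by omega⟩
        obtain ⟨a⟩ := rd_shift (TT K v ⋙ eps hle) hS p
        exact (Presheaf.isSheaf_of_iso_iff
          ((sheafToPresheaf K' AddCommGrpCat.{u}).mapIso a)).1 (h2 (by omega))

theorem hypA_of : ∀ (n : ℕ) (G : Sheaf K AddCommGrpCat.{u}),
    (∀ q : ℕ, 1 ≤ q → q ≤ n → IsZero (((eps hle).rightDerived q).obj G)) →
    Presheaf.IsSheaf K (((TT K' v).rightDerived (n + 1)).obj ((eps hle).obj G)).obj →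
    HypA hle v n G
  | 0, G, _, h2 => by
    haveI := Groth.Agent.H67.SiteCmpA.preservesFiniteLimits_push K' K' v
    haveI := Groth.Agent.H67.SiteCmpB.preservesFiniteLimits_eps hle
    have hS := injSC_shortExact K G
    obtain ⟨hex, hmono⟩ :=
      (Functor.preservesFiniteLimits_iff_forall_exact_map_and_mono (eps hle)).1 inferInstance
        (injSC K G) hS
    have hS' := imSC_shortExact hex hmono
    haveI : Injective (imSC ((injSC K G).map (eps hle))).X₂ :=
      Groth.Agent.H67.SiteCmpB.injective_eps hle (injSC K G).X₂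
    obtain ⟨a⟩ := rd_one (TT K' v) hS'
    show Presheaf.IsSheaf K (Sc hle v G).obj
    exact (Presheaf.isSheaf_of_iso_iff
      ((sheafToPresheaf K' AddCommGrpCat.{u}).mapIso a)).1 h2
  | n + 1, G, h1, h2 => by
    haveI := Groth.Agent.H67.SiteCmpA.preservesFiniteLimits_push K' K' v
    haveI := Groth.Agent.H67.SiteCmpB.preservesFiniteLimits_eps hle
    have hS := injSC_shortExact K G
    show HypA hle v n (injSC K G).X₃
    refine hypA_of n (injSC K G).X₃ (fun q hq1 hq2 => ?_) ?_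
    · obtain ⟨p, rfl⟩ : ∃ p, q = p + 1 := ⟨q - 1, by omega⟩
      obtain ⟨a⟩ := rd_shift (eps hle) hS p
      exact IsZero.of_iso (h1 (p + 2) (by omega) (by omega)) a.symm
    · have hεS := map_shortExact_of_isZero (eps hle) hS (h1 1 le_rfl (by omega))
      haveI : Injective ((injSC K G).map (eps hle)).X₂ :=
        Groth.Agent.H67.SiteCmpB.injective_eps hle (injSC K G).X₂
      obtain ⟨a⟩ := rd_shift (TT K' v) hεS n
      exact (Presheaf.isSheaf_of_iso_iff
        ((sheafToPresheaf K' AddCommGrpCat.{u}).mapIso a)).1 h2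

/-- **Sections of `R^{n+1} ε_* G` dying on `v U` vanish.** -/
theorem sections_inj (π : v ⟶ 𝟭 D)
    (hcov : ∀ U : D, Sieve.ofArrows (fun _ : PUnit.{u + 1} => v.obj U) (fun _ => pp v π U) ∈ K U)
    (n : ℕ) (G : Sheaf K AddCommGrpCat.{u})
    (hV : ∀ q : ℕ, 1 ≤ q → q ≤ n → IsZero (((eps hle).rightDerived q).obj G))
    (hA : Presheaf.IsSheaf K (((TT K' v).rightDerived (n + 1)).obj ((eps hle).obj G)).obj)
    (hB1 : ∀ j k : ℕ, j + k = n → 1 ≤ j → 1 ≤ k →
      IsZero (((eps hle).rightDerived k).obj (((TT K v).rightDerived j).obj G)))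
    (hB2 : 1 ≤ n → Presheaf.IsSheaf K (((TT K v ⋙ eps hle).rightDerived n).obj G).obj)
    (hQs : Presheaf.IsSheaf K (cokernel ((eps hle).map ((uu K v π).app G))).obj)
    (hQ : 1 ≤ n → IsZero (((eps hle).rightDerived n).obj (cokernel ((uu K v π).app G))))
    (U : D) (s : (((eps hle).rightDerived (n + 1)).obj G).obj.obj (op U))
    (hs : ((((eps hle).rightDerived (n + 1)).obj G).obj.map (pp v π U).op).hom s = 0) :
    s = 0 := by
  haveI := SiteCmp.idContinuous hle
  obtain ⟨θ⟩ := Groth.Agent.S0487.result K K' (𝟭 D) G (n + 1)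
  have hHA := hypA_of hle v n G hV hA
  have hHB := hypB_of hle v n G hB1 hB2
  have hQ0 : n = 0 → LocSurj K' (cokernel.π ((uu K v π).app G)) := fun _ =>
    locSurj_of_epi hle _ (eps_cokernel hle _ hQs).1
  have hQ' : 1 ≤ n → ∀ (U : D)
      (r : Ext.{u} (CohCx.freeSheaf K U) (cokernel ((uu K v π).app G)) n), LZ K' r :=
    fun hn U r => LZ_of_isZero hle _ n (hQ hn) r
  have hmain := mainC hle v π hcov n G hHA hHB hQ0 hQ'
  have ht := inj_of_presheaf_key (K' := K') v π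
    ((𝟭 D).op ⋙ Sheaf.cohomologyPresheaf.{u} G (n + 1))
    ((presheafToSheaf K' AddCommGrpCat.{u}).obj
      ((𝟭 D).op ⋙ Sheaf.cohomologyPresheaf.{u} G (n + 1)))
    (toSheafify K' ((𝟭 D).op ⋙ Sheaf.cohomologyPresheaf.{u} G (n + 1)))
    (fun U t => ⟨_, Presheaf.imageSieve_mem K'
      (toSheafify K' ((𝟭 D).op ⋙ Sheaf.cohomologyPresheaf.{u} G (n + 1))) (U := op U) t,
      fun V g hg => hg⟩)
    (fun V x hx => Groth.Agent.H67.SiteCmpA.locally_zero_of_toSheafify_eq_zero K'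
      ((𝟭 D).op ⋙ Sheaf.cohomologyPresheaf.{u} G (n + 1)) x hx)
    (fun V x S hS h => Groth.Agent.H67.SiteCmpA.toSheafify_eq_zero_of_locally K'
      ((𝟭 D).op ⋙ Sheaf.cohomologyPresheaf.{u} G (n + 1)) S hS x h)
    (fun V ζ ⟨S, hS, h⟩ => by
      have h1 : LZ K' (rs (pp v π V) (ζ : Ext.{u} (CohCx.freeSheaf K V) G (n + 1))) :=
        LZ_intro K' S hS (fun W f hf => h f hf)
      have h2 := hmain V ζ h1
      exact ⟨killSieve (ζ : Ext.{u} (CohCx.freeSheaf K V) G (n + 1)), h2, fun W f hf => hf⟩)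
    U ((θ.hom.hom.app (op U)).hom s)
    (by rw [← nat_apply θ.hom.hom (pp v π U) s, hs, map_zero])
  exact iso_sec_inj θ (op U) s ht

end Eps

end Groth.Agent.H67.SiteCmpD
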