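import Mathlib
import Groth.Agent.H67.SiteCmpD
import Groth.Agent.S9079

/-!
# Helper library (helper67): comparing two topologies, part E (the geometric situation)

`Sit h P A'` bundles the hypotheses (1)–(5) of the comparison situation.  `Vn_all` : for every `n`,
`R^i ε_{X,*} F = 0` for `1 ≤ i ≤ n` and `F ∈ A_X`.
-/

set_option autoImplicit false
universe u
open CategoryTheory CategoryTheory.Limits Opposite Abelian

namespace Groth.Agent.H67.SiteCmpE

open Groth.Agent.H67.SiteCmpC Groth.Agent.H67.SiteCmpD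
open Groth.Agent.H67.DerivedNat

section General

variable {D₁ D₂ : Type u} [SmallCategory D₁] [SmallCategory D₂]
  {K₁ K₁' : GrothendieckTopology D₁} {K₂ K₂' : GrothendieckTopology D₂}
  (h₁ : K₁' ≤ K₁) (h₂ : K₂' ≤ K₂) (a : D₁ ⥤ D₂) [a.IsContinuous K₁ K₂] [a.IsContinuous K₁' K₂']

/-- `ε_*` commutes with direct images -/
noncomputable def epsPushIso :
    CohSite.push K₂ K₁ a ⋙ SiteCmp.epsSh h₁ AddCommGrpCat.{u} ≅
      SiteCmp.epsSh h₂ AddCommGrpCat.{u} ⋙ CohSite.push K₂' K₁' a :=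
  NatIso.ofComponents
    (fun F => (fullyFaithfulSheafToPresheaf K₁' AddCommGrpCat.{u}).preimageIso
      (NatIso.ofComponents (fun U => Iso.refl _)
        (fun {U V} g => (Category.comp_id _).trans (Category.id_comp _).symm)))
    (by
      intro F G φ
      apply Sheaf.hom_ext
      apply NatTrans.ext
      funext U
      show φ.hom.app _ ≫ 𝟙 _ = 𝟙 _ ≫ φ.hom.app _
      rw [Category.comp_id, Category.id_comp])

end General

section Zero

variable {D : Type u} [SmallCategory D]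

/-- the sieve of arrows along which a section dies -/
def zeroSieve (P : Dᵒᵖ ⥤ AddCommGrpCat.{u}) {U : D} (s : P.obj (op U)) : Sieve U where
  arrows V g := (P.map g.op).hom s = 0
  downward_closed := by
    intro V W g hg f
    show (P.map (f ≫ g).op).hom s = 0
    have hg' : (P.map g.op).hom s = 0 := hg
    rw [← res_res, hg', map_zero]

variable {K K' : GrothendieckTopology D}

lemma zeroSieve_mem_aux (hle : K' ≤ K) (𝓗 Sh : Sheaf K' AddCommGrpCat.{u}) (θ : 𝓗 ≅ Sh)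
    (H : Dᵒᵖ ⥤ AddCommGrpCat.{u}) (τ : H ⟶ Sh.obj)
    (hsurj : ∀ (U : D) (t : Sh.obj.obj (op U)), ∃ S : Sieve U, S ∈ K' U ∧
      ∀ ⦃V : D⦄ (g : V ⟶ U), S g →
        ∃ ζ : H.obj (op V), (τ.app (op V)).hom ζ = (Sh.obj.map g.op).hom t)
    (hK : ∀ (V : D) (ζ : H.obj (op V)), ∃ S : Sieve V, S ∈ K V ∧
      ∀ ⦃W : D⦄ (f : W ⟶ V), S f → (H.map f.op).hom ζ = 0)
    (U : D) (s : 𝓗.obj.obj (op U)) : zeroSieve 𝓗.obj s ∈ K U := by
  obtain ⟨R, hR, hR'⟩ := hsurj U ((θ.hom.hom.app (op U)).hom s)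
  refine K.transitive (hle _ hR) _ (fun V g hg => ?_)
  obtain ⟨ζ, hζ⟩ := hR' g hg
  obtain ⟨S, hS, hS'⟩ := hK V ζ
  refine K.superset_covering (fun W f hf => ?_) hS
  show (𝓗.obj.map (f ≫ g).op).hom s = 0
  apply iso_sec_inj θ (op W)
  rw [nat_apply θ.hom.hom (f ≫ g) s, ← res_res, ← hζ, ← nat_apply τ f ζ, hS' f hf, map_zero]

/-- sections of `R^{n+1} ε_* G` are locally zero for the finer topology -/
theorem zeroSieve_mem (hle : K' ≤ K) (G : Sheaf K AddCommGrpCat.{u}) (n : ℕ) (U : D)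
    (s : (((eps hle).rightDerived (n + 1)).obj G).obj.obj (op U)) :
    zeroSieve (((eps hle).rightDerived (n + 1)).obj G).obj s ∈ K U := by
  haveI := SiteCmp.idContinuous hle
  obtain ⟨θ⟩ := Groth.Agent.S0487.result K K' (𝟭 D) G (n + 1)
  have hK : ∀ (V : D) (ζ : ((𝟭 D).op ⋙ Sheaf.cohomologyPresheaf.{u} G (n + 1)).obj (op V)),
      ∃ S : Sieve V, S ∈ K V ∧ ∀ ⦃W : D⦄ (f : W ⟶ V), S f →
        (((𝟭 D).op ⋙ Sheaf.cohomologyPresheaf.{u} G (n + 1)).map f.op).hom ζ = 0 := by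
    intro V ζ
    obtain ⟨Sc, hSc⟩ := Groth.Agent.S0483.result K G V n ζ
    exact ⟨Sc.1, Sc.2, fun W f hf => hSc ⟨W, f, hf⟩⟩
  exact zeroSieve_mem_aux hle _ _ θ ((𝟭 D).op ⋙ Sheaf.cohomologyPresheaf.{u} G (n + 1))
    (toSheafify K' ((𝟭 D).op ⋙ Sheaf.cohomologyPresheaf.{u} G (n + 1)))
    (fun U t => ⟨_, Presheaf.imageSieve_mem K'
      (toSheafify K' ((𝟭 D).op ⋙ Sheaf.cohomologyPresheaf.{u} G (n + 1))) (U := op U) t,
      fun V g hg => hg⟩)
    hK U s

end Zero

section Geom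

variable {C : Type u} [SmallCategory C] {J J' : GrothendieckTopology C}

/-- the hypotheses (1)–(5) of the comparison situation -/
structure Sit (h : J' ≤ J) (P : MorphismProperty C)
    (A' : ∀ X : C, ObjectProperty (Sheaf (J'.over X) AddCommGrpCat.{u})) : Prop where
  h1 : ∀ ⦃X Y : C⦄ (f : X ⟶ Y), P f → ∀ ⦃Y' : C⦄ (g : Y' ⟶ Y),
      ∃ (W : C) (p : W ⟶ Y') (q : W ⟶ X), IsPullback p q g f ∧ P p
  h2 : ∀ ⦃X Y : C⦄ (f : X ⟶ Y) (F' : Sheaf (J'.over Y) AddCommGrpCat.{u}), A' Y F' →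
      A' X ((CohSite.push (J'.over Y) (J'.over X) (Over.map f)).obj F')
  h3 : ∀ (X : C) (F' : Sheaf (J'.over X) AddCommGrpCat.{u}), A' X F' →
      Presheaf.IsSheaf (J.over X) F'.obj
  h4 : ∀ ⦃X Y : C⦄ (f : X ⟶ Y)
      [((Over.map f).sheafPushforwardCocontinuous AddCommGrpCat.{u} (J'.over X)
        (J'.over Y)).Additive],
      P f → ∀ (F' : Sheaf (J'.over X) AddCommGrpCat.{u}), A' X F' → ∀ i : ℕ,
        A' Y ((((Over.map f).sheafPushforwardCocontinuous AddCommGrpCat.{u} (J'.over X)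
          (J'.over Y)).rightDerived i).obj F')
  h5 : ∀ (U : C) (S : Sieve U), S ∈ J U → ∃ (ι : Type u) (V : ι → C) (v : ∀ j, V j ⟶ U),
      Sieve.ofArrows V v ∈ J' U ∧ ∀ j, ∃ (W : C) (w : W ⟶ V j), P w ∧
        Sieve.ofArrows (fun _ : PUnit.{u + 1} => W) (fun _ => w) ∈ J (V j) ∧
        ∃ (κ : Type u) (Wk : κ → C) (wk : ∀ k, Wk k ⟶ W), Sieve.ofArrows Wk wk ∈ J' W ∧
          ∀ k, S.arrows (wk k ≫ w ≫ v j)

/-- the vanishing statement up to degree `n` -/
def Vn (h : J' ≤ J) (A' : ∀ X : C, ObjectProperty (Sheaf (J'.over X) AddCommGrpCat.{u}))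
    (n : ℕ) : Prop :=
  ∀ (Z : C) (G : Sheaf (J.over Z) AddCommGrpCat.{u}),
    A' Z ((SiteCmp.epsSh (SiteCmp.over_le h Z) AddCommGrpCat.{u}).obj G) →
    ∀ i : ℕ, 1 ≤ i → i ≤ n →
      IsZero (((SiteCmp.epsSh (SiteCmp.over_le h Z) AddCommGrpCat.{u}).rightDerived i).obj G)

variable {h : J' ≤ J} {P : MorphismProperty C}
  {A' : ∀ X : C, ObjectProperty (Sheaf (J'.over X) AddCommGrpCat.{u})}

lemma Sit.hasPB (S : Sit h P A') {W Z : C} (w : W ⟶ Z) (hw : P w) : HasPullbacksAlong w :=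
  fun {Y'} g => by
    obtain ⟨W', p, q, hpb, _⟩ := S.h1 w hw g
    exact hpb.hasPullback

/-- the projections `V ×_Z W ⟶ V` -/
noncomputable def piW {W Z : C} (w : W ⟶ Z) [HasPullbacksAlong w] :
    (Over.pullback w ⋙ Over.map w) ⟶ 𝟭 (Over Z) where
  app V := Groth.Agent.H67.SiteCmpA.ε w V
  naturality _ _ a := Groth.Agent.H67.SiteCmpA.w_map_ε w a

lemma cov_ε {W Z : C} (w : W ⟶ Z) [HasPullbacksAlong w]
    (hcov : Sieve.ofArrows (fun _ : PUnit.{u + 1} => W) (fun _ => w) ∈ J Z) (U : Over Z) :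
    Sieve.ofArrows (fun _ : PUnit.{u + 1} => (Over.pullback w ⋙ Over.map w).obj U)
      (fun _ => pp (Over.pullback w ⋙ Over.map w) (piW w) U) ∈ (J.over Z) U := by
  rw [GrothendieckTopology.mem_over_iff]
  refine J.superset_covering ?_ (J.pullback_stable U.hom hcov)
  intro T a ha
  have ha' : (Sieve.ofArrows (fun _ : PUnit.{u + 1} => W) (fun _ => w)).arrows (a ≫ U.hom) := ha
  obtain ⟨_, c, hc⟩ := (Sieve.mem_ofArrows_iff _ _ _).1 ha'
  rw [Sieve.overEquiv_iff]
  refine (Sieve.mem_ofArrows_iff _ _ _).2 ⟨PUnit.unit, Over.homMk (pullback.lift a c hc) ?_, ?_⟩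
  · show pullback.lift a c hc ≫ (pullback.snd U.hom w ≫ w) = a ≫ U.hom
    rw [pullback.lift_snd_assoc, hc]
  · apply Over.OverMorphism.ext
    show a = pullback.lift a c hc ≫ pullback.fst U.hom w
    rw [pullback.lift_fst]

lemma pushU_colim (Jt : GrothendieckTopology C) {Y Z : C} (g : Y ⟶ Z) :
    PreservesFiniteColimits (CohSite.push (Jt.over Z) (Jt.over Y) (Over.map g)) := by
  have : PreservesColimitsOfSize.{u, u} (CohSite.push (Jt.over Z) (Jt.over Y) (Over.map g)) :=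
    ((Over.map g).sheafAdjunctionCocontinuous AddCommGrpCat.{u} (Jt.over Y)
      (Jt.over Z)).leftAdjoint_preservesColimits
  infer_instance

variable [∀ X : C, WSerre.IsWeakSerre (A' X)]

lemma mem_RT' (S : Sit h P A') {W Z : C} (w : W ⟶ Z) (hw : P w) [HasPullbacksAlong w]
    (F' : Sheaf (J'.over Z) AddCommGrpCat.{u}) (hF' : A' Z F') (m : ℕ) :
    A' Z (((Groth.Agent.H67.SiteCmpA.pushW J' w).rightDerived m).obj F') := by
  haveI := Groth.Agent.H67.SiteCmpA.preservesFiniteLimits_push (J'.over Z) (J'.over Z)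
    (Over.pullback w ⋙ Over.map w)
  haveI := Groth.Agent.H67.SiteCmpA.preservesFiniteLimits_push (J'.over Z) (J'.over W) (Over.map w)
  haveI := Groth.Agent.H67.SiteCmpA.fStar_preservesFiniteLimits J' w
  haveI := Groth.Agent.H67.SiteCmpA.pushU_preservesFiniteColimits J' w
  have hacy : ∀ I : Sheaf (J'.over Z) AddCommGrpCat.{u}, Injective I → ∀ k : ℕ,
      IsZero (((Groth.Agent.H67.SiteCmpA.fStar J' w).rightDerived (k + 1)).obj
        ((Groth.Agent.H67.SiteCmpA.pushU J' w).obj I)) := by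
    intro I hI k
    haveI := hI
    haveI := Groth.Agent.H67.SiteCmpA.injective_pushU J' w I
    exact Functor.isZero_rightDerived_obj_injective_succ (Groth.Agent.H67.SiteCmpA.fStar J' w) k _
  obtain ⟨e₁⟩ := Groth.Agent.H30.CompDer.main (Groth.Agent.H67.SiteCmpA.pushW J' w)
    (Groth.Agent.H67.SiteCmpA.fStar J' w) (Groth.Agent.H67.SiteCmpA.pushU J' w) (𝟭 _)
    (Groth.Agent.H67.SiteCmpA.eT J' w) hacy m F'
  exact (A' Z).prop_of_iso e₁.symm (S.h4 w hw _ (S.h2 w F' hF') m)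

lemma mem_RT (S : Sit h P A') (n : ℕ) (hV : Vn h A' n) {W Z : C} (w : W ⟶ Z) (hw : P w)
    [HasPullbacksAlong w] (G : Sheaf (J.over Z) AddCommGrpCat.{u})
    (hG : A' Z ((eps (SiteCmp.over_le h Z)).obj G)) (j : ℕ) (hj : j ≤ n) :
    A' Z ((eps (SiteCmp.over_le h Z)).obj
      (((Groth.Agent.H67.SiteCmpA.pushW J w).rightDerived j).obj G)) := by
  haveI := Groth.Agent.H67.SiteCmpA.preservesFiniteLimits_push (J.over Z) (J.over Z)
    (Over.pullback w ⋙ Over.map w)
  haveI := Groth.Agent.H67.SiteCmpA.preservesFiniteLimits_push (J.over Z) (J.over W) (Over.map w)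
  haveI := Groth.Agent.H67.SiteCmpA.fStar_preservesFiniteLimits J w
  haveI := Groth.Agent.H67.SiteCmpA.pushU_preservesFiniteColimits J w
  have hacy : ∀ I : Sheaf (J.over Z) AddCommGrpCat.{u}, Injective I → ∀ k : ℕ,
      IsZero (((Groth.Agent.H67.SiteCmpA.fStar J w).rightDerived (k + 1)).obj
        ((Groth.Agent.H67.SiteCmpA.pushU J w).obj I)) := by
    intro I hI k
    haveI := hI
    haveI := Groth.Agent.H67.SiteCmpA.injective_pushU J w I
    exact Functor.isZero_rightDerived_obj_injective_succ (Groth.Agent.H67.SiteCmpA.fStar J w) k _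
  obtain ⟨e₁⟩ := Groth.Agent.H30.CompDer.main (Groth.Agent.H67.SiteCmpA.pushW J w)
    (Groth.Agent.H67.SiteCmpA.fStar J w) (Groth.Agent.H67.SiteCmpA.pushU J w) (𝟭 _)
    (Groth.Agent.H67.SiteCmpA.eT J w) hacy j G
  have hGW : A' W ((eps (SiteCmp.over_le h W)).obj
      ((Groth.Agent.H67.SiteCmpA.pushU J w).obj G)) :=
    (A' W).prop_of_iso
      ((epsPushIso (SiteCmp.over_le h W) (SiteCmp.over_le h Z) (Over.map w)).app G).symm
      (S.h2 w _ hG)
  obtain ⟨e₂⟩ := Groth.Agent.S9079.result h P A' S.h1 S.h2 S.h3 S.h4 S.h5 n hV w hw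
    ((Groth.Agent.H67.SiteCmpA.pushU J w).obj G) hGW j hj
  exact (A' Z).prop_of_iso (e₂ ≪≫ (eps (SiteCmp.over_le h Z)).mapIso e₁.symm)
    (S.h4 w hw _ hGW j)

/-- sections of `R^{n+1} ε_* G` over `U` dying on `U ×_Z W` vanish -/
theorem E1 (S : Sit h P A') (n : ℕ) (hV : Vn h A' n) {W Z : C} (w : W ⟶ Z) (hw : P w)
    [HasPullbacksAlong w]
    (hcov : Sieve.ofArrows (fun _ : PUnit.{u + 1} => W) (fun _ => w) ∈ J Z)
    (G : Sheaf (J.over Z) AddCommGrpCat.{u}) (hG : A' Z ((eps (SiteCmp.over_le h Z)).obj G))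
    (U : Over Z)
    (s : (((eps (SiteCmp.over_le h Z)).rightDerived (n + 1)).obj G).obj.obj (op U))
    (hs : ((((eps (SiteCmp.over_le h Z)).rightDerived (n + 1)).obj G).obj.map
      (Groth.Agent.H67.SiteCmpA.ε w U).op).hom s = 0) : s = 0 := by
  haveI := Groth.Agent.H67.SiteCmpA.preservesFiniteLimits_push (J'.over Z) (J'.over Z)
    (Over.pullback w ⋙ Over.map w)
  haveI := Groth.Agent.H67.SiteCmpA.preservesFiniteLimits_push (J.over Z) (J.over Z)
    (Over.pullback w ⋙ Over.map w)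
  haveI := Groth.Agent.H67.SiteCmpB.preservesFiniteLimits_eps (SiteCmp.over_le h Z)
  -- `ε (T G) ∈ A'`
  have hTG : A' Z ((eps (SiteCmp.over_le h Z)).obj
      ((TT (J.over Z) (Over.pullback w ⋙ Over.map w)).obj G)) :=
    (A' Z).prop_of_iso
      (((TT (J'.over Z) (Over.pullback w ⋙ Over.map w)).rightDerivedZeroIsoSelf).app
          ((eps (SiteCmp.over_le h Z)).obj G) ≪≫
        ((epsPushIso (SiteCmp.over_le h Z) (SiteCmp.over_le h Z)
          (Over.pullback w ⋙ Over.map w)).app G).symm)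
      (mem_RT' S w hw _ hG 0)
  have hcok : A' Z (cokernel ((eps (SiteCmp.over_le h Z)).map
      ((uu (J.over Z) (Over.pullback w ⋙ Over.map w) (piW w)).app G))) :=
    (A' Z).prop_cokernel _ hG hTG
  have hQs := S.h3 Z _ hcok
  have hQmem : A' Z ((eps (SiteCmp.over_le h Z)).obj
      (cokernel ((uu (J.over Z) (Over.pullback w ⋙ Over.map w) (piW w)).app G))) := by
    obtain ⟨e⟩ := (eps_cokernel (SiteCmp.over_le h Z) _ hQs).2
    exact (A' Z).prop_of_iso e.symm hcok
  refine sections_inj (SiteCmp.over_le h Z) (Over.pullback w ⋙ Over.map w) (piW w)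
    (cov_ε w hcov) n G (hV Z G hG) ?_ ?_ ?_ hQs ?_ U s hs
  · exact S.h3 Z _ (mem_RT' S w hw _ hG (n + 1))
  · intro j k hjk hj hk
    exact hV Z _ (mem_RT S n hV w hw G hG j (by omega)) k hk (by omega)
  · intro hn
    obtain ⟨b⟩ := Groth.Agent.H67.SiteCmpB.gs (eps (SiteCmp.over_le h Z))
      (TT (J'.over Z) (Over.pullback w ⋙ Over.map w))
      (fun I hI => by
        haveI := hI
        exact Groth.Agent.H67.SiteCmpB.injective_eps (SiteCmp.over_le h Z) I)
      n G (hV Z G hG) n le_rfl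
    exact (Presheaf.isSheaf_of_iso_iff ((sheafToPresheaf _ _).mapIso
      ((rightDerivedNatIso (epsPushIso (SiteCmp.over_le h Z) (SiteCmp.over_le h Z)
        (Over.pullback w ⋙ Over.map w)) n).app G ≪≫ b))).2
      (S.h3 Z _ (mem_RT' S w hw _ hG n))
  · intro hn
    exact hV Z _ hQmem n hn le_rfl

/-- rebasing: sections over `Y → Z` dying on everything factoring through `w : W → Y` vanish -/
theorem E2 (S : Sit h P A') (n : ℕ) (hV : Vn h A' n) {Y Z : C} (g : Y ⟶ Z) {W : C}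
    (w : W ⟶ Y) (hw : P w)
    (hcov : Sieve.ofArrows (fun _ : PUnit.{u + 1} => W) (fun _ => w) ∈ J Y)
    (G : Sheaf (J.over Z) AddCommGrpCat.{u}) (hG : A' Z ((eps (SiteCmp.over_le h Z)).obj G))
    (s : (((eps (SiteCmp.over_le h Z)).rightDerived (n + 1)).obj G).obj.obj (op (Over.mk g)))
    (hs : ∀ ⦃T : Over Z⦄ (b : T ⟶ Over.mk g), (∃ c : T.left ⟶ W, b.left = c ≫ w) →
      ((((eps (SiteCmp.over_le h Z)).rightDerived (n + 1)).obj G).obj.map b.op).hom s = 0) :
    s = 0 := by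
  haveI : HasPullbacksAlong w := S.hasPB w hw
  haveI := Groth.Agent.H67.SiteCmpA.preservesFiniteLimits_push (J.over Z) (J.over Y) (Over.map g)
  haveI := Groth.Agent.H67.SiteCmpA.preservesFiniteLimits_push (J'.over Z) (J'.over Y) (Over.map g)
  haveI := pushU_colim J g
  haveI := pushU_colim J' g
  haveI := Groth.Agent.H67.SiteCmpB.preservesFiniteLimits_eps (SiteCmp.over_le h Z)
  haveI := Groth.Agent.H67.SiteCmpB.preservesFiniteLimits_eps (SiteCmp.over_le h Y)
  have hacy : ∀ I : Sheaf (J.over Z) AddCommGrpCat.{u}, Injective I → ∀ q : ℕ,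
      IsZero (((eps (SiteCmp.over_le h Y)).rightDerived (q + 1)).obj
        ((CohSite.push (J.over Z) (J.over Y) (Over.map g)).obj I)) := by
    intro I hI q
    haveI := hI
    haveI := Groth.Agent.H67.SiteCmpA.injective_pushU J g I
    exact Functor.isZero_rightDerived_obj_injective_succ (eps (SiteCmp.over_le h Y)) q _
  obtain ⟨Φ⟩ := Groth.Agent.H30.CompDer.main (eps (SiteCmp.over_le h Z))
    (eps (SiteCmp.over_le h Y)) (CohSite.push (J.over Z) (J.over Y) (Over.map g))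
    (CohSite.push (J'.over Z) (J'.over Y) (Over.map g))
    (epsPushIso (SiteCmp.over_le h Y) (SiteCmp.over_le h Z) (Over.map g)).symm hacy (n + 1) G
  have hGY : A' Y ((eps (SiteCmp.over_le h Y)).obj
      ((CohSite.push (J.over Z) (J.over Y) (Over.map g)).obj G)) :=
    (A' Y).prop_of_iso
      ((epsPushIso (SiteCmp.over_le h Y) (SiteCmp.over_le h Z) (Over.map g)).app G).symm
      (S.h2 g _ hG)
  -- the objects
  let i₀ : (Over.map g).obj (Over.mk (𝟙 Y)) ≅ Over.mk g := Over.isoMk (Iso.refl _) (by simp)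
  let aw : Over.mk w ⟶ Over.mk (𝟙 Y) := Over.homMk w (by simp)
  have hfac : Groth.Agent.H67.SiteCmpA.ε w (Over.mk (𝟙 Y)) =
      Groth.Agent.H67.SiteCmpA.σ w (Over.mk (𝟙 Y)) ≫ aw := by
    apply Over.OverMorphism.ext
    show pullback.fst (𝟙 Y) w = pullback.snd (𝟙 Y) w ≫ w
    exact (Category.comp_id _).symm.trans pullback.condition
  -- the section `s₁` over `(Over.map g).obj (Over.mk (𝟙 Y))`
  have hs₁ : ((((eps (SiteCmp.over_le h Z)).rightDerived (n + 1)).obj G).obj.map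
      ((Over.map g).map aw).op).hom
      (((((eps (SiteCmp.over_le h Z)).rightDerived (n + 1)).obj G).obj.map i₀.hom.op).hom s) =
      0 := by
    rw [res_res]
    exact hs _ ⟨𝟙 W, by simp [aw, i₀]⟩
  have h2 : (Φ.hom.hom.app (op (Over.mk (𝟙 Y)))).hom
      (((((eps (SiteCmp.over_le h Z)).rightDerived (n + 1)).obj G).obj.map i₀.hom.op).hom s) =
      0 := by
    refine E1 S n hV w hw hcov _ hGY (Over.mk (𝟙 Y)) _ ?_
    rw [hfac, ← res_res, ← nat_apply Φ.hom.hom aw]
    have h3 : (((CohSite.push (J'.over Z) (J'.over Y) (Over.map g)).obj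
        (((eps (SiteCmp.over_le h Z)).rightDerived (n + 1)).obj G)).obj.map aw.op).hom
        (((((eps (SiteCmp.over_le h Z)).rightDerived (n + 1)).obj G).obj.map i₀.hom.op).hom s) =
        0 := hs₁
    rw [h3, map_zero, map_zero]
  have h4 := iso_sec_inj Φ (op (Over.mk (𝟙 Y))) _ h2
  exact res_iso_inj _ i₀ s h4

/-- the induction step -/
theorem E3 (S : Sit h P A') (n : ℕ) (hV : Vn h A' n) (Z : C)
    (G : Sheaf (J.over Z) AddCommGrpCat.{u}) (hG : A' Z ((eps (SiteCmp.over_le h Z)).obj G)) :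
    IsZero (((eps (SiteCmp.over_le h Z)).rightDerived (n + 1)).obj G) := by
  have key : ∀ (U : Over Z)
      (s : (((eps (SiteCmp.over_le h Z)).rightDerived (n + 1)).obj G).obj.obj (op U)),
      s = 0 := by
    intro U s
    have hS₀ := zeroSieve_mem (SiteCmp.over_le h Z) G n U s
    have hS₀' := (J.mem_over_iff _).1 hS₀
    obtain ⟨ι, V, v, hVcov, hdata⟩ := S.h5 U.left _ hS₀'
    refine Groth.Agent.H67.SiteCmpA.eq_zero_of_locally (J'.over Z) _
      (((eps (SiteCmp.over_le h Z)).rightDerived (n + 1)).obj G).property _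
      (J'.overEquiv_symm_mem_over U _ hVcov) s (fun T b hb => ?_)
    have hb' : (Sieve.ofArrows V v).arrows b.left := hb
    obtain ⟨j, c, hfac⟩ := (Sieve.mem_ofArrows_iff _ _ _).1 hb'
    obtain ⟨W, w, hw, hwcov, κ, Wk, wk, hWk, hkill⟩ := hdata j
    let bj : Over.mk (v j ≫ U.hom) ⟶ U := Over.homMk (v j) rfl
    let b' : T ⟶ Over.mk (v j ≫ U.hom) := Over.homMk c (by
      show c ≫ v j ≫ U.hom = T.hom
      rw [← Category.assoc, ← hfac]
      exact Over.w b)
    have hbb : b = b' ≫ bj := by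
      apply Over.OverMorphism.ext
      exact hfac
    show ((((eps (SiteCmp.over_le h Z)).rightDerived (n + 1)).obj G).obj.map b.op).hom s = 0
    rw [hbb, ← res_res]
    have hsj : ((((eps (SiteCmp.over_le h Z)).rightDerived (n + 1)).obj G).obj.map bj.op).hom s =
        0 := by
      refine E2 S n hV (v j ≫ U.hom) w hw hwcov G hG _ (fun T₂ b₂ hb₂ => ?_)
      obtain ⟨c₂, hc₂⟩ := hb₂
      rw [res_res]
      refine Groth.Agent.H67.SiteCmpA.eq_zero_of_locally (J'.over Z) _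
        (((eps (SiteCmp.over_le h Z)).rightDerived (n + 1)).obj G).property _
        (J'.overEquiv_symm_mem_over T₂ _ (J'.pullback_stable c₂ hWk)) _ (fun T₃ b₃ hb₃ => ?_)
      have hb₃' : (Sieve.ofArrows Wk wk).arrows (b₃.left ≫ c₂) := hb₃
      obtain ⟨k, d, hd⟩ := (Sieve.mem_ofArrows_iff _ _ _).1 hb₃'
      show ((((eps (SiteCmp.over_le h Z)).rightDerived (n + 1)).obj G).obj.map b₃.op).hom
        (((((eps (SiteCmp.over_le h Z)).rightDerived (n + 1)).obj G).obj.map (b₂ ≫ bj).op).hom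
          s) = 0
      rw [res_res]
      have h1 : (Sieve.overEquiv U (zeroSieve
          (((eps (SiteCmp.over_le h Z)).rightDerived (n + 1)).obj G).obj s)).arrows
          ((b₃ ≫ b₂ ≫ bj).left) := by
        have h0 : (b₃ ≫ b₂ ≫ bj).left = d ≫ (wk k ≫ w ≫ v j) := by
          show b₃.left ≫ b₂.left ≫ v j = d ≫ (wk k ≫ w ≫ v j)
          rw [hc₂, ← Category.assoc b₃.left, ← Category.assoc b₃.left, hd]
          simp only [Category.assoc]
        rw [h0]
        exact Sieve.downward_closed _ (hkill k) d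
      have h2 := (Sieve.overEquiv_symm_iff (Sieve.overEquiv U (zeroSieve
        (((eps (SiteCmp.over_le h Z)).rightDerived (n + 1)).obj G).obj s)) (b₃ ≫ b₂ ≫ bj)).2 h1
      have h3 : (Sieve.overEquiv U).symm (Sieve.overEquiv U (zeroSieve
          (((eps (SiteCmp.over_le h Z)).rightDerived (n + 1)).obj G).obj s)) =
          zeroSieve (((eps (SiteCmp.over_le h Z)).rightDerived (n + 1)).obj G).obj s :=
        (Sieve.overEquiv U).symm_apply_apply _
      have h4 : (zeroSieve (((eps (SiteCmp.over_le h Z)).rightDerived (n + 1)).obj G).obj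
          s).arrows (b₃ ≫ b₂ ≫ bj) := by
        rw [← h3]
        exact h2
      exact h4
    rw [hsj, map_zero]
  rw [IsZero.iff_id_eq_zero]
  apply Sheaf.hom_ext
  apply NatTrans.ext
  funext X
  apply AddCommGrpCat.hom_ext
  apply AddMonoidHom.ext
  intro y
  exact key X.unop y

theorem Vn_all (S : Sit h P A') : ∀ n : ℕ, Vn h A' n
  | 0 => fun _ _ _ i h1 h0 => by omega
  | n + 1 => fun Z G hG i h1 h2 => by
    rcases Nat.lt_or_eq_of_le h2 with h3 | h3
    · exact Vn_all S n Z G hG i h1 (by omega)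
    · subst h3
      exact E3 S n (Vn_all S n) Z G hG

end Geom

end Groth.Agent.H67.SiteCmpE
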