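import Mathlib

/-!
# Helper library (helper67): topology of spectral spaces for Scheiderer's vanishing theorem

* `Fam 𝒱`: a nonempty family of compact opens closed under finite intersections; `core 𝒱` its
  intersection.
* `exists_mem_le`: in a quasi-sober space, if `core 𝒱 ⊆ O` (`O` open) then some member of `𝒱` lies
  in `O` (compactness of the constructible topology, proved via Zorn and generic points).
* `Dn n S`: every chain of strict specialisations inside `S` has fewer than `n` terms; it follows from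
  `topologicalKrullDim X < n` for `S = univ`.
* `fam2 𝒱 U`: neighbourhood family of the points of `core 𝒱 ∩ U` specialising into `core 𝒱 ∖ U`.
-/

set_option autoImplicit false
universe u
open TopologicalSpace

namespace Groth.Agent.H67.SpecA

variable {X : Type u} [TopologicalSpace X]

theorem exists_compact_open [PrespectralSpace X] (W : Opens X) (x : X) (hx : x ∈ W) :
    ∃ U : Opens X, IsCompact (U : Set X) ∧ x ∈ U ∧ U ≤ W := by
  obtain ⟨U, ⟨hU1, hU2⟩, hxU, hUW⟩ :=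
    (PrespectralSpace.isTopologicalBasis (X := X)).exists_subset_of_mem_open hx W.isOpen
  exact ⟨⟨U, hU1⟩, hU2, hxU, hUW⟩

theorem exists_compact_open_nhds [PrespectralSpace X] (K : Set X) (hK : IsCompact K) (O : Opens X)
    (hKO : K ⊆ (O : Set X)) :
    ∃ G : Opens X, IsCompact (G : Set X) ∧ K ⊆ (G : Set X) ∧ G ≤ O := by
  choose G hGc hxG hGO using fun z : K => exists_compact_open O z.1 (hKO z.2)
  obtain ⟨t, ht⟩ := hK.elim_finite_subcover (fun z : K => (G z : Set X)) (fun z => (G z).isOpen)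
    (fun z hz => Set.mem_iUnion.2 ⟨⟨z, hz⟩, hxG ⟨z, hz⟩⟩)
  refine ⟨⟨⋃ z ∈ t, (G z : Set X), isOpen_biUnion (fun z _ => (G z).isOpen)⟩, ?_, ht, ?_⟩
  · exact t.isCompact_biUnion (fun z _ => hGc z)
  · intro y hy
    obtain ⟨z, hz, hyz⟩ := Set.mem_iUnion₂.1 (hy : y ∈ ⋃ z ∈ t, (G z : Set X))
    exact hGO z hyz

theorem isCompact_finset_sup (t : Finset (Opens X)) (h : ∀ K ∈ t, IsCompact (K : Set X)) :
    IsCompact ((t.sup id : Opens X) : Set X) := by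
  refine Finset.sup_induction (p := fun O : Opens X => IsCompact (O : Set X)) ?_ ?_ h
  · rw [Opens.coe_bot]
    exact isCompact_empty
  · intro a ha b hb
    rw [Opens.coe_sup]
    exact ha.union hb

/-- a nonempty family of compact opens closed under binary intersections -/
structure Fam (𝒱 : Set (Opens X)) : Prop where
  ne : 𝒱.Nonempty
  cpt : ∀ V ∈ 𝒱, IsCompact (V : Set X)
  inf : ∀ V ∈ 𝒱, ∀ V' ∈ 𝒱, V ⊓ V' ∈ 𝒱

/-- the intersection of the family -/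
def core (𝒱 : Set (Opens X)) : Set X := {x | ∀ V ∈ 𝒱, x ∈ V}

theorem exists_mem_le [QuasiSober X] {𝒱 : Set (Opens X)} (h𝒱 : Fam 𝒱) (O : Opens X)
    (h : ∀ x, (∀ V ∈ 𝒱, x ∈ V) → x ∈ O) : ∃ V ∈ 𝒱, V ≤ O := by
  by_contra hcon
  push_neg at hcon
  have hne : ∀ V ∈ 𝒱, (((O : Set X)ᶜ) ∩ (V : Set X)).Nonempty := by
    intro V hV
    by_contra hemp
    apply hcon V hV
    intro x hxV
    by_contra hxO
    exact hemp ⟨x, hxO, hxV⟩
  let S : Set (Set X) :=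
    {T | IsClosed T ∧ T ⊆ (O : Set X)ᶜ ∧ ∀ V ∈ 𝒱, (T ∩ (V : Set X)).Nonempty}
  have hC : (O : Set X)ᶜ ∈ S := ⟨O.isOpen.isClosed_compl, subset_rfl, hne⟩
  have hzorn : ∀ c ⊆ S, IsChain (· ⊆ ·) c → c.Nonempty → ∃ lb ∈ S, ∀ s ∈ c, lb ⊆ s := by
    intro c hcS hchain hcne
    refine ⟨⋂₀ c, ⟨isClosed_sInter (fun a ha => (hcS ha).1), ?_, ?_⟩,
      fun s hs => Set.sInter_subset_of_mem hs⟩
    · obtain ⟨a, ha⟩ := hcne
      exact (Set.sInter_subset_of_mem ha).trans (hcS ha).2.1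
    · intro V hV
      rw [Set.inter_comm]
      refine (h𝒱.cpt V hV).nonempty_inter_sInter (fun a ha => (hcS ha).1)
        (fun a hac hafin => ?_)
      have hex : ∃ T₀ ∈ c, T₀ ⊆ ⋂₀ a := by
        refine Set.Finite.induction_on_subset (motive := fun t _ => ∃ T₀ ∈ c, T₀ ⊆ ⋂₀ t)
          a hafin ?_ ?_
        · obtain ⟨a₀, ha₀⟩ := hcne
          exact ⟨a₀, ha₀, by simp⟩
        · intro s t hs hts hst ih
          obtain ⟨T₀, hT₀, hsub⟩ := ih
          rcases hchain.total hT₀ (hac hs) with h1 | h1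
          · exact ⟨T₀, hT₀, by
              rw [Set.sInter_insert]
              exact Set.subset_inter h1 hsub⟩
          · exact ⟨s, hac hs, by
              rw [Set.sInter_insert]
              exact Set.subset_inter subset_rfl (h1.trans hsub)⟩
      obtain ⟨T₀, hT₀, hsub⟩ := hex
      obtain ⟨x, hxT, hxV⟩ := (hcS hT₀).2.2 V hV
      exact ⟨x, hxV, hsub hxT⟩
  obtain ⟨T, -, hTmin⟩ := zorn_superset_nonempty S hzorn _ hC
  obtain ⟨hTcl, hTO, hTV⟩ := hTmin.prop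
  have hirr : IsIrreducible T := by
    obtain ⟨V₀, hV₀⟩ := h𝒱.ne
    refine ⟨(hTV V₀ hV₀).mono Set.inter_subset_left, ?_⟩
    rw [isPreirreducible_iff_isClosed_union_isClosed]
    intro z₁ z₂ hz₁ hz₂ hcov
    by_contra hnot
    rw [not_or] at hnot
    obtain ⟨hn1, hn2⟩ := hnot
    have key : ∀ z : Set X, IsClosed z → ¬ T ⊆ z →
        ∃ V ∈ 𝒱, ∀ x, x ∈ T → x ∈ z → x ∉ (V : Set X) := by
      intro z hz hnz
      by_contra hall
      push_neg at hall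
      have hmem : T ∩ z ∈ S := ⟨hTcl.inter hz, Set.inter_subset_left.trans hTO, fun V hV => by
        obtain ⟨x, hxT, hxz, hxV⟩ := hall V hV
        exact ⟨x, ⟨hxT, hxz⟩, hxV⟩⟩
      exact hnz ((hTmin.2 hmem Set.inter_subset_left).trans Set.inter_subset_right)
    obtain ⟨V₁, hV₁, he1⟩ := key z₁ hz₁ hn1
    obtain ⟨V₂, hV₂, he2⟩ := key z₂ hz₂ hn2
    obtain ⟨t, htT, htV⟩ := hTV (V₁ ⊓ V₂) (h𝒱.inf V₁ hV₁ V₂ hV₂)
    rcases hcov htT with ht1 | ht2
    · exact he1 t htT ht1 htV.1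
    · exact he2 t htT ht2 htV.2
  have hgen := hirr.isGenericPoint_genericPoint hTcl
  have hx : ∀ V ∈ 𝒱, hirr.genericPoint ∈ V := by
    intro V hV
    exact (hgen.mem_open_set_iff V.isOpen).2 (hTV V hV)
  exact hTO hgen.mem (h _ hx)

/-! ### chains of specialisations -/

/-- every chain of strict specialisations in `S` has fewer than `n` terms -/
def Dn : ℕ → Set X → Prop
  | 0, S => ∀ x, x ∉ S
  | (n + 1), S => Dn n {x | x ∈ S ∧ ∃ y ∈ S, x ⤳ y ∧ ¬ y ⤳ x}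

theorem Dn_mono (n : ℕ) : ∀ {S S' : Set X}, S ⊆ S' → Dn n S' → Dn n S := by
  induction n with
  | zero =>
    intro S S' h h' x hx
    exact h' x (h hx)
  | succ n ih =>
    intro S S' h h'
    refine ih ?_ h'
    rintro x ⟨hx, y, hy, hxy⟩
    exact ⟨h hx, y, h hy, hxy⟩

/-- a chain of `k` strict specialisations in `S` ending at `x` -/
def HasCh (S : Set X) : ℕ → X → Prop
  | 0, x => x ∈ S
  | (k + 1), y => y ∈ S ∧ ∃ x, HasCh S k x ∧ x ⤳ y ∧ ¬ y ⤳ x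

theorem HasCh.mem {S : Set X} : ∀ {k : ℕ} {x : X}, HasCh S k x → x ∈ S
  | 0, _, h => h
  | (_ + 1), _, h => h.1

theorem HasCh.mono {S S' : Set X} (hS : S ⊆ S') :
    ∀ {k : ℕ} {x : X}, HasCh S k x → HasCh S' k x
  | 0, _, h => hS h
  | (_ + 1), _, ⟨h1, x, hx, h2⟩ => ⟨hS h1, x, HasCh.mono hS hx, h2⟩

theorem exists_hasCh_of_not_Dn : ∀ (n : ℕ) (S : Set X), ¬ Dn n S → ∃ x, HasCh S n x := by
  intro n
  induction n with
  | zero =>
    intro S h
    by_contra h'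
    exact h (fun x hx => h' ⟨x, hx⟩)
  | succ n ih =>
    intro S h
    obtain ⟨x, hx⟩ := ih _ h
    obtain ⟨_, y, hyS, hxy⟩ := hx.mem
    exact ⟨y, hyS, x, hx.mono (fun z hz => hz.1), hxy⟩

/-- the closure of a point as an irreducible closed set -/
def clPt (x : X) : IrreducibleCloseds X :=
  ⟨closure {x}, isIrreducible_singleton.closure, isClosed_closure⟩

theorem clPt_lt {x y : X} (h : x ⤳ y) (h' : ¬ y ⤳ x) : clPt y < clPt x := by
  refine lt_of_le_of_ne ?_ ?_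
  · show closure {y} ⊆ closure {x}
    exact closure_minimal (Set.singleton_subset_iff.2 h.mem_closure) isClosed_closure
  · intro heq
    apply h'
    rw [specializes_iff_mem_closure]
    have h1 : (clPt y : Set X) = (clPt x : Set X) := congrArg _ heq
    have h2 : x ∈ (clPt x : Set X) := subset_closure rfl
    rw [← h1] at h2
    exact h2

theorem exists_ltSeries_of_hasCh : ∀ (k : ℕ) (x : X), HasCh (Set.univ : Set X) k x →
    ∃ l : LTSeries (IrreducibleCloseds X), l.length = k ∧ l.head = clPt x := by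
  intro k
  induction k with
  | zero =>
    intro x _
    exact ⟨RelSeries.singleton _ (clPt x), rfl, rfl⟩
  | succ k ih =>
    rintro y ⟨_, x, hx, hxy, hyx⟩
    obtain ⟨l, hl, hhead⟩ := ih x hx
    have hrel : clPt y < l.head := by
      rw [hhead]
      exact clPt_lt hxy hyx
    refine ⟨l.cons (clPt y) hrel, ?_, RelSeries.head_cons _ _ _⟩
    simp [hl]

theorem Dn_univ_of_dim (n : ℕ) (h : topologicalKrullDim X < (n : WithBot ℕ∞)) :
    Dn n (Set.univ : Set X) := by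
  by_contra hD
  obtain ⟨x, hx⟩ := exists_hasCh_of_not_Dn n _ hD
  obtain ⟨l, hl, -⟩ := exists_ltSeries_of_hasCh n x hx
  unfold topologicalKrullDim at h
  rw [Order.krullDim_lt_coe_iff] at h
  have := h l
  omega

/-! ### auxiliary families -/

/-- the family cut down by a compact open -/
def famC (𝒱 : Set (Opens X)) (C : Opens X) : Set (Opens X) := {W | ∃ V' ∈ 𝒱, W = V' ⊓ C}

theorem famC_fam [QuasiSeparatedSpace X] {𝒱 : Set (Opens X)} (h𝒱 : Fam 𝒱) (C : Opens X)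
    (hC : IsCompact (C : Set X)) : Fam (famC 𝒱 C) where
  ne := by
    obtain ⟨V₀, hV₀⟩ := h𝒱.ne
    exact ⟨V₀ ⊓ C, V₀, hV₀, rfl⟩
  cpt := by
    rintro W ⟨V', hV', rfl⟩
    rw [Opens.coe_inf]
    exact (h𝒱.cpt V' hV').inter_of_isOpen hC V'.isOpen C.isOpen
  inf := by
    rintro W ⟨V₁, hV₁, rfl⟩ W' ⟨V₂, hV₂, rfl⟩
    refine ⟨V₁ ⊓ V₂, h𝒱.inf V₁ hV₁ V₂ hV₂, ?_⟩
    exact le_antisymm (fun x hx => ⟨⟨hx.1.1, hx.2.1⟩, hx.1.2⟩)
      (fun x hx => ⟨⟨hx.1.1, hx.2⟩, ⟨hx.1.2, hx.2⟩⟩)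

theorem core_famC_subset (𝒱 : Set (Opens X)) (C : Opens X) : core (famC 𝒱 C) ⊆ core 𝒱 :=
  fun x hx V hV => (hx (V ⊓ C) ⟨V, hV, rfl⟩).1

/-- neighbourhoods of the points of `core 𝒱 ∩ U` that specialise into `core 𝒱 ∖ U` -/
def fam2 (𝒱 : Set (Opens X)) (U : Opens X) : Set (Opens X) :=
  {W | ∃ V' ∈ 𝒱, ∃ G : Opens X, IsCompact (G : Set X) ∧
    (∀ x, (∀ V ∈ 𝒱, x ∈ V) → x ∉ U → x ∈ G) ∧ W = V' ⊓ G ⊓ U}

theorem isCompact_top [CompactSpace X] : IsCompact ((⊤ : Opens X) : Set X) := by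
  rw [Opens.coe_top]
  exact isCompact_univ

theorem fam2_fam [CompactSpace X] [QuasiSeparatedSpace X] {𝒱 : Set (Opens X)} (h𝒱 : Fam 𝒱)
    (U : Opens X) (hU : IsCompact (U : Set X)) : Fam (fam2 𝒱 U) where
  ne := by
    obtain ⟨V₀, hV₀⟩ := h𝒱.ne
    exact ⟨V₀ ⊓ ⊤ ⊓ U, V₀, hV₀, ⊤, isCompact_top, fun _ _ _ => trivial, rfl⟩
  cpt := by
    rintro W ⟨V', hV', G, hG, -, rfl⟩
    rw [Opens.coe_inf, Opens.coe_inf]
    exact ((h𝒱.cpt V' hV').inter_of_isOpen hG V'.isOpen G.isOpen).inter_of_isOpen hU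
      (V'.isOpen.inter G.isOpen) U.isOpen
  inf := by
    rintro W ⟨V₁, hV₁, G₁, hG₁, hZ₁, rfl⟩ W' ⟨V₂, hV₂, G₂, hG₂, hZ₂, rfl⟩
    refine ⟨V₁ ⊓ V₂, h𝒱.inf V₁ hV₁ V₂ hV₂, G₁ ⊓ G₂, ?_, fun x hx hxU => ⟨hZ₁ x hx hxU, hZ₂ x hx hxU⟩,
      ?_⟩
    · rw [Opens.coe_inf]
      exact hG₁.inter_of_isOpen hG₂ G₁.isOpen G₂.isOpen
    · exact le_antisymm
        (fun x hx => ⟨⟨⟨hx.1.1.1, hx.2.1.1⟩, ⟨hx.1.1.2, hx.2.1.2⟩⟩, hx.1.2⟩)
        (fun x hx => ⟨⟨⟨hx.1.1.1, hx.1.2.1⟩, hx.2⟩, ⟨⟨hx.1.1.2, hx.1.2.2⟩, hx.2⟩⟩)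

theorem core_fam2_subset [CompactSpace X] [QuasiSober X] [PrespectralSpace X]
    {𝒱 : Set (Opens X)} (h𝒱 : Fam 𝒱) (U : Opens X) (x : X) (hx : x ∈ core (fam2 𝒱 U)) :
    x ∈ core 𝒱 ∧ ∃ y ∈ core 𝒱, x ⤳ y ∧ ¬ y ⤳ x := by
  have hxV : ∀ V ∈ 𝒱, x ∈ V := fun V hV =>
    (hx _ ⟨V, hV, ⊤, isCompact_top, fun _ _ _ => trivial, rfl⟩).1.1
  obtain ⟨V₀, hV₀⟩ := h𝒱.ne
  have hxU : x ∈ U := (hx _ ⟨V₀, hV₀, ⊤, isCompact_top, fun _ _ _ => trivial, rfl⟩).2
  refine ⟨hxV, ?_⟩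
  by_contra hno
  push_neg at hno
  have hop : IsOpen ((closure ({x} : Set X))ᶜ) := isClosed_closure.isOpen_compl
  have hcore : ∀ y, (∀ V ∈ 𝒱, y ∈ V) → y ∈ U ⊔ (⟨(closure ({x} : Set X))ᶜ, hop⟩ : Opens X) := by
    intro y hy
    by_cases hyx : y ∈ closure ({x} : Set X)
    · have h1 : x ⤳ y := specializes_iff_mem_closure.2 hyx
      exact Or.inl ((hno y hy h1).mem_open U.isOpen hxU)
    · exact Or.inr hyx
  obtain ⟨V', hV', hV'O⟩ := exists_mem_le h𝒱 _ hcore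
  have hKc : IsCompact ((V' : Set X) \ (U : Set X)) := (h𝒱.cpt V' hV').diff U.isOpen
  obtain ⟨G, hGc, hKG, hGO⟩ := exists_compact_open_nhds _ hKc
    (⟨(closure ({x} : Set X))ᶜ, hop⟩ : Opens X) (by
      rintro z ⟨hzV, hzU⟩
      rcases hV'O hzV with h1 | h1
      · exact absurd h1 hzU
      · exact h1)
  have hxG : x ∈ G :=
    (hx _ ⟨V', hV', G, hGc, fun z hz hzU => hKG ⟨hz V' hV', hzU⟩, rfl⟩).1.2
  exact hGO hxG (subset_closure rfl)

/-- the one-member family `{⊤}` -/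
theorem fam_top [CompactSpace X] : Fam ({⊤} : Set (Opens X)) where
  ne := ⟨⊤, rfl⟩
  cpt := by
    rintro V hV
    rw [Set.mem_singleton_iff.1 hV]
    exact isCompact_top
  inf := by
    rintro V hV V' hV'
    rw [Set.mem_singleton_iff.1 hV, Set.mem_singleton_iff.1 hV', inf_idem]
    rfl

end Groth.Agent.H67.SpecA
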