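import Mathlib
import Groth.Prelude.Def_CohTop

/-!
# Helper library (helper67): concrete abelian sheaves of locally constant functions with pointwise
conditions, and exactness criteria for abelian sheaves on a space in terms of sections
-/

set_option autoImplicit false
universe u

open CategoryTheory CategoryTheory.Limits TopologicalSpace Opposite

namespace Groth.Agent.H67.VanB

variable {X : TopCat.{u}}

/-! ### general sheaves -/

theorem map_id_eq (P : (Opens X)ᵒᵖ ⥤ AddCommGrpCat.{u}) {A : (Opens X)ᵒᵖ} (h : A ⟶ A)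
    (x : P.obj A) : P.map h x = x := by
  rw [Subsingleton.elim h (𝟙 A), P.map_id]
  rfl

theorem map_map_eq (P : (Opens X)ᵒᵖ ⥤ AddCommGrpCat.{u}) {A B C : (Opens X)ᵒᵖ}
    (g : C ⟶ B) (f : B ⟶ A) (h : C ⟶ A) (x : P.obj C) :
    P.map f (P.map g x) = P.map h x := by
  rw [← ConcreteCategory.comp_apply, ← P.map_comp, Subsingleton.elim (g ≫ f) h]

theorem mono_of_sections_injective {F G : CohTop.Ab X} (φ : F ⟶ G)
    (h : ∀ W : Opens X, Function.Injective (φ.hom.app (op W))) : Mono φ := by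
  haveI : ∀ W : (Opens X)ᵒᵖ, Mono (φ.hom.app W) := fun W =>
    (AddCommGrpCat.mono_iff_injective _).2 (h W.unop)
  haveI : Mono φ.hom := NatTrans.mono_of_mono_app φ.hom
  exact Sheaf.Hom.mono_of_presheaf_mono _ _ φ

theorem sections_injective_of_mono {F G : CohTop.Ab X} (φ : F ⟶ G) [Mono φ] (W : Opens X) :
    Function.Injective (φ.hom.app (op W)) := by
  have : Mono ((sheafToPresheaf (Opens.grothendieckTopology X) AddCommGrpCat.{u} ⋙
      (evaluation (Opens X)ᵒᵖ AddCommGrpCat.{u}).obj (op W)).map φ) :=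
    Functor.map_mono _ φ
  exact (AddCommGrpCat.mono_iff_injective _).1 this

theorem epi_of_locally_surjective {F G : CohTop.Ab X} (φ : F ⟶ G)
    (h : ∀ (W : Opens X) (c : G.obj.obj (op W)) (x : X), x ∈ W →
      ∃ (W' : Opens X) (hW' : W' ≤ W), x ∈ W' ∧
        ∃ b : F.obj.obj (op W'), φ.hom.app (op W') b = G.obj.map (homOfLE hW').op c) : Epi φ :=
  (TopCat.Sheaf.isLocallySurjective_iff_epi φ).mp
    ((TopCat.Presheaf.isLocallySurjective_iff φ.hom).2 (fun W c x hx => by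
      obtain ⟨W', hW', hx', b, hb⟩ := h W c x hx
      exact ⟨W', hW', ⟨b, hb⟩, hx'⟩))

theorem eq_zero_of_locally (G : CohTop.Ab X) {W : Opens X} (t : G.obj.obj (op W))
    (h : ∀ x ∈ W, ∃ (W' : Opens X) (hW' : W' ≤ W), x ∈ W' ∧
      G.obj.map (homOfLE hW').op t = 0) : t = 0 := by
  choose W' hW' hxW' h0 using h
  refine TopCat.Sheaf.eq_of_locally_eq' G (fun x : W => W' x.1 x.2) W
    (fun x => homOfLE (hW' x.1 x.2)) ?_ t 0 ?_
  · intro y hy
    exact Opens.mem_iSup.2 ⟨⟨y, hy⟩, hxW' y hy⟩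
  · intro x
    exact (h0 x.1 x.2).trans ((G.obj.map (homOfLE (hW' x.1 x.2)).op).hom.map_zero).symm

theorem comp_app_zero {F G H : CohTop.Ab X} (a : F ⟶ G) (b : G ⟶ H) (w : a ≫ b = 0)
    (W : Opens X) (s : F.obj.obj (op W)) : b.hom.app (op W) (a.hom.app (op W) s) = 0 := by
  have h : a.hom.app (op W) ≫ b.hom.app (op W) = 0 := by
    have h0 := congrArg (fun ψ => ψ.hom.app (op W)) w
    exact h0
  exact congrArg (fun ψ => ψ.hom s) h

theorem shortExact_of_sections (S : ShortComplex (CohTop.Ab X))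
    (hinj : ∀ W : Opens X, Function.Injective (S.f.hom.app (op W)))
    (hex : ∀ (W : Opens X) (b : S.X₂.obj.obj (op W)), S.g.hom.app (op W) b = 0 →
      ∃ a, S.f.hom.app (op W) a = b)
    (hsurj : ∀ (W : Opens X) (c : S.X₃.obj.obj (op W)) (x : X), x ∈ W →
      ∃ (W' : Opens X) (hW' : W' ≤ W), x ∈ W' ∧
        ∃ b : S.X₂.obj.obj (op W'), S.g.hom.app (op W') b = S.X₃.obj.map (homOfLE hW').op c) :
    S.ShortExact := by
  haveI : Mono S.f := mono_of_sections_injective S.f hinj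
  haveI : Epi S.g := epi_of_locally_surjective S.g hsurj
  refine ShortComplex.ShortExact.mk' ?_ inferInstance inferInstance
  rw [S.exact_iff_epi_kernel_lift]
  apply epi_of_locally_surjective
  intro W y x hx
  refine ⟨W, le_rfl, hx, ?_⟩
  have hb : S.g.hom.app (op W) ((kernel.ι S.g).hom.app (op W) y) = 0 :=
    comp_app_zero _ _ (kernel.condition S.g) W y
  obtain ⟨a, ha⟩ := hex W _ hb
  refine ⟨a, ?_⟩
  rw [map_id_eq]
  apply sections_injective_of_mono (kernel.ι S.g) W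
  have h1 := congrArg (fun m => m.hom.app (op W) a) (kernel.lift_ι S.g S.f S.zero)
  exact h1.trans ha

theorem exists_factor {K Z S : CohTop.Ab X} (ι : K ⟶ Z) [Mono ι] (j : S ⟶ Z)
    (h : ∀ (W : Opens X) (s : S.obj.obj (op W)) (x : X), x ∈ W →
      ∃ (W' : Opens X) (hW' : W' ≤ W), x ∈ W' ∧ ∃ k : K.obj.obj (op W'),
        ι.hom.app (op W') k = Z.obj.map (homOfLE hW').op (j.hom.app (op W) s)) :
    ∃ j' : S ⟶ K, j' ≫ ι = j := by
  have key : ∀ (W : Opens X) (s : S.obj.obj (op W)),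
      (cokernel.π ι).hom.app (op W) (j.hom.app (op W) s) = 0 := by
    intro W s
    apply eq_zero_of_locally
    intro x hx
    obtain ⟨W', hW', hxW', k, hk⟩ := h W s x hx
    refine ⟨W', hW', hxW', ?_⟩
    have e1 := NatTrans.naturality_apply (cokernel.π ι).hom (homOfLE hW').op (j.hom.app (op W) s)
    rw [← e1, ← hk]
    exact comp_app_zero _ _ (cokernel.condition ι) W' k
  have hz : j ≫ cokernel.π ι = 0 := by
    apply CategoryTheory.Sheaf.hom_ext
    apply NatTrans.ext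
    funext W
    refine ConcreteCategory.hom_ext _ _ (fun s => ?_)
    exact key W.unop s
  exact ⟨Abelian.monoLift ι j hz, Abelian.monoLift_comp ι j hz⟩

/-! ### concrete sheaves -/

section SG

variable {T : Type} [AddCommGroup T] [TopologicalSpace T] [DiscreteTopology T]
  [IsTopologicalAddGroup T]

/-- continuous (= locally constant) functions with value in `A x` at `x` -/
def secGrp (A : X → AddSubgroup T) (W : Opens X) : AddSubgroup (W → T) where
  carrier := {f | Continuous f ∧ ∀ x : W, f x ∈ A x.1}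
  zero_mem' := ⟨continuous_const, fun x => (A x.1).zero_mem⟩
  add_mem' := fun {_ _} ha hb => ⟨ha.1.add hb.1, fun x => (A x.1).add_mem (ha.2 x) (hb.2 x)⟩
  neg_mem' := fun {_} ha => ⟨ha.1.neg, fun x => (A x.1).neg_mem (ha.2 x)⟩

/-- the presheaf -/
def SGp (A : X → AddSubgroup T) : TopCat.Presheaf AddCommGrpCat.{u} X where
  obj W := AddCommGrpCat.of (secGrp A W.unop)
  map {W W'} i := AddCommGrpCat.ofHom
    { toFun := fun f => ⟨fun x => f.1 (i.unop x),
        f.2.1.comp (Opens.isOpenEmbedding_of_le i.unop.le).continuous, fun x => f.2.2 (i.unop x)⟩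
      map_zero' := rfl
      map_add' := fun _ _ => rfl }
  map_id _ := rfl
  map_comp _ _ := rfl

/-- the local predicate -/
def lp (A : X → AddSubgroup T) : TopCat.LocalPredicate (fun _ : X => T) where
  pred {U} f := Continuous f ∧ ∀ x : U, f x ∈ A x.1
  res {U V} i f h := ⟨h.1.comp (Opens.isOpenEmbedding_of_le i.le).continuous, fun x => h.2 (i x)⟩
  locality {U} f h := ⟨(TopCat.continuousLocal X T).locality f (fun x => by
      obtain ⟨V, hV, i, hp⟩ := h x
      exact ⟨V, hV, i, hp.1⟩), fun x => by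
      obtain ⟨V, hV, i, hp⟩ := h x
      exact hp.2 ⟨x.1, hV⟩⟩

theorem SGp_isSheaf (A : X → AddSubgroup T) : (SGp A).IsSheaf := by
  rw [TopCat.Presheaf.isSheaf_iff_isSheaf_comp (forget AddCommGrpCat.{u})]
  refine TopCat.Presheaf.isSheaf_of_iso
    (F := TopCat.subpresheafToTypes (lp A).toPrelocalPredicate) ?_
    (TopCat.subpresheafToTypes.isSheaf (lp A))
  exact NatIso.ofComponents (fun V => Iso.refl _) (by intro V V' f; rfl)

/-- the sheaf -/
def SG (A : X → AddSubgroup T) : CohTop.Ab X := ⟨SGp A, SGp_isSheaf A⟩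

theorem SG_res_val (A : X → AddSubgroup T) {W W' : (Opens X)ᵒᵖ} (i : W ⟶ W')
    (f : (SG A).obj.obj W) (y : W'.unop) : ((SG A).obj.map i f).1 y = f.1 (i.unop y) := rfl

/-- evaluation at a point -/
def evHom (A : X → AddSubgroup T) (W : Opens X) (y : W) : (SG A).obj.obj (op W) →+ T where
  toFun f := f.1 y
  map_zero' := rfl
  map_add' _ _ := rfl

theorem exists_nhd_const (A : X → AddSubgroup T) {W : Opens X} (f : (SG A).obj.obj (op W))
    (x : X) (hx : x ∈ W) :
    ∃ W' : Opens X, x ∈ W' ∧ ∃ hle : W' ≤ W,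
      ∀ (y : X) (hy : y ∈ W'), f.1 ⟨y, hle hy⟩ = f.1 ⟨x, hx⟩ := by
  have hopen : IsOpen (f.1 ⁻¹' {f.1 ⟨x, hx⟩}) := (isOpen_discrete _).preimage f.2.1
  refine ⟨⟨Subtype.val '' (f.1 ⁻¹' {f.1 ⟨x, hx⟩}), W.2.isOpenMap_subtype_val _ hopen⟩,
    ⟨⟨x, hx⟩, rfl, rfl⟩, ?_, ?_⟩
  · rintro y ⟨z, _, rfl⟩
    exact z.2
  · rintro y ⟨z, hz, rfl⟩
    exact hz

variable {T' : Type} [AddCommGroup T'] [TopologicalSpace T'] [DiscreteTopology T']
  [IsTopologicalAddGroup T']

/-- the morphism induced by an additive map respecting the pointwise conditions -/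
def SGmap (A : X → AddSubgroup T) (A' : X → AddSubgroup T') (φ : T →+ T')
    (h : ∀ x a, a ∈ A x → φ a ∈ A' x) : SG A ⟶ SG A' :=
  ObjectProperty.homMk
    { app := fun W => AddCommGrpCat.ofHom
        { toFun := fun f => ⟨fun x => φ (f.1 x),
            (continuous_of_discreteTopology (f := ⇑φ)).comp f.2.1, fun x => h x.1 _ (f.2.2 x)⟩
          map_zero' := Subtype.ext (funext fun x => φ.map_zero)
          map_add' := fun a b => Subtype.ext (funext fun x => φ.map_add _ _) }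
      naturality := fun W W' i => rfl }

theorem SGmap_val (A : X → AddSubgroup T) (A' : X → AddSubgroup T') (φ : T →+ T')
    (h : ∀ x a, a ∈ A x → φ a ∈ A' x) (W : Opens X) (f : (SG A).obj.obj (op W)) (y : W) :
    ((SGmap A A' φ h).hom.app (op W) f).1 y = φ (f.1 y) := rfl

variable {T'' : Type} [AddCommGroup T''] [TopologicalSpace T''] [DiscreteTopology T'']
  [IsTopologicalAddGroup T'']

theorem SGmap_comp_zero (A : X → AddSubgroup T) (A' : X → AddSubgroup T') (A'' : X → AddSubgroup T'')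
    (φ : T →+ T') (ψ : T' →+ T'') (h₁ : ∀ x a, a ∈ A x → φ a ∈ A' x)
    (h₂ : ∀ x b, b ∈ A' x → ψ b ∈ A'' x) (hzero : ∀ a, ψ (φ a) = 0) :
    SGmap A A' φ h₁ ≫ SGmap A' A'' ψ h₂ = 0 := by
  apply CategoryTheory.Sheaf.hom_ext
  apply NatTrans.ext
  funext W
  refine ConcreteCategory.hom_ext _ _ (fun f => ?_)
  apply Subtype.ext
  funext x
  exact hzero _

theorem SG_shortExact (A₁ : X → AddSubgroup T) (A₂ : X → AddSubgroup T') (A₃ : X → AddSubgroup T'')
    (φ : T →+ T') (ψ : T' →+ T'') (h₁ : ∀ x a, a ∈ A₁ x → φ a ∈ A₂ x)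
    (h₂ : ∀ x b, b ∈ A₂ x → ψ b ∈ A₃ x) (hzero : ∀ a, ψ (φ a) = 0)
    (hinj : Function.Injective φ)
    (hex : ∀ x b, b ∈ A₂ x → ψ b = 0 → ∃ a, a ∈ A₁ x ∧ φ a = b)
    (hsurj : ∀ (x : X) (c : T'') (N : Opens X), x ∈ N → (∀ y, y ∈ N → c ∈ A₃ y) →
      ∃ N' : Opens X, x ∈ N' ∧ N' ≤ N ∧ ∃ b, ψ b = c ∧ ∀ y, y ∈ N' → b ∈ A₂ y) :
    (ShortComplex.mk (SGmap A₁ A₂ φ h₁) (SGmap A₂ A₃ ψ h₂)
      (SGmap_comp_zero A₁ A₂ A₃ φ ψ h₁ h₂ hzero)).ShortExact := by
  apply shortExact_of_sections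
  · intro W f f' hff'
    apply Subtype.ext
    funext x
    exact hinj (congrFun (congrArg Subtype.val hff') x)
  · intro W b hb
    have hb' : ∀ x : W, ψ (b.1 x) = 0 := fun x => congrFun (congrArg Subtype.val hb) x
    have hr : ∀ x : W, ∃ a, a ∈ A₁ x.1 ∧ φ a = b.1 x := fun x =>
      hex x.1 (b.1 x) (b.2.2 x) (hb' x)
    refine ⟨⟨fun x => Function.invFun φ (b.1 x),
      (continuous_of_discreteTopology (f := Function.invFun φ)).comp b.2.1, fun x => ?_⟩, ?_⟩
    · obtain ⟨a, ha, hab⟩ := hr x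
      have : Function.invFun φ (b.1 x) = a := by
        rw [← hab]
        exact Function.leftInverse_invFun hinj a
      rw [← this] at ha
      exact ha
    · apply Subtype.ext
      funext x
      obtain ⟨a, _, hab⟩ := hr x
      exact Function.invFun_eq ⟨a, hab⟩
  · intro W c x hx
    obtain ⟨N, hxN, hNW, hc⟩ := exists_nhd_const A₃ c x hx
    obtain ⟨N', hxN', hN'N, b₀, hb₀, hb₀A⟩ := hsurj x (c.1 ⟨x, hx⟩) N hxN (fun y hy => by
      rw [← hc y hy]
      exact c.2.2 ⟨y, hNW hy⟩)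
    refine ⟨N', hN'N.trans hNW, hxN', ⟨fun _ => b₀, continuous_const, fun y => hb₀A y.1 y.2⟩, ?_⟩
    apply Subtype.ext
    funext y
    exact hb₀.trans (hc y.1 (hN'N y.2)).symm

end SG

/-! ### Bézout for finite gcd's -/

theorem exists_bezout {α : Type*} (S : Finset α) (g : α → ℕ) (c : ℤ)
    (h : ((S.gcd g : ℕ) : ℤ) ∣ c) : ∃ m : α → ℤ, c = ∑ p ∈ S, m p * (g p : ℤ) := by
  classical
  induction S using Finset.induction_on generalizing c with
  | empty =>
    simp only [Finset.gcd_empty, Nat.cast_zero, zero_dvd_iff] at h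
    exact ⟨fun _ => 0, by simp [h]⟩
  | insert q S hq ih =>
    rw [Finset.gcd_insert, gcd_eq_nat_gcd] at h
    obtain ⟨t, rfl⟩ := h
    have hb := Nat.gcd_eq_gcd_ab (g q) (S.gcd g)
    obtain ⟨m, hm⟩ := ih (((S.gcd g : ℕ) : ℤ) * (Nat.gcdB (g q) (S.gcd g) * t))
      (dvd_mul_right _ _)
    refine ⟨fun p => if p = q then Nat.gcdA (g q) (S.gcd g) * t else m p, ?_⟩
    rw [Finset.sum_insert hq]
    dsimp only
    rw [if_pos rfl]
    have e : ∑ p ∈ S, (if p = q then Nat.gcdA (g q) (S.gcd g) * t else m p) * (g p : ℤ) =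
        ∑ p ∈ S, m p * (g p : ℤ) :=
      Finset.sum_congr rfl (fun p hp => by
        have hpq : p ≠ q := fun e' => hq (by rw [← e']; exact hp)
        rw [if_neg hpq])
    rw [e, ← hm, hb]
    ring

end Groth.Agent.H67.VanB
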