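import Mathlib
import Groth.Prelude.Def_CohTop
import Groth.Agent.H67.LocMV
import Groth.Agent.H67.VanB
import Groth.Agent.H67.SpecA
import Groth.Agent.H42.CohTopLib
import Groth.Agent.H45.CohTopClosed
import Groth.Agent.S0460

/-!
# Helper library (helper67): restriction maps and Mayer–Vietoris for `CohTop.HU`

* `rs F n h` : restriction `H^n(U, F) → H^n(V, F)` for `V ≤ U` (a wrapper of `CohTop.res`), with
  functoriality `rs_rs`, `rs_self` and helpers.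
* `HU_eq_zero_of_le_bot`.
* `delta`, `exists_delta_eq`, `delta_sub`, `exists_glue`, `delta_natural`: the Mayer–Vietoris
  sequence of two opens, unpacked, and the naturality of its connecting map under shrinking.
* `exists_finite_cover_rs_zero`: a class of positive degree on a compact open dies on a finite cover
  by compact opens.
-/

set_option autoImplicit false
universe w v₁ u₁ u

open CategoryTheory CategoryTheory.Limits TopologicalSpace Opposite Abelian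

namespace Groth.Agent.H67.SpecB

open Groth.Agent.H42.CohTopLib (Zf)

/-! ### naturality of the connecting map, abstractly -/

section Abstract

variable {𝒜 : Type u₁} [Category.{v₁} 𝒜] [Abelian 𝒜] [HasExt.{w} 𝒜]

theorem mv_natural {Q₁ Q₂ Q₃ Q₄ R₁ R₂ R₃ R₄ : 𝒜}
    (a : Q₁ ⟶ Q₂) (b : Q₁ ⟶ Q₃) (c : Q₂ ⟶ Q₄) (c' : Q₃ ⟶ Q₄)
    (zQ : biprod.lift a (-b) ≫ biprod.desc c c' = 0)
    (hQ : (ShortComplex.mk (biprod.lift a (-b)) (biprod.desc c c') zQ).ShortExact)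
    (a₂ : R₁ ⟶ R₂) (b₂ : R₁ ⟶ R₃) (c₂ : R₂ ⟶ R₄) (c₂' : R₃ ⟶ R₄)
    (zR : biprod.lift a₂ (-b₂) ≫ biprod.desc c₂ c₂' = 0)
    (hR : (ShortComplex.mk (biprod.lift a₂ (-b₂)) (biprod.desc c₂ c₂') zR).ShortExact)
    (t₁ : R₁ ⟶ Q₁) (t₂ : R₂ ⟶ Q₂) (t₃ : R₃ ⟶ Q₃) (t₄ : R₄ ⟶ Q₄)
    (h12 : t₁ ≫ a = a₂ ≫ t₂) (h13 : t₁ ≫ b = b₂ ≫ t₃)
    (h24 : t₂ ≫ c = c₂ ≫ t₄) (h34 : t₃ ≫ c' = c₂' ≫ t₄)
    (F : 𝒜) (i : ℕ) (h1 : 1 + i = i + 1) (w' : Ext.{w} Q₁ F i) :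
    (Ext.mk₀ t₄).comp (hQ.extClass.comp w' h1) (zero_add (i + 1)) =
      hR.extClass.comp ((Ext.mk₀ t₁).comp w' (zero_add i)) h1 := by
  let φ : ShortComplex.mk (biprod.lift a₂ (-b₂)) (biprod.desc c₂ c₂') zR ⟶
      ShortComplex.mk (biprod.lift a (-b)) (biprod.desc c c') zQ :=
    { τ₁ := t₁
      τ₂ := biprod.map t₂ t₃
      τ₃ := t₄
      comm₁₂ := by
        apply biprod.hom_ext
        · simp [h12]
        · simp [h13]
      comm₂₃ := by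
        apply biprod.hom_ext'
        · simp [h24]
        · simp [h34] }
  have nat' : hR.extClass.comp (Ext.mk₀ t₁) (add_zero 1) =
      (Ext.mk₀ t₄).comp hQ.extClass (zero_add 1) :=
    ShortComplex.ShortExact.extClass_naturality hR hQ φ
  rw [← Ext.comp_assoc (Ext.mk₀ t₄) hQ.extClass w' (zero_add 1) h1 (by omega), ← nat',
    Ext.comp_assoc hR.extClass (Ext.mk₀ t₁) w' (add_zero 1) (zero_add i) (by omega)]

end Abstract

variable {X : TopCat.{u}} (F : CohTop.Ab X)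

/-! ### restriction -/

/-- restriction `H^n(U, F) → H^n(V, F)` -/
noncomputable def rs (n : ℕ) {U V : Opens X} (h : V ≤ U) :
    CohTop.HU F n U →+ CohTop.HU F n V := CohTop.res F n h

theorem rs_eq_res (n : ℕ) {U V : Opens X} (h : V ≤ U) (ξ : CohTop.HU F n U) :
    rs F n h ξ = CohTop.res F n h ξ := rfl

theorem rs_rs (n : ℕ) {U V W : Opens X} (h : V ≤ U) (h' : W ≤ V) (ξ : CohTop.HU F n U) :
    rs F n h' (rs F n h ξ) = rs F n (h'.trans h) ξ :=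
  Groth.Agent.H67.VanB.map_map_eq (Sheaf.cohomologyPresheaf F n) (homOfLE h).op (homOfLE h').op
    (homOfLE (h'.trans h)).op ξ

theorem rs_self (n : ℕ) {U : Opens X} (h : U ≤ U) (ξ : CohTop.HU F n U) : rs F n h ξ = ξ :=
  Groth.Agent.H67.VanB.map_id_eq (Sheaf.cohomologyPresheaf F n) (homOfLE h).op ξ

theorem rs_zero_mono (n : ℕ) {U V W : Opens X} (h : V ≤ U) (ξ : CohTop.HU F n U)
    (hz : rs F n h ξ = 0) (k : W ≤ U) (hWV : W ≤ V) : rs F n k ξ = 0 := by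
  have h1 := congrArg (rs F n hWV) hz
  rw [rs_rs, map_zero] at h1
  exact h1

theorem rs_mono_eq (n : ℕ) {U₁ U₂ V W : Opens X} (h₁ : V ≤ U₁) (h₂ : V ≤ U₂)
    (a : CohTop.HU F n U₁) (b : CohTop.HU F n U₂) (e : rs F n h₁ a = rs F n h₂ b)
    (k : W ≤ V) (k₁ : W ≤ U₁) (k₂ : W ≤ U₂) : rs F n k₁ a = rs F n k₂ b := by
  have h1 := congrArg (rs F n k) e
  rw [rs_rs, rs_rs] at h1
  exact h1

/-! ### the empty open -/

theorem isZero_Zf_of_le_bot (O : Opens X) (h : O ≤ ⊥) : IsZero ((Zf X).obj O) := by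
  rw [IsZero.iff_id_eq_zero]
  apply (Groth.Agent.H42.CohTopLib.E O _).injective
  haveI := Groth.Agent.H45.CohTopPush.subsingleton_sections_of_eq_bot ((Zf X).obj O) O
    (le_bot_iff.1 h)
  exact Subsingleton.elim _ _

theorem HU_eq_zero_of_le_bot (n : ℕ) (O : Opens X) (h : O ≤ ⊥) (ξ : CohTop.HU F n O) :
    ξ = 0 := by
  have hz := isZero_Zf_of_le_bot O h
  have key : ∀ x : Ext.{u} ((Zf X).obj O) F n, x = 0 := by
    intro x
    rw [← Ext.mk₀_id_comp x, hz.eq_of_src (𝟙 _) 0, Ext.mk₀_zero, Ext.zero_comp]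
  exact key ξ

/-! ### Mayer–Vietoris -/

section MV

variable (P Q : Opens X)

/-- `ℤ_{P ∩ Q} ⟶ ℤ_P` -/
noncomputable abbrev ma : (Zf X).obj (P ⊓ Q) ⟶ (Zf X).obj P :=
  (Zf X).map (homOfLE (inf_le_left : P ⊓ Q ≤ P))

/-- `ℤ_{P ∩ Q} ⟶ ℤ_Q` -/
noncomputable abbrev mb : (Zf X).obj (P ⊓ Q) ⟶ (Zf X).obj Q :=
  (Zf X).map (homOfLE (inf_le_right : P ⊓ Q ≤ Q))

/-- `ℤ_P ⟶ ℤ_{P ∪ Q}` -/
noncomputable abbrev mc : (Zf X).obj P ⟶ (Zf X).obj (P ⊔ Q) :=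
  (Zf X).map (homOfLE (le_sup_left : P ≤ P ⊔ Q))

/-- `ℤ_Q ⟶ ℤ_{P ∪ Q}` -/
noncomputable abbrev mc' : (Zf X).obj Q ⟶ (Zf X).obj (P ⊔ Q) :=
  (Zf X).map (homOfLE (le_sup_right : Q ≤ P ⊔ Q))

theorem zQ : biprod.lift (ma P Q) (-(mb P Q)) ≫ biprod.desc (mc P Q) (mc' P Q) = 0 := by
  rw [biprod.lift_desc, Preadditive.neg_comp, ← sub_eq_add_neg, sub_eq_zero,
    ← Functor.map_comp, ← Functor.map_comp]
  exact congrArg _ (Subsingleton.elim _ _)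

theorem hQ : (ShortComplex.mk (biprod.lift (ma P Q) (-(mb P Q)))
    (biprod.desc (mc P Q) (mc' P Q)) (zQ P Q)).ShortExact :=
  (Opens.mayerVietorisSquare P Q).shortComplex_shortExact

/-- the Mayer–Vietoris connecting map -/
noncomputable def delta (i : ℕ) (η : CohTop.HU F i (P ⊓ Q)) : CohTop.HU F (i + 1) (P ⊔ Q) :=
  (hQ P Q).extClass.comp (η : Ext.{u} ((Zf X).obj (P ⊓ Q)) F i) (add_comm 1 i)

theorem delta_zero (i : ℕ) : delta F P Q i 0 = 0 :=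
  Ext.comp_zero _ _ _ _ _

theorem exists_delta_eq (i : ℕ) (ξ : CohTop.HU F (i + 1) (P ⊔ Q))
    (h2 : rs F (i + 1) (le_sup_left : P ≤ P ⊔ Q) ξ = 0)
    (h3 : rs F (i + 1) (le_sup_right : Q ≤ P ⊔ Q) ξ = 0) :
    ∃ η : CohTop.HU F i (P ⊓ Q), delta F P Q i η = ξ :=
  (Groth.Agent.H67.LocMV.mv_exact₃ (ma P Q) (mb P Q) (mc P Q) (mc' P Q) (zQ P Q) (hQ P Q) F i
    (add_comm 1 i) ξ).1 ⟨h2, h3⟩

theorem delta_sub (i : ℕ) (y₂ : CohTop.HU F i P) (y₃ : CohTop.HU F i Q) :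
    delta F P Q i (rs F i (inf_le_left : P ⊓ Q ≤ P) y₂ - rs F i (inf_le_right : P ⊓ Q ≤ Q) y₃) =
      0 :=
  (Groth.Agent.H67.LocMV.mv_exact₁ (ma P Q) (mb P Q) (mc P Q) (mc' P Q) (zQ P Q) (hQ P Q) F i
    (add_comm 1 i) _).2 ⟨(y₂, y₃), rfl⟩

theorem exists_glue (i : ℕ) (y₂ : CohTop.HU F i P) (y₃ : CohTop.HU F i Q)
    (h : rs F i (inf_le_left : P ⊓ Q ≤ P) y₂ = rs F i (inf_le_right : P ⊓ Q ≤ Q) y₃) :
    ∃ x : CohTop.HU F i (P ⊔ Q), rs F i (le_sup_left : P ≤ P ⊔ Q) x = y₂ ∧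
      rs F i (le_sup_right : Q ≤ P ⊔ Q) x = y₃ :=
  (Groth.Agent.H67.LocMV.mv_exact₂ (ma P Q) (mb P Q) (mc P Q) (mc' P Q) (zQ P Q) (hQ P Q) F i
    y₂ y₃).1 (sub_eq_zero.2 h)

theorem delta_natural (P' Q' : Opens X) (hP : P' ≤ P) (hQ' : Q' ≤ Q) (i : ℕ)
    (η : CohTop.HU F i (P ⊓ Q)) :
    rs F (i + 1) (sup_le_sup hP hQ') (delta F P Q i η) =
      delta F P' Q' i (rs F i (inf_le_inf hP hQ') η) :=
  mv_natural (ma P Q) (mb P Q) (mc P Q) (mc' P Q) (zQ P Q) (hQ P Q)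
    (ma P' Q') (mb P' Q') (mc P' Q') (mc' P' Q') (zQ P' Q') (hQ P' Q')
    ((Zf X).map (homOfLE (inf_le_inf hP hQ'))) ((Zf X).map (homOfLE hP))
    ((Zf X).map (homOfLE hQ')) ((Zf X).map (homOfLE (sup_le_sup hP hQ')))
    (by rw [← Functor.map_comp, ← Functor.map_comp]; exact congrArg _ (Subsingleton.elim _ _))
    (by rw [← Functor.map_comp, ← Functor.map_comp]; exact congrArg _ (Subsingleton.elim _ _))
    (by rw [← Functor.map_comp, ← Functor.map_comp]; exact congrArg _ (Subsingleton.elim _ _))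
    (by rw [← Functor.map_comp, ← Functor.map_comp]; exact congrArg _ (Subsingleton.elim _ _))
    F i (add_comm 1 i) η

end MV

/-! ### local vanishing -/

theorem exists_finite_cover_rs_zero [PrespectralSpace X] (n : ℕ) (U : Opens X)
    (hU : IsCompact (U : Set X)) (ξ : CohTop.HU F (n + 1) U) :
    ∃ t : Finset (Opens X), (∀ K ∈ t, IsCompact (K : Set X) ∧
      ∃ h : K ≤ U, rs F (n + 1) h ξ = 0) ∧ U ≤ t.sup id := by
  obtain ⟨ι, V, hV, hsup, hzero⟩ := Groth.Agent.S0460.result F U n ξ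
  have hloc : ∀ x : U, ∃ K : Opens X, IsCompact (K : Set X) ∧ x.1 ∈ K ∧
      ∃ h : K ≤ U, rs F (n + 1) h ξ = 0 := by
    intro x
    have hx : x.1 ∈ iSup V := by
      rw [hsup]
      exact x.2
    obtain ⟨i, hi⟩ := Opens.mem_iSup.1 hx
    obtain ⟨K, hKc, hxK, hKV⟩ := Groth.Agent.H67.SpecA.exists_compact_open (V i) x.1 hi
    refine ⟨K, hKc, hxK, hKV.trans (hV i), ?_⟩
    have h0 : rs F (n + 1) (hV i) ξ = 0 := hzero i
    exact rs_zero_mono F (n + 1) (hV i) ξ h0 _ hKV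
  choose K hKc hxK hKU hKz using hloc
  obtain ⟨t, ht⟩ := hU.elim_finite_subcover (fun x : U => (K x : Set X))
    (fun x => (K x).isOpen) (fun x hx => Set.mem_iUnion.2 ⟨⟨x, hx⟩, hxK ⟨x, hx⟩⟩)
  classical
  refine ⟨t.image K, ?_, ?_⟩
  · intro K' hK'
    obtain ⟨x, _, rfl⟩ := Finset.mem_image.1 hK'
    exact ⟨hKc x, hKU x, hKz x⟩
  · intro y hy
    obtain ⟨x, hxt, hyx⟩ := Set.mem_iUnion₂.1 (ht hy)
    have hle : K x ≤ (t.image K).sup id :=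
      Finset.le_sup (f := id) (Finset.mem_image_of_mem K hxt)
    exact hle hyx

end Groth.Agent.H67.SpecB
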