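import Mathlib
import Groth.Prelude.Def_CohTop
import Groth.Agent.H67.ColimTop
import Groth.Agent.H45.AffineVanishing

/-!
# Helper library (helper67): dévissage for cohomological vanishing above a degree

`Pd d F` : `H^p(X, F) = 0` for all `p > d`.  Closure under isomorphisms, extensions, cokernels of
monomorphisms, filtered colimits (on a compact prespectral quasi-separated space) and directed unions
of subobjects; the class `Qc P` of objects all of whose quotients satisfy `P`.
-/

set_option autoImplicit false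
universe u

open CategoryTheory CategoryTheory.Limits TopologicalSpace Opposite Abelian

namespace Groth.Agent.H67.VanA

variable {X : TopCat.{u}}

/-- cohomology vanishes above degree `d` -/
def Pd (d : ℕ) (F : CohTop.Ab X) : Prop := ∀ p : ℕ, d < p → Subsingleton (CohTop.H F p)

theorem Pd_of_iso (d : ℕ) {F G : CohTop.Ab X} (e : F ≅ G) (h : Pd d F) : Pd d G := by
  intro p hp
  haveI := h p hp
  exact (Groth.Agent.H45.ExtAdj.addEquivOfIsoRight _ e p).symm.toEquiv.subsingleton

theorem Pd_of_isZero (d : ℕ) {F : CohTop.Ab X} (h : IsZero F) : Pd d F :=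
  fun p _ => Sheaf.subsingleton_H_of_isZero h p

theorem Pd_ext (d : ℕ) {S : ShortComplex (CohTop.Ab X)} (hS : S.ShortExact)
    (h1 : Pd d S.X₁) (h3 : Pd d S.X₃) : Pd d S.X₂ := by
  intro p hp
  haveI := h1 p hp
  haveI := h3 p hp
  have key : ∀ x : CohTop.H S.X₂ p, x = 0 := by
    intro x
    obtain ⟨x₁, hx₁⟩ := Ext.covariant_sequence_exact₂ _ hS x (Subsingleton.elim _ _)
    rw [← hx₁, Subsingleton.elim x₁ 0, Ext.zero_comp]
  exact ⟨fun a b => (key a).trans (key b).symm⟩

theorem Pd_coker (d : ℕ) {S : ShortComplex (CohTop.Ab X)} (hS : S.ShortExact)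
    (h1 : Pd d S.X₁) (h2 : Pd d S.X₂) : Pd d S.X₃ := by
  intro p hp
  haveI := h1 (p + 1) (by omega)
  haveI := h2 p hp
  have key : ∀ x : CohTop.H S.X₃ p, x = 0 := by
    intro x
    obtain ⟨x₂, hx₂⟩ := Ext.covariant_sequence_exact₃ _ hS x rfl (Subsingleton.elim _ _)
    rw [← hx₂, Subsingleton.elim x₂ 0, Ext.zero_comp]
  exact ⟨fun a b => (key a).trans (key b).symm⟩

/-- `H^p(X, F)` as the value at `⊤` of the cohomology presheaf -/
noncomputable def HT (F : CohTop.Ab X) (p : ℕ) :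
    (((Sheaf.cohomologyPresheafFunctor (Opens.grothendieckTopology X) p).flip.obj
      (op (⊤ : Opens X))).obj F : AddCommGrpCat.{u}) ≃+ CohTop.H F p :=
  Groth.Agent.H45.AffineVanishing.HTerminalAddEquiv (Opens.grothendieckTopology X)
    (isTerminalTop : IsTerminal (⊤ : Opens X)) F p

theorem Pd_colim [CompactSpace X] [PrespectralSpace X] [QuasiSeparatedSpace X] (d : ℕ)
    {Λ : Type u} [SmallCategory Λ] [IsFiltered Λ] (D : Λ ⥤ CohTop.Ab X) (c : Cocone D)
    (hc : IsColimit c) (h : ∀ i, Pd d (D.obj i)) : Pd d c.pt := by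
  intro p hp
  let G := (Sheaf.cohomologyPresheafFunctor (Opens.grothendieckTopology X) p).flip.obj
    (op (⊤ : Opens X))
  haveI : PreservesColimit D G :=
    Groth.Agent.H67.ColimTop.preservesColimit (⊤ : Opens X) (by simpa using isCompact_univ) p D
  have hc' : IsColimit (G.mapCocone c) := isColimitOfPreserves G hc
  have hsub : ∀ i, Subsingleton (G.obj (D.obj i)) := fun i => by
    haveI := h i p hp
    exact (HT (D.obj i) p).toEquiv.subsingleton
  have key : ∀ a : G.obj c.pt, a = 0 := by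
    intro a
    obtain ⟨i, a', ha⟩ := Concrete.isColimit_exists_rep _ hc' a
    haveI : Subsingleton (ToType ((D ⋙ G).obj i)) := hsub i
    rw [← ha, Subsingleton.elim a' 0]
    exact ((G.mapCocone c).ι.app i).hom.map_zero
  haveI : Subsingleton (G.obj c.pt) := ⟨fun a b => (key a).trans (key b).symm⟩
  exact (HT c.pt p).symm.toEquiv.subsingleton

/-- filtered unions of subobjects, functor version -/
theorem Pd_of_union_aux [CompactSpace X] [PrespectralSpace X] [QuasiSeparatedSpace X] (d : ℕ)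
    (F : CohTop.Ab X) {Λ : Type u} [SmallCategory Λ] [IsFiltered Λ]
    (D : Λ ⥤ MonoOver F)
    (hP : ∀ l, Pd d ((D ⋙ MonoOver.forget _ ⋙ Over.forget _).obj l))
    (hcov : ∀ (W : Opens X) (t : F.obj.obj (op W)) (x : X), x ∈ W →
      ∃ (W' : Opens X) (hW' : W' ≤ W), x ∈ W' ∧
        ∃ (l : Λ) (k : ((D ⋙ MonoOver.forget _ ⋙ Over.forget _).obj l).obj.obj (op W')),
          (D.obj l).obj.hom.hom.app (op W') k = F.obj.map (homOfLE hW').op t) : Pd d F := by
  let f : colimit (D ⋙ MonoOver.forget _ ⋙ Over.forget _) ⟶ F :=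
    colimit.desc (D ⋙ MonoOver.forget _ ⋙ Over.forget _) (Cocone.mk F
      { app := fun l => (D.obj l).obj.hom
        naturality := fun {j j'} g => by simp [MonoOver.forget] })
  have hf : ∀ l, colimit.ι (D ⋙ MonoOver.forget _ ⋙ Over.forget _) l ≫ f = (D.obj l).obj.hom :=
    fun l => colimit.ι_desc _ _
  haveI : Mono f :=
    IsGrothendieckAbelian.mono_of_isColimit_monoOver D (colimit.isColimit _) f hf
  haveI : Epi f := by
    refine (TopCat.Sheaf.isLocallySurjective_iff_epi f).mp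
      ((TopCat.Presheaf.isLocallySurjective_iff f.hom).2 ?_)
    intro W t x hx
    obtain ⟨W', hW', hxW', l, k, hk⟩ := hcov W t x hx
    refine ⟨W', hW', ⟨(colimit.ι (D ⋙ MonoOver.forget _ ⋙ Over.forget _) l).hom.app (op W') k, ?_⟩,
      hxW'⟩
    have h1 := congrArg (fun m => m.hom.app (op W') k) (hf l)
    exact h1.trans hk
  haveI : IsIso f := isIso_of_mono_of_epi f
  exact Pd_of_iso d (asIso f) (Pd_colim d _ (colimit.cocone _) (colimit.isColimit _)
    (fun l => hP l))

/-- directed unions of subobjects -/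
theorem Pd_of_union [CompactSpace X] [PrespectralSpace X] [QuasiSeparatedSpace X] (d : ℕ)
    (F : CohTop.Ab X) {Λ : Type u} [Preorder Λ] [IsDirected Λ (· ≤ ·)] [Nonempty Λ]
    (T : Λ → Subobject F) (hT : Monotone T)
    (hP : ∀ l, Pd d ((T l : Subobject F) : CohTop.Ab X))
    (hcov : ∀ (W : Opens X) (t : F.obj.obj (op W)) (x : X), x ∈ W →
      ∃ (W' : Opens X) (hW' : W' ≤ W), x ∈ W' ∧
        ∃ (l : Λ) (k : ((T l : Subobject F) : CohTop.Ab X).obj.obj (op W')),
          (T l).arrow.hom.app (op W') k = F.obj.map (homOfLE hW').op t) : Pd d F := by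
  haveI : IsFiltered Λ := isFiltered_of_directed_le_nonempty Λ
  exact Pd_of_union_aux d F (hT.functor ⋙ Subobject.representative) (fun l => hP l)
    (fun W t x hx => hcov W t x hx)

section Quot

variable {𝒜 : Type*} [Category 𝒜] [Abelian 𝒜]

/-- all quotients of `G` satisfy `P` -/
def Qc (P : 𝒜 → Prop) (G : 𝒜) : Prop := ∀ (Q : 𝒜) (π : G ⟶ Q), Epi π → P Q

variable {P : 𝒜 → Prop}

theorem Qc.self {G : 𝒜} (h : Qc P G) : P G := h G (𝟙 G) inferInstance

theorem Qc.of_epi {G G' : 𝒜} (h : Qc P G) (π : G ⟶ G') [Epi π] : Qc P G' :=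
  fun Q π' _ => h Q (π ≫ π') (epi_comp _ _)

theorem Qc.of_isZero (hz : ∀ A : 𝒜, IsZero A → P A) {G : 𝒜} (h : IsZero G) : Qc P G := by
  intro Q π hπ
  exact hz Q (IsZero.of_epi_eq_zero π (h.eq_of_src _ _))

theorem Qc.biprod (hext : ∀ S : ShortComplex 𝒜, S.ShortExact → P S.X₁ → P S.X₃ → P S.X₂)
    {G₁ G₂ : 𝒜} (h₁ : Qc P G₁) (h₂ : Qc P G₂) : Qc P (G₁ ⊞ G₂) := by
  intro Q π hπ
  let φ₁ : G₁ ⟶ Q := biprod.inl ≫ π
  let ι₁ : Abelian.image φ₁ ⟶ Q := Abelian.image.ι φ₁
  let q : Q ⟶ cokernel ι₁ := cokernel.π ι₁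
  have hS : (ShortComplex.mk ι₁ q (cokernel.condition ι₁)).ShortExact :=
    ShortComplex.ShortExact.mk' (ShortComplex.exact_cokernel ι₁) inferInstance inferInstance
  have e0 : biprod.inl ≫ π ≫ q = 0 := by
    have : biprod.inl ≫ π = Abelian.factorThruImage φ₁ ≫ ι₁ := (Abelian.image.fac φ₁).symm
    rw [← Category.assoc, this, Category.assoc, cokernel.condition, comp_zero]
  have e1 : biprod.snd ≫ (biprod.inr ≫ π ≫ q) = π ≫ q := by
    apply biprod.hom_ext'
    · rw [e0]; simp
    · simp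
  haveI : Epi (π ≫ q) := epi_comp _ _
  haveI : Epi (biprod.inr ≫ π ≫ q) := epi_of_epi_fac e1
  exact hext _ hS (h₁ _ (Abelian.factorThruImage φ₁) inferInstance)
    (h₂ _ (biprod.inr ≫ π ≫ q) inferInstance)

theorem Qc.sup (hext : ∀ S : ShortComplex 𝒜, S.ShortExact → P S.X₁ → P S.X₃ → P S.X₂)
    {F : 𝒜} {S T : Subobject F} (hS : Qc P (S : 𝒜)) (hT : Qc P (T : 𝒜)) :
    Qc P ((S ⊔ T : Subobject F) : 𝒜) := by
  let h' : (S : 𝒜) ⊞ (T : 𝒜) ⟶ ((S ⊔ T : Subobject F) : 𝒜) :=
    biprod.desc (Subobject.ofLE S (S ⊔ T) le_sup_left) (Subobject.ofLE T (S ⊔ T) le_sup_right)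
  let m := (S ⊔ T).arrow
  let h := h' ≫ m
  have hS' : S ≤ imageSubobject h :=
    Subobject.le_of_comm (biprod.inl ≫ factorThruImageSubobject h) (by
      rw [Category.assoc, imageSubobject_arrow_comp]
      simp [h, h', m])
  have hT' : T ≤ imageSubobject h :=
    Subobject.le_of_comm (biprod.inr ≫ factorThruImageSubobject h) (by
      rw [Category.assoc, imageSubobject_arrow_comp]
      simp [h, h', m])
  let j := Subobject.ofLE (S ⊔ T) (imageSubobject h) (sup_le hS' hT')
  have hj : h' ≫ j = factorThruImageSubobject h := by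
    rw [← cancel_mono (imageSubobject h).arrow, Category.assoc, Subobject.ofLE_arrow,
      imageSubobject_arrow_comp]
  haveI : Epi (h' ≫ j) := by rw [hj]; infer_instance
  haveI : Epi j := epi_of_epi h' j
  haveI : IsIso j := isIso_of_mono_of_epi j
  haveI : Epi h' := by
    have : h' = (h' ≫ j) ≫ inv j := by simp
    rw [this]
    exact epi_comp _ _
  exact (Qc.biprod hext hS hT).of_epi h'

end Quot

end Groth.Agent.H67.VanA
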