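import Mathlib
import Groth.Prelude.Def_CohTop
import Groth.Agent.H67.SpecA
import Groth.Agent.H67.SpecB
import Groth.Agent.H67.VanA

/-!
# Helper library (helper67): Scheiderer's vanishing theorem for spectral spaces

For a family `𝒱` of compact opens closed under intersections (with intersection `core 𝒱`), we work
with the "germ cohomology" `colim_{V ∈ 𝒱} H^p(V, F)`.  By induction on `n` we show that if all
chains of strict specialisations in `core 𝒱` have fewer than `n` terms then this colimit vanishes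
for `p ≥ n` (`Van`), and that for `n = m + 1` classes of degree `m` on `V ∩ U` (`U` compact open)
extend to germs on `𝒱` (`P2`).  With `𝒱 = {⊤}` this gives `H^p(X, F) = 0` for `p > dim X` and the
surjectivity of `H^d(X, F) → H^d(U, F)`.
-/

set_option autoImplicit false
universe u

open CategoryTheory CategoryTheory.Limits TopologicalSpace Opposite

namespace Groth.Agent.H67.SpecC

open Groth.Agent.H67.SpecA Groth.Agent.H67.SpecB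

variable {X : TopCat.{u}} (F : CohTop.Ab X)

/-- vanishing of the germs of degree `p` along families whose core has `Dn n` -/
def Van (n p : ℕ) : Prop :=
  ∀ (𝒱 : Set (Opens X)), Fam 𝒱 → Dn n (core 𝒱) → ∀ V₀ ∈ 𝒱, ∀ ξ : CohTop.HU F p V₀,
    ∃ V ∈ 𝒱, ∃ h : V ≤ V₀, rs F p h ξ = 0

/-- extension of classes of degree `m` from `V ∩ U` to germs -/
def P2 (m : ℕ) : Prop :=
  ∀ (𝒱 : Set (Opens X)), Fam 𝒱 → Dn (m + 1) (core 𝒱) → ∀ U : Opens X, IsCompact (U : Set X) →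
    ∀ V₀ ∈ 𝒱, ∀ η : CohTop.HU F m (V₀ ⊓ U), ∃ V ∈ 𝒱, ∃ h : V ≤ V₀, ∃ ζ : CohTop.HU F m V,
      rs F m (inf_le_left : V ⊓ U ≤ V) ζ = rs F m (inf_le_inf_right U h) η

/-- the connecting map kills classes of degree `i` after shrinking inside `𝒱` -/
def Kill (i : ℕ) (𝒱 : Set (Opens X)) : Prop :=
  ∀ (P Q : Opens X), IsCompact (P : Set X) → IsCompact (Q : Set X) → ∀ V ∈ 𝒱,
    ∀ η : CohTop.HU F i ((V ⊓ P) ⊓ (V ⊓ Q)), ∃ V₂ ∈ 𝒱, ∃ h : V₂ ≤ V,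
      delta F (V₂ ⊓ P) (V₂ ⊓ Q) i
        (rs F i (inf_le_inf (inf_le_inf_right P h) (inf_le_inf_right Q h)) η) = 0

theorem van_zero [QuasiSober X] (p : ℕ) : Van F 0 p := by
  intro 𝒱 h𝒱 hD V₀ hV₀ ξ
  obtain ⟨V, hV, hVbot⟩ := exists_mem_le h𝒱 ⊥ (fun x hx => absurd hx (hD x))
  refine ⟨V ⊓ V₀, h𝒱.inf V hV V₀ hV₀, inf_le_right, ?_⟩
  exact HU_eq_zero_of_le_bot F p _ (inf_le_left.trans hVbot) _

theorem stepA [CompactSpace X] [QuasiSober X] [QuasiSeparatedSpace X] [PrespectralSpace X]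
    (n : ℕ) (h1 : Van F n n) : P2 F n := by
  intro 𝒱 h𝒱 hD U hU V₀ hV₀ η
  have hF2 := fam2_fam h𝒱 U hU
  have hD2 : Dn n (core (fam2 𝒱 U)) :=
    Dn_mono n (fun x hx => core_fam2_subset h𝒱 U x hx) hD
  have hW₀ : V₀ ⊓ ⊤ ⊓ U ∈ fam2 𝒱 U :=
    ⟨V₀, hV₀, ⊤, isCompact_top, fun _ _ _ => trivial, rfl⟩
  have hle0 : V₀ ⊓ ⊤ ⊓ U ≤ V₀ ⊓ U := fun x hx => ⟨hx.1.1, hx.2⟩
  obtain ⟨W, hW, hWle, hWz⟩ := h1 (fam2 𝒱 U) hF2 hD2 _ hW₀ (rs F n hle0 η)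
  obtain ⟨V', hV', G, hGc, hGZ, rfl⟩ := hW
  rw [rs_rs] at hWz
  have hV : V' ⊓ V₀ ∈ 𝒱 := h𝒱.inf V' hV' V₀ hV₀
  obtain ⟨V₃, hV₃, hV₃le⟩ := exists_mem_le h𝒱 (U ⊔ G) (fun x hx => by
    by_cases hxU : x ∈ U
    · exact Or.inl hxU
    · exact Or.inr (hGZ x hx hxU))
  have hle2 : V' ⊓ V₀ ⊓ U ≤ V₀ ⊓ U := fun x hx => ⟨hx.1.2, hx.2⟩
  obtain ⟨x, hx2, -⟩ := exists_glue F (V' ⊓ V₀ ⊓ U) (V' ⊓ V₀ ⊓ G) n (rs F n hle2 η) 0 (by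
    rw [map_zero, rs_rs]
    exact rs_zero_mono F n _ η hWz _ (fun y hy => ⟨⟨hy.1.1.1, hy.2.2⟩, hy.1.2⟩))
  have hV₂ : V₃ ⊓ (V' ⊓ V₀) ∈ 𝒱 := h𝒱.inf V₃ hV₃ _ hV
  have hV₂le : V₃ ⊓ (V' ⊓ V₀) ≤ V₀ := fun y hy => hy.2.2
  have hV₂O₄ : V₃ ⊓ (V' ⊓ V₀) ≤ (V' ⊓ V₀ ⊓ U) ⊔ (V' ⊓ V₀ ⊓ G) := fun y hy => by
    rcases hV₃le hy.1 with h | h
    · exact Or.inl ⟨hy.2, h⟩
    · exact Or.inr ⟨hy.2, h⟩
  refine ⟨_, hV₂, hV₂le, rs F n hV₂O₄ x, ?_⟩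
  rw [rs_rs]
  have hle3 : V₃ ⊓ (V' ⊓ V₀) ⊓ U ≤ V' ⊓ V₀ ⊓ U := fun y hy => ⟨hy.1.2, hy.2⟩
  exact rs_mono_eq F n _ _ x η hx2 hle3 _ _

theorem kill_of_van [QuasiSeparatedSpace X] (n i : ℕ) (hv : Van F n i) {𝒱 : Set (Opens X)}
    (h𝒱 : Fam 𝒱) (hD : Dn n (core 𝒱)) : Kill F i 𝒱 := by
  intro P Q hP hQ V hV η
  have hC : IsCompact ((P ⊓ Q : Opens X) : Set X) := by
    rw [Opens.coe_inf]
    exact hP.inter_of_isOpen hQ P.isOpen Q.isOpen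
  have hFC := famC_fam h𝒱 (P ⊓ Q) hC
  have hDC : Dn n (core (famC 𝒱 (P ⊓ Q))) := Dn_mono n (core_famC_subset 𝒱 _) hD
  have hle0 : V ⊓ (P ⊓ Q) ≤ (V ⊓ P) ⊓ (V ⊓ Q) :=
    fun x hx => ⟨⟨hx.1, hx.2.1⟩, ⟨hx.1, hx.2.2⟩⟩
  obtain ⟨W, hW, hWle, hWz⟩ := hv _ hFC hDC (V ⊓ (P ⊓ Q)) ⟨V, hV, rfl⟩ (rs F i hle0 η)
  obtain ⟨V', hV', rfl⟩ := hW
  rw [rs_rs] at hWz
  refine ⟨V' ⊓ V, h𝒱.inf V' hV' V hV, inf_le_right, ?_⟩
  have hsub : (V' ⊓ V ⊓ P) ⊓ (V' ⊓ V ⊓ Q) ≤ V' ⊓ (P ⊓ Q) :=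
    fun x hx => ⟨hx.1.1.1, hx.1.2, hx.2.2⟩
  have h0 : rs F i (inf_le_inf (inf_le_inf_right P (inf_le_right : V' ⊓ V ≤ V))
      (inf_le_inf_right Q (inf_le_right : V' ⊓ V ≤ V))) η = 0 :=
    rs_zero_mono F i _ η hWz _ hsub
  rw [h0]
  exact delta_zero F _ _ i

theorem kill_of_P2 [QuasiSeparatedSpace X] (n : ℕ) (h2 : P2 F n) {𝒱 : Set (Opens X)}
    (h𝒱 : Fam 𝒱) (hD : Dn (n + 1) (core 𝒱)) : Kill F n 𝒱 := by
  intro P Q hP hQ V hV η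
  have hFC := famC_fam h𝒱 Q hQ
  have hDC : Dn (n + 1) (core (famC 𝒱 Q)) := Dn_mono (n + 1) (core_famC_subset 𝒱 _) hD
  have hle0 : (V ⊓ Q) ⊓ P ≤ (V ⊓ P) ⊓ (V ⊓ Q) := fun x hx => ⟨⟨hx.1.1, hx.2⟩, hx.1⟩
  obtain ⟨W, hW, hWle, ζ, hζ⟩ := h2 _ hFC hDC P hP (V ⊓ Q) ⟨V, hV, rfl⟩ (rs F n hle0 η)
  obtain ⟨V', hV', rfl⟩ := hW
  rw [rs_rs] at hζ
  refine ⟨V' ⊓ V, h𝒱.inf V' hV' V hV, inf_le_right, ?_⟩
  have hle1 : V' ⊓ V ⊓ Q ≤ V' ⊓ Q := fun x hx => ⟨hx.1.1, hx.2⟩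
  have key : rs F n (inf_le_inf (inf_le_inf_right P (inf_le_right : V' ⊓ V ≤ V))
      (inf_le_inf_right Q (inf_le_right : V' ⊓ V ≤ V))) η =
      rs F n (inf_le_left : (V' ⊓ V ⊓ P) ⊓ (V' ⊓ V ⊓ Q) ≤ V' ⊓ V ⊓ P) 0 -
        rs F n (inf_le_right : (V' ⊓ V ⊓ P) ⊓ (V' ⊓ V ⊓ Q) ≤ V' ⊓ V ⊓ Q)
          (-(rs F n hle1 ζ)) := by
    rw [map_zero, map_neg, zero_sub, neg_neg, rs_rs]
    have hk : (V' ⊓ V ⊓ P) ⊓ (V' ⊓ V ⊓ Q) ≤ V' ⊓ Q ⊓ P :=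
      fun x hx => ⟨⟨hx.1.1.1, hx.2.2⟩, hx.1.2⟩
    exact (rs_mono_eq F n _ _ ζ η hζ hk _ _).symm
  rw [key]
  exact delta_sub F _ _ n 0 _

theorem cover_induct [QuasiSeparatedSpace X] (i : ℕ) {𝒱 : Set (Opens X)} (h𝒱 : Fam 𝒱)
    (hK : Kill F i 𝒱) (t : Finset (Opens X)) :
    (∀ K ∈ t, IsCompact (K : Set X)) → ∀ V₁ ∈ 𝒱, ∀ O : Opens X, IsCompact (O : Set X) →
      O ≤ t.sup id → ∀ ξ : CohTop.HU F (i + 1) (V₁ ⊓ O),
        (∀ K ∈ t, rs F (i + 1) (inf_le_left : V₁ ⊓ O ⊓ K ≤ V₁ ⊓ O) ξ = 0) →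
        ∃ V ∈ 𝒱, ∃ h : V ≤ V₁, rs F (i + 1) (inf_le_inf_right O h) ξ = 0 := by
  classical
  induction t using Finset.induction_on with
  | empty =>
    intro _ V₁ hV₁ O _ hO ξ _
    refine ⟨V₁, hV₁, le_rfl, ?_⟩
    apply HU_eq_zero_of_le_bot
    rw [Finset.sup_empty] at hO
    exact inf_le_right.trans hO
  | insert K t' hKt ih =>
    intro hcpt V₁ hV₁ O hOc hO ξ hξ
    rw [Finset.sup_insert] at hO
    have hcpt' : ∀ K' ∈ t', IsCompact (K' : Set X) :=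
      fun K' hK' => hcpt K' (Finset.mem_insert_of_mem hK')
    have hKc : IsCompact (K : Set X) := hcpt K (Finset.mem_insert_self K t')
    have hAc : IsCompact ((t'.sup id : Opens X) : Set X) := isCompact_finset_sup t' hcpt'
    have hPc : IsCompact ((O ⊓ t'.sup id : Opens X) : Set X) := by
      rw [Opens.coe_inf]
      exact hOc.inter_of_isOpen hAc O.isOpen (t'.sup id).isOpen
    have hQc : IsCompact ((O ⊓ K : Opens X) : Set X) := by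
      rw [Opens.coe_inf]
      exact hOc.inter_of_isOpen hKc O.isOpen K.isOpen
    have hleP : V₁ ⊓ (O ⊓ t'.sup id) ≤ V₁ ⊓ O := fun x hx => ⟨hx.1, hx.2.1⟩
    obtain ⟨V, hV, hVle, hVz⟩ := ih hcpt' V₁ hV₁ (O ⊓ t'.sup id) hPc inf_le_right
      (rs F (i + 1) hleP ξ) (by
        intro K' hK'
        rw [rs_rs]
        exact rs_zero_mono F (i + 1) _ ξ (hξ K' (Finset.mem_insert_of_mem hK')) _
          (fun x hx => ⟨⟨hx.1.1, hx.1.2.1⟩, hx.2⟩))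
    rw [rs_rs] at hVz
    have hleQ : V ⊓ (O ⊓ K) ≤ V₁ ⊓ O := fun x hx => ⟨hVle hx.1, hx.2.1⟩
    have hBz : rs F (i + 1) hleQ ξ = 0 :=
      rs_zero_mono F (i + 1) _ ξ (hξ K (Finset.mem_insert_self K t')) _
        (fun x hx => ⟨⟨hVle hx.1, hx.2.1⟩, hx.2.2⟩)
    have hsupl : (V ⊓ (O ⊓ t'.sup id)) ⊔ (V ⊓ (O ⊓ K)) ≤ V₁ ⊓ O :=
      sup_le (fun x hx => ⟨hVle hx.1, hx.2.1⟩) hleQ
    obtain ⟨η, hη⟩ := exists_delta_eq F (V ⊓ (O ⊓ t'.sup id)) (V ⊓ (O ⊓ K)) i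
      (rs F (i + 1) hsupl ξ)
      (by rw [rs_rs]; exact hVz) (by rw [rs_rs]; exact hBz)
    obtain ⟨V₂, hV₂, hV₂le, hkill⟩ := hK (O ⊓ t'.sup id) (O ⊓ K) hPc hQc V hV η
    have hnat := delta_natural F (V ⊓ (O ⊓ t'.sup id)) (V ⊓ (O ⊓ K))
      (V₂ ⊓ (O ⊓ t'.sup id)) (V₂ ⊓ (O ⊓ K)) (inf_le_inf_right _ hV₂le)
      (inf_le_inf_right _ hV₂le) i η
    rw [hη, hkill, rs_rs] at hnat
    refine ⟨V₂, hV₂, hV₂le.trans hVle, ?_⟩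
    exact rs_zero_mono F (i + 1) _ ξ hnat _ (fun x hx => by
      rcases hO hx.2 with h | h
      · exact Or.inr ⟨hx.1, hx.2, h⟩
      · exact Or.inl ⟨hx.1, hx.2, h⟩)

theorem van_succ_of_kill [QuasiSeparatedSpace X] [PrespectralSpace X] (n i : ℕ)
    (hK : ∀ 𝒱 : Set (Opens X), Fam 𝒱 → Dn n (core 𝒱) → Kill F i 𝒱) : Van F n (i + 1) := by
  intro 𝒱 h𝒱 hD V₀ hV₀ ξ
  obtain ⟨t, ht, hcov⟩ := exists_finite_cover_rs_zero F i V₀ (h𝒱.cpt V₀ hV₀) ξ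
  have hle : V₀ ⊓ V₀ ≤ V₀ := inf_le_left
  obtain ⟨V, hV, hVle, hz⟩ := cover_induct F i h𝒱 (hK 𝒱 h𝒱 hD) t (fun K hK => (ht K hK).1)
    V₀ hV₀ V₀ (h𝒱.cpt V₀ hV₀) hcov (rs F (i + 1) hle ξ) (by
      intro K hK
      obtain ⟨_, hKle, hKz⟩ := ht K hK
      rw [rs_rs]
      exact rs_zero_mono F (i + 1) hKle ξ hKz _ inf_le_right)
  rw [rs_rs] at hz
  exact ⟨V, hV, hVle, rs_zero_mono F (i + 1) _ ξ hz hVle (le_inf le_rfl hVle)⟩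

theorem main [CompactSpace X] [QuasiSober X] [QuasiSeparatedSpace X] [PrespectralSpace X]
    (n : ℕ) : (∀ p, n ≤ p → Van F n p) ∧ P2 F n := by
  induction n with
  | zero =>
    have h0 : ∀ p, 0 ≤ p → Van F 0 p := fun p _ => van_zero F p
    exact ⟨h0, stepA F 0 (h0 0 le_rfl)⟩
  | succ n ih =>
    have hv : ∀ p, n + 1 ≤ p → Van F (n + 1) p := by
      intro p hp
      induction p, hp using Nat.le_induction with
      | base =>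
        exact van_succ_of_kill F (n + 1) n (fun 𝒱 h𝒱 hD => kill_of_P2 F n ih.2 h𝒱 hD)
      | succ p hp ihp =>
        exact van_succ_of_kill F (n + 1) p
          (fun 𝒱 h𝒱 hD => kill_of_van F (n + 1) p ihp h𝒱 hD)
    exact ⟨hv, stepA F (n + 1) (hv (n + 1) le_rfl)⟩

theorem Dn_core_top (d : ℕ) (h : topologicalKrullDim X < ((d + 1 : ℕ) : WithBot ℕ∞)) :
    Dn (d + 1) (core ({⊤} : Set (Opens X))) :=
  Dn_mono (d + 1) (Set.subset_univ _) (Dn_univ_of_dim (d + 1) h)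

/-- **Scheiderer's theorem**: a spectral space of dimension `≤ d` has no cohomology above `d`. -/
theorem spectral_vanishing [SpectralSpace X] (d : ℕ) (hd : topologicalKrullDim X ≤ d) (p : ℕ)
    (hp : d < p) : Subsingleton (CohTop.H F p) := by
  have hdim : topologicalKrullDim X < ((d + 1 : ℕ) : WithBot ℕ∞) :=
    lt_of_le_of_lt hd (by exact_mod_cast Nat.lt_succ_self d)
  have hD := Dn_core_top (X := X) d hdim
  have key : ∀ ξ : CohTop.HU F p ⊤, ξ = 0 := by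
    intro ξ
    obtain ⟨V, hV, h, hz⟩ := (main F (d + 1)).1 p hp ({⊤}) fam_top hD ⊤ rfl ξ
    rw [Set.mem_singleton_iff] at hV
    subst hV
    rw [rs_self] at hz
    exact hz
  have hsub : Subsingleton (CohTop.HU F p ⊤) := ⟨fun a b => (key a).trans (key b).symm⟩
  exact @Equiv.subsingleton _ _ (Groth.Agent.H67.VanA.HT F p).symm.toEquiv hsub

/-- in the top degree, restriction to a compact open is surjective -/
theorem spectral_top_degree_surjective [SpectralSpace X] (d : ℕ)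
    (hd : topologicalKrullDim X = d) (U : Opens X) (hU : IsCompact (U : Set X)) :
    Function.Surjective (CohTop.res F d (le_top : U ≤ ⊤)) := by
  intro η
  have hdim : topologicalKrullDim X < ((d + 1 : ℕ) : WithBot ℕ∞) := by
    rw [hd]
    exact_mod_cast Nat.lt_succ_self d
  have hD := Dn_core_top (X := X) d hdim
  have hle : (⊤ : Opens X) ⊓ U ≤ U := inf_le_right
  obtain ⟨V, hV, h, ζ, hζ⟩ := (main F d).2 {⊤} fam_top hD U hU ⊤ rfl (rs F d hle η)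
  rw [Set.mem_singleton_iff] at hV
  subst hV
  refine ⟨ζ, ?_⟩
  rw [rs_rs] at hζ
  have h1 := rs_mono_eq F d _ _ ζ η hζ (le_inf le_top le_rfl : U ≤ ⊤ ⊓ U) le_top le_rfl
  rw [rs_self] at h1
  exact h1

end Groth.Agent.H67.SpecC
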