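import Mathlib
import Groth.Agent.H67.ConstIrred
import Groth.Agent.H67.Profinite

/-!
# Helper library (helper67): subsheaves of the constant sheaf `ℤ` on an irreducible space
-/

set_option autoImplicit false
universe u

open CategoryTheory CategoryTheory.Limits Opposite TopologicalSpace

namespace Groth.Agent.H67.SubConst

open Groth.Agent.H67.ConstIrred

section abstract

variable {𝒜 : Type*} [Category 𝒜] [Abelian 𝒜]

lemma imageSubobject_le_of_cokernel {A A' B : 𝒜} (f : A ⟶ B) (f' : A' ⟶ B)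
    (h : f ≫ cokernel.π f' = 0) : imageSubobject f ≤ imageSubobject f' := by
  have e : imageSubobject f' = kernelSubobject (cokernel.π f') :=
    (ShortComplex.exact_iff_image_eq_kernel
      (ShortComplex.mk f' (cokernel.π f') (cokernel.condition f'))).1
      (ShortComplex.exact_cokernel f')
  rw [e]
  apply le_kernelSubobject
  rw [← cancel_epi (factorThruImageSubobject f), ← Category.assoc, imageSubobject_arrow_comp, h,
    comp_zero]

lemma imageSubobject_eq_of_cokernel {A A' B : 𝒜} (f : A ⟶ B) (f' : A' ⟶ B)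
    (h1 : f ≫ cokernel.π f' = 0) (h2 : f' ≫ cokernel.π f = 0) :
    imageSubobject f = imageSubobject f' :=
  le_antisymm (imageSubobject_le_of_cokernel f f' h1) (imageSubobject_le_of_cokernel f' f h2)

end abstract

lemma comp_cokernel_eq_zero {Y : TopCat.{u}} {A A' B : CohTop.Ab Y} (f : A ⟶ B) (f' : A' ⟶ B)
    (h : ∀ (V : (Opens Y)ᵒᵖ) (t : A.obj.obj V), ∃ s : A'.obj.obj V,
      (f'.hom.app V).hom s = (f.hom.app V).hom t) :
    f ≫ cokernel.π f' = 0 := by
  refine Sheaf.hom_ext (NatTrans.ext (funext fun V => AddCommGrpCat.hom_ext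
    (AddMonoidHom.ext fun t => ?_)))
  obtain ⟨s, hs⟩ := h V t
  have h0 : ((cokernel.π f').hom.app V).hom ((f'.hom.app V).hom s) = 0 :=
    congrArg (fun ψ => (ψ.hom.app V).hom s) (cokernel.condition f')
  show ((cokernel.π f').hom.app V).hom ((f.hom.app V).hom t) = 0
  rw [← hs, h0]

lemma zsmul_id_app {Y : TopCat.{u}} (F : CohTop.Ab Y) (d : ℤ) (W : (Opens Y)ᵒᵖ)
    (s : F.obj.obj W) : ((d • 𝟙 F : F ⟶ F).hom.app W).hom s = d • s := by
  have h1 : (d • 𝟙 F : F ⟶ F).hom = d • (𝟙 F.obj) :=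
    (sheafToPresheaf _ _).map_zsmul
  rw [h1, NatTrans.app_zsmul, AddCommGrpCat.hom_zsmul]
  rfl

variable {X : TopCat.{u}} [IrreducibleSpace X]

abbrev ZZ : Type u := ULift.{u} ℤ

/-- the integers `n` such that the constant section `n` over `W` lies in the subsheaf -/
noncomputable def S (H : CohTop.Ab X) (ι : H ⟶ CohTop.const X ZZ) (W : Opens X) : AddSubgroup ℤ where
  carrier := {n | ∃ h : H.obj.obj (op W),
    (ι.hom.app (op W)).hom h = ((η X ZZ).app (op W)).hom (ULift.up n)}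
  zero_mem' := ⟨0, by
    rw [map_zero]
    exact (map_zero ((η X ZZ).app (op W)).hom).symm⟩
  add_mem' := by
    rintro a b ⟨h, hh⟩ ⟨k, hk⟩
    refine ⟨h + k, ?_⟩
    rw [map_add, hh, hk]
    exact (map_add ((η X ZZ).app (op W)).hom (ULift.up a) (ULift.up b)).symm
  neg_mem' := by
    rintro a ⟨h, hh⟩
    refine ⟨-h, ?_⟩
    rw [map_neg, hh]
    exact (map_neg ((η X ZZ).app (op W)).hom (ULift.up a)).symm

omit [IrreducibleSpace X] in
lemma S_mono (H : CohTop.Ab X) (ι : H ⟶ CohTop.const X ZZ) {W W' : Opens X} (hle : W' ≤ W) :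
    S H ι W ≤ S H ι W' := by
  rintro n ⟨h, hh⟩
  refine ⟨(H.obj.map (homOfLE hle).op).hom h, ?_⟩
  have nat := congrArg (fun ψ => ψ.hom h) (ι.hom.naturality (homOfLE hle).op)
  have e1 : (ι.hom.app (op W')).hom ((H.obj.map (homOfLE hle).op).hom h) =
      ((CohTop.const X ZZ).obj.map (homOfLE hle).op).hom ((ι.hom.app (op W)).hom h) := nat
  rw [e1, hh]
  exact η_natural X ZZ (homOfLE hle) (ULift.up n)

lemma key_a (H : CohTop.Ab X) (ι : H ⟶ CohTop.const X ZZ) (d : ℤ) (W : Opens X)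
    (hS : (∃ x, x ∈ W) → S H ι W = AddSubgroup.closure {d}) (t : H.obj.obj (op W)) :
    ∃ s : (CohTop.const X ZZ).obj.obj (op W), d • s = (ι.hom.app (op W)).hom t := by
  by_cases hne : ∃ x, x ∈ W
  · obtain ⟨x, hx⟩ := hne
    obtain ⟨a, ha⟩ := exists_eq_η X ZZ hx ((ι.hom.app (op W)).hom t)
    have hmem : a.down ∈ S H ι W := ⟨t, ha⟩
    rw [hS ⟨x, hx⟩, AddSubgroup.mem_closure_singleton] at hmem
    obtain ⟨m, hm⟩ := hmem
    refine ⟨((η X ZZ).app (op W)).hom (ULift.up m), ?_⟩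
    rw [ha, ← map_zsmul]
    congr 1
    apply ULift.ext
    show d * m = a.down
    rw [← hm, smul_eq_mul, mul_comm]
  · refine ⟨0, Profinite.eq_of_le_bot (CohTop.const X ZZ) (fun x hx => (hne ⟨x, hx⟩).elim) _ _⟩

lemma key_b (H : CohTop.Ab X) (ι : H ⟶ CohTop.const X ZZ) (d : ℤ) (W : Opens X)
    (hS : (∃ x, x ∈ W) → S H ι W = AddSubgroup.closure {d})
    (t : (CohTop.const X ZZ).obj.obj (op W)) :
    ∃ s : H.obj.obj (op W), (ι.hom.app (op W)).hom s = d • t := by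
  by_cases hne : ∃ x, x ∈ W
  · obtain ⟨x, hx⟩ := hne
    obtain ⟨a, ha⟩ := exists_eq_η X ZZ hx t
    have hmem : d * a.down ∈ S H ι W := by
      rw [hS ⟨x, hx⟩, AddSubgroup.mem_closure_singleton]
      exact ⟨a.down, by rw [smul_eq_mul, mul_comm]⟩
    obtain ⟨h, hh⟩ := hmem
    refine ⟨h, ?_⟩
    rw [hh, ha, ← map_zsmul]
    congr 1
  · refine ⟨0, Profinite.eq_of_le_bot (CohTop.const X ZZ) (fun x hx => (hne ⟨x, hx⟩).elim) _ _⟩

theorem main (H : CohTop.Ab X) (ι : H ⟶ CohTop.const X ZZ) [Mono ι] :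
    ∃ (U : Opens X) (d : ℤ), U ≠ ⊥ ∧
      imageSubobject ((CohTop.restrFunctor U).map ι) =
        imageSubobject ((CohTop.restrFunctor U).map (d • 𝟙 (CohTop.const X ZZ))) := by
  classical
  -- choose `U` with `S U` maximal
  let 𝒮 : Set (Submodule ℤ ℤ) :=
    {T | ∃ W : Opens X, (∃ x, x ∈ W) ∧ T = AddSubgroup.toIntSubmodule (S H ι W)}
  have h𝒮 : 𝒮.Nonempty := by
    obtain ⟨x⟩ := (inferInstance : Nonempty X)
    exact ⟨_, ⊤, ⟨x, trivial⟩, rfl⟩
  obtain ⟨T, ⟨U, hUne, rfl⟩, hmax⟩ :=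
    (wellFounded_gt : WellFounded ((· > ·) : Submodule ℤ ℤ → Submodule ℤ ℤ → Prop)).has_min 𝒮 h𝒮
  obtain ⟨d, hd⟩ := Int.subgroup_cyclic (S H ι U)
  have hSW : ∀ W : Opens X, W ≤ U → (∃ x, x ∈ W) → S H ι W = AddSubgroup.closure {d} := by
    intro W hW hWne
    rw [← hd]
    have h1 : S H ι U ≤ S H ι W := S_mono H ι hW
    have h2 : ¬ (AddSubgroup.toIntSubmodule (S H ι W) > AddSubgroup.toIntSubmodule (S H ι U)) :=
      hmax _ ⟨W, hWne, rfl⟩
    by_contra hne
    apply h2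
    have h3 : S H ι U < S H ι W := lt_of_le_of_ne h1 (fun e => hne e.symm)
    exact (AddSubgroup.toIntSubmodule.lt_iff_lt).2 h3
  have hUbot : U ≠ ⊥ := by
    rintro rfl
    obtain ⟨x, hx⟩ := hUne
    exact hx
  refine ⟨U, d, hUbot, ?_⟩
  have hle : ∀ V : (Opens (TopCat.of U))ᵒᵖ,
      (U.isOpenEmbedding.isOpenMap.functor.obj V.unop : Opens X) ≤ U := by
    rintro V x ⟨y, -, rfl⟩
    exact y.2
  refine imageSubobject_eq_of_cokernel _ _
    (comp_cokernel_eq_zero _ _ (fun V t => ?_)) (comp_cokernel_eq_zero _ _ (fun V t => ?_))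
  · obtain ⟨s, hs⟩ := key_a H ι d (U.isOpenEmbedding.isOpenMap.functor.obj V.unop)
      (hSW _ (hle V)) t
    refine ⟨s, ?_⟩
    exact (zsmul_id_app (CohTop.const X ZZ) d
      (op (U.isOpenEmbedding.isOpenMap.functor.obj V.unop)) s).trans hs
  · obtain ⟨s, hs⟩ := key_b H ι d (U.isOpenEmbedding.isOpenMap.functor.obj V.unop)
      (hSW _ (hle V)) t
    refine ⟨s, ?_⟩
    exact hs.trans (zsmul_id_app (CohTop.const X ZZ) d
      (op (U.isOpenEmbedding.isOpenMap.functor.obj V.unop)) t).symm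

end Groth.Agent.H67.SubConst
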