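import Groth.Agent.H67.SubDefs
import Groth.Agent.H67.SpecClosedAb

/-!
# Helper library (helper67): cohomology of a pro-quasi-compact-open subset of a spectral space —
definitions (for S0947 / S0884)

* `QFam W Q`: `Q` is a nonempty (downward) directed family of quasi-compact opens of `X` with
  intersection `W`;
* `IsQcFlasque G`: every section of `G` over a quasi-compact open extends to a global section.
-/

set_option autoImplicit false

universe u

open CategoryTheory TopologicalSpace Opposite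

namespace Groth.Agent.H67.Sub

/-- `Q` is a nonempty directed family of quasi-compact opens of `X` with intersection `W` -/
structure QFam {X : TopCat.{u}} (W : Set X) (Q : Opens X → Prop) : Prop where
  cpt : ∀ U, Q U → IsCompact (U : Set X)
  dir : ∀ U V, Q U → Q V → ∃ W' : Opens X, Q W' ∧ W' ≤ U ∧ W' ≤ V
  ne : ∃ U, Q U
  sub : ∀ U, Q U → W ⊆ (U : Set X)
  mem : ∀ x : X, (∀ U, Q U → x ∈ U) → x ∈ W

/-- every section over a quasi-compact open extends to a global section -/
def IsQcFlasque {Z : TopCat.{u}} (G : CohTop.Ab Z) : Prop :=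
  ∀ (V : Opens Z), IsCompact (V : Set Z) → ∀ s : G.obj.obj (op V),
    ∃ t : G.obj.obj (op (⊤ : Opens Z)), G.obj.map (homOfLE (le_top : V ≤ ⊤)).op t = s

/-- intersecting the family with a quasi-compact open -/
theorem QFam.inter {X : TopCat.{u}} [QuasiSeparatedSpace X] {W : Set X} {Q : Opens X → Prop}
    (h : QFam W Q) (O : Opens X) (hO : IsCompact (O : Set X)) :
    QFam (W ∩ (O : Set X)) (fun U' => ∃ U, Q U ∧ U' = U ⊓ O) where
  cpt := by
    rintro _ ⟨U, hU, rfl⟩
    exact QuasiSeparatedSpace.inter_isCompact _ _ U.2 (h.cpt U hU) O.2 hO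
  dir := by
    rintro _ _ ⟨U, hU, rfl⟩ ⟨V, hV, rfl⟩
    obtain ⟨W', hW', h1, h2⟩ := h.dir U V hU hV
    exact ⟨W' ⊓ O, ⟨W', hW', rfl⟩, inf_le_inf_right O h1, inf_le_inf_right O h2⟩
  ne := by
    obtain ⟨U, hU⟩ := h.ne
    exact ⟨U ⊓ O, U, hU, rfl⟩
  sub := by
    rintro _ ⟨U, hU, rfl⟩ x hx
    exact ⟨h.sub U hU hx.1, hx.2⟩
  mem := by
    intro x hx
    obtain ⟨U₀, hU₀⟩ := h.ne
    refine ⟨h.mem x (fun U hU => (hx (U ⊓ O) ⟨U, hU, rfl⟩).1), (hx (U₀ ⊓ O) ⟨U₀, hU₀, rfl⟩).2⟩

end Groth.Agent.H67.Sub
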