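import Groth.Agent.H67.SubT

/-!
# Helper library (helper67): sections over a pro-quasi-compact-open subset `W = ⋂ Q` of a spectral
space extend to a member of `Q` (piece (REP) for S0947 / S0884)
-/

set_option autoImplicit false

universe u

open CategoryTheory TopologicalSpace Opposite
open Groth.Agent.H67.Sub Groth.Agent.H67.SpecClosedAb
open Groth.Agent.H64.Sub_K (exists_inter_subset)
open Groth.Agent.H67.SubT (isCompact_W)

namespace Groth.Agent.H67.SubRep

variable {X : TopCat.{u}} [SpectralSpace X] {W : Set X} {Q : Opens X → Prop}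

theorem exists_rep_spectral (h : QFam W Q) {F P : TopCat.Sheaf AddCommGrpCat.{u} X} (η : F ⟶ P)
    (hA : HA η W) (hB : HB η W) (t : P.1.obj (op ⊤)) :
    ∃ U : Opens X, Q U ∧ ∃ s, Rep η t U s := by
  classical
  -- local representatives on quasi-compact opens
  have hloc : ∀ z : W, ∃ (O : Opens X) (s : F.1.obj (op O)), z.1 ∈ O ∧ IsCompact (O : Set X) ∧
      Rep η t O s := by
    intro z
    obtain ⟨U, hUV, hzU, s, hs⟩ := hB z.1 z.2 ⊤ trivial t
    obtain ⟨O, ⟨hOo, hOc⟩, hzO, hOU⟩ :=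
      PrespectralSpace.isTopologicalBasis.exists_subset_of_mem_open
        (show z.1 ∈ (U : Set X) from hzU) U.2
    have hle : (⟨O, hOo⟩ : Opens X) ≤ U := fun x hx => hOU hx
    have hs' : Rep η t U s := hs
    exact ⟨⟨O, hOo⟩, F.1.map (homOfLE hle).op s, hzO, hOc, hs'.restrict hle⟩
  choose O s hzO hOc hrep using hloc
  -- finite subcover
  obtain ⟨T, hT⟩ := (isCompact_W h).elim_finite_subcover (fun z : W => ((O z : Opens X) : Set X))
    (fun z => (O z).2) (fun x hx => Set.mem_iUnion.2 ⟨⟨x, hx⟩, hzO ⟨x, hx⟩⟩)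
  -- induction on the finite set of indices
  have key : ∀ J : Finset W, IsCompact ((J.sup O : Opens X) : Set X) ∧
      ∃ U : Opens X, Q U ∧ ∃ σ : F.1.obj (op (U ⊓ J.sup O)), Rep η t (U ⊓ J.sup O) σ := by
    intro J
    induction J using Finset.induction_on with
    | empty =>
      refine ⟨?_, ?_⟩
      · rw [Finset.sup_empty, Opens.coe_bot]
        exact isCompact_empty
      · obtain ⟨U, hU⟩ := h.ne
        refine ⟨U, hU, 0, ?_⟩
        have hle : U ⊓ (∅ : Finset W).sup O ≤ ⊥ := by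
          rw [Finset.sup_empty]
          exact inf_le_right
        exact P.eq_of_locally_eq' (ι := PEmpty.{1}) (fun e => e.elim) _ (fun e => e.elim)
          (hle.trans bot_le) _ _ (fun e => e.elim)
    | insert k J hk ih =>
      obtain ⟨cJ, U, hU, σ, hσ⟩ := ih
      have hsup : (insert k J).sup O = O k ⊔ J.sup O := Finset.sup_insert
      have cJ' : IsCompact (((insert k J).sup O : Opens X) : Set X) := by
        rw [hsup, Opens.coe_sup]
        exact (hOc k).union cJ
      refine ⟨cJ', ?_⟩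
      have hEo := isOpen_agree σ (s k)
      have hWE : W ∩ (((J.sup O : Opens X) : Set X) ∩ ((O k : Opens X) : Set X)) ⊆
          agree σ (s k) := by
        rintro x ⟨hxW, hxJ, hxk⟩
        have hxU : x ∈ U ⊓ J.sup O := ⟨h.sub U hU hxW, hxJ⟩
        exact ⟨hxU, hxk, germ_eq_of_rep hA hσ (hrep k) hxW hxU hxk⟩
      obtain ⟨U', hU', hU'E⟩ := exists_inter_subset h
        (((J.sup O : Opens X) : Set X) ∩ ((O k : Opens X) : Set X)) (agree σ (s k))
        (IsOpen.inter (J.sup O).2 (O k).2)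
        (QuasiSeparatedSpace.inter_isCompact _ _ (J.sup O).2 cJ (O k).2 (hOc k)) hEo hWE
      obtain ⟨U'', hU'', h1, h2⟩ := h.dir U U' hU hU'
      let V₁ : Opens X := U'' ⊓ J.sup O
      let V₂ : Opens X := U'' ⊓ O k
      have hV₁ : V₁ ≤ U ⊓ J.sup O := inf_le_inf_right _ h1
      have hV₂ : V₂ ≤ O k := inf_le_right
      have hagree : F.1.map (homOfLE (inf_le_left : V₁ ⊓ V₂ ≤ V₁)).op
          (F.1.map (homOfLE hV₁).op σ) =
          F.1.map (homOfLE (inf_le_right : V₁ ⊓ V₂ ≤ V₂)).op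
            (F.1.map (homOfLE hV₂).op (s k)) := by
        apply TopCat.Presheaf.section_ext F
        rintro x ⟨⟨hx₁, hx₁'⟩, ⟨hx₂, hx₂'⟩⟩
        have hxE : x ∈ agree σ (s k) := hU'E ⟨h2 hx₁, hx₁', hx₂'⟩
        obtain ⟨_, _, e⟩ := hxE
        rw [TopCat.Presheaf.germ_res_apply, TopCat.Presheaf.germ_res_apply,
          TopCat.Presheaf.germ_res_apply, TopCat.Presheaf.germ_res_apply]
        exact e
      obtain ⟨σ', hσ'⟩ := Rep.glue (hσ.restrict hV₁) ((hrep k).restrict hV₂) hagree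
      have hEq : U'' ⊓ (insert k J).sup O ≤ V₁ ⊔ V₂ := by
        rw [hsup]
        rintro x ⟨hxU, hx | hx⟩
        · exact Or.inr ⟨hxU, hx⟩
        · exact Or.inl ⟨hxU, hx⟩
      exact ⟨U'', hU'', F.1.map (homOfLE hEq).op σ', hσ'.restrict hEq⟩
  obtain ⟨-, U, hU, σ, hσ⟩ := key T
  have hWT : W ⊆ ((T.sup O : Opens X) : Set X) := by
    intro x hx
    obtain ⟨z, hzT, hxz⟩ := Set.mem_iUnion₂.1 (hT hx)
    exact (Finset.le_sup (f := O) hzT : O z ≤ T.sup O) hxz
  obtain ⟨U', hU', hU'T⟩ := exists_inter_subset h Set.univ ((T.sup O : Opens X) : Set X)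
    isOpen_univ isCompact_univ (T.sup O).2 (fun x hx => hWT hx.1)
  obtain ⟨U'', hU'', h1, h2⟩ := h.dir U U' hU hU'
  have hle : U'' ≤ U ⊓ T.sup O := le_inf h1 (fun x hx => hU'T ⟨h2 hx, trivial⟩)
  exact ⟨U'', hU'', F.1.map (homOfLE hle).op σ, hσ.restrict hle⟩

end Groth.Agent.H67.SubRep
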