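import Groth.Agent.H67.SubMain
import Groth.Agent.H67.SubDefs2
import Groth.Agent.H64.Sub_QF4
import Groth.Agent.H67.SubRep
import Groth.Agent.H64.Sub_QF
import Groth.Agent.S0461
import Groth.Agent.H64.Sub_STK
import Groth.Agent.H64.Sub_GLUE2

/-!
# Helper library (helper67): cohomology of a pro-quasi-compact-open subset of a spectral space
(S0947, S0884)
-/

set_option autoImplicit false

universe u

open CategoryTheory CategoryTheory.Limits TopologicalSpace Opposite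
open Groth.Agent.H42.CohTopLib Groth.Agent.H45.CohTopPush Groth.Agent.H67.Sub
open Groth.Agent.H67.SpecClosedAb
open Groth.Agent.H67.SubTop
open Groth.Agent.H64.Sub_K (exists_inter_subset)
open Groth.Agent.H67.SubT (compactSpace_of quasiSeparatedSpace_of prespectralSpace_of)
open Groth.Agent.H67.SubRep (exists_rep_spectral)
open Groth.Agent.H64.Sub_QF (subsingleton_H_of_isQcFlasque)

namespace Groth.Agent.H67.SubSpec

section

variable {X : TopCat.{u}} [SpectralSpace X] {W : Set X} {Q : Opens X → Prop}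

/-- (QF4), closed form -/
theorem isQcFlasque_pull_of_injective (h : QFam W Q) (I : CohTop.Ab X) [Injective I] :
    IsQcFlasque ((CohTop.pull (incl W)).obj I) := by
  have hREP : Groth.Agent.H64.Sub_QF4.REPStmt X := by
    intro W' Q' hq F P η hA hB t
    exact exists_rep_spectral hq η hA hB t
  exact Groth.Agent.H64.Sub_QF4.isQcFlasque_pull_of_injective_of_rep hREP h I

theorem cofinal (h : QFam W Q) (A : Opens X) (hA : W ⊆ (A : Set X)) : ∃ U, Q U ∧ U ≤ A := by
  obtain ⟨U, hU, hUA⟩ := exists_inter_subset h Set.univ (A : Set X) isOpen_univ isCompact_univ A.2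
    (fun x hx => hA hx.1)
  exact ⟨U, hU, fun x hx => hUA ⟨hx, trivial⟩⟩

theorem H0q_surj (h : QFam W Q) (F : CohTop.Ab X)
    (t : ((CohTop.pull (incl W)).obj F).obj.obj (op (⊤ : Opens (TopCat.of W)))) :
    ∃ (U : Opens X) (hU : Q U) (s : F.obj.obj (op U)), r W F U (h.sub U hU) s = t := by
  have hA := HA_unit (incl W) (pullPushAdj (incl W)) F
  have hB := HB_unit (incl W) (pullPushAdj (incl W)) F Topology.IsInducing.subtypeVal
  rw [range_incl] at hA hB
  obtain ⟨U, hU, s, hs⟩ := exists_rep_spectral h _ hA hB t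
  have hWU := h.sub U hU
  refine ⟨U, hU, s, ?_⟩
  have hle' : (Opens.map (incl W)).obj U ≤ (⊤ : Opens (TopCat.of W)) := le_top
  have key : ((CohTop.pull (incl W)).obj F).obj.map (homOfLE (top_le_map W U hWU)).op
      (((CohTop.pull (incl W)).obj F).obj.map (homOfLE hle').op t) = t := by
    rw [map_map_eq _ _ _ (𝟙 _), CategoryTheory.Functor.map_id]
    rfl
  have hs' : ((pullPushAdj (incl W)).unit.app F).hom.app (op U) s =
      ((CohTop.pull (incl W)).obj F).obj.map (homOfLE hle').op t := hs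
  show ((CohTop.pull (incl W)).obj F).obj.map (homOfLE (top_le_map W U hWU)).op
    (((pullPushAdj (incl W)).unit.app F).hom.app (op U) s) = t
  rw [hs']
  exact key

/-- the comparison maps for a directed family `Q'` of open neighbourhoods of `W` containing a
directed family `Q` of quasi-compact opens with intersection `W` -/
theorem exists_comparison_spectral (h : QFam W Q) (Q' : Opens X → Prop)
    (hQQ' : ∀ U, Q U → Q' U) (hQ'W : ∀ U, Q' U → W ⊆ (U : Set X))
    (hdir' : ∀ U V, Q' U → Q' V → ∃ W', Q' W' ∧ W' ≤ U ∧ W' ≤ V)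
    (F : CohTop.Ab X) (p : ℕ) :
    ∃ a : ∀ U : Opens X, Q' U → (CohTop.HU F p U →+ CohTop.H ((CohTop.pull (incl W)).obj F) p),
      (∀ (U V : Opens X) (hU : Q' U) (hV : Q' V) (h : V ≤ U) (ξ : CohTop.HU F p U),
        a V hV (CohTop.res F p h ξ) = a U hU ξ) ∧
      (∀ g : CohTop.H ((CohTop.pull (incl W)).obj F) p,
        ∃ (U : Opens X) (hU : Q' U) (ξ : CohTop.HU F p U), a U hU ξ = g) ∧
      (∀ (U : Opens X) (hU : Q' U) (ξ : CohTop.HU F p U), a U hU ξ = 0 →
        ∃ (V : Opens X) (_ : Q' V) (h : V ≤ U), CohTop.res F p h ξ = 0) := by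
  refine exists_comparison W Q' hQ'W hdir' ?_ ?_ ?_ F p
  · intro G t
    obtain ⟨U, hU, s, hs⟩ := H0q_surj h G t
    exact ⟨U, hQQ' U hU, s, hs⟩
  · intro G U hU s hs
    obtain ⟨V, hWV, hVU, hz⟩ := H0c_inj W G U (hQ'W U hU) s hs
    obtain ⟨V', hV', hV'V⟩ := cofinal h V hWV
    obtain ⟨V'', hV'', h1, h2⟩ := hdir' V' U (hQQ' V' hV') hU
    refine ⟨V'', hV'', h2, ?_⟩
    have h3 := congrArg (G.obj.map (homOfLE (h1.trans hV'V)).op) hz
    rw [map_zero, map_map_eq _ _ _ (homOfLE h2).op] at h3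
    exact h3
  · intro I _ n
    haveI : CompactSpace (TopCat.of W) := compactSpace_of h
    haveI : QuasiSeparatedSpace (TopCat.of W) := quasiSeparatedSpace_of h
    haveI : PrespectralSpace (TopCat.of W) := prespectralSpace_of h
    exact subsingleton_H_of_isQcFlasque _ (isQcFlasque_pull_of_injective h I) n

theorem qfam947 (E : Set X) (hE : IsCompact E) :
    QFam {x : X | ∃ e ∈ E, e ∈ closure {x}}
      (fun U : Opens X => E ⊆ (U : Set X) ∧ IsCompact (U : Set X)) where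
  cpt := fun U hU => hU.2
  dir := by
    rintro U V ⟨hEU, hUc⟩ ⟨hEV, hVc⟩
    refine ⟨U ⊓ V, ⟨?_, ?_⟩, inf_le_left, inf_le_right⟩
    · rw [Opens.coe_inf]
      exact Set.subset_inter hEU hEV
    · rw [Opens.coe_inf]
      exact QuasiSeparatedSpace.inter_isCompact _ _ U.2 hUc V.2 hVc
  ne := ⟨⊤, fun _ _ => trivial, by rw [Opens.coe_top]; exact isCompact_univ⟩
  sub := by
    rintro U ⟨hEU, -⟩ x ⟨e, heE, hex⟩
    by_contra hxU
    have hcl : closure {x} ⊆ (U : Set X)ᶜ :=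
      closure_minimal (Set.singleton_subset_iff.2 hxU) U.2.isClosed_compl
    exact hcl hex (hEU heE)
  mem := by
    intro x hx
    by_contra hne
    have hsub : E ⊆ (closure {x})ᶜ := by
      intro e he hex
      exact hne ⟨e, he, hex⟩
    obtain ⟨O, hOc, hOo, hEO, hOsub⟩ := PrespectralSpace.exists_isCompact_and_isOpen_between hE
      isClosed_closure.isOpen_compl hsub
    have hxO : x ∈ (⟨O, hOo⟩ : Opens X) := hx ⟨O, hOo⟩ ⟨hEO, hOc⟩
    exact hOsub hxO (subset_closure (Set.mem_singleton x))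

/-- S0947 -/
theorem main947 (E : Set X) (hE : IsCompact E) (F : CohTop.Ab X) (p : ℕ) :
    Nonempty ((colimit (ObjectProperty.ι (fun U : (Opens X)ᵒᵖ =>
        E ⊆ (U.unop : Set X) ∧ IsCompact (U.unop : Set X)) ⋙
        (Sheaf.cohomologyPresheafFunctor (Opens.grothendieckTopology X) p).obj F) :
          AddCommGrpCat.{u}) ≃+
      CohTop.H ((CohTop.pull (incl {x : X | ∃ e ∈ E, e ∈ closure {x}})).obj F) p) := by
  have h := qfam947 E hE
  obtain ⟨a, hc, hs, hi⟩ := exists_comparison_spectral h _ (fun U hU => hU) h.sub h.dir F p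
  exact Groth.Agent.H64.Sub_GLUE.nonempty_colimit_addEquiv
    (fun U : Opens X => E ⊆ (U : Set X) ∧ IsCompact (U : Set X)) h.ne h.dir F p _ a hc hs hi

end

/-- S0884 -/
theorem main884 {X Y : TopCat.{u}} [SpectralSpace X] [SpectralSpace Y]
    (f : X ⟶ Y) (hf : IsSpectralMap f) (y : Y) (F : CohTop.Ab X) (p : ℕ) :
    Nonempty (CohTop.stalk ((CohTop.Rpush f p).obj F) y ≅
      AddCommGrpCat.of (CohTop.H ((CohTop.pull (incl {x : X | y ∈ closure {f x}})).obj F) p)) := by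
  classical
  let W : Set X := {x : X | y ∈ closure {f x}}
  let Q : Opens X → Prop := fun U =>
    ∃ V : Opens Y, y ∈ V ∧ IsCompact (V : Set Y) ∧ U = (Opens.map f).obj V
  let Q' : Opens X → Prop := fun U => ∃ V : Opens Y, y ∈ V ∧ U = (Opens.map f).obj V
  have hQ'W : ∀ U, Q' U → W ⊆ (U : Set X) := by
    rintro _ ⟨V, hyV, rfl⟩ x hx
    show f x ∈ V
    by_contra hfx
    have hcl : closure {f x} ⊆ (V : Set Y)ᶜ :=
      closure_minimal (Set.singleton_subset_iff.2 hfx) V.2.isClosed_compl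
    exact hcl hx hyV
  have hQQ' : ∀ U, Q U → Q' U := by
    rintro _ ⟨V, hyV, -, rfl⟩
    exact ⟨V, hyV, rfl⟩
  have h : QFam W Q :=
    { cpt := by
        rintro _ ⟨V, hyV, hVc, rfl⟩
        exact hf.isCompact_preimage_of_isOpen V.2 hVc
      dir := by
        rintro _ _ ⟨V₁, h₁, c₁, rfl⟩ ⟨V₂, h₂, c₂, rfl⟩
        refine ⟨(Opens.map f).obj (V₁ ⊓ V₂), ⟨V₁ ⊓ V₂, ⟨h₁, h₂⟩, ?_, rfl⟩,
          fun x hx => hx.1, fun x hx => hx.2⟩
        rw [Opens.coe_inf]
        exact QuasiSeparatedSpace.inter_isCompact _ _ V₁.2 c₁ V₂.2 c₂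
      ne := ⟨(Opens.map f).obj ⊤, ⊤, trivial, by rw [Opens.coe_top]; exact isCompact_univ, rfl⟩
      sub := fun U hU => hQ'W U (hQQ' U hU)
      mem := by
        intro x hx
        show y ∈ closure {f x}
        by_contra hy
        obtain ⟨O, ⟨hOo, hOc⟩, hyO, hOsub⟩ :=
          PrespectralSpace.isTopologicalBasis.exists_subset_of_mem_open
            (show y ∈ (closure {f x})ᶜ from hy) isClosed_closure.isOpen_compl
        have hxO : x ∈ (Opens.map f).obj ⟨O, hOo⟩ := hx _ ⟨⟨O, hOo⟩, hyO, hOc, rfl⟩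
        exact hOsub hxO (subset_closure (Set.mem_singleton (f x))) }
  have hdir' : ∀ U V, Q' U → Q' V → ∃ W', Q' W' ∧ W' ≤ U ∧ W' ≤ V := by
    rintro _ _ ⟨V₁, h₁, rfl⟩ ⟨V₂, h₂, rfl⟩
    exact ⟨(Opens.map f).obj (V₁ ⊓ V₂), ⟨V₁ ⊓ V₂, ⟨h₁, h₂⟩, rfl⟩,
      fun x hx => hx.1, fun x hx => hx.2⟩
  obtain ⟨a, hc, hsj, hij⟩ := exists_comparison_spectral h Q' hQQ' hQ'W hdir' F p
  let P : (Opens Y)ᵒᵖ ⥤ AddCommGrpCat.{u} := (Opens.map f).op ⋙ Sheaf.cohomologyPresheaf.{u} F p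
  obtain ⟨e1⟩ := Groth.Agent.S0461.result f F p
  obtain ⟨e2⟩ := Groth.Agent.H64.Sub_STK.nonempty_stalk_sheafify_iso P y
  obtain ⟨e3⟩ := Groth.Agent.H64.Sub_GLUE2.nonempty_stalk_iso P y
    (CohTop.H ((CohTop.pull (Groth.Agent.H67.Sub.incl W)).obj F) p)
    (fun V hV => a ((Opens.map f).obj V) ⟨V, hV, rfl⟩)
    (fun V V' hV hV' h ξ => hc ((Opens.map f).obj V) ((Opens.map f).obj V') ⟨V, hV, rfl⟩
      ⟨V', hV', rfl⟩ (fun x hx => h hx) ξ)
    (fun g => by
      obtain ⟨U, ⟨V, hV, rfl⟩, ξ, hξ⟩ := hsj g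
      exact ⟨V, hV, ξ, hξ⟩)
    (fun V hV ξ hξ => by
      obtain ⟨U, ⟨V', hV', rfl⟩, h, hz⟩ := hij ((Opens.map f).obj V) ⟨V, hV, rfl⟩ ξ hξ
      refine ⟨V ⊓ V', ⟨hV, hV'⟩, inf_le_left, ?_⟩
      have h1 := congrArg (CohTop.res F p (fun x hx => hx.2 :
        (Opens.map f).obj (V ⊓ V') ≤ (Opens.map f).obj V')) hz
      rw [map_zero] at h1
      rw [← h1]
      exact (Groth.Agent.H67.SpecClosedAb.map_map_eq (Sheaf.cohomologyPresheaf.{u} F p)
        _ _ _ ξ).symm)
  exact ⟨(TopCat.Presheaf.stalkFunctor AddCommGrpCat.{u} y).mapIso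
    ((sheafToPresheaf _ _).mapIso e1) ≪≫ e2 ≪≫ e3⟩

end Groth.Agent.H67.SubSpec
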