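import Groth.Agent.H67.SubDefs2
import Groth.Agent.H64.Sub_K

/-!
# Helper library (helper67): topology of a pro-quasi-compact-open subset `W = ⋂ Q` of a spectral
space (piece (T) for S0947 / S0884): `W` is quasi-compact, quasi-separated and prespectral.
-/

set_option autoImplicit false

universe u

open CategoryTheory TopologicalSpace Opposite
open Groth.Agent.H67.Sub
open Groth.Agent.H64.Sub_K (exists_inter_subset)

namespace Groth.Agent.H67.SubT

variable {X : TopCat.{u}} [SpectralSpace X] {W : Set X} {Q : Opens X → Prop}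

theorem isCompact_inter (h : QFam W Q) (B : Set X) (hBo : IsOpen B) (hBc : IsCompact B) :
    IsCompact (W ∩ B) := by
  rw [isCompact_iff_finite_subcover]
  intro ι' Uc hUo hcov
  obtain ⟨U, hU, hUB⟩ := exists_inter_subset h B (⋃ i, Uc i) hBo hBc (isOpen_iUnion hUo) hcov
  have hc : IsCompact ((U : Set X) ∩ B) :=
    QuasiSeparatedSpace.inter_isCompact _ _ U.2 (h.cpt U hU) hBo hBc
  obtain ⟨t, ht⟩ := hc.elim_finite_subcover Uc hUo hUB
  exact ⟨t, fun x hx => ht ⟨h.sub U hU hx.1, hx.2⟩⟩

theorem isCompact_W (h : QFam W Q) : IsCompact W := by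
  have h1 := isCompact_inter h Set.univ isOpen_univ isCompact_univ
  rwa [Set.inter_univ] at h1

theorem compactSpace_of (h : QFam W Q) : CompactSpace (TopCat.of W) :=
  (isCompact_iff_compactSpace.mp (isCompact_W h) : CompactSpace W)

omit [SpectralSpace X] in
theorem image_preimage_val (s : Set X) :
    Subtype.val '' (Subtype.val ⁻¹' s : Set W) = W ∩ s := by
  ext x
  constructor
  · rintro ⟨y, hy, rfl⟩
    exact ⟨y.2, hy⟩
  · rintro ⟨hxW, hxs⟩
    exact ⟨⟨x, hxW⟩, hxs, rfl⟩

/-- quasi-compact opens of `W` are traces of quasi-compact opens of `X` -/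
theorem exists_qc_open (V : Set W) (hVo : IsOpen V) (hVc : IsCompact V) :
    ∃ O : Set X, IsOpen O ∧ IsCompact O ∧ Subtype.val ⁻¹' O = V := by
  obtain ⟨O₀, hO₀, rfl⟩ := isOpen_induced_iff.mp hVo
  have hc : IsCompact (Subtype.val '' (Subtype.val ⁻¹' O₀ : Set W)) :=
    hVc.image continuous_subtype_val
  obtain ⟨O, hOc, hOo, h1, h2⟩ := PrespectralSpace.exists_isCompact_and_isOpen_between hc hO₀ (by
    rintro _ ⟨x, hx, rfl⟩
    exact hx)
  refine ⟨O, hOo, hOc, ?_⟩
  ext x
  constructor
  · intro hx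
    exact h2 hx
  · intro hx
    exact h1 ⟨x, hx, rfl⟩

theorem quasiSeparatedSpace_of (h : QFam W Q) : QuasiSeparatedSpace (TopCat.of W) := by
  show QuasiSeparatedSpace W
  rw [quasiSeparatedSpace_iff]
  intro U V hUo hUc hVo hVc
  obtain ⟨O₁, h1o, h1c, rfl⟩ := exists_qc_open U hUo hUc
  obtain ⟨O₂, h2o, h2c, rfl⟩ := exists_qc_open V hVo hVc
  rw [Subtype.isCompact_iff, ← Set.preimage_inter, image_preimage_val]
  exact isCompact_inter h (O₁ ∩ O₂) (h1o.inter h2o)
    (QuasiSeparatedSpace.inter_isCompact _ _ h1o h1c h2o h2c)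

theorem prespectralSpace_of (h : QFam W Q) : PrespectralSpace (TopCat.of W) := by
  show PrespectralSpace W
  refine PrespectralSpace.of_isInducing (Subtype.val : W → X) Topology.IsInducing.subtypeVal
    ⟨continuous_subtype_val, ?_⟩
  intro s hso hsc
  rw [Subtype.isCompact_iff, image_preimage_val]
  exact isCompact_inter h s hso hsc

end Groth.Agent.H67.SubT
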