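import Mathlib

/-!
# Helper library (helper67): localization at a subterminal object `U` of a site:
`j_!` is fully faithful (unit iso), through the adjoint triple `j_! ⊣ j^* ⊣ j_*`.
-/

set_option autoImplicit false
universe w' w v u

open CategoryTheory CategoryTheory.Limits Opposite

namespace Groth.Agent.H67.Subterm

variable {C : Type u} [Category.{v} C] (J : GrothendieckTopology C) (U : C)
  (hU : ∀ V : C, Subsingleton (V ⟶ U))

include hU in
lemma full_forget : (Over.forget U).Full where
  map_surjective {A B} f := ⟨Over.homMk f ((hU _).elim _ _), rfl⟩

variable (A : Type w) [Category.{w'} A]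

include hU in
theorem isIso_unit [HasWeakSheafify J A]
    [∀ (P : (Over U)ᵒᵖ ⥤ A), (Over.forget U).op.HasLeftKanExtension P]
    [∀ (P : (Over U)ᵒᵖ ⥤ A), (Over.forget U).op.HasPointwiseRightKanExtension P]
    (F : Sheaf (J.over U) A) :
    IsIso (((Over.forget U).sheafAdjunctionContinuous A (J.over U) J).unit.app F) := by
  haveI := full_forget U hU
  let t : Adjunction.Triple ((Over.forget U).sheafPullback A (J.over U) J)
      ((Over.forget U).sheafPushforwardContinuous A (J.over U) J)
      ((Over.forget U).sheafPushforwardCocontinuous A (J.over U) J) :=
    ⟨(Over.forget U).sheafAdjunctionContinuous A (J.over U) J,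
      (Over.forget U).sheafAdjunctionCocontinuous A (J.over U) J⟩
  haveI : IsIso t.adj₂.counit := by
    apply (config := {allowSynthFailures := true}) NatIso.isIso_of_isIso_app
    intro G
    apply (config := {allowSynthFailures := true})
      Functor.ReflectsIsomorphisms.reflects (sheafToPresheaf (J.over U) A)
    show IsIso (((Over.forget U).sheafAdjunctionCocontinuous A (J.over U) J).counit.app G).hom
    rw [Functor.sheafAdjunctionCocontinuous_counit_app_hom]
    have h : IsIso (((Over.forget U).op.ranAdjunction A).counit.app G.obj) := inferInstance
    exact h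
  haveI : IsIso t.adj₁.unit := t.isIso_unit_iff_isIso_counit.2 inferInstance
  exact inferInstanceAs (IsIso (t.adj₁.unit.app F))

end Groth.Agent.H67.Subterm
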