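import Mathlib

/-!
# Helper library (helper67): lifting elements through limits of towers of abelian groups
-/

set_option autoImplicit false
universe u

open CategoryTheory CategoryTheory.Limits Opposite

namespace Groth.Agent.H67.Tower

lemma compat_nat (G : ℕᵒᵖ ⥤ AddCommGrpCat.{u}) (a : ∀ n : ℕ, G.obj (op n))
    (h : ∀ n, (G.map (homOfLE (Nat.le_succ n)).op).hom (a (n + 1)) = a n)
    (m n : ℕ) (hmn : m ≤ n) : (G.map (homOfLE hmn).op).hom (a n) = a m := by
  induction n, hmn using Nat.le_induction with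
  | base =>
    have e : (homOfLE (le_refl m)).op = 𝟙 (op m) := Quiver.Hom.unop_inj (Subsingleton.elim _ _)
    rw [e, G.map_id]
    rfl
  | succ n hmn ih =>
    have e : (homOfLE (hmn.trans (Nat.le_succ n))).op =
        (homOfLE (Nat.le_succ n)).op ≫ (homOfLE hmn).op :=
      Quiver.Hom.unop_inj (Subsingleton.elim _ _)
    have e' : (G.map (homOfLE (hmn.trans (Nat.le_succ n))).op).hom (a (n + 1)) =
        (G.map (homOfLE hmn).op).hom ((G.map (homOfLE (Nat.le_succ n)).op).hom (a (n + 1))) := by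
      rw [e, G.map_comp]
      rfl
    exact e'.trans ((congrArg (fun z => (G.map (homOfLE hmn).op).hom z) (h n)).trans ih)

lemma compat_of_succ (G : ℕᵒᵖ ⥤ AddCommGrpCat.{u}) (a : ∀ n : ℕ, G.obj (op n))
    (h : ∀ n, (G.map (homOfLE (Nat.le_succ n)).op).hom (a (n + 1)) = a n)
    {j j' : ℕᵒᵖ} (f : j ⟶ j') : (G.map f).hom (a j.unop) = a j'.unop := by
  have hle : j'.unop ≤ j.unop := leOfHom f.unop
  have e : f = (homOfLE hle).op := Quiver.Hom.unop_inj (Subsingleton.elim _ _)
  rw [e]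
  exact compat_nat G a h _ _ hle

theorem exists_lift {A B : ℕᵒᵖ ⥤ AddCommGrpCat.{u}} (φ : A ⟶ B)
    (h0 : Function.Surjective (φ.app (op 0)).hom)
    (hstep : ∀ (n : ℕ) (a : A.obj (op n)) (b : B.obj (op (n + 1))),
      (φ.app (op n)).hom a = (B.map (homOfLE (Nat.le_succ n)).op).hom b →
      ∃ a' : A.obj (op (n + 1)), (A.map (homOfLE (Nat.le_succ n)).op).hom a' = a ∧
        (φ.app (op (n + 1))).hom a' = b)
    {cA : Cone A} (hA : IsLimit cA) (cB : Cone B) (y : cB.pt) :
    ∃ x : cA.pt, ∀ n : ℕ,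
      (φ.app (op n)).hom ((cA.π.app (op n)).hom x) = (cB.π.app (op n)).hom y := by
  classical
  let yn : ∀ n : ℕ, B.obj (op n) := fun n => (cB.π.app (op n)).hom y
  have hy : ∀ n, (B.map (homOfLE (Nat.le_succ n)).op).hom (yn (n + 1)) = yn n := fun n =>
    congrArg (fun ψ => ψ.hom y) (cB.w (homOfLE (Nat.le_succ n)).op)
  let F : ∀ n : ℕ, {a : A.obj (op n) // (φ.app (op n)).hom a = yn n} := fun n =>
    Nat.rec (motive := fun n => {a : A.obj (op n) // (φ.app (op n)).hom a = yn n})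
      ⟨(h0 (yn 0)).choose, (h0 (yn 0)).choose_spec⟩
      (fun n p => ⟨(hstep n p.1 (yn (n + 1)) (p.2.trans (hy n).symm)).choose,
        (hstep n p.1 (yn (n + 1)) (p.2.trans (hy n).symm)).choose_spec.2⟩) n
  have hF : ∀ n, (A.map (homOfLE (Nat.le_succ n)).op).hom (F (n + 1)).1 = (F n).1 := fun n =>
    (hstep n (F n).1 (yn (n + 1)) ((F n).2.trans (hy n).symm)).choose_spec.1
  let s : (A ⋙ forget AddCommGrpCat.{u}).sections :=
    ⟨fun j => (F j.unop).1, fun {j j'} f => compat_of_succ A (fun n => (F n).1) hF f⟩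
  let x := (Types.isLimitEquivSections (isLimitOfPreserves (forget AddCommGrpCat.{u}) hA)).symm s
  refine ⟨x, fun n => ?_⟩
  have hx : (cA.π.app (op n)).hom x = (F n).1 :=
    Types.isLimitEquivSections_symm_apply
      (isLimitOfPreserves (forget AddCommGrpCat.{u}) hA) s (op n)
  rw [hx]
  exact (F n).2

end Groth.Agent.H67.Tower
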