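import Mathlib
import Groth.Agent.H67.Tower

/-!
# Helper library (helper67): flasque towers of abelian sheaves on a space
-/

set_option autoImplicit false
universe u

open CategoryTheory CategoryTheory.Limits TopologicalSpace Opposite

namespace Groth.Agent.H67.TowerSh

variable {X : TopCat.{u}}

abbrev ShAb (X : TopCat.{u}) : Type (u + 1) :=
  Sheaf (Opens.grothendieckTopology X) AddCommGrpCat.{u}

noncomputable abbrev Γ (U : (Opens X)ᵒᵖ) : ShAb X ⥤ AddCommGrpCat.{u} :=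
  sheafToPresheaf _ _ ⋙ (evaluation _ _).obj U

lemma surj_of_shortExact {S : ShortComplex (ShAb X)} (hS : S.ShortExact)
    (h1 : TopCat.Sheaf.IsFlasque S.X₁) (U : (Opens X)ᵒᵖ) :
    Function.Surjective (S.g.hom.app U).hom := by
  have := h1
  have h : Epi (S.g.hom.app U) :=
    TopCat.Sheaf.IsFlasque.epi_of_shortExact hS (U := U.unop)
  exact (AddCommGrpCat.epi_iff_surjective _).1 h

noncomputable def kerSC {F G : ShAb X} (t : F ⟶ G) : ShortComplex (ShAb X) :=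
  ShortComplex.mk (kernel.ι t) t (kernel.condition t)

lemma kerSC_shortExact {F G : ShAb X} (t : F ⟶ G) [Epi t] : (kerSC t).ShortExact :=
  ShortComplex.ShortExact.mk' ((kerSC t).exact_of_f_is_kernel (kernelIsKernel t))
    (inferInstanceAs (Mono (kernel.ι t))) (inferInstanceAs (Epi t))

lemma surj_of_epi {F G : ShAb X} (t : F ⟶ G) [Epi t]
    (hk : TopCat.Sheaf.IsFlasque (kernel t : ShAb X)) (U : (Opens X)ᵒᵖ) :
    Function.Surjective (t.hom.app U).hom :=
  surj_of_shortExact (kerSC_shortExact t) hk U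

lemma exists_of_exact {S : ShortComplex (ShAb X)} (hS : S.ShortExact) (U : (Opens X)ᵒᵖ)
    (x : S.X₂.obj.obj U) (hx : (S.g.hom.app U).hom x = 0) :
    ∃ y : S.X₁.obj.obj U, (S.f.hom.app U).hom y = x :=
  TopCat.Sheaf.sections_exact_of_left_exact (U := U.unop) hS.exact hS.mono_f x hx

lemma step_flasque {F G : ShAb X} (t : F ⟶ G) [Epi t]
    (hk : TopCat.Sheaf.IsFlasque (kernel t : ShAb X)) {U V : (Opens X)ᵒᵖ} (i : U ⟶ V)
    (a : G.obj.obj U) (b : F.obj.obj V)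
    (hab : (G.obj.map i).hom a = (t.hom.app V).hom b) :
    ∃ a' : F.obj.obj U, (t.hom.app U).hom a' = a ∧ (F.obj.map i).hom a' = b := by
  obtain ⟨a'', ha''⟩ := surj_of_epi t hk U a
  have nat : ∀ z : F.obj.obj U,
      (t.hom.app V).hom ((F.obj.map i).hom z) = (G.obj.map i).hom ((t.hom.app U).hom z) :=
    fun z => congrArg (fun ψ => ψ.hom z) (t.hom.naturality i)
  have hd : (t.hom.app V).hom ((F.obj.map i).hom a'' - b) = 0 := by
    rw [map_sub, nat, ha'', hab, sub_self]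
  obtain ⟨k, hk'⟩ := exists_of_exact (kerSC_shortExact t) V _ hd
  have hk2 : ((kernel.ι t).hom.app V).hom k = (F.obj.map i).hom a'' - b := hk'
  obtain ⟨k', hk''⟩ := (AddCommGrpCat.epi_iff_surjective _).1 (hk.epi i) k
  have hk3 : ((kernel t : ShAb X).obj.map i).hom k' = k := hk''
  refine ⟨a'' - ((kernel.ι t).hom.app U).hom k', ?_, ?_⟩
  · rw [map_sub, ha'']
    have h0 : (t.hom.app U).hom (((kernel.ι t).hom.app U).hom k') = 0 :=
      congrArg (fun ψ => (ψ.hom.app U).hom k') (kernel.condition t)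
    rw [h0, sub_zero]
  · rw [map_sub]
    have h1 : (F.obj.map i).hom (((kernel.ι t).hom.app U).hom k') =
        ((kernel.ι t).hom.app V).hom (((kernel t : ShAb X).obj.map i).hom k') :=
      (congrArg (fun ψ => ψ.hom k') ((kernel.ι t).hom.naturality i)).symm
    rw [h1, hk3, hk2]
    abel

lemma step_ses {S' S : ShortComplex (ShAb X)} (hS' : S'.ShortExact) (hS : S.ShortExact)
    (h1 : TopCat.Sheaf.IsFlasque S'.X₁)
    (t₁ : S'.X₁ ⟶ S.X₁) (t₂ : S'.X₂ ⟶ S.X₂) (t₃ : S'.X₃ ⟶ S.X₃)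
    (c₁ : S'.f ≫ t₂ = t₁ ≫ S.f) (c₂ : S'.g ≫ t₃ = t₂ ≫ S.g)
    {U : (Opens X)ᵒᵖ} (ht₁ : Function.Surjective (t₁.hom.app U).hom)
    (a : S.X₂.obj.obj U) (b : S'.X₃.obj.obj U)
    (hab : (S.g.hom.app U).hom a = (t₃.hom.app U).hom b) :
    ∃ a' : S'.X₂.obj.obj U, (t₂.hom.app U).hom a' = a ∧ (S'.g.hom.app U).hom a' = b := by
  obtain ⟨a₁, ha₁⟩ := surj_of_shortExact hS' h1 U b
  have e₂ : ∀ z, (t₃.hom.app U).hom ((S'.g.hom.app U).hom z) =
      (S.g.hom.app U).hom ((t₂.hom.app U).hom z) :=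
    fun z => congrArg (fun ψ => (ψ.hom.app U).hom z) c₂
  have e₁ : ∀ z, (t₂.hom.app U).hom ((S'.f.hom.app U).hom z) =
      (S.f.hom.app U).hom ((t₁.hom.app U).hom z) :=
    fun z => congrArg (fun ψ => (ψ.hom.app U).hom z) c₁
  have hd : (S.g.hom.app U).hom ((t₂.hom.app U).hom a₁ - a) = 0 := by
    rw [map_sub, ← e₂, ha₁, hab, sub_self]
  obtain ⟨m, hm⟩ := exists_of_exact hS U _ hd
  obtain ⟨m', hm'⟩ := ht₁ m
  refine ⟨a₁ - (S'.f.hom.app U).hom m', ?_, ?_⟩
  · rw [map_sub, e₁, hm', hm]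
    abel
  · rw [map_sub, ha₁]
    have h0 : (S'.g.hom.app U).hom ((S'.f.hom.app U).hom m') = 0 :=
      congrArg (fun ψ => (ψ.hom.app U).hom m') S'.zero
    rw [h0, sub_zero]

theorem isFlasque_limit (M : ℕᵒᵖ ⥤ ShAb X)
    (hfl : ∀ n : ℕ, TopCat.Sheaf.IsFlasque (M.obj (op n)))
    (hepi : ∀ n : ℕ, Epi (M.map (homOfLE (Nat.le_succ n)).op))
    (hker : ∀ n : ℕ,
      TopCat.Sheaf.IsFlasque (kernel (M.map (homOfLE (Nat.le_succ n)).op) : ShAb X)) :
    TopCat.Sheaf.IsFlasque (limit M : ShAb X) := by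
  constructor
  intro U V i
  rw [AddCommGrpCat.epi_iff_surjective]
  intro y
  let φ : M ⋙ Γ U ⟶ M ⋙ Γ V :=
    Functor.whiskerLeft M (Functor.whiskerLeft (sheafToPresheaf _ _) ((evaluation _ _).map i))
  have hU : IsLimit ((Γ U).mapCone (limit.cone M)) :=
    isLimitOfPreserves (Γ U) (limit.isLimit M)
  have hV : IsLimit ((Γ V).mapCone (limit.cone M)) :=
    isLimitOfPreserves (Γ V) (limit.isLimit M)
  have h0 : Function.Surjective (φ.app (op 0)).hom :=
    (AddCommGrpCat.epi_iff_surjective _).1 ((hfl 0).epi i)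
  have hstep : ∀ (n : ℕ) (a : (M ⋙ Γ U).obj (op n)) (b : (M ⋙ Γ V).obj (op (n + 1))),
      (φ.app (op n)).hom a = ((M ⋙ Γ V).map (homOfLE (Nat.le_succ n)).op).hom b →
      ∃ a' : (M ⋙ Γ U).obj (op (n + 1)),
        ((M ⋙ Γ U).map (homOfLE (Nat.le_succ n)).op).hom a' = a ∧
        (φ.app (op (n + 1))).hom a' = b := by
    intro n a b hab
    have := hepi n
    exact step_flasque (M.map (homOfLE (Nat.le_succ n)).op) (hker n) i a b hab
  obtain ⟨x, hx⟩ := Tower.exists_lift φ h0 hstep hU ((Γ V).mapCone (limit.cone M)) y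
  refine ⟨x, ?_⟩
  refine Concrete.isLimit_ext _ hV _ _ (fun j => ?_)
  have hj := hx j.unop
  have nat := congrArg (fun ψ => ψ.hom x) ((limit.π M j).hom.naturality i)
  exact nat.trans hj

theorem epi_limMap (S : ShortComplex (ℕᵒᵖ ⥤ ShAb X)) (hS : S.ShortExact)
    (hfl : ∀ n : ℕ, TopCat.Sheaf.IsFlasque (S.X₁.obj (op n)))
    (hepi : ∀ n : ℕ, Epi (S.X₁.map (homOfLE (Nat.le_succ n)).op))
    (hker : ∀ n : ℕ,
      TopCat.Sheaf.IsFlasque (kernel (S.X₁.map (homOfLE (Nat.le_succ n)).op) : ShAb X)) :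
    Epi (limMap S.g) := by
  have hSn : ∀ n : ℕ, (S.map ((evaluation ℕᵒᵖ (ShAb X)).obj (op n))).ShortExact := fun n =>
    hS.map_of_exact _
  have hsurj : ∀ U : (Opens X)ᵒᵖ, Function.Surjective ((limMap S.g).hom.app U).hom := by
    intro U y
    let φ : S.X₂ ⋙ Γ U ⟶ S.X₃ ⋙ Γ U := Functor.whiskerRight S.g (Γ U)
    have h2 : IsLimit ((Γ U).mapCone (limit.cone S.X₂)) :=
      isLimitOfPreserves (Γ U) (limit.isLimit _)
    have h3 : IsLimit ((Γ U).mapCone (limit.cone S.X₃)) :=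
      isLimitOfPreserves (Γ U) (limit.isLimit _)
    have h0 : Function.Surjective (φ.app (op 0)).hom :=
      surj_of_shortExact (hSn 0) (hfl 0) U
    have hstep : ∀ (n : ℕ) (a : (S.X₂ ⋙ Γ U).obj (op n)) (b : (S.X₃ ⋙ Γ U).obj (op (n + 1))),
        (φ.app (op n)).hom a = ((S.X₃ ⋙ Γ U).map (homOfLE (Nat.le_succ n)).op).hom b →
        ∃ a' : (S.X₂ ⋙ Γ U).obj (op (n + 1)),
          ((S.X₂ ⋙ Γ U).map (homOfLE (Nat.le_succ n)).op).hom a' = a ∧
          (φ.app (op (n + 1))).hom a' = b := by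
      intro n a b hab
      have := hepi n
      exact step_ses (hSn (n + 1)) (hSn n) (hfl (n + 1))
        (S.X₁.map (homOfLE (Nat.le_succ n)).op) (S.X₂.map (homOfLE (Nat.le_succ n)).op)
        (S.X₃.map (homOfLE (Nat.le_succ n)).op)
        (S.f.naturality (homOfLE (Nat.le_succ n)).op).symm
        (S.g.naturality (homOfLE (Nat.le_succ n)).op).symm
        (surj_of_epi _ (hker n) U) a b hab
    obtain ⟨x, hx⟩ := Tower.exists_lift φ h0 hstep h2 ((Γ U).mapCone (limit.cone S.X₃)) y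
    refine ⟨x, ?_⟩
    refine Concrete.isLimit_ext _ h3 _ _ (fun j => ?_)
    have hj := hx j.unop
    have nat := congrArg (fun ψ => (ψ.hom.app U).hom x) (limMap_π S.g j)
    exact nat.trans hj
  have : Presheaf.IsLocallySurjective (Opens.grothendieckTopology X) (limMap S.g).hom :=
    Presheaf.isLocallySurjective_of_surjective _ _ hsurj
  have : Sheaf.IsLocallySurjective (limMap S.g) := this
  exact Sheaf.epi_of_isLocallySurjective _

end Groth.Agent.H67.TowerSh
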