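import Mathlib
import Groth.Agent.H67.UCechA

/-!
# Helper library (helper67): comparison of Čech complexes along a functor compatible with the
relevant products
-/

set_option autoImplicit false
universe w v₁ v₂ u₁ u₂

open CategoryTheory CategoryTheory.Limits Opposite Simplicial

namespace Groth.Agent.H67.UCech

section cmp

variable {D' : Type u₁} {D : Type u₂} [Category.{v₁} D'] [Category.{v₂} D] [HasFiniteProducts D']
  [HasFiniteProducts D] (Φ : D' ⥤ D) {ι : Type w} (Y' : ι → D') (R : Dᵒᵖ ⥤ AddCommGrpCat.{w})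

/-- the image family -/
abbrev imgFam : ι → D := fun i => Φ.obj (Y' i)

/-- The canonical comparison map `Φ(∏ Y'_a) ⟶ ∏ Φ(Y'_a)`. -/
noncomputable def cmp {n : ℕ} (a : Fin (n + 1) → ι) :
    Φ.obj (∏ᶜ (Y' ∘ a)) ⟶ ∏ᶜ (imgFam Φ Y' ∘ a) :=
  Limits.Pi.lift (fun k => Φ.map (Limits.Pi.π (Y' ∘ a) k))

/-- The comparison map of Čech cochains. -/
noncomputable def ψ (n : ℕ) :
    ∏ᶜ (term (imgFam Φ Y') R n) ⟶ ∏ᶜ (term Y' (Φ.op ⋙ R) n) :=
  Limits.Pi.map (fun a => R.map (cmp Φ Y' a).op)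

lemma cmap_ψ {m n : ℕ} (f : ⦋m⦌ ⟶ ⦋n⦌) :
    cmap R f ≫ ψ Φ Y' R n = ψ Φ Y' R m ≫ cmap (Φ.op ⋙ R) f := by
  apply Limits.Pi.hom_ext
  intro a
  have key : cmp Φ Y' a ≫ (Limits.Pi.lift (fun j => Limits.Pi.π (imgFam Φ Y' ∘ a)
      (f.toOrderHom j)) : ∏ᶜ (imgFam Φ Y' ∘ a) ⟶ ∏ᶜ (imgFam Φ Y' ∘ a ∘ f.toOrderHom)) =
      Φ.map (Limits.Pi.lift (fun j => Limits.Pi.π (Y' ∘ a) (f.toOrderHom j)) :
        ∏ᶜ (Y' ∘ a) ⟶ ∏ᶜ (Y' ∘ a ∘ f.toOrderHom)) ≫ cmp Φ Y' (a ∘ f.toOrderHom) := by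
    apply Limits.Pi.hom_ext
    intro j
    simp only [cmp, Category.assoc, Limits.Pi.lift_π, ← Φ.map_comp]
  simp only [ψ, cmap, Category.assoc, Limits.Pi.map_π, Limits.Pi.lift_π, Limits.Pi.lift_π_assoc,
    Limits.Pi.map_π_assoc]
  rw [← R.map_comp, ← op_comp, key, op_comp, R.map_comp]
  rfl

lemma dd_ψ (n : ℕ) : dd R n ≫ ψ Φ Y' R (n + 1) = ψ Φ Y' R n ≫ dd (Φ.op ⋙ R) n := by
  unfold dd
  rw [Preadditive.sum_comp, Preadditive.comp_sum]
  refine Finset.sum_congr rfl (fun k _ => ?_)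
  rw [Preadditive.zsmul_comp, Preadditive.comp_zsmul, cmap_ψ]

variable (h : ∀ (n : ℕ) (a : Fin (n + 1) → ι), IsIso (cmp Φ Y' a))
include h

lemma isIso_ψ (n : ℕ) : IsIso (ψ Φ Y' R n) := by
  haveI : ∀ a : Fin (n + 1) → ι, IsIso (R.map (cmp Φ Y' a).op) := fun a => by
    haveI := h n a
    infer_instance
  unfold ψ
  infer_instance

/-- The comparison isomorphism of Čech complexes. -/
noncomputable def cxIso : cx (imgFam Φ Y') R ≅ cx Y' (Φ.op ⋙ R) :=
  HomologicalComplex.Hom.isoOfComponents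
    (fun n => @asIso _ _ _ _ (ψ Φ Y' R n) (isIso_ψ Φ Y' R h n))
    (by
      intro i j hij
      have hij' : i + 1 = j := hij
      subst hij'
      show ψ Φ Y' R i ≫ (cx Y' (Φ.op ⋙ R)).d i (i + 1) =
        (cx (imgFam Φ Y') R).d i (i + 1) ≫ ψ Φ Y' R (i + 1)
      have e1 := cx_d (Y := Y') (Φ.op ⋙ R) i
      have e2 := cx_d (Y := imgFam Φ Y') R i
      exact (congrArg (fun z => ψ Φ Y' R i ≫ z) e1).trans ((dd_ψ Φ Y' R i).symm.trans
        (congrArg (fun z => z ≫ ψ Φ Y' R (i + 1)) e2.symm)))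

/-- The comparison isomorphism on Čech cohomology. -/
noncomputable def homologyIso (p : ℕ) :
    (cx (imgFam Φ Y') R).homology p ≅ (cx Y' (Φ.op ⋙ R)).homology p :=
  (HomologicalComplex.homologyFunctor _ _ p).mapIso (cxIso Φ Y' R h)



end cmp

section post

variable {C : Type u₁} [Category.{v₁} C] {D : Type u₂} [Category.{v₂} D] [HasPullbacks C]
  (u : C ⥤ D) [PreservesLimitsOfShape WalkingCospan u]

lemma preservesPullbacks_overPost (U : C) :
    PreservesLimitsOfShape WalkingCospan (Over.post u (X := U)) := by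
  haveI : PreservesLimitsOfShape WalkingCospan
      (Over.post u (X := U) ⋙ Over.forget (u.obj U)) := by
    rw [Over.post_forget_eq_forget_comp]
    infer_instance
  exact preservesLimitsOfShape_of_reflects_of_preserves (Over.post u (X := U))
    (Over.forget (u.obj U))

lemma preservesTerminal_overPost (U : C) :
    PreservesLimit (Functor.empty.{0} (Over U)) (Over.post u (X := U)) :=
  preservesLimit_of_preserves_limit_cone Over.mkIdTerminal
    ((isLimitMapConeEmptyConeEquiv (Over.post u (X := U)) (Over.mk (𝟙 U))).symm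
      (IsTerminal.ofIso (Over.mkIdTerminal (X := u.obj U))
        (Over.isoMk (Iso.refl _) (by
          show 𝟙 (u.obj U) ≫ u.map (𝟙 U) = 𝟙 (u.obj U)
          rw [u.map_id, Category.comp_id]) :
          Over.mk (𝟙 (u.obj U)) ≅ (Over.post u (X := U)).obj (Over.mk (𝟙 U)))))

lemma preservesFiniteLimits_overPost (U : C) :
    PreservesFiniteLimits (Over.post u (X := U)) := by
  haveI := preservesPullbacks_overPost u U
  haveI := preservesTerminal_overPost u U
  haveI := preservesLimitsOfShape_pempty_of_preservesTerminal (Over.post u (X := U))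
  exact preservesFiniteLimits_of_preservesTerminal_and_pullbacks (Over.post u (X := U))

lemma isIso_cmp_post {U : C} [HasFiniteProducts (Over U)] [HasFiniteProducts (Over (u.obj U))]
    {ι : Type w} (Y : ι → Over U) {n : ℕ} (a : Fin (n + 1) → ι) :
    IsIso (cmp (Over.post u (X := U)) Y a) := by
  haveI := preservesFiniteLimits_overPost u U
  show IsIso (piComparison (Over.post u (X := U)) (Y ∘ a))
  infer_instance

end post

end Groth.Agent.H67.UCech
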