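import Groth.Agent.H67.UCechA

/-!
# Helper library (helper67): Čech cohomology of injective presheaves vanishes (any family)
-/

set_option autoImplicit false
universe w v' u'

open CategoryTheory CategoryTheory.Limits Opposite Simplicial

namespace Groth.Agent.H67.UCech

section Contraction'

variable {D : Type u'} [Category.{v'} D] [HasFiniteProducts D] {ι : Type w} {Y : ι → D}
  (R : Dᵒᵖ ⥤ AddCommGrpCat.{w}) (r : RY Y R ⟶ R)

lemma δ_zero_Sop' (hr : ∀ (W : D) (_ : Σ i, (W ⟶ Y i)),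
      (η Y R).app (op W) ≫ r.app (op W) = 𝟙 _) {W : D} {n : ℕ} (σ : Simplex Y W n) :
    cmap R (SimplexCategory.δ (0 : Fin (n + 2))) ≫ Sop R r σ = ev R σ := by
  rw [comp_Sop]
  have h1 : ∀ i, cmap R (SimplexCategory.δ (0 : Fin (n + 2))) ≫ ev R (σ.ext i) =
      ev R σ ≫ R.map (prod.fst : W ⨯ Y i ⟶ W).op := by
    intro i
    rw [cmap_ev, ev_pull, ← Simplex.ext_succ σ i]
    rfl
  simp only [h1]
  rw [← comp_RYlift, ← η_app, Category.assoc, hr W (σ 0), Category.comp_id]

lemma δ_zero_sHom' (hr : ∀ (W : D) (_ : Σ i, (W ⟶ Y i)),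
      (η Y R).app (op W) ≫ r.app (op W) = 𝟙 _) (n : ℕ) :
    cmap R (SimplexCategory.δ (0 : Fin (n + 2))) ≫ sHom R r n = 𝟙 _ := by
  apply Limits.Pi.hom_ext
  intro b
  unfold sHom
  rw [Category.assoc, Limits.Pi.lift_π, δ_zero_Sop' R r hr, ev_can, Category.id_comp]

lemma homotopy_identity' (hr : ∀ (W : D) (_ : Σ i, (W ⟶ Y i)),
      (η Y R).app (op W) ≫ r.app (op W) = 𝟙 _) (n : ℕ) :
    dd R (n + 1) ≫ sHom R r (n + 1) + sHom R r n ≫ dd R n = 𝟙 _ :=
  alt_sum_identity (n + 1) (fun k => cmap R (SimplexCategory.δ k))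
    (fun k => cmap R (SimplexCategory.δ k)) _ _ (δ_zero_sHom' R r hr (n + 1))
    (fun k => δ_succ_sHom R r n k)

theorem isZero_homology_succ_of_retraction' (hr : ∀ (W : D) (_ : Σ i, (W ⟶ Y i)),
      (η Y R).app (op W) ≫ r.app (op W) = 𝟙 _) (p : ℕ) :
    IsZero ((cx Y R).homology (p + 1)) := by
  rw [← HomologicalComplex.exactAt_iff_isZero_homology,
    HomologicalComplex.exactAt_iff' _ p (p + 1) (p + 2) (by simp) (by simp),
    ShortComplex.ab_exact_iff]
  intro x hx
  have hx' : (dd R (p + 1)).hom x = 0 := by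
    rw [← cx_d]
    exact hx
  refine ⟨(sHom R r p).hom x, ?_⟩
  have h := congrArg (fun φ => φ.hom x) (homotopy_identity' R r hr p)
  simp only [AddCommGrpCat.hom_add, AddCommGrpCat.hom_comp, AddMonoidHom.add_apply,
    AddMonoidHom.comp_apply, hx', map_zero, zero_add, AddCommGrpCat.hom_id,
    AddMonoidHom.id_apply] at h
  show ((cx Y R).d p (p + 1)).hom _ = x
  rw [cx_d]
  exact h

end Contraction'

section ExtByZero

variable {D : Type u'} [Category.{v'} D] [HasFiniteProducts D] {ι : Type w} (Y : ι → D)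
  (R : Dᵒᵖ ⥤ AddCommGrpCat.{w})

/-- `W` admits a map to some member of the family. -/
def HasPt (W : D) : Prop := ∃ i, Nonempty (W ⟶ Y i)

variable {Y} in
lemma HasPt.of_hom {W W' : D} (h : W' ⟶ W) (hW : HasPt Y W) : HasPt Y W' := by
  obtain ⟨i, ⟨g⟩⟩ := hW
  exact ⟨i, ⟨h ≫ g⟩⟩

/-- sections which vanish unless the object has a point -/
def sub0 (W : Dᵒᵖ) : AddSubgroup (R.obj W) where
  carrier := {x | ¬ HasPt Y W.unop → x = 0}
  zero_mem' := fun _ => rfl
  add_mem' := fun {a b} ha hb h => by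
    show a + b = 0
    rw [ha h, hb h, add_zero]
  neg_mem' := fun {a} ha h => by
    show -a = 0
    rw [ha h, neg_zero]

/-- extension by zero of the restriction of `R` to the sieve generated by the family -/
noncomputable def R0 : Dᵒᵖ ⥤ AddCommGrpCat.{w} where
  obj W := AddCommGrpCat.of (sub0 Y R W)
  map {W W'} h := AddCommGrpCat.ofHom
    (((R.map h).hom.comp (sub0 Y R W).subtype).codRestrict (sub0 Y R W') (fun x => by
      intro hW'
      have hW : ¬ HasPt Y W.unop := fun hW => hW' (hW.of_hom h.unop)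
      show (R.map h).hom x.1 = 0
      rw [x.2 hW, map_zero]))
  map_id W := by
    apply AddCommGrpCat.hom_ext
    apply AddMonoidHom.ext
    intro x
    apply Subtype.ext
    show (R.map (𝟙 W)).hom x.1 = x.1
    rw [R.map_id]
    rfl
  map_comp f g := by
    apply AddCommGrpCat.hom_ext
    apply AddMonoidHom.ext
    intro x
    apply Subtype.ext
    show (R.map (f ≫ g)).hom x.1 = (R.map g).hom ((R.map f).hom x.1)
    rw [R.map_comp]
    rfl

/-- the inclusion `R₀ ⟶ R` -/
noncomputable def ε0 : R0 Y R ⟶ R where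
  app W := AddCommGrpCat.ofHom (sub0 Y R W).subtype
  naturality W W' h := rfl

lemma ε0_injective (W : Dᵒᵖ) : Function.Injective ((ε0 Y R).app W).hom :=
  Subtype.val_injective

instance : Mono (ε0 Y R) := by
  haveI : ∀ W, Mono ((ε0 Y R).app W) := fun W =>
    (AddCommGrpCat.mono_iff_injective _).2 (ε0_injective Y R W)
  exact NatTrans.mono_of_mono_app _

lemma η_injective_of_pt {W : D} (s : Σ i, (W ⟶ Y i)) :
    Function.Injective ((η Y R).app (op W)).hom := by
  rw [injective_iff_map_eq_zero]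
  intro x hx
  have h1 : (η Y R).app (op W) ≫ Limits.Pi.π (fun i => R.obj (op (W ⨯ Y i))) s.1 =
      R.map (prod.fst : W ⨯ Y s.1 ⟶ W).op := Limits.Pi.lift_π _ s.1
  have h2 : (R.map (prod.fst : W ⨯ Y s.1 ⟶ W).op).hom x = 0 := by
    rw [← h1]
    show (Limits.Pi.π (fun i => R.obj (op (W ⨯ Y i))) s.1).hom
      (((η Y R).app (op W)).hom x) = 0
    rw [hx]
    exact map_zero _
  have h3 : R.map (prod.fst : W ⨯ Y s.1 ⟶ W).op ≫ R.map (prod.lift (𝟙 W) s.2).op = 𝟙 _ := by
    rw [← R.map_comp, ← op_comp, prod.lift_fst]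
    simp
  have h4 := congrArg (fun φ => φ.hom x) h3
  have h5 : (R.map (prod.lift (𝟙 W) s.2).op).hom ((R.map (prod.fst : W ⨯ Y s.1 ⟶ W).op).hom x) =
      x := h4
  rw [← h5, h2, map_zero]

instance : Mono (ε0 Y R ≫ η Y R) := by
  haveI : ∀ W, Mono ((ε0 Y R ≫ η Y R).app W) := fun W => by
    rw [AddCommGrpCat.mono_iff_injective, injective_iff_map_eq_zero]
    intro x hx
    have hx' : ((η Y R).app W).hom x.1 = 0 := hx
    by_cases hW : HasPt Y W.unop
    · obtain ⟨i, ⟨g⟩⟩ := hW
      have h0 : x.1 = 0 := by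
        apply η_injective_of_pt Y R (W := W.unop) ⟨i, g⟩
        rw [map_zero]
        exact hx'
      exact Subtype.ext h0
    · exact Subtype.ext (x.2 hW)
  exact NatTrans.mono_of_mono_app _

/-- Čech cohomology of an injective presheaf vanishes in positive degrees. -/
theorem isZero_homology_succ_of_injective [Injective R] (p : ℕ) :
    IsZero ((cx Y R).homology (p + 1)) := by
  refine isZero_homology_succ_of_retraction' R
    (Injective.factorThru (ε0 Y R) (ε0 Y R ≫ η Y R)) ?_ p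
  intro W s
  have hfac : (ε0 Y R ≫ η Y R) ≫ Injective.factorThru (ε0 Y R) (ε0 Y R ≫ η Y R) = ε0 Y R :=
    Injective.comp_factorThru _ _
  apply AddCommGrpCat.hom_ext
  apply AddMonoidHom.ext
  intro x
  have hx : x ∈ sub0 Y R (op W) := fun h => absurd ⟨s.1, ⟨s.2⟩⟩ h
  have h1 := congrArg (fun φ => (φ.app (op W)).hom ⟨x, hx⟩) hfac
  exact h1

end ExtByZero

end Groth.Agent.H67.UCech
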