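import Groth.Agent.H67.UCechI
import Groth.Agent.H45.OverShriek
import Mathlib.CategoryTheory.EssentiallySmall

/-!
# Helper library (helper67): universe-polymorphic Čech vanishing for injective presheaves
-/

set_option autoImplicit false
universe w v' u'

open CategoryTheory CategoryTheory.Limits Opposite

namespace Groth.Agent.H67.UCech

section Lan

variable {C : Type u'} [Category.{v'} C] [LocallySmall.{w} C] (U : C)

instance hasColimitsOfShape_discrete_hom (V : C) :
    HasColimitsOfShape (Discrete (V ⟶ U)) AddCommGrpCat.{w} :=
  hasColimitsOfShape_of_equivalence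
    (Discrete.equivalence (equivShrink.{w} (V ⟶ U)).symm)

instance hasExactColimitsOfShape_discrete_hom (V : C) :
    HasExactColimitsOfShape (Discrete (V ⟶ U)) AddCommGrpCat.{w} :=
  HasExactColimitsOfShape.of_domain_equivalence AddCommGrpCat.{w}
    (Discrete.equivalence (equivShrink.{w} (V ⟶ U)).symm)

instance hasColimitsOfShape_costructuredArrow (X : Cᵒᵖ) :
    HasColimitsOfShape (CostructuredArrow (Over.forget U).op X) AddCommGrpCat.{w} :=
  Functor.Final.hasColimitsOfShape_of_final (Groth.Agent.H45.overSection U X.unop)

instance hasExactColimitsOfShape_costructuredArrow (X : Cᵒᵖ) :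
    HasExactColimitsOfShape (CostructuredArrow (Over.forget U).op X) AddCommGrpCat.{w} :=
  hasExactColimitsOfShape_of_final AddCommGrpCat.{w} (Groth.Agent.H45.overSection U X.unop)

/-- restriction to `Over U` of an injective presheaf is injective -/
lemma injective_over_presheaf (Q : Cᵒᵖ ⥤ AddCommGrpCat.{w}) [Injective Q] :
    Injective ((Over.forget U).op ⋙ Q) := by
  haveI := Groth.Agent.H45.lan_preservesFiniteLimits_of_exactColimits AddCommGrpCat.{w}
    (Over.forget U)
  exact Injective.injective_of_adjoint ((Over.forget U).op.lanAdjunction AddCommGrpCat.{w}) Q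

end Lan

end Groth.Agent.H67.UCech
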