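import Mathlib
import Groth.Prelude.Def_CohTop
import Groth.Prelude.Def_CohCx
import Groth.Agent.H67.VanB

/-!
# Helper library (helper67): the free abelian sheaf on an open `V` is the sheaf of locally constant
integer functions vanishing outside `V`
-/

set_option autoImplicit false
universe u

open CategoryTheory CategoryTheory.Limits TopologicalSpace Opposite

namespace Groth.Agent.H67.VanC

open Groth.Agent.H67.VanB

variable {X : TopCat.{u}}

/-- the subgroup `δ(x) ℤ` -/
def AZ (δ : X → ℕ) (x : X) : AddSubgroup ℤ := AddSubgroup.zmultiples ((δ x : ℕ) : ℤ)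

theorem mem_AZ {δ : X → ℕ} {x : X} {a : ℤ} : a ∈ AZ δ x ↔ ((δ x : ℕ) : ℤ) ∣ a :=
  Int.mem_zmultiples_iff

/-- locally constant integer functions `f` with `δ x ∣ f x` -/
abbrev SS (δ : X → ℕ) : CohTop.Ab X := SG (AZ δ)

/-- indicator function -/
noncomputable def ind (V : Opens X) (x : X) : ℕ := by
  classical exact if x ∈ V then 1 else 0

theorem ind_of_mem {V : Opens X} {x : X} (h : x ∈ V) : ind V x = 1 := by
  classical
  unfold ind
  exact if_pos h

theorem ind_of_not_mem {V : Opens X} {x : X} (h : x ∉ V) : ind V x = 0 := by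
  classical
  unfold ind
  exact if_neg h

theorem free_subsingleton_inj {α : Type*} [Subsingleton α] (a b : FreeAbelianGroup α)
    (h : FreeAbelianGroup.lift (fun _ : α => (1 : ℤ)) a = FreeAbelianGroup.lift (fun _ => 1) b) :
    a = b := by
  by_cases hα : Nonempty α
  · obtain ⟨t₀⟩ := hα
    have key : ∀ a : FreeAbelianGroup α,
        a = (FreeAbelianGroup.lift (fun _ : α => (1 : ℤ)) a) • FreeAbelianGroup.of t₀ := by
      intro a
      induction a using FreeAbelianGroup.induction_on with
      | zero => simp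
      | of t => rw [FreeAbelianGroup.lift_apply_of, one_smul, Subsingleton.elim t t₀]
      | neg t ih =>
        rw [map_neg, FreeAbelianGroup.lift_apply_of, neg_smul, one_smul, Subsingleton.elim t t₀]
      | add a b iha ihb => rw [map_add, add_smul, ← iha, ← ihb]
    rw [key a, key b, h]
  · have key : ∀ a : FreeAbelianGroup α, a = 0 := by
      intro a
      induction a using FreeAbelianGroup.induction_on with
      | zero => rfl
      | of t => exact absurd ⟨t⟩ hα
      | neg t ih => exact absurd ⟨t⟩ hα
      | add a b iha ihb => rw [iha, ihb, add_zero]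
    rw [key a, key b]

/-- the constant function `1` on an open contained in `V` -/
def oneSec (V W : Opens X) (h : W ≤ V) : (SS (ind V)).obj.obj (op W) :=
  ⟨fun _ => 1, continuous_const, fun x => by
    rw [mem_AZ, ind_of_mem (h x.2)]
    simp⟩

/-- the comparison map from the free presheaf -/
noncomputable def psi (V : Opens X) :
    (yoneda.obj V ⋙ AddCommGrpCat.free.{u}) ⟶ (SS (ind V)).obj where
  app W := AddCommGrpCat.ofHom
    (FreeAbelianGroup.lift (fun i : W.unop ⟶ V => oneSec V W.unop i.le))
  naturality W W' f := by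
    apply AddCommGrpCat.hom_ext
    apply FreeAbelianGroup.lift_ext
    intro i
    simp only [Functor.comp_obj, Functor.comp_map, AddCommGrpCat.hom_comp,
      AddCommGrpCat.hom_ofHom, AddMonoidHom.coe_comp, Function.comp_apply,
      FreeAbelianGroup.lift_apply_of]
    rfl

theorem ev_psi (V W : Opens X) (y : W) :
    (evHom (AZ (ind V)) W y).comp ((psi V).app (op W)).hom =
      FreeAbelianGroup.lift (fun _ : W ⟶ V => (1 : ℤ)) := by
  apply FreeAbelianGroup.lift_ext
  intro i
  rw [FreeAbelianGroup.lift_apply_of]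
  have h1 : ((psi V).app (op W)).hom (FreeAbelianGroup.of i) = oneSec V W i.le :=
    FreeAbelianGroup.lift_apply_of _ _
  show evHom (AZ (ind V)) W y (((psi V).app (op W)).hom (FreeAbelianGroup.of i)) = 1
  rw [h1]
  rfl

instance (V : Opens X) : Presheaf.IsLocallyInjective (Opens.grothendieckTopology X) (psi V) where
  equalizerSieve_mem {W} a b h := by
    intro x hx
    have h1 : FreeAbelianGroup.lift (fun _ : W.unop ⟶ V => (1 : ℤ)) a =
        FreeAbelianGroup.lift (fun _ : W.unop ⟶ V => (1 : ℤ)) b := by
      rw [← ev_psi V W.unop ⟨x, hx⟩]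
      exact congrArg (evHom (AZ (ind V)) W.unop ⟨x, hx⟩) h
    obtain rfl : a = b := free_subsingleton_inj (α := (W.unop ⟶ V)) a b h1
    exact ⟨W.unop, 𝟙 _, rfl, hx⟩

instance (V : Opens X) : Presheaf.IsLocallySurjective (Opens.grothendieckTopology X) (psi V) where
  imageSieve_mem {W} s := by
    intro x hx
    obtain ⟨N, hxN, hNW, hc⟩ := exists_nhd_const (AZ (ind V)) s x hx
    by_cases h0 : s.1 ⟨x, hx⟩ = 0
    · refine ⟨N, homOfLE hNW, ⟨0, ?_⟩, hxN⟩
      apply Subtype.ext
      funext y
      have e1 : ((psi V).app (op N) 0).1 y = 0 := by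
        rw [((psi V).app (op N)).hom.map_zero]
        rfl
      exact e1.trans ((hc y.1 y.2).trans h0).symm
    · have hxV : x ∈ V := by
        by_contra hn
        have h2 := s.2.2 ⟨x, hx⟩
        rw [mem_AZ, ind_of_not_mem hn] at h2
        simp only [Nat.cast_zero, zero_dvd_iff] at h2
        exact h0 h2
      refine ⟨N ⊓ V, homOfLE (inf_le_left.trans hNW),
        ⟨(s.1 ⟨x, hx⟩) • FreeAbelianGroup.of (homOfLE inf_le_right), ?_⟩, ⟨hxN, hxV⟩⟩
      apply Subtype.ext
      funext y
      have e1 : ((psi V).app (op (N ⊓ V))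
          ((s.1 ⟨x, hx⟩) • FreeAbelianGroup.of (homOfLE inf_le_right))).1 y = s.1 ⟨x, hx⟩ := by
        have e2 := DFunLike.congr_fun (ev_psi V (N ⊓ V) y)
          ((s.1 ⟨x, hx⟩) • FreeAbelianGroup.of (homOfLE inf_le_right))
        have e3 : FreeAbelianGroup.lift (fun _ : (N ⊓ V ⟶ V) => (1 : ℤ))
            ((s.1 ⟨x, hx⟩) • FreeAbelianGroup.of (homOfLE inf_le_right)) = s.1 ⟨x, hx⟩ := by
          simp
        exact e2.trans e3
      exact e1.trans (hc y.1 y.2.1).symm

/-- the free abelian sheaf on `V` is `SS (ind V)` -/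
noncomputable def freeIso (V : Opens X) :
    CohCx.freeSheaf (Opens.grothendieckTopology X) V ≅ SS (ind V) := by
  haveI : IsIso ((presheafToSheaf (Opens.grothendieckTopology X) AddCommGrpCat.{u}).map (psi V)) :=
    ((Opens.grothendieckTopology X).W_iff (psi V)).1
      (GrothendieckTopology.W_of_isLocallyBijective _ (psi V))
  exact asIso ((presheafToSheaf (Opens.grothendieckTopology X) AddCommGrpCat.{u}).map (psi V)) ≪≫
    asIso ((sheafificationAdjunction (Opens.grothendieckTopology X) AddCommGrpCat.{u}).counit.app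
      (SS (ind V)))

end Groth.Agent.H67.VanC
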