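import Mathlib
import Groth.Agent.H67.VanA
import Groth.Agent.H67.VanC

/-!
# Helper library (helper67): vanishing above degree `d` for the sheaves `SS δ` of locally constant
integer functions with pointwise divisibility conditions of finite type
-/

set_option autoImplicit false
universe u

open CategoryTheory CategoryTheory.Limits TopologicalSpace Opposite

namespace Groth.Agent.H67.VanD

open Groth.Agent.H67.VanA Groth.Agent.H67.VanB Groth.Agent.H67.VanC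

variable {X : TopCat.{u}}

theorem isZero_SG {T : Type} [AddCommGroup T] [TopologicalSpace T] [DiscreteTopology T]
    [IsTopologicalAddGroup T] (A : X → AddSubgroup T) (h : ∀ x, A x = ⊥) : IsZero (SG A) := by
  rw [IsZero.iff_id_eq_zero]
  apply CategoryTheory.Sheaf.hom_ext
  apply NatTrans.ext
  funext W
  refine ConcreteCategory.hom_ext _ _ (fun f => ?_)
  apply Subtype.ext
  funext x
  have h1 := f.2.2 x
  rw [h x.1, AddSubgroup.mem_bot] at h1
  exact h1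

/-- inclusion `SS δ ⊆ SS δ'` when `δ' ∣ δ` -/
def SSincl (δ δ' : X → ℕ) (h : ∀ x, δ' x ∣ δ x) : SS δ ⟶ SS δ' :=
  SGmap (AZ δ) (AZ δ') (AddMonoidHom.id ℤ) (fun x a ha => by
    rw [mem_AZ] at ha ⊢
    exact dvd_trans (Int.natCast_dvd_natCast.2 (h x)) ha)

theorem SSincl_val (δ δ' : X → ℕ) (h : ∀ x, δ' x ∣ δ x) (W : Opens X)
    (f : (SS δ).obj.obj (op W)) (y : W) : ((SSincl δ δ' h).hom.app (op W) f).1 y = f.1 y := rfl

instance (δ δ' : X → ℕ) (h : ∀ x, δ' x ∣ δ x) : Mono (SSincl δ δ' h) :=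
  mono_of_sections_injective _ (fun W f f' hff' => by
    apply Subtype.ext
    funext x
    exact congrFun (congrArg Subtype.val hff') x)

theorem SSincl_comp (δ δ' δ'' : X → ℕ) (h : ∀ x, δ' x ∣ δ x) (h' : ∀ x, δ'' x ∣ δ' x) :
    SSincl δ δ' h ≫ SSincl δ' δ'' h' = SSincl δ δ'' (fun x => dvd_trans (h' x) (h x)) := by
  apply CategoryTheory.Sheaf.hom_ext
  apply NatTrans.ext
  funext W
  refine ConcreteCategory.hom_ext _ _ (fun f => ?_)
  rfl

theorem Pd_SS_zero (d : ℕ) (δ : X → ℕ) (h : ∀ x, δ x = 0) : Pd d (SS δ) :=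
  Pd_of_isZero d (isZero_SG _ (fun x => by
    unfold AZ
    rw [h x]
    simp))

theorem Pd_SS_mul (d : ℕ) (m : ℕ) (hm : 1 ≤ m) (δ : X → ℕ) (h : Pd d (SS δ)) :
    Pd d (SS (fun x => m * δ x)) := by
  have hS := SG_shortExact (AZ δ) (AZ (fun x => m * δ x)) (fun _ : X => (⊥ : AddSubgroup ℤ))
    (AddMonoidHom.mulLeft (m : ℤ)) (0 : ℤ →+ ℤ)
    (fun x a ha => by
      rw [mem_AZ] at ha ⊢
      show ((m * δ x : ℕ) : ℤ) ∣ (m : ℤ) * a
      rw [Nat.cast_mul]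
      exact mul_dvd_mul_left _ ha)
    (fun x b _ => rfl)
    (fun a => rfl)
    (fun a b hab => by
      have hm0 : (m : ℤ) ≠ 0 := by
        have : (0 : ℤ) < m := by exact_mod_cast hm
        exact this.ne'
      exact mul_left_cancel₀ hm0 hab)
    (fun x b hb _ => by
      rw [mem_AZ] at hb
      rw [Nat.cast_mul] at hb
      obtain ⟨c, rfl⟩ := hb
      refine ⟨(δ x : ℤ) * c, ?_, ?_⟩
      · rw [mem_AZ]
        exact dvd_mul_right _ _
      · show (m : ℤ) * ((δ x : ℤ) * c) = _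
        ring)
    (fun x c N hxN hc => ⟨N, hxN, le_rfl, 0, by
      have := hc x hxN
      rw [AddSubgroup.mem_bot] at this
      rw [this]
      rfl, fun y _ => (AZ (fun x => m * δ x) y).zero_mem⟩)
  exact Pd_ext d hS h (Pd_of_isZero d (isZero_SG _ (fun _ => rfl)))

/-- Mayer–Vietoris type dévissage for the sheaves `SS δ` -/
theorem Pd_SS_mv (d : ℕ) (δ δ₁ δ₂ δ₃ : X → ℕ)
    (h1 : ∀ x, δ x ∣ δ₁ x) (h2 : ∀ x, δ x ∣ δ₂ x) (h13 : ∀ x, δ₁ x ∣ δ₃ x) (h23 : ∀ x, δ₂ x ∣ δ₃ x)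
    (hint : ∀ (x : X) (a : ℤ), (δ₁ x : ℤ) ∣ a → (δ₂ x : ℤ) ∣ a → (δ₃ x : ℤ) ∣ a)
    (hsum : ∀ (x : X) (c : ℤ) (N : Opens X), x ∈ N → (∀ y, y ∈ N → (δ y : ℤ) ∣ c) →
      ∃ N' : Opens X, x ∈ N' ∧ N' ≤ N ∧ ∃ b₁ b₂ : ℤ, b₁ + b₂ = c ∧
        ∀ y, y ∈ N' → (δ₁ y : ℤ) ∣ b₁ ∧ (δ₂ y : ℤ) ∣ b₂)
    (P1 : Pd d (SS δ₁)) (P2 : Pd d (SS δ₂)) (P3 : Pd d (SS δ₃)) : Pd d (SS δ) := by
  let AP : X → AddSubgroup (ℤ × ℤ) := fun x => (AZ δ₁ x).prod (AZ δ₂ x)
  have hS1 := SG_shortExact (AZ δ₁) AP (AZ δ₂) (AddMonoidHom.inl ℤ ℤ) (AddMonoidHom.snd ℤ ℤ)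
    (fun x a ha => AddSubgroup.mem_prod.2 ⟨ha, (AZ δ₂ x).zero_mem⟩)
    (fun x b hb => (AddSubgroup.mem_prod.1 hb).2)
    (fun a => rfl)
    (fun a b hab => congrArg Prod.fst hab)
    (fun x b hb hb0 => ⟨b.1, (AddSubgroup.mem_prod.1 hb).1, Prod.ext rfl hb0.symm⟩)
    (fun x c N hxN hc => ⟨N, hxN, le_rfl, (0, c), rfl, fun y hy =>
      AddSubgroup.mem_prod.2 ⟨(AZ δ₁ y).zero_mem, hc y hy⟩⟩)
  have PP : Pd d (SG AP) := Pd_ext d hS1 P1 P2
  have hS2 := SG_shortExact (AZ δ₃) AP (AZ δ)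
    ((AddMonoidHom.id ℤ).prod (-AddMonoidHom.id ℤ)) (AddMonoidHom.coprod (AddMonoidHom.id ℤ)
      (AddMonoidHom.id ℤ))
    (fun x a ha => by
      rw [mem_AZ] at ha
      refine AddSubgroup.mem_prod.2 ⟨?_, ?_⟩
      · rw [mem_AZ]
        exact dvd_trans (Int.natCast_dvd_natCast.2 (h13 x)) ha
      · rw [mem_AZ]
        exact (dvd_neg).2 (dvd_trans (Int.natCast_dvd_natCast.2 (h23 x)) ha))
    (fun x b hb => by
      obtain ⟨hb1, hb2⟩ := AddSubgroup.mem_prod.1 hb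
      rw [mem_AZ] at hb1 hb2 ⊢
      exact dvd_add (dvd_trans (Int.natCast_dvd_natCast.2 (h1 x)) hb1)
        (dvd_trans (Int.natCast_dvd_natCast.2 (h2 x)) hb2))
    (fun a => by
      show a + -a = 0
      ring)
    (fun a b hab => congrArg Prod.fst hab)
    (fun x b hb hb0 => by
      obtain ⟨hb1, hb2⟩ := AddSubgroup.mem_prod.1 hb
      rw [mem_AZ] at hb1 hb2
      have hb0' : b.1 + b.2 = 0 := hb0
      have e2 : b.2 = -b.1 := by linarith
      refine ⟨b.1, ?_, ?_⟩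
      · rw [mem_AZ]
        refine hint x b.1 hb1 ?_
        rw [e2] at hb2
        exact (dvd_neg).1 hb2
      · exact Prod.ext rfl e2.symm)
    (fun x c N hxN hc => by
      obtain ⟨N', hxN', hN'N, b₁, b₂, hb, hbb⟩ := hsum x c N hxN (fun y hy => by
        have := hc y hy
        rwa [mem_AZ] at this)
      exact ⟨N', hxN', hN'N, (b₁, b₂), hb, fun y hy => AddSubgroup.mem_prod.2
        ⟨mem_AZ.2 (hbb y hy).1, mem_AZ.2 (hbb y hy).2⟩⟩)
  exact Pd_coker d hS2 P3 PP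

/-- vanishing for `SS δ` with `δ` bounded and compact open divisibility loci -/
theorem Pd_SS_of_bounded (d : ℕ)
    (hZ : ∀ V : Opens X, IsCompact (V : Set X) → Pd d (SS (ind V))) :
    ∀ (N : ℕ) (δ : X → ℕ), (∀ x, δ x ≤ N) →
      (∀ n, 1 ≤ n → IsOpen {x | δ x ≠ 0 ∧ δ x ∣ n} ∧ IsCompact {x | δ x ≠ 0 ∧ δ x ∣ n}) →
      Pd d (SS δ) := by
  intro N
  induction N with
  | zero =>
    intro δ hb _
    exact Pd_SS_zero d δ (fun x => Nat.le_zero.1 (hb x))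
  | succ N ih =>
    intro δ hb hlev
    obtain ⟨m, hm⟩ : ∃ m, m = N + 1 := ⟨_, rfl⟩
    rw [← hm] at hb
    let δ' : X → ℕ := fun x => if δ x = m then 0 else δ x
    have hδ'1 : ∀ x, δ x ≠ m → δ' x = δ x := fun x hx => if_neg hx
    have hδ'0 : ∀ x, δ x = m → δ' x = 0 := fun x hx => if_pos hx
    have hδ'ne : ∀ x, δ' x ≠ 0 → δ' x = δ x ∧ δ x ≠ m := by
      intro x hx
      by_cases h : δ x = m
      · exact absurd (hδ'0 x h) hx
      · exact ⟨hδ'1 x h, h⟩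
    have hδ'b : ∀ x, δ' x ≤ N := by
      intro x
      by_cases h : δ x = m
      · rw [hδ'0 x h]; exact Nat.zero_le _
      · rw [hδ'1 x h]
        have := hb x
        omega
    have hlev'eq : ∀ n, {x | δ' x ≠ 0 ∧ δ' x ∣ n} =
        ⋃ m' ∈ (Finset.Icc 1 N).filter (fun m' => m' ∣ n), {x | δ x ≠ 0 ∧ δ x ∣ m'} := by
      intro n
      ext x
      simp only [Set.mem_setOf_eq, Set.mem_iUnion, Finset.mem_filter, Finset.mem_Icc, exists_prop]
      constructor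
      · rintro ⟨h1, h2⟩
        obtain ⟨e, hne⟩ := hδ'ne x h1
        rw [e] at h1 h2
        have := hb x
        exact ⟨δ x, ⟨⟨Nat.one_le_iff_ne_zero.2 h1, by omega⟩, h2⟩, h1, dvd_rfl⟩
      · rintro ⟨m', ⟨⟨h1, h2⟩, h3⟩, h4, h5⟩
        have hle : δ x ≤ m' := Nat.le_of_dvd (by omega) h5
        have hne : δ x ≠ m := by omega
        rw [hδ'1 x hne]
        exact ⟨h4, dvd_trans h5 h3⟩
    have hlev' : ∀ n, 1 ≤ n →
        IsOpen {x | δ' x ≠ 0 ∧ δ' x ∣ n} ∧ IsCompact {x | δ' x ≠ 0 ∧ δ' x ∣ n} := by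
      intro n _
      rw [hlev'eq n]
      refine ⟨isOpen_iUnion (fun m' => isOpen_iUnion (fun hm' => ?_)),
        Finset.isCompact_biUnion _ (fun m' hm' => ?_)⟩
      · exact (hlev m' (Finset.mem_Icc.1 (Finset.mem_filter.1 hm').1).1).1
      · exact (hlev m' (Finset.mem_Icc.1 (Finset.mem_filter.1 hm').1).1).2
    have P1 : Pd d (SS δ') := ih δ' hδ'b hlev'
    have hm1 : 1 ≤ m := by omega
    let A : Opens X := ⟨{x | δ x ≠ 0 ∧ δ x ∣ m}, (hlev m hm1).1⟩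
    let A' : Opens X := ⟨{x | δ' x ≠ 0 ∧ δ' x ∣ m}, (hlev' m hm1).1⟩
    have hA : ∀ x, x ∈ A ↔ (δ x ≠ 0 ∧ δ x ∣ m) := fun x => Iff.rfl
    have hA' : ∀ x, x ∈ A' ↔ (δ' x ≠ 0 ∧ δ' x ∣ m) := fun x => Iff.rfl
    have P2 : Pd d (SS (fun x => m * ind A x)) := Pd_SS_mul d m hm1 _ (hZ A (hlev m hm1).2)
    have P3 : Pd d (SS (fun x => m * ind A' x)) := Pd_SS_mul d m hm1 _ (hZ A' (hlev' m hm1).2)
    have hA'A : ∀ x, x ∈ A' → x ∈ A := by
      intro x hx
      obtain ⟨h1, h2⟩ := (hA' x).1 hx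
      obtain ⟨e, _⟩ := hδ'ne x h1
      rw [e] at h1 h2
      exact (hA x).2 ⟨h1, h2⟩
    refine Pd_SS_mv d δ δ' (fun x => m * ind A x) (fun x => m * ind A' x) ?_ ?_ ?_ ?_ ?_ ?_ P1 P2 P3
    · intro x
      by_cases h : δ x = m
      · rw [hδ'0 x h]; exact dvd_zero _
      · rw [hδ'1 x h]
    · intro x
      show δ x ∣ m * ind A x
      by_cases h : x ∈ A
      · rw [ind_of_mem h, mul_one]; exact ((hA x).1 h).2
      · rw [ind_of_not_mem h, mul_zero]; exact dvd_zero _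
    · intro x
      show δ' x ∣ m * ind A' x
      by_cases h : x ∈ A'
      · rw [ind_of_mem h, mul_one]; exact ((hA' x).1 h).2
      · rw [ind_of_not_mem h, mul_zero]; exact dvd_zero _
    · intro x
      show m * ind A x ∣ m * ind A' x
      by_cases h : x ∈ A'
      · rw [ind_of_mem h, ind_of_mem (hA'A x h)]
      · rw [ind_of_not_mem h, mul_zero]; exact dvd_zero _
    · intro x a ha1 ha2
      have ha2' : ((m * ind A x : ℕ) : ℤ) ∣ a := ha2
      show ((m * ind A' x : ℕ) : ℤ) ∣ a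
      by_cases h : x ∈ A'
      · rw [ind_of_mem h, mul_one]
        rw [ind_of_mem (hA'A x h), mul_one] at ha2'
        exact ha2'
      · rw [ind_of_not_mem h, mul_zero]
        by_cases hA0 : x ∈ A
        · obtain ⟨h1, h2⟩ := (hA x).1 hA0
          have hd0 : δ' x = 0 := by
            by_contra hne
            obtain ⟨e, _⟩ := hδ'ne x hne
            exact h ((hA' x).2 ⟨hne, by rw [e]; exact h2⟩)
          rw [hd0] at ha1
          exact ha1
        · rw [ind_of_not_mem hA0, mul_zero] at ha2'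
          exact ha2'
    · intro x c Nn hxN hc
      by_cases hc0 : c = 0
      · exact ⟨Nn, hxN, le_rfl, 0, 0, by rw [hc0]; ring, fun y _ => ⟨dvd_zero _, dvd_zero _⟩⟩
      · have hx0 : δ x ≠ 0 := by
          intro h0
          have := hc x hxN
          rw [h0] at this
          simp only [Nat.cast_zero, zero_dvd_iff] at this
          exact hc0 this
        by_cases hxm : δ x = m
        · have hxA : x ∈ A := (hA x).2 ⟨hx0, by rw [hxm]⟩
          refine ⟨Nn ⊓ A, ⟨hxN, hxA⟩, inf_le_left, 0, c, by ring, fun y hy => ⟨dvd_zero _, ?_⟩⟩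
          show ((m * ind A y : ℕ) : ℤ) ∣ c
          rw [ind_of_mem hy.2, mul_one, ← hxm]
          exact hc x hxN
        · have hxle : δ x ≤ N := by have := hb x; omega
          have hx1 : 1 ≤ δ x := Nat.one_le_iff_ne_zero.2 hx0
          let Vm : Opens X := ⟨{y | δ y ≠ 0 ∧ δ y ∣ δ x}, (hlev (δ x) hx1).1⟩
          have hxV : x ∈ Vm := ⟨hx0, dvd_rfl⟩
          refine ⟨Nn ⊓ Vm, ⟨hxN, hxV⟩, inf_le_left, c, 0, by ring, fun y hy => ⟨?_, dvd_zero _⟩⟩
          have hy2 : δ y ≠ 0 ∧ δ y ∣ δ x := hy.2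
          have hyle : δ y ≤ δ x := Nat.le_of_dvd (by omega) hy2.2
          have hyne : δ y ≠ m := by omega
          rw [hδ'1 y hyne]
          exact hc y hy.1

end Groth.Agent.H67.VanD
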