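import Mathlib
import Groth.Agent.H67.VanD
import Groth.Agent.H45.OverShriekFree

/-!
# Helper library (helper67): cohomological vanishing above degree `d` for all abelian sheaves on a
quasi-compact prespectral quasi-separated space from vanishing for the free sheaves on compact opens
-/

set_option autoImplicit false
universe u

open CategoryTheory CategoryTheory.Limits TopologicalSpace Opposite

namespace Groth.Agent.H67.VanE

open Groth.Agent.H67.VanA Groth.Agent.H67.VanB Groth.Agent.H67.VanC Groth.Agent.H67.VanD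

variable {X : TopCat.{u}}

theorem exists_compact_open [PrespectralSpace X] (W : Opens X) (x : X) (hx : x ∈ W) :
    ∃ U : Opens X, IsCompact (U : Set X) ∧ x ∈ U ∧ U ≤ W := by
  obtain ⟨U, ⟨hU1, hU2⟩, hxU, hUW⟩ :=
    (PrespectralSpace.isTopologicalBasis (X := X)).exists_subset_of_mem_open hx W.isOpen
  exact ⟨⟨U, hU1⟩, hU2, hxU, hUW⟩

section Sub

variable (V : Opens X) {K : CohTop.Ab X} (ι : K ⟶ SS (ind V))

/-- generators: compact opens `U ≤ V` with a section of `K` mapping to a positive constant -/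
structure Gen where
  n : ℕ
  U : Opens X
  hn : 1 ≤ n
  hU : IsCompact (U : Set X)
  hUV : U ≤ V
  k : K.obj.obj (op U)
  hk : ∀ y : U, (ι.hom.app (op U) k).1 y = (n : ℤ)

open scoped Classical in
/-- the generators active at a point -/
noncomputable def act (B : Finset (Gen V ι)) (x : X) : Finset (Gen V ι) :=
  B.filter (fun p => x ∈ p.U)

variable {V ι} in
theorem mem_act {B : Finset (Gen V ι)} {x : X} {p : Gen V ι} :
    p ∈ act V ι B x ↔ p ∈ B ∧ x ∈ p.U := by
  classical
  unfold act
  exact Finset.mem_filter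

/-- the gcd function of a finite set of generators -/
noncomputable def delta (B : Finset (Gen V ι)) (x : X) : ℕ :=
  (act V ι B x).gcd (fun p => p.n)

theorem delta_dvd (B : Finset (Gen V ι)) {p : Gen V ι} (hp : p ∈ B) {x : X} (hx : x ∈ p.U) :
    delta V ι B x ∣ p.n :=
  Finset.gcd_dvd (mem_act.2 ⟨hp, hx⟩)

theorem delta_mono {B B' : Finset (Gen V ι)} (h : B ⊆ B') (x : X) :
    delta V ι B' x ∣ delta V ι B x :=
  Finset.gcd_mono (fun p hp => mem_act.2 ⟨h (mem_act.1 hp).1, (mem_act.1 hp).2⟩)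

theorem delta_eq_zero_of_not_mem (B : Finset (Gen V ι)) {x : X} (hx : x ∉ V) :
    delta V ι B x = 0 := by
  have : act V ι B x = ∅ := by
    apply Finset.eq_empty_of_forall_notMem
    intro p hp
    exact hx (p.hUV (mem_act.1 hp).2)
  unfold delta
  rw [this]
  exact Finset.gcd_empty

theorem ind_dvd_delta (B : Finset (Gen V ι)) (x : X) : ind V x ∣ delta V ι B x := by
  by_cases h : x ∈ V
  · rw [ind_of_mem h]
    exact one_dvd _
  · rw [delta_eq_zero_of_not_mem V ι B h]
    exact dvd_zero _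

theorem delta_le (B : Finset (Gen V ι)) (x : X) : delta V ι B x ≤ B.sup (fun p => p.n) := by
  by_cases h : (act V ι B x).Nonempty
  · obtain ⟨p, hp⟩ := h
    have hpB := (mem_act.1 hp).1
    have h1 : delta V ι B x ≤ p.n :=
      Nat.le_of_dvd (by have := p.hn; omega) (Finset.gcd_dvd hp)
    exact h1.trans (Finset.le_sup (f := fun p : Gen V ι => p.n) hpB)
  · rw [Finset.not_nonempty_iff_eq_empty] at h
    unfold delta
    rw [h, Finset.gcd_empty]
    exact Nat.zero_le _

theorem delta_level [CompactSpace X] [QuasiSeparatedSpace X] (B : Finset (Gen V ι)) (n : ℕ) :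
    IsOpen {x | delta V ι B x ≠ 0 ∧ delta V ι B x ∣ n} ∧
      IsCompact {x | delta V ι B x ≠ 0 ∧ delta V ι B x ∣ n} := by
  classical
  have heq : {x | delta V ι B x ≠ 0 ∧ delta V ι B x ∣ n} =
      ⋃ B'' ∈ B.powerset.filter (fun B'' => B''.Nonempty ∧ B''.gcd (fun p => p.n) ∣ n),
        ⋂ p ∈ (↑B'' : Set (Gen V ι)), (p.U : Set X) := by
    ext x
    simp only [Set.mem_setOf_eq, Set.mem_iUnion, Set.mem_iInter, Finset.mem_filter,
      Finset.mem_powerset, exists_prop, SetLike.mem_coe, Finset.mem_coe]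
    constructor
    · rintro ⟨h0, hd⟩
      refine ⟨act V ι B x, ⟨fun p hp => (mem_act.1 hp).1, ?_, hd⟩, fun p hp => (mem_act.1 hp).2⟩
      rw [Finset.nonempty_iff_ne_empty]
      intro he
      apply h0
      unfold delta
      rw [he]
      exact Finset.gcd_empty
    · rintro ⟨B'', ⟨hsub, ⟨p, hp⟩, hd⟩, hx⟩
      have hsub' : B'' ⊆ act V ι B x := fun q hq => mem_act.2 ⟨hsub hq, hx q hq⟩
      refine ⟨?_, dvd_trans (Finset.gcd_mono hsub') hd⟩
      intro h0
      have h1 := (Finset.gcd_eq_zero_iff.1 h0) p (hsub' hp)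
      have h2 := p.hn
      omega
  rw [heq]
  refine ⟨isOpen_iUnion fun B'' => isOpen_iUnion fun _ =>
    B''.finite_toSet.isOpen_biInter (fun p _ => p.U.isOpen),
    Finset.isCompact_biUnion _ (fun B'' _ => ?_)⟩
  rw [← Set.sInter_image]
  refine QuasiSeparatedSpace.isCompact_sInter (B''.finite_toSet.image _) ?_ ?_
  · rintro _ ⟨p, _, rfl⟩
    exact Or.inl p.U.isOpen
  · rintro _ ⟨p, _, rfl⟩
    exact p.hU

theorem exists_lift [Mono ι] (B : Finset (Gen V ι)) :
    ∃ j : SS (delta V ι B) ⟶ K,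
      j ≫ ι = SSincl (delta V ι B) (ind V) (ind_dvd_delta V ι B) := by
  classical
  apply exists_factor
  intro W f x hx
  have hdiv : (((act V ι B x).gcd (fun p => p.n) : ℕ) : ℤ) ∣ f.1 ⟨x, hx⟩ :=
    mem_AZ.1 (f.2.2 ⟨x, hx⟩)
  obtain ⟨m, hm⟩ := exists_bezout (act V ι B x) (fun p => p.n) (f.1 ⟨x, hx⟩) hdiv
  obtain ⟨N₀, hxN₀, hN₀W, hc⟩ := exists_nhd_const (AZ (delta V ι B)) f x hx
  let W' : Opens X := ⟨(N₀ : Set X) ∩ ⋂ p ∈ (↑(act V ι B x) : Set (Gen V ι)), (p.U : Set X),
    N₀.isOpen.inter ((act V ι B x).finite_toSet.isOpen_biInter (fun p _ => p.U.isOpen))⟩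
  have hW'N : W' ≤ N₀ := fun y hy => hy.1
  have hW'U : ∀ p ∈ act V ι B x, W' ≤ p.U := fun p hp y hy => Set.mem_iInter₂.1 hy.2 p hp
  have hxW' : x ∈ W' := ⟨hxN₀, Set.mem_iInter₂.2 (fun p hp => (mem_act.1 hp).2)⟩
  let kk : Gen V ι → K.obj.obj (op W') := fun p =>
    if h : W' ≤ p.U then K.obj.map (homOfLE h).op p.k else 0
  refine ⟨W', hW'N.trans hN₀W, hxW', ∑ p ∈ act V ι B x, m p • kk p, ?_⟩
  apply Subtype.ext
  funext y
  have e1 : (ι.hom.app (op W') (∑ p ∈ act V ι B x, m p • kk p)).1 y =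
      ∑ p ∈ act V ι B x, m p * (p.n : ℤ) := by
    show ((evHom (AZ (ind V)) W' y).comp (ι.hom.app (op W')).hom)
      (∑ p ∈ act V ι B x, m p • kk p) = _
    rw [map_sum]
    refine Finset.sum_congr rfl (fun p hp => ?_)
    rw [map_zsmul, smul_eq_mul]
    congr 1
    have hle := hW'U p hp
    show (ι.hom.app (op W') (kk p)).1 y = (p.n : ℤ)
    have hkk : kk p = K.obj.map (homOfLE hle).op p.k := dif_pos hle
    rw [hkk]
    have e2 := NatTrans.naturality_apply ι.hom (homOfLE hle).op p.k
    rw [e2]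
    exact p.hk ⟨y.1, hle y.2⟩
  rw [e1, ← hm]
  exact (hc y.1 (hW'N y.2)).symm

variable [Mono ι]

/-- the chosen lift -/
noncomputable def jlift (B : Finset (Gen V ι)) : SS (delta V ι B) ⟶ K :=
  (exists_lift V ι B).choose

theorem jlift_comp (B : Finset (Gen V ι)) :
    jlift V ι B ≫ ι = SSincl (delta V ι B) (ind V) (ind_dvd_delta V ι B) :=
  (exists_lift V ι B).choose_spec

instance (B : Finset (Gen V ι)) : Mono (jlift V ι B) :=
  mono_of_mono_fac (jlift_comp V ι B)

/-- the subobjects -/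
noncomputable def Tk (B : Finset (Gen V ι)) : Subobject K := Subobject.mk (jlift V ι B)

theorem Tk_mono : Monotone (Tk V ι) := by
  intro B B' hBB'
  refine Subobject.mk_le_mk_of_comm (SSincl _ _ (delta_mono V ι hBB')) ?_
  rw [← cancel_mono ι, Category.assoc, jlift_comp, jlift_comp, SSincl_comp]

theorem Tk_lift (B : Finset (Gen V ι)) {W W' : Opens X} (hW' : W' ≤ W) (k : K.obj.obj (op W))
    (f' : (SS (delta V ι B)).obj.obj (op W'))
    (h : (SSincl _ _ (ind_dvd_delta V ι B)).hom.app (op W') f' =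
      (SS (ind V)).obj.map (homOfLE hW').op (ι.hom.app (op W) k)) :
    ∃ k' : ((Tk V ι B : Subobject K) : CohTop.Ab X).obj.obj (op W'),
      (Tk V ι B).arrow.hom.app (op W') k' = K.obj.map (homOfLE hW').op k := by
  refine ⟨(Subobject.underlyingIso (jlift V ι B)).inv.hom.app (op W') f', ?_⟩
  have e1 : (Subobject.underlyingIso (jlift V ι B)).inv ≫ (Tk V ι B).arrow = jlift V ι B :=
    Subobject.underlyingIso_arrow (jlift V ι B)
  have e2 := congrArg (fun m => m.hom.app (op W') f') e1
  refine e2.trans ?_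
  apply sections_injective_of_mono ι W'
  have e3 := congrArg (fun m => m.hom.app (op W') f') (jlift_comp V ι B)
  refine e3.trans (h.trans ?_)
  exact (NatTrans.naturality_apply ι.hom (homOfLE hW').op k).symm

include V ι in
theorem Pd_sub [CompactSpace X] [PrespectralSpace X] [QuasiSeparatedSpace X] (d : ℕ)
    (hZ : ∀ V : Opens X, IsCompact (V : Set X) → Pd d (SS (ind V))) : Pd d K := by
  classical
  refine Pd_of_union d K (Tk V ι) (Tk_mono V ι) (fun B => ?_) ?_
  · refine Pd_of_iso d (Subobject.underlyingIso (jlift V ι B)).symm ?_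
    exact Pd_SS_of_bounded d hZ (B.sup (fun p => p.n)) _ (delta_le V ι B)
      (fun n _ => delta_level V ι B n)
  · intro W k x hx
    obtain ⟨N₀, hxN₀, hN₀W, hc⟩ := exists_nhd_const (AZ (ind V)) (ι.hom.app (op W) k) x hx
    by_cases h0 : (ι.hom.app (op W) k).1 ⟨x, hx⟩ = 0
    · obtain ⟨k', hk'⟩ := Tk_lift V ι ∅ hN₀W k 0 (by
        rw [((SSincl _ _ (ind_dvd_delta V ι ∅)).hom.app (op N₀)).hom.map_zero]
        apply Subtype.ext
        funext y
        exact ((hc y.1 y.2).trans h0).symm)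
      exact ⟨N₀, hN₀W, hxN₀, ∅, k', hk'⟩
    · have hxV : x ∈ V := by
        by_contra hn
        have h2 := (ι.hom.app (op W) k).2.2 ⟨x, hx⟩
        rw [mem_AZ, ind_of_not_mem hn] at h2
        simp only [Nat.cast_zero, zero_dvd_iff] at h2
        exact h0 h2
      obtain ⟨U, hUc, hxU, hUle⟩ := exists_compact_open (N₀ ⊓ V) x ⟨hxN₀, hxV⟩
      have hUN : U ≤ N₀ := hUle.trans inf_le_left
      have hUV : U ≤ V := hUle.trans inf_le_right
      have hUW : U ≤ W := hUN.trans hN₀W
      obtain ⟨a, ha⟩ : ∃ a : ℤ, a = (ι.hom.app (op W) k).1 ⟨x, hx⟩ := ⟨_, rfl⟩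
      rw [← ha] at hc h0
      have hfU : ∀ y : U, (ι.hom.app (op U) (K.obj.map (homOfLE hUW).op k)).1 y = a := by
        intro y
        have e := NatTrans.naturality_apply ι.hom (homOfLE hUW).op k
        rw [e]
        exact hc y.1 (hUN y.2)
      obtain ⟨p, hpU, hpn⟩ : ∃ p : Gen V ι, p.U = U ∧ (p.n : ℤ) ∣ a := by
        have hpos : 1 ≤ a.natAbs := Int.natAbs_pos.2 h0
        rcases Int.natAbs_eq a with h | h
        · exact ⟨⟨a.natAbs, U, hpos, hUc, hUV, K.obj.map (homOfLE hUW).op k,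
            fun y => (hfU y).trans h⟩, rfl, Int.natAbs_dvd.2 dvd_rfl⟩
        · refine ⟨⟨a.natAbs, U, hpos, hUc, hUV, -(K.obj.map (homOfLE hUW).op k),
            fun y => ?_⟩, rfl, Int.natAbs_dvd.2 dvd_rfl⟩
          rw [(ι.hom.app (op U)).hom.map_neg]
          show -((ι.hom.app (op U) (K.obj.map (homOfLE hUW).op k)).1 y) = _
          rw [hfU y]
          omega
      subst hpU
      have hdiv : ∀ y : p.U, ((delta V ι {p} y.1 : ℕ) : ℤ) ∣ a := fun y =>
        dvd_trans (Int.natCast_dvd_natCast.2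
          (delta_dvd V ι {p} (Finset.mem_singleton_self p) y.2)) hpn
      obtain ⟨k', hk'⟩ := Tk_lift V ι {p} hUW k
        ⟨fun _ => a, continuous_const, fun y => mem_AZ.2 (hdiv y)⟩ (by
          apply Subtype.ext
          funext y
          exact (hc y.1 (hUN y.2)).symm)
      exact ⟨p.U, hUW, hxU, {p}, k', hk'⟩

end Sub

section Main

/-- generators of an arbitrary sheaf: sections over compact opens -/
structure Gen2 (F : CohTop.Ab X) where
  U : Opens X
  hU : IsCompact (U : Set X)
  s : F.obj.obj (op U)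

/-- the map from the free sheaf given by a section -/
noncomputable def gmap (F : CohTop.Ab X) (p : Gen2 F) :
    CohCx.freeSheaf (Opens.grothendieckTopology X) p.U ⟶ F :=
  (Groth.Agent.H45.freeSheafHomEquiv (Opens.grothendieckTopology X) p.U F).symm p.s

/-- the universal section of the free sheaf -/
noncomputable def usec (U : Opens X) :
    (CohCx.freeSheaf (Opens.grothendieckTopology X) U).obj.obj (op U) :=
  Groth.Agent.H45.freeSheafHomEquiv (Opens.grothendieckTopology X) U _
    (𝟙 (CohCx.freeSheaf (Opens.grothendieckTopology X) U))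

theorem gmap_usec (F : CohTop.Ab X) (p : Gen2 F) :
    (gmap F p).hom.app (op p.U) (usec p.U) = p.s := by
  have e2 := Groth.Agent.H45.freeSheafHomEquiv_naturality (Opens.grothendieckTopology X) p.U
    (𝟙 (CohCx.freeSheaf (Opens.grothendieckTopology X) p.U)) (gmap F p)
  rw [Category.id_comp] at e2
  exact e2.symm.trans (Equiv.apply_symm_apply _ _)

/-- the subobject generated by finitely many sections over compact opens -/
noncomputable def Tsub (F : CohTop.Ab X) (A : Finset (Gen2 F)) : Subobject F :=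
  A.sup (fun p => imageSubobject (gmap F p))

theorem main [CompactSpace X] [PrespectralSpace X] [QuasiSeparatedSpace X] (d : ℕ)
    (h : ∀ (U : Opens X), IsCompact (U : Set X) → ∀ p : ℕ, d < p →
      Subsingleton (CohTop.H (CohCx.freeSheaf (Opens.grothendieckTopology X) U) p))
    (F : CohTop.Ab X) : Pd d F := by
  classical
  have hfree : ∀ V : Opens X, IsCompact (V : Set X) →
      Pd d (CohCx.freeSheaf (Opens.grothendieckTopology X) V) := fun V hV p hp => h V hV p hp
  have hZ : ∀ V : Opens X, IsCompact (V : Set X) → Pd d (SS (ind V)) :=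
    fun V hV => Pd_of_iso d (freeIso V) (hfree V hV)
  have hext : ∀ S : ShortComplex (CohTop.Ab X), S.ShortExact → Pd d S.X₁ → Pd d S.X₃ →
      Pd d S.X₂ := fun S hS h1 h3 => Pd_ext d hS h1 h3
  have hQ : ∀ V : Opens X, IsCompact (V : Set X) →
      Qc (Pd d) (CohCx.freeSheaf (Opens.grothendieckTopology X) V) := by
    intro V hV Q π hπ
    haveI := hπ
    have hS : (ShortComplex.mk (kernel.ι π) π (kernel.condition π)).ShortExact :=
      ShortComplex.ShortExact.mk' (ShortComplex.exact_kernel π) inferInstance inferInstance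
    haveI : Mono (kernel.ι π ≫ (freeIso V).hom) := mono_comp _ _
    exact Pd_coker d hS (Pd_sub V (kernel.ι π ≫ (freeIso V).hom) d hZ) (hfree V hV)
  refine Pd_of_union d F (Tsub F) (fun A A' hAA' => Finset.sup_mono hAA') (fun A => ?_) ?_
  · have hq : Qc (Pd d) ((Tsub F A : Subobject F) : CohTop.Ab X) := by
      unfold Tsub
      refine Finset.sup_induction (p := fun S : Subobject F => Qc (Pd d) (S : CohTop.Ab X))
        ?_ ?_ ?_
      · have hz : IsZero (((⊥ : Subobject F) : Subobject F) : CohTop.Ab X) :=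
          IsZero.of_iso (isZero_zero (CohTop.Ab X)) (Subobject.botCoeIsoZero (B := F))
        exact Qc.of_isZero (𝒜 := CohTop.Ab X) (P := Pd (X := X) d)
          (fun A hA => Pd_of_isZero (X := X) d hA) hz
      · intro S hS T' hT'
        exact Qc.sup hext hS hT'
      · intro p _
        exact (hQ p.U p.hU).of_epi (factorThruImageSubobject (gmap F p))
    exact hq.self
  · intro W t x hx
    obtain ⟨U, hUc, hxU, hUW⟩ := exists_compact_open W x hx
    refine ⟨U, hUW, hxU, {⟨U, hUc, F.obj.map (homOfLE hUW).op t⟩}, ?_⟩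
    unfold Tsub
    rw [Finset.sup_singleton]
    refine ⟨(factorThruImageSubobject (gmap F ⟨U, hUc, F.obj.map (homOfLE hUW).op t⟩)).hom.app
      (op U) (usec U), ?_⟩
    have e1 := congrArg (fun m => m.hom.app (op U) (usec U))
      (imageSubobject_arrow_comp (gmap F ⟨U, hUc, F.obj.map (homOfLE hUW).op t⟩))
    exact e1.trans (gmap_usec F ⟨U, hUc, F.obj.map (homOfLE hUW).op t⟩)

end Main

end Groth.Agent.H67.VanE
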