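import Mathlib
import Groth.Prelude.Def_CohTop
import Groth.Agent.H67.VanE
import Groth.Agent.H45.CohTopClosed
import Groth.Agent.H42.CohTopLib

/-!
# Helper library (helper67): Grothendieck vanishing on Noetherian spaces

`H^q(Y, F) = 0` for `q > dim Y` on a Noetherian space `Y`.  Noetherian induction on closed subsets,
the dévissage of `VanE.main` to the sheaves `ℤ_U = SS (ind U)`, and the sequences
`0 → ℤ_{U ∖ C} → ℤ_U → i_* ℤ_{U ∩ C} → 0` for a closed embedding `i : C → Y`.
-/

set_option autoImplicit false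
universe u

open CategoryTheory CategoryTheory.Limits TopologicalSpace Opposite Abelian

namespace Groth.Agent.H67.VanN

open Groth.Agent.H67.VanA Groth.Agent.H67.VanB Groth.Agent.H67.VanC Groth.Agent.H67.VanD

/-! ### single-degree dévissage -/

section Deg

variable {Y : TopCat.{u}}

theorem H_of_iso {F G : CohTop.Ab Y} (e : F ≅ G) (p : ℕ) (h : Subsingleton (CohTop.H F p)) :
    Subsingleton (CohTop.H G p) := by
  haveI := h
  exact (Groth.Agent.H45.ExtAdj.addEquivOfIsoRight _ e p).symm.toEquiv.subsingleton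

theorem H_ext {S : ShortComplex (CohTop.Ab Y)} (hS : S.ShortExact) (p : ℕ)
    (h1 : Subsingleton (CohTop.H S.X₁ p)) (h3 : Subsingleton (CohTop.H S.X₃ p)) :
    Subsingleton (CohTop.H S.X₂ p) := by
  haveI := h1
  haveI := h3
  have key : ∀ x : CohTop.H S.X₂ p, x = 0 := by
    intro x
    obtain ⟨x₁, hx₁⟩ := Ext.covariant_sequence_exact₂ _ hS x (Subsingleton.elim _ _)
    rw [← hx₁, Subsingleton.elim x₁ 0, Ext.zero_comp]
  exact ⟨fun a b => (key a).trans (key b).symm⟩

theorem H_ker {S : ShortComplex (CohTop.Ab Y)} (hS : S.ShortExact) (n : ℕ)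
    (h3 : Subsingleton (CohTop.H S.X₃ n)) (h2 : Subsingleton (CohTop.H S.X₂ (n + 1))) :
    Subsingleton (CohTop.H S.X₁ (n + 1)) := by
  haveI := h3
  haveI := h2
  have key : ∀ x : CohTop.H S.X₁ (n + 1), x = 0 := by
    intro x
    obtain ⟨x₃, hx₃⟩ := Ext.covariant_sequence_exact₁ _ hS x (Subsingleton.elim _ _) rfl
    rw [← hx₃, Subsingleton.elim x₃ 0, Ext.zero_comp]
  exact ⟨fun a b => (key a).trans (key b).symm⟩

theorem H_push {C : TopCat.{u}} (i : C ⟶ Y) (hi : Topology.IsClosedEmbedding i)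
    (G : CohTop.Ab C) (n : ℕ) (h : Subsingleton (CohTop.H G n)) :
    Subsingleton (CohTop.H ((CohTop.push i).obj G) n) := by
  haveI := h
  obtain ⟨e⟩ :=
    Groth.Agent.H45.CohTopPush.nonempty_H_addEquiv_push_of_isClosedEmbedding i hi G n
  exact e.symm.toEquiv.subsingleton

theorem H_SS_zero (δ : Y → ℕ) (h : ∀ x, δ x = 0) (p : ℕ) : Subsingleton (CohTop.H (SS δ) p) :=
  Sheaf.subsingleton_H_of_isZero (isZero_SG (AZ δ) (fun x => by
    unfold AZ
    rw [h x]
    simp)) p

theorem H_of_isEmpty [IsEmpty Y] (F : CohTop.Ab Y) (p : ℕ) : Subsingleton (CohTop.H F p) := by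
  have hz : IsZero F := by
    rw [IsZero.iff_id_eq_zero]
    apply CategoryTheory.Sheaf.hom_ext
    apply NatTrans.ext
    funext W
    refine ConcreteCategory.hom_ext _ _ (fun f => ?_)
    haveI := Groth.Agent.H45.CohTopPush.subsingleton_sections_of_eq_bot F W.unop (by
      ext x
      exact isEmptyElim x)
    exact Subsingleton.elim _ _
  exact Sheaf.subsingleton_H_of_isZero hz p

theorem H_succ_of_isFlasque (F : CohTop.Ab Y) [TopCat.Sheaf.IsFlasque F] (n : ℕ) :
    Subsingleton (CohTop.H F (n + 1)) := by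
  have h : ∀ x : CategoryTheory.Abelian.Ext (Groth.Agent.H42.CohTopLib.constZ Y) F (n + 1),
      x = 0 := fun x => Groth.Agent.H42.CohTopLib.ext_succ_eq_zero_of_isFlasque
    (Groth.Agent.H42.CohTopLib.secRepConst Y) F n x
  exact ⟨fun a b => (h a).trans (h b).symm⟩

end Deg

/-! ### dimension -/

theorem pos_of_dim_lt {T : Type u} [TopologicalSpace T] (y : T) (p : ℕ)
    (h : topologicalKrullDim T < (p : WithBot ℕ∞)) : 0 < p := by
  unfold topologicalKrullDim at h
  rw [Order.krullDim_lt_coe_iff] at h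
  have h1 := h (RelSeries.singleton _
    ⟨irreducibleComponent y, isIrreducible_irreducibleComponent, isClosed_irreducibleComponent⟩)
  exact lt_of_le_of_lt (Nat.zero_le _) h1

theorem dim_drop {T : Type u} [TopologicalSpace T] [PreirreducibleSpace T] (C : Set T)
    (hC : IsClosed C) (y₀ : T) (hy₀ : y₀ ∉ C) (n : ℕ)
    (h : topologicalKrullDim T < ((n + 1 : ℕ) : WithBot ℕ∞)) :
    topologicalKrullDim C < (n : WithBot ℕ∞) := by
  unfold topologicalKrullDim at h ⊢
  rw [Order.krullDim_lt_coe_iff] at h ⊢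
  intro l
  have hind : Topology.IsInducing (Subtype.val : C → T) := Topology.IsInducing.subtypeVal
  let top : IrreducibleCloseds T :=
    ⟨Set.univ, ⟨⟨y₀, trivial⟩, PreirreducibleSpace.isPreirreducible_univ⟩, isClosed_univ⟩
  let l' : LTSeries (IrreducibleCloseds T) :=
    l.map (IrreducibleCloseds.map Subtype.val hind.continuous)
      (IrreducibleCloseds.map_strictMono_of_isInducing hind)
  have hsub : ((IrreducibleCloseds.map Subtype.val hind.continuous l.last :
      IrreducibleCloseds T) : Set T) ⊆ C := by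
    rw [IrreducibleCloseds.coe_map]
    refine closure_minimal ?_ hC
    rintro _ ⟨z, _, rfl⟩
    exact z.2
  have hlast : l'.last < top := by
    refine lt_of_le_of_ne (fun x _ => Set.mem_univ x) ?_
    intro heq
    have h1 : y₀ ∈ ((IrreducibleCloseds.map Subtype.val hind.continuous l.last :
        IrreducibleCloseds T) : Set T) := by
      have h2 : l'.last = IrreducibleCloseds.map Subtype.val hind.continuous l.last := rfl
      rw [← h2, heq]
      exact Set.mem_univ y₀
    exact hy₀ (hsub h1)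
  have h3 := h (l'.snoc top hlast)
  have h4 : (l'.snoc top hlast).length = l.length + 1 := rfl
  omega

/-! ### the sequence `0 → ℤ_{U ∖ C} → ℤ_U → i_* ℤ_{U ∩ C} → 0` -/

section R2

variable {Y C : TopCat.{u}} (i : C ⟶ Y)

theorem ind_dvd_of_imp {V V' : Opens Y} (h : ∀ x, x ∈ V' → x ∈ V) (x : Y) :
    ind V x ∣ ind V' x := by
  by_cases hx : x ∈ V
  · rw [ind_of_mem hx]
    exact one_dvd _
  · rw [ind_of_not_mem (fun h' => hx (h x h'))]
    exact dvd_zero _

theorem ind_map_dvd (U : Opens Y) (x : C) : ind ((Opens.map i).obj U) x ∣ ind U (i x) := by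
  by_cases hx : i x ∈ U
  · rw [ind_of_mem hx]
    rw [ind_of_mem (show x ∈ (Opens.map i).obj U from hx)]
  · rw [ind_of_not_mem hx]
    exact dvd_zero _

/-- restriction of functions along `i` -/
noncomputable def rho (δ : Y → ℕ) (δ' : C → ℕ) (h : ∀ x : C, δ' x ∣ δ (i x)) :
    SS δ ⟶ (CohTop.push i).obj (SS δ') :=
  ObjectProperty.homMk
    { app := fun W => AddCommGrpCat.ofHom
        { toFun := fun f => ⟨fun x => f.1 ⟨i x.1, x.2⟩,
            f.2.1.comp (Continuous.subtype_mk
              ((ContinuousMap.continuous (TopCat.Hom.hom i)).comp continuous_subtype_val) _),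
            fun x => by
              have h1 : f.1 ⟨i x.1, x.2⟩ ∈ AZ δ (i x.1) := f.2.2 ⟨i x.1, x.2⟩
              rw [mem_AZ] at h1 ⊢
              exact dvd_trans (Int.natCast_dvd_natCast.2 (h x.1)) h1⟩
          map_zero' := rfl
          map_add' := fun _ _ => rfl }
      naturality := fun W W' j => rfl }

theorem incl_rho_zero (U U' : Opens Y) (hU' : ∀ y, y ∈ U' ↔ (y ∈ U ∧ y ∉ Set.range i)) :
    SSincl (ind U') (ind U) (ind_dvd_of_imp (fun x hx => ((hU' x).1 hx).1)) ≫
      rho i (ind U) (ind ((Opens.map i).obj U)) (ind_map_dvd i U) = 0 := by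
  apply CategoryTheory.Sheaf.hom_ext
  apply NatTrans.ext
  funext W
  refine ConcreteCategory.hom_ext _ _ (fun f => ?_)
  apply Subtype.ext
  funext x
  have h2 : f.1 ⟨i x.1, x.2⟩ = 0 := by
    have h1 : f.1 ⟨i x.1, x.2⟩ ∈ AZ (ind U') (i x.1) := f.2.2 ⟨i x.1, x.2⟩
    rw [mem_AZ, ind_of_not_mem (fun h' => ((hU' _).1 h').2 ⟨x.1, rfl⟩)] at h1
    simpa using h1
  exact h2

theorem SC_shortExact (hi : Topology.IsClosedEmbedding i) (U U' : Opens Y)
    (hU' : ∀ y, y ∈ U' ↔ (y ∈ U ∧ y ∉ Set.range i)) :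
    (ShortComplex.mk _ _ (incl_rho_zero i U U' hU')).ShortExact := by
  apply shortExact_of_sections
  · intro W f f' hff'
    apply Subtype.ext
    funext x
    exact congrFun (congrArg Subtype.val hff') x
  · intro W b hb
    have hb' : ∀ (x : C) (hx : i x ∈ W), b.1 ⟨i x, hx⟩ = 0 := fun x hx =>
      congrFun (congrArg Subtype.val hb) ⟨x, hx⟩
    refine ⟨⟨b.1, b.2.1, fun y => ?_⟩, ?_⟩
    · rw [mem_AZ]
      by_cases hy : y.1 ∈ U'
      · rw [ind_of_mem hy]
        simp
      · rw [ind_of_not_mem hy]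
        have hby : b.1 y = 0 := by
          by_cases hyU : y.1 ∈ U
          · have hr : y.1 ∈ Set.range i := by
              by_contra hr
              exact hy ((hU' _).2 ⟨hyU, hr⟩)
            obtain ⟨x, hx⟩ := hr
            have hxW : i x ∈ W := hx ▸ y.2
            have h1 := hb' x hxW
            have h2 : (⟨i x, hxW⟩ : W) = y := Subtype.ext hx
            rw [h2] at h1
            exact h1
          · have h1 : b.1 y ∈ AZ (ind U) y.1 := b.2.2 y
            rw [mem_AZ, ind_of_not_mem hyU] at h1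
            simpa using h1
        rw [hby]
        exact dvd_zero _
    · apply Subtype.ext
      rfl
  · intro W c x hx
    by_cases hxr : x ∈ Set.range i
    · obtain ⟨x₀, rfl⟩ := hxr
      obtain ⟨N', hxN', hN'W, hc⟩ := exists_nhd_const (AZ (ind ((Opens.map i).obj U)))
        (W := (Opens.map i).obj W) c x₀ hx
      obtain ⟨N, hN, hNN'⟩ := hi.isInducing.isOpen_iff.1 N'.2
      have hx₀N : i x₀ ∈ N := by
        have h1 : x₀ ∈ i ⁻¹' N := by
          rw [hNN']
          exact hxN'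
        exact h1
      have hmemN' : ∀ z : C, i z ∈ N → z ∈ N' := by
        intro z hz
        have h1 : z ∈ i ⁻¹' N := hz
        rw [hNN'] at h1
        exact h1
      by_cases hc0 : c.1 ⟨x₀, hx⟩ = 0
      · refine ⟨W ⊓ ⟨N, hN⟩, inf_le_left, ⟨hx, hx₀N⟩, 0, ?_⟩
        apply Subtype.ext
        funext z
        have hz : z.1 ∈ N' := hmemN' z.1 z.2.2
        exact hc0.symm.trans (hc z.1 hz).symm
      · have hx₀U : i x₀ ∈ U := by
          by_contra hnu
          have h1 : c.1 ⟨x₀, hx⟩ ∈ AZ (ind ((Opens.map i).obj U)) x₀ := c.2.2 ⟨x₀, hx⟩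
          rw [mem_AZ, ind_of_not_mem (show x₀ ∉ (Opens.map i).obj U from hnu)] at h1
          exact hc0 (by simpa using h1)
        refine ⟨W ⊓ ⟨N, hN⟩ ⊓ U, fun y hy => hy.1.1, ⟨⟨hx, hx₀N⟩, hx₀U⟩,
          ⟨fun _ => c.1 ⟨x₀, hx⟩, continuous_const, fun y => ?_⟩, ?_⟩
        · rw [mem_AZ, ind_of_mem y.2.2]
          simp
        · apply Subtype.ext
          funext z
          have hz : z.1 ∈ N' := hmemN' z.1 z.2.1.2
          exact (hc z.1 hz).symm
    · refine ⟨W ⊓ ⟨(Set.range i)ᶜ, hi.isClosed_range.isOpen_compl⟩, inf_le_left, ⟨hx, hxr⟩,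
        0, ?_⟩
      apply Subtype.ext
      funext z
      exact absurd ⟨z.1, rfl⟩ z.2.2

end R2

/-! ### the irreducible case: `ℤ` is flasque -/

theorem isFlasque_SS {Y : TopCat.{u}} [PreirreducibleSpace Y] (δ : Y → ℕ) (hδ : ∀ x, δ x = 1) :
    TopCat.Sheaf.IsFlasque (SS δ) := by
  constructor
  intro W W' j
  rw [AddCommGrpCat.epi_iff_surjective]
  intro t
  by_cases hW' : ∃ x, x ∈ W'.unop
  · obtain ⟨x₀, hx₀⟩ := hW'
    have hpre : IsPreconnected (W'.unop : Set Y) :=
      ((PreirreducibleSpace.isPreirreducible_univ (X := Y)).open_subset W'.unop.isOpen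
        (Set.subset_univ _)).isPreconnected
    haveI : PreconnectedSpace W'.unop := Subtype.preconnectedSpace hpre
    have hconst : ∀ y : W'.unop, t.1 y = t.1 ⟨x₀, hx₀⟩ := fun y =>
      IsLocallyConstant.apply_eq_of_preconnectedSpace
        ((IsLocallyConstant.iff_continuous _).2 t.2.1) y _
    refine ⟨⟨fun _ => t.1 ⟨x₀, hx₀⟩, continuous_const, fun x => ?_⟩, ?_⟩
    · rw [mem_AZ, hδ]
      simp
    · apply Subtype.ext
      funext y
      exact (hconst y).symm
  · refine ⟨0, ?_⟩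
    apply Subtype.ext
    funext y
    exact absurd ⟨y.1, y.2⟩ hW'

/-! ### the induction step -/

section Step

variable {Y : TopCat.{u}}

/-- inclusion of a closed subset -/
noncomputable def incl (C : Closeds Y) : TopCat.of (C : Set Y) ⟶ Y :=
  TopCat.ofHom ⟨Subtype.val, continuous_subtype_val⟩

theorem incl_emb (C : Closeds Y) : Topology.IsClosedEmbedding (incl C) :=
  C.isClosed.isClosedEmbedding_subtypeVal

theorem range_incl (C : Closeds Y) : Set.range (incl C) = (C : Set Y) :=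
  Subtype.range_coe

/-- induction hypothesis: vanishing on all proper closed subspaces -/
def IHyp (Y : TopCat.{u}) : Prop :=
  ∀ C : Closeds Y, (C : Set Y) ≠ Set.univ → ∀ q : ℕ,
    topologicalKrullDim (C : Set Y) < (q : WithBot ℕ∞) →
    ∀ G : CohTop.Ab (TopCat.of (C : Set Y)), Subsingleton (CohTop.H G q)

theorem free_case_red (IH : IHyp Y) (p : ℕ) (hp : topologicalKrullDim Y < (p : WithBot ℕ∞))
    (U U₁ : Opens Y) (C₁ C₂ : Closeds Y)
    (hU₁ : ∀ y, y ∈ U₁ ↔ (y ∈ U ∧ y ∉ (C₁ : Set Y)))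
    (hcov : ∀ y, y ∈ (C₁ : Set Y) ∨ y ∈ (C₂ : Set Y))
    (hC₁ : (C₁ : Set Y) ≠ Set.univ) (hC₂ : (C₂ : Set Y) ≠ Set.univ) :
    Subsingleton (CohTop.H (SS (ind U)) p) := by
  have hS₁ := SC_shortExact (incl C₁) (incl_emb C₁) U U₁ (fun y => by
    rw [range_incl]
    exact hU₁ y)
  have hS₂ := SC_shortExact (incl C₂) (incl_emb C₂) U₁ ⊥ (fun y => by
    rw [range_incl]
    constructor
    · intro h
      exact absurd h (by simp)
    · rintro ⟨hy1, hy2⟩
      exfalso
      rcases hcov y with h | h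
      · exact ((hU₁ y).1 hy1).2 h
      · exact hy2 h)
  have hd₁ : topologicalKrullDim (C₁ : Set Y) < (p : WithBot ℕ∞) :=
    lt_of_le_of_lt (topologicalKrullDim_subspace_le Y _) hp
  have hd₂ : topologicalKrullDim (C₂ : Set Y) < (p : WithBot ℕ∞) :=
    lt_of_le_of_lt (topologicalKrullDim_subspace_le Y _) hp
  have e₂ : Subsingleton (CohTop.H (SS (ind U₁)) p) :=
    H_ext hS₂ p (H_SS_zero _ (fun x => ind_of_not_mem (by simp)) p)
      (H_push (incl C₂) (incl_emb C₂) _ p (IH C₂ hC₂ p hd₂ _))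
  exact H_ext hS₁ p e₂ (H_push (incl C₁) (incl_emb C₁) _ p (IH C₁ hC₁ p hd₁ _))

theorem free_case_irr [PreirreducibleSpace Y] (IH : IHyp Y) (p : ℕ)
    (hp : topologicalKrullDim Y < (p : WithBot ℕ∞)) (U : Opens Y) (C : Closeds Y)
    (hCU : ∀ y, y ∈ (C : Set Y) ↔ y ∉ U) (x₀ : Y) (hx₀ : x₀ ∈ U) :
    Subsingleton (CohTop.H (SS (ind U)) p) := by
  have hp0 := pos_of_dim_lt x₀ p hp
  obtain ⟨n, rfl⟩ : ∃ n, p = n + 1 := ⟨p - 1, by omega⟩
  have hC : (C : Set Y) ≠ Set.univ := fun h =>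
    (hCU x₀).1 (h.symm ▸ Set.mem_univ x₀) hx₀
  have hS := SC_shortExact (incl C) (incl_emb C) ⊤ U (fun y => by
    rw [range_incl]
    constructor
    · intro hy
      exact ⟨trivial, fun hyC => (hCU y).1 hyC hy⟩
    · rintro ⟨_, hyC⟩
      by_contra hy
      exact hyC ((hCU y).2 hy))
  haveI := isFlasque_SS (Y := Y) (ind ⊤) (fun x => ind_of_mem (Opens.mem_top x))
  refine H_ker hS n ?_ (H_succ_of_isFlasque _ n)
  exact H_push (incl C) (incl_emb C) _ n
    (IH C hC n (dim_drop (C : Set Y) C.isClosed x₀ (fun h => (hCU x₀).1 h hx₀) n hp) _)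

theorem free_case (IH : IHyp Y) (p : ℕ) (hp : topologicalKrullDim Y < (p : WithBot ℕ∞))
    (U : Opens Y) : Subsingleton (CohTop.H (SS (ind U)) p) := by
  by_cases hirr : PreirreducibleSpace Y
  · by_cases hU : ∀ x, x ∉ U
    · exact H_SS_zero _ (fun x => ind_of_not_mem (hU x)) p
    · push_neg at hU
      obtain ⟨x₀, hx₀⟩ := hU
      exact free_case_irr IH p hp U ⟨(U : Set Y)ᶜ, U.isOpen.isClosed_compl⟩
        (fun y => Iff.rfl) x₀ hx₀
  · have h1 : ¬ IsPreirreducible (Set.univ : Set Y) := fun h => hirr ⟨h⟩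
    simp only [isPreirreducible_iff_isClosed_union_isClosed, not_forall, not_or] at h1
    obtain ⟨z₁, z₂, hz₁, hz₂, hcov, hn₁, hn₂⟩ := h1
    exact free_case_red IH p hp U
      ⟨(U : Set Y) ∩ z₁ᶜ, U.isOpen.inter hz₁.isOpen_compl⟩ ⟨z₁, hz₁⟩ ⟨z₂, hz₂⟩
      (fun y => Iff.rfl) (fun y => hcov (Set.mem_univ y)) (fun h => hn₁ h.ge) (fun h => hn₂ h.ge)

theorem step [NoetherianSpace Y] (IH : IHyp Y) (q : ℕ)
    (hq : topologicalKrullDim Y < (q : WithBot ℕ∞)) (F : CohTop.Ab Y) :
    Subsingleton (CohTop.H F q) := by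
  by_cases hY : IsEmpty Y
  · exact H_of_isEmpty F q
  · obtain ⟨y₀⟩ := not_isEmpty_iff.1 hY
    have hq0 := pos_of_dim_lt y₀ q hq
    obtain ⟨d, rfl⟩ : ∃ d, q = d + 1 := ⟨q - 1, by omega⟩
    refine Groth.Agent.H67.VanE.main d (fun U _ p hp => ?_) F (d + 1) (Nat.lt_succ_self d)
    have hp' : topologicalKrullDim Y < (p : WithBot ℕ∞) :=
      lt_of_lt_of_le hq (by exact_mod_cast Nat.succ_le_of_lt hp)
    exact H_of_iso (freeIso U).symm p (free_case IH p hp' U)

end Step

/-! ### Noetherian induction -/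

theorem GV_aux (X : TopCat.{u}) [NoetherianSpace X] (Z : Closeds X) :
    ∀ (Y : TopCat.{u}) (e : Y ⟶ X), Topology.IsClosedEmbedding e → Set.range e = (Z : Set X) →
      ∀ (q : ℕ), topologicalKrullDim Y < (q : WithBot ℕ∞) → ∀ F : CohTop.Ab Y,
        Subsingleton (CohTop.H F q) := by
  induction Z using WellFoundedLT.induction with
  | ind Z IH =>
    intro Y e he hr q hq F
    haveI : NoetherianSpace Y := he.isInducing.noetherianSpace
    refine step (fun C hC q' hq' G => ?_) q hq F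
    have hcl : IsClosed (e '' (C : Set Y)) := he.isClosedMap _ C.isClosed
    refine IH ⟨e '' (C : Set Y), hcl⟩ ?_ (TopCat.of (C : Set Y)) (incl C ≫ e) ?_ ?_ q' hq' G
    · obtain ⟨y, hy⟩ : ∃ y, y ∉ (C : Set Y) := by
        by_contra h
        push_neg at h
        exact hC (Set.eq_univ_of_forall h)
      refine lt_of_le_of_ne ?_ ?_
      · rintro _ ⟨z, _, rfl⟩
        show e z ∈ (Z : Set X)
        rw [← hr]
        exact ⟨z, rfl⟩
      · intro heq
        have h1 : e y ∈ ((⟨e '' (C : Set Y), hcl⟩ : Closeds X) : Set X) := by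
          rw [heq, ← hr]
          exact ⟨y, rfl⟩
        obtain ⟨z, hz, hzy⟩ := h1
        exact hy (he.injective hzy ▸ hz)
    · rw [TopCat.coe_comp]
      exact he.comp (incl_emb C)
    · rw [TopCat.coe_comp, Set.range_comp, range_incl]
      rfl

/-- **Grothendieck vanishing.** -/
theorem grothendieck_vanishing {X : TopCat.{u}} [NoetherianSpace X] (p : ℕ)
    (h : topologicalKrullDim X < (p : WithBot ℕ∞)) (F : CohTop.Ab X) :
    Subsingleton (CohTop.H F p) := by
  refine GV_aux X ⊤ X (𝟙 X) ?_ ?_ p h F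
  · rw [TopCat.coe_id]
    exact Topology.IsClosedEmbedding.id
  · rw [TopCat.coe_id, Set.range_id]
    rfl

end Groth.Agent.H67.VanN
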