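import Mathlib

/-!
# Helper library (helper67): squad lemma (F) for helper13 / S15804
A finite module over a Noetherian local ring whose maximal ideal is generated by an
`M`-regular pair is free.
-/

set_option autoImplicit false

universe u v w

open IsLocalRing TensorProduct

namespace Groth.Agent.H67.WQ

theorem free_of_regular_pair (R : Type u) [CommRing R] [IsLocalRing R] [IsNoetherianRing R]
    (x y : R) (hxy : maximalIdeal R = Ideal.span {x, y}) (M : Type v) [AddCommGroup M]
    [Module R M] [Module.Finite R M] (hx : ∀ m : M, x • m = 0 → m = 0)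
    (hy : ∀ m m' : M, y • m = x • m' → ∃ m'' : M, m = x • m'') : Module.Free R M := by
  haveI : Module.FinitePresentation R M := Module.finitePresentation_of_finite R M
  have hxm : x ∈ maximalIdeal R := by
    rw [hxy]
    exact Ideal.subset_span (Set.mem_insert _ _)
  have hym : y ∈ maximalIdeal R := by
    rw [hxy]
    exact Ideal.subset_span (Set.mem_insert_of_mem _ (Set.mem_singleton _))
  -- every tensor is of the form `x ⊗ a + y ⊗ b`
  have hform : ∀ t : (maximalIdeal R) ⊗[R] M, ∃ a b : M,
      t = (⟨x, hxm⟩ : maximalIdeal R) ⊗ₜ[R] a + (⟨y, hym⟩ : maximalIdeal R) ⊗ₜ[R] b := by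
    intro t
    induction t using TensorProduct.induction_on with
    | zero => exact ⟨0, 0, by simp⟩
    | tmul r c =>
      obtain ⟨r, hr⟩ := r
      have hr' : r ∈ Ideal.span {x, y} := by
        rw [← hxy]
        exact hr
      obtain ⟨p, q, hpq⟩ := Ideal.mem_span_pair.1 hr'
      refine ⟨p • c, q • c, ?_⟩
      have e : (⟨r, hr⟩ : maximalIdeal R) =
          p • (⟨x, hxm⟩ : maximalIdeal R) + q • (⟨y, hym⟩ : maximalIdeal R) := by
        apply Subtype.ext
        simp only [Submodule.coe_add, Submodule.coe_smul, smul_eq_mul]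
        exact hpq.symm
      rw [e, TensorProduct.add_tmul, TensorProduct.smul_tmul, TensorProduct.smul_tmul]
    | add t₁ t₂ h₁ h₂ =>
      obtain ⟨a₁, b₁, rfl⟩ := h₁
      obtain ⟨a₂, b₂, rfl⟩ := h₂
      refine ⟨a₁ + a₂, b₁ + b₂, ?_⟩
      rw [TensorProduct.tmul_add, TensorProduct.tmul_add]
      abel
  apply Module.free_of_maximalIdeal_rTensor_injective
  rw [injective_iff_map_eq_zero]
  intro t ht
  obtain ⟨a, b, rfl⟩ := hform t
  have h1 : x • a + y • b = 0 := by
    have := congrArg (TensorProduct.lid R M) ht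
    simpa using this
  -- `y • b = x • (-a)`
  have h2 : y • b = x • (-a) := by
    rw [smul_neg]
    exact eq_neg_of_add_eq_zero_right h1
  obtain ⟨b'', hb''⟩ := hy b (-a) h2
  have h3 : x • (a + y • b'') = 0 := by
    rw [smul_add, smul_comm x y b'', ← hb'']
    exact h1
  have h4 : a = -(y • b'') := eq_neg_of_add_eq_zero_left (hx _ h3)
  rw [h4, hb'', TensorProduct.tmul_neg]
  have e1 : (⟨x, hxm⟩ : maximalIdeal R) ⊗ₜ[R] (y • b'') =
      (y • (⟨x, hxm⟩ : maximalIdeal R)) ⊗ₜ[R] b'' := (TensorProduct.smul_tmul _ _ _).symm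
  have e2 : (⟨y, hym⟩ : maximalIdeal R) ⊗ₜ[R] (x • b'') =
      (x • (⟨y, hym⟩ : maximalIdeal R)) ⊗ₜ[R] b'' := (TensorProduct.smul_tmul _ _ _).symm
  have e3 : y • (⟨x, hxm⟩ : maximalIdeal R) = x • (⟨y, hym⟩ : maximalIdeal R) := by
    apply Subtype.ext
    simp only [Submodule.coe_smul, smul_eq_mul]
    exact mul_comm y x
  rw [e1, e2, e3]
  exact neg_add_cancel _

end Groth.Agent.H67.WQ
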