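import Mathlib

/-!
# Helper library (helper67): squad lemma (G) for helper13 / S15804
A group of order `p^2` with a subgroup `Γ` of order `p` and a nontrivial subgroup `K` meeting `Γ`
trivially has exponent `p`.
-/

set_option autoImplicit false

universe u v w

namespace Groth.Agent.H67.WQ

theorem pow_eq_one_of_disjoint (p : ℕ) [Fact p.Prime] (H : Type w) [Group H] [Finite H]
    (hcard : Nat.card H = p ^ 2) (Γ K : Subgroup H) (hΓ : Nat.card Γ = p) (hK : K ≠ ⊥)
    (hKΓ : K ⊓ Γ = ⊥) (h : H) : h ^ p = 1 := by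
  have hp : p.Prime := Fact.out
  have hcomm := IsPGroup.commutative_of_card_eq_prime_sq (p := p) hcard
  have hdisj : Disjoint K Γ := disjoint_iff.2 hKΓ
  have hinj := Subgroup.mul_injective_of_disjoint hdisj
  have hle : Nat.card K * p ≤ p ^ 2 := by
    have := Nat.card_le_card_of_injective _ hinj
    rwa [Nat.card_prod, hΓ, hcard] at this
  have hdvd : Nat.card K ∣ p ^ 2 := by
    rw [← hcard]
    exact Subgroup.card_subgroup_dvd_card K
  obtain ⟨m, hm, hKm⟩ := (Nat.dvd_prime_pow hp).1 hdvd
  have hK1 : Nat.card K ≠ 1 := fun h1 => hK (Subgroup.eq_bot_of_card_eq K h1)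
  have h2 := hp.two_le
  have hKp : Nat.card K = p := by
    interval_cases m
    · exact absurd (by simpa using hKm) hK1
    · simpa using hKm
    · exfalso
      rw [hKm] at hle
      have h3 := Nat.mul_le_mul_left (p ^ 2) h2
      have h4 := pow_pos hp.pos 2
      linarith
  have hbij : Function.Bijective (fun g : K × Γ => ((g.1 : H) * (g.2 : H) : H)) := by
    refine hinj.bijective_of_nat_card_le ?_
    rw [Nat.card_prod, hKp, hΓ, hcard, pow_two]
  obtain ⟨⟨k, γ⟩, hkγ⟩ := hbij.2 h
  have hk : (k : H) ^ p = 1 := by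
    have h1 : k ^ Nat.card K = 1 := pow_card_eq_one'
    rw [hKp] at h1
    have := congrArg (fun z : K => (z : H)) h1
    simpa using this
  have hγ : (γ : H) ^ p = 1 := by
    have h1 : γ ^ Nat.card Γ = 1 := pow_card_eq_one'
    rw [hΓ] at h1
    have := congrArg (fun z : Γ => (z : H)) h1
    simpa using this
  rw [← hkγ]
  show ((k : H) * (γ : H)) ^ p = 1
  rw [(show Commute (k : H) (γ : H) from hcomm _ _).mul_pow, hk, hγ, one_mul]

end Groth.Agent.H67.WQ
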